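import Mathlib.GroupTheory.Transfer
import Mathlib.GroupTheory.Abelianization.Defs
import Mathlib.GroupTheory.Sylow

set_option autoImplicit false

namespace Cfsg.Agent.Helper33

open Subgroup MulAction

theorem transfer_eq_pow_of_key {G : Type*} [Group G] {H : Subgroup G} {A : Type*} [CommGroup A]
    (ϕ : H →* A) [H.FiniteIndex] (g : G) (hg : g ∈ H)
    (key : ∀ (k : ℕ) (g₀ : G) (h : g₀⁻¹ * g ^ k * g₀ ∈ H),
      ϕ ⟨g₀⁻¹ * g ^ k * g₀, h⟩ = ϕ ⟨g, hg⟩ ^ k) :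
    MonoidHom.transfer ϕ g = ϕ ⟨g, hg⟩ ^ H.index := by
  classical
  let _ := H.fintypeQuotientOfFiniteIndex
  rw [MonoidHom.transfer_eq_prod_quotient_orbitRel_zpowers_quot, Subgroup.index_eq_sum_minimalPeriod H g,
    ← Finset.prod_pow_eq_pow_sum]
  exact Finset.prod_congr rfl (fun q _ => key _ _ _)

/-- If `G = C_G(Q) S` for a normal subgroup `Q ≤ S` of the Sylow `p`-subgroup `S`, then `Q ∩ G' ≤ S'`. -/
theorem inf_commutator_le_commutator_sylow {G : Type*} [Group G] [Finite G] {p : ℕ} [hp : Fact p.Prime]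
    (S : Sylow p G) (Q : Subgroup G) (hQS : Q ≤ (S : Subgroup G))
    (hfac : ∀ g : G, ∃ c ∈ Subgroup.centralizer (Q : Set G), ∃ s ∈ (S : Subgroup G), g = c * s) :
    Q ⊓ commutator G ≤ ⁅(S : Subgroup G), (S : Subgroup G)⁆ := by
  intro x hx
  obtain ⟨hxQ, hxG⟩ := Subgroup.mem_inf.mp hx
  have hxS : x ∈ (S : Subgroup G) := hQS hxQ
  obtain ⟨ϕ, hϕ⟩ : ∃ ϕ : ↥(S : Subgroup G) →* Abelianization ↥(S : Subgroup G), ϕ = Abelianization.of :=
    ⟨_, rfl⟩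
  have key : ∀ (k : ℕ) (g₀ : G) (h : g₀⁻¹ * x ^ k * g₀ ∈ (S : Subgroup G)),
      ϕ ⟨g₀⁻¹ * x ^ k * g₀, h⟩ = ϕ ⟨x, hxS⟩ ^ k := by
    intro k g₀ h
    obtain ⟨c, hc, s, hs, rfl⟩ := hfac g₀
    rw [Subgroup.mem_centralizer_iff] at hc
    have hc' := hc (x ^ k) (Q.pow_mem hxQ k)
    have e : (c * s)⁻¹ * x ^ k * (c * s) = s⁻¹ * x ^ k * s := by
      calc (c * s)⁻¹ * x ^ k * (c * s) = s⁻¹ * (c⁻¹ * (x ^ k * c)) * s := by group
        _ = s⁻¹ * (c⁻¹ * (c * x ^ k)) * s := by rw [hc']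
        _ = s⁻¹ * x ^ k * s := by group
    have e2 : (⟨(c * s)⁻¹ * x ^ k * (c * s), h⟩ : ↥(S : Subgroup G)) =
        (⟨s, hs⟩ : ↥(S : Subgroup G))⁻¹ * (⟨x, hxS⟩ : ↥(S : Subgroup G)) ^ k * ⟨s, hs⟩ := by
      apply Subtype.ext
      simp only [Subgroup.coe_mul, Subgroup.coe_inv, Subgroup.coe_pow]
      exact e
    rw [e2, map_mul, map_mul, map_inv, map_pow, mul_comm, mul_inv_cancel_left]
  have h1 := transfer_eq_pow_of_key ϕ x hxS key
  have h2 : MonoidHom.transfer ϕ x = 1 := by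
    have : commutator G ≤ (MonoidHom.transfer ϕ).ker := Abelianization.commutator_subset_ker _
    exact this hxG
  rw [h2] at h1
  -- `ϕ x` has order a power of `p` and dividing the index
  have hord1 : orderOf (ϕ ⟨x, hxS⟩) ∣ (S : Subgroup G).index := orderOf_dvd_of_pow_eq_one h1.symm
  obtain ⟨j, hj⟩ := S.2 ⟨x, hxS⟩
  have hord2 : orderOf (ϕ ⟨x, hxS⟩) ∣ p ^ j := by
    apply orderOf_dvd_of_pow_eq_one
    rw [← map_pow, hj, map_one]
  have hcop : (p ^ j).Coprime (S : Subgroup G).index :=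
    Nat.Coprime.pow_left j ((Nat.Prime.coprime_iff_not_dvd hp.out).mpr S.not_dvd_index)
  have hone : orderOf (ϕ ⟨x, hxS⟩) = 1 := Nat.eq_one_of_dvd_coprimes hcop hord2 hord1
  have hker : (⟨x, hxS⟩ : ↥(S : Subgroup G)) ∈ commutator ↥(S : Subgroup G) := by
    rw [← Abelianization.ker_of, MonoidHom.mem_ker, ← hϕ]
    exact orderOf_eq_one_iff.mp hone
  rw [← Subgroup.map_subtype_commutator]
  exact ⟨_, hker, rfl⟩

end Cfsg.Agent.Helper33
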