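import Mathlib

set_option autoImplicit false

/-!
# (P2) of helper1's S2140 skeleton: the second-moment lemma

`U` an abelian finite subgroup acting on a finite set, every nontrivial element with exactly `f`
fixed points and `f + 1` orbits: the stabilisers in `U` of two points in different `U`-orbits
generate `U`.
-/

namespace Cfsg.Agent.Helper33.MinDeg

open MulAction

section core

variable {V Ω : Type*} [Group V] [Fintype Ω] [MulAction V Ω]

/-- Burnside with constant fixed point number. -/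
theorem burnside_one [Finite V] (f : ℕ)
    (hf : ∀ v : V, v ≠ 1 → Nat.card (fixedBy Ω v) = f) :
    Fintype.card Ω + (Nat.card V - 1) * f = Nat.card (orbitRel.Quotient V Ω) * Nat.card V := by
  classical
  have : Fintype V := Fintype.ofFinite V
  have hB := MulAction.sum_card_fixedBy_eq_card_orbits_mul_card_group V Ω
  rw [← Finset.add_sum_erase Finset.univ _ (Finset.mem_univ (1 : V))] at hB
  rw [Finset.sum_const_nat (m := f)] at hB
  · rw [Finset.card_erase_of_mem (Finset.mem_univ _), Finset.card_univ] at hB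
    rw [Nat.card_eq_fintype_card, Nat.card_eq_fintype_card, ← hB]
    congr 1
    rw [← Nat.card_eq_fintype_card, ← Nat.card_eq_fintype_card]
    have : fixedBy Ω (1 : V) = Set.univ := by ext x; simp
    rw [this, Nat.card_congr (Equiv.Set.univ Ω)]
  · intro v hv
    rw [← Nat.card_eq_fintype_card]
    exact hf v (Finset.ne_of_mem_erase hv)

/-- Burnside on pairs. -/
theorem burnside_two [Finite V] (f : ℕ)
    (hf : ∀ v : V, v ≠ 1 → Nat.card (fixedBy Ω v) = f) :
    Fintype.card Ω ^ 2 + (Nat.card V - 1) * f ^ 2 =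
      Nat.card (orbitRel.Quotient V (Ω × Ω)) * Nat.card V := by
  have key : ∀ v : V, Nat.card (fixedBy (Ω × Ω) v) = Nat.card (fixedBy Ω v) ^ 2 := by
    intro v
    have : fixedBy (Ω × Ω) v = (fixedBy Ω v) ×ˢ (fixedBy Ω v) := by
      ext ⟨a, b⟩
      simp [MulAction.mem_fixedBy, Prod.ext_iff]
    rw [this, Nat.card_congr (Equiv.Set.prod _ _), Nat.card_prod, sq]
  have := burnside_one (V := V) (Ω := Ω × Ω) (f ^ 2) (fun v hv => by rw [key, hf v hv])
  rw [Fintype.card_prod, ← sq] at this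
  exact this

theorem core [Finite V] (hcomm : ∀ a b : V, a * b = b * a) (f : ℕ)
    (hf : ∀ v : V, v ≠ 1 → Nat.card (fixedBy Ω v) = f)
    (hr : Nat.card (orbitRel.Quotient V Ω) = f + 1)
    {ω ω' : Ω} (h : ∀ v : V, v • ω ≠ ω') (u : V) :
    ∃ v w : V, v • ω = ω ∧ w • ω' = ω' ∧ u = v * w := by
  classical
  by_contra hu
  push Not at hu
  have hQ : 0 < Nat.card V := Nat.card_pos
  have h1 := burnside_one (V := V) (Ω := Ω) f hf
  have h2 := burnside_two (V := V) (Ω := Ω) f hf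
  rw [hr] at h1
  obtain ⟨Q', hQ'⟩ : ∃ Q', Nat.card V = Q' + 1 := ⟨Nat.card V - 1, by omega⟩
  rw [hQ'] at h1 h2
  simp only [Nat.add_sub_cancel] at h1 h2
  have hm : Fintype.card Ω = f + Q' + 1 := by nlinarith
  have hN : Nat.card (orbitRel.Quotient V (Ω × Ω)) = Fintype.card Ω + f * (f + 1) := by
    rw [hm] at h2 ⊢
    have : Nat.card (orbitRel.Quotient V (Ω × Ω)) * (Q' + 1) =
        (f + Q' + 1 + f * (f + 1)) * (Q' + 1) := by
      rw [← h2]; ring
    exact Nat.eq_of_mul_eq_mul_right (Nat.succ_pos _) this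
  -- the orbit maps
  let q1 : Ω → orbitRel.Quotient V Ω := fun a => Quotient.mk'' a
  let q2 : Ω × Ω → orbitRel.Quotient V (Ω × Ω) := fun p => Quotient.mk'' p
  have q1_eq : ∀ a b, q1 a = q1 b ↔ ∃ v : V, v • b = a := by
    intro a b
    simp only [q1]
    rw [Quotient.eq'', MulAction.orbitRel_apply, MulAction.mem_orbit_iff]
  have q2_eq : ∀ p p', q2 p = q2 p' ↔ ∃ v : V, v • p'.1 = p.1 ∧ v • p'.2 = p.2 := by
    intro p p'
    simp only [q2]
    rw [Quotient.eq'', MulAction.orbitRel_apply, MulAction.mem_orbit_iff]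
    constructor
    · rintro ⟨v, hv⟩
      exact ⟨v, congrArg Prod.fst hv, congrArg Prod.snd hv⟩
    · rintro ⟨v, hv1, hv2⟩
      exact ⟨v, Prod.ext hv1 hv2⟩
  have hΦ : ∀ p p', q2 p = q2 p' → q1 p.1 = q1 p'.1 ∧ q1 p.2 = q1 p'.2 := by
    intro p p' hpp
    obtain ⟨v, hv1, hv2⟩ := (q2_eq p p').mp hpp
    exact ⟨(q1_eq _ _).mpr ⟨v, hv1⟩, (q1_eq _ _).mpr ⟨v, hv2⟩⟩
  have hij : q1 ω ≠ q1 ω' := by
    intro hh
    obtain ⟨v, hv⟩ := (q1_eq _ _).mp hh
    exact h v⁻¹ (by rw [← hv, inv_smul_smul])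
  let rep : orbitRel.Quotient V Ω → Ω := fun i =>
    if i = q1 ω then ω else if i = q1 ω' then ω' else Quotient.out i
  have hrep : ∀ i, q1 (rep i) = i := by
    intro i
    simp only [rep]
    split_ifs with h1 h2
    · exact h1.symm
    · exact h2.symm
    · exact Quotient.out_eq' i
  have hrep0 : rep (q1 ω) = ω := if_pos rfl
  have hrepj : rep (q1 ω') = ω' := by
    simp only [rep]
    rw [if_neg (Ne.symm hij)]
    simp
  have h3 : q1 (u • ω') = q1 ω' := (q1_eq _ _).mpr ⟨u, rfl⟩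
  let D := (Finset.univ : Finset (orbitRel.Quotient V Ω)).offDiag
  let J : Ω ⊕ (D ⊕ Unit) → orbitRel.Quotient V (Ω × Ω) :=
    Sum.elim (fun b => q2 (rep (q1 b), b))
      (Sum.elim (fun p => q2 (rep p.1.1, rep p.1.2)) (fun _ => q2 (ω, u • ω')))
  -- the three kinds of collisions
  have c12 : ∀ (b : Ω) (p : D), q2 (rep (q1 b), b) ≠ q2 (rep p.1.1, rep p.1.2) := by
    intro b p hJJ
    obtain ⟨e1, e2⟩ := hΦ _ _ hJJ
    simp only [hrep] at e1 e2
    exact (Finset.mem_offDiag.mp p.2).2.2 (e1.symm.trans e2)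
  have c13 : ∀ (b : Ω), q2 (rep (q1 b), b) ≠ q2 (ω, u • ω') := by
    intro b hJJ
    obtain ⟨e1, e2⟩ := hΦ _ _ hJJ
    simp only [hrep] at e1 e2
    exact hij (e1.symm.trans (e2.trans h3))
  have c23 : ∀ (p : D), q2 (rep p.1.1, rep p.1.2) ≠ q2 (ω, u • ω') := by
    intro p hJJ
    obtain ⟨e1, e2⟩ := hΦ _ _ hJJ
    simp only [hrep] at e1 e2
    have e2' := e2.trans h3
    rw [e1, e2', hrep0, hrepj] at hJJ
    obtain ⟨v, hv1, hv2⟩ := (q2_eq _ _).mp hJJ
    simp only at hv1 hv2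
    refine hu v⁻¹ (v * u) ?_ ?_ (by group)
    · rw [inv_smul_eq_iff, hv1]
    · rw [mul_smul]; exact hv2
  have hJ : Function.Injective J := by
    rintro (b | p | _) (b' | p' | _) hJJ
    · simp only [J, Sum.elim_inl] at hJJ
      obtain ⟨hq, -⟩ := hΦ _ _ hJJ
      simp only [hrep] at hq
      obtain ⟨v, hv1, hv2⟩ := (q2_eq _ _).mp hJJ
      simp only at hv1 hv2
      rw [← hq] at hv1
      have hb' : q1 b' = q1 (rep (q1 b)) := by rw [hrep]; exact hq.symm
      obtain ⟨w, hw⟩ := (q1_eq _ _).mp hb'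
      congr 1
      rw [← hv2, ← hw, smul_smul, hcomm v w, ← smul_smul, hv1]
    · exact absurd hJJ (c12 b p')
    · exact absurd hJJ (c13 b)
    · exact absurd hJJ.symm (c12 b' p)
    · simp only [J, Sum.elim_inl, Sum.elim_inr] at hJJ
      obtain ⟨e1, e2⟩ := hΦ _ _ hJJ
      simp only [hrep] at e1 e2
      congr 2
      exact Subtype.ext (Prod.ext e1 e2)
    · exact absurd hJJ (c23 p)
    · exact absurd hJJ.symm (c13 b')
    · exact absurd hJJ.symm (c23 p')
    · rfl
  have hcard := Fintype.card_le_of_injective J hJ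
  rw [Fintype.card_sum, Fintype.card_sum, Fintype.card_unit, Fintype.card_coe,
    Finset.offDiag_card, Finset.card_univ] at hcard
  rw [← Nat.card_eq_fintype_card (α := orbitRel.Quotient V (Ω × Ω)), hN,
    ← Nat.card_eq_fintype_card (α := orbitRel.Quotient V Ω), hr] at hcard
  have : (f + 1) * (f + 1) - (f + 1) = f * (f + 1) := by
    have : (f + 1) * (f + 1) = f * (f + 1) + (f + 1) := by ring
    omega
  omega

end core

/-- (P2) second moment: if the number of orbits is `f + 1`, point stabilisers in `U` of points in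
different `U`-orbits generate `U`. -/
theorem inf_sup_inf_eq {G Ω : Type*} [Group G] [Fintype Ω] [MulAction G Ω] (U : Subgroup G)
    [Finite U] (hcomm : ∀ a ∈ U, ∀ b ∈ U, a * b = b * a) (f : ℕ)
    (hf : ∀ u ∈ U, u ≠ 1 → Nat.card (MulAction.fixedBy Ω u) = f)
    (hr : Nat.card (MulAction.orbitRel.Quotient U Ω) = f + 1)
    {ω ω' : Ω} (h : ∀ u ∈ U, u • ω ≠ ω') :
    (MulAction.stabilizer G ω ⊓ U) ⊔ (MulAction.stabilizer G ω' ⊓ U) = U := by
  apply le_antisymm (sup_le inf_le_right inf_le_right)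
  intro u hu
  have hcomm' : ∀ a b : U, a * b = b * a := fun a b => Subtype.ext (hcomm a.1 a.2 b.1 b.2)
  have hf' : ∀ v : U, v ≠ 1 → Nat.card (fixedBy Ω v) = f := by
    intro v hv
    have := hf v.1 v.2 (fun hh => hv (Subtype.ext hh))
    exact this
  have h' : ∀ v : U, v • ω ≠ ω' := fun v => h v.1 v.2
  obtain ⟨v, w, hv, hw, huvw⟩ := core hcomm' f hf' hr h' ⟨u, hu⟩
  have : u = v.1 * w.1 := congrArg Subtype.val huvw
  rw [this]
  exact Subgroup.mul_mem_sup ⟨hv, v.2⟩ ⟨hw, w.2⟩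

end Cfsg.Agent.Helper33.MinDeg
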