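import Cfsg.Agent.Helper33.OmegaGen
import Cfsg.Agent.Helper78.Frobenius
import Cfsg.Prelude.Def_Transfer

set_option autoImplicit false

open scoped commutatorElement

namespace Cfsg.Agent.Helper33

open Cfsg.Agent.Helper24

variable {G : Type*} [Group G]

/-- The `Ω` theorem in the combined form: exponent `p` for odd `p`, exponent `4` for `p = 2`. -/
theorem commute_of_commute_omega [Finite G] {p : ℕ} [hp : Fact p.Prime] {a : G}
    (hcop : (orderOf a).Coprime p) (P : Subgroup G) (hP : IsPGroup p P)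
    (haP : a ∈ Subgroup.normalizer (P : Set G))
    (hΩ : ∀ x ∈ P, (x ^ p = 1 ∨ (p = 2 ∧ x ^ 4 = 1)) → a * x = x * a) : ∀ x ∈ P, a * x = x * a := by
  by_cases hp2 : p = 2
  · subst hp2
    exact commute_of_commute_omega_gen (e := 4) (by decide) (by decide) hcop P hP haP
      (fun x hx hx4 => hΩ x hx (Or.inr ⟨rfl, hx4⟩))
  · exact commute_of_commute_omega_gen (e := p) dvd_rfl (prime_dvd_sum_range hp.out hp2) hcop P hP haP
      (fun x hx hxp => hΩ x hx (Or.inl hxp))

/-- A `p'`-element normalizing a `p`-subgroup `Q` commutes with the elements of `Q` lying in some term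
of the upper central series. -/
theorem commute_of_mem_upperCentralSeries {p : ℕ} {Q : Subgroup G} (hQ : IsPGroup p Q) {g : G}
    (hg : g ∈ Subgroup.normalizer (Q : Set G)) (hcop : (orderOf g).Coprime p) :
    ∀ (n : ℕ) (x : G), x ∈ Q → x ∈ Subgroup.upperCentralSeries G n → g * x = x * g := by
  intro n
  induction n with
  | zero =>
    intro x _ hx
    rw [Subgroup.upperCentralSeries_zero, Subgroup.mem_bot] at hx
    rw [hx]; group
  | succ n ih =>
    intro x hxQ hx
    rw [Subgroup.mem_upperCentralSeries_succ_iff] at hx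
    have hwQ : g * x * g⁻¹ * x⁻¹ ∈ Q := Q.mul_mem (conj_mem_of_mem_normalizer hg hxQ) (Q.inv_mem hxQ)
    have hwZ : g * x * g⁻¹ * x⁻¹ ∈ Subgroup.upperCentralSeries G n := by
      have := Subgroup.inv_mem _ (hx g)
      have e : ⁅x, g⁆⁻¹ = g * x * g⁻¹ * x⁻¹ := by rw [commutatorElement_def]; group
      rwa [e] at this
    have hcomm := ih _ hwQ hwZ
    exact commute_of_commute_commutator g x hcomm (coprime_orderOf_of_mem hQ hwQ hcop)

theorem hasNormalPComplement_of_omega_le_upperCentralSeries [Finite G] {p : ℕ} [Fact p.Prime] (n : ℕ)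
    (h : ∀ a : G, (a ^ p = 1 ∨ (p = 2 ∧ a ^ 4 = 1)) → a ∈ Subgroup.upperCentralSeries G n) :
    Cfsg.HasNormalPComplement p G := by
  obtain ⟨P⟩ : Nonempty (Sylow p G) := inferInstance
  obtain ⟨N, hNn, hN⟩ := (Cfsg.Agent.Helper78.frobenius_normal_pComplement_iff P).mpr (by
    intro Q hQP g hg hcop
    have hQ : IsPGroup p Q := P.2.to_le hQP
    rw [Subgroup.mem_centralizer_iff]
    intro x hx
    have := commute_of_commute_omega hcop Q hQ hg
      (fun x hx hxe => commute_of_mem_upperCentralSeries hQ hg hcop n x hx (h x hxe)) x hx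
    exact this.symm)
  exact ⟨P, N, hNn, hN⟩

end Cfsg.Agent.Helper33
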