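import Cfsg.Agent.Helper33.QuotCore

set_option autoImplicit false

universe u

open scoped Pointwise

namespace Cfsg.Agent.Helper33

open Cfsg.Agent.Lib

variable {p : ℕ} [hp : Fact p.Prime] {𝓦 : Set (∀ (Q : Type u) [Group Q], Subgroup Q)}

/-- If a family of isomorphism-invariant `p`-group functors controls strong fusion in every constrained
section of `G`, then it controls strong fusion in `G`. -/
theorem familyControls_of_constrained_sections (h𝓦 : ∀ W ∈ 𝓦, Cfsg.IsCharPFunctor.{u} p W) :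
    ∀ (n : ℕ) (G : Type u) [Group G] [Finite G], Nat.card G = n → SectionProp (CSFProp p 𝓦) G →
      Cfsg.FamilyControlsStrongFusionIn p (FamW 𝓦 G) ⊤ := by
  intro n
  induction n using Nat.strong_induction_on with
  | _ n ih =>
  intro G _ _ hcard hsec
  have hΦ : IsoInvariant (CSFProp p 𝓦) := isoInvariant_CSFProp h𝓦
  by_cases hcon : Constrained p G
  · exact hsec.self hΦ inferInstance hcon
  have hsub : ∀ H : Subgroup G, H ≠ ⊤ → Cfsg.FamilyControlsStrongFusionIn p (FamW 𝓦 ↥H) ⊤ := by
    intro H hH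
    have hlt : Nat.card H < n := by
      rw [← hcard]
      have := card_lt_card_of_lt' (lt_top_iff_ne_top.mpr hH)
      rwa [Subgroup.card_top] at this
    exact ih _ hlt ↥H rfl (hsec.subgroup hΦ H)
  have hquo : ∀ M : Subgroup G, [M.Normal] → M ≠ ⊥ →
      Cfsg.FamilyControlsStrongFusionIn p (FamW 𝓦 (G ⧸ M)) ⊤ := by
    intro M _ hM
    have hlt : Nat.card (G ⧸ M) < n := by
      have h1 := Subgroup.card_eq_card_quotient_mul_card_subgroup M
      have h2 : 1 < Nat.card M := (Subgroup.one_lt_card_iff_ne_bot M).mpr hM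
      have h3 : 0 < Nat.card (G ⧸ M) := Nat.card_pos
      rw [← hcard, h1]
      nlinarith
    exact ih _ hlt (G ⧸ M) rfl (hsec.quotient hΦ M)
  obtain ⟨S⟩ : Nonempty (Sylow p G) := inferInstance
  by_cases hQ0 : Cfsg.pCore p G = ⊥
  · -- `O_p(G) = 1`: local control
    apply familyControlsStrongFusion_of_local (famW_isConjugacyFunctor h𝓦 G) S
    intro T hTS hT0 _
    apply familyControlsIn_of_subgroup h𝓦
    apply hsub
    intro htop
    have hTn : T.Normal := Subgroup.normalizer_eq_top_iff.mp htop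
    have := le_pCore hTn (S.2.to_le hTS)
    rw [hQ0, le_bot_iff] at this
    exact hT0 this
  apply ctl_of_reach S.2 S.not_dvd_index
  intro A g hA hgA
  by_cases hK0 : Cfsg.pPrimeCore p G = ⊥
  swap
  · exact reach_of_quotient_pPrime h𝓦 (Cfsg.pPrimeCore p G) (card_pPrimeCore_coprime p)
      (hquo _ hK0) S.2 S.not_dvd_index hA hgA
  have hsubR : ∀ H : Subgroup G, H ≠ ⊤ → (S : Subgroup G) ≤ H → ∀ (A : Set G) (g : G), g ∈ H →
      A ⊆ ((S : Subgroup G) : Set G) → conjR g A ⊆ ((S : Subgroup G) : Set G) →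
      Reach (KW (FamW 𝓦 G) ⊤ (S : Subgroup G)) ((S : Subgroup G) : Set G) A g := by
    intro H hH hSH A g hg hA hgA
    exact reach_of_subgroup h𝓦 H (hsub H hH) hSH S.2 S.not_dvd_index hg hA hgA
  have hStop : (S : Subgroup G) ≠ ⊤ := by
    intro htop
    apply hcon
    have hG : IsPGroup p G := by
      intro x
      obtain ⟨k, hk⟩ := S.2 ⟨x, htop ▸ Subgroup.mem_top x⟩
      exact ⟨k, congrArg Subtype.val hk⟩
    unfold Constrained
    rw [pCore_eq_top_of_isPGroup hG]
    exact le_top
  have hS : ∀ (B : Set G) (s : G), B ⊆ ((S : Subgroup G) : Set G) → s ∈ (S : Subgroup G) →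
      Reach (KW (FamW 𝓦 G) ⊤ (S : Subgroup G)) ((S : Subgroup G) : Set G) B s := by
    intro B s hB hs
    apply hsubR (S : Subgroup G) hStop le_rfl B s hs hB
    rintro _ ⟨b, hb, rfl⟩
    exact (S : Subgroup G).mul_mem ((S : Subgroup G).mul_mem ((S : Subgroup G).inv_mem hs) (hB hb)) hs
  obtain ⟨C, hC⟩ : ∃ C : Subgroup G,
    C = Subgroup.centralizer ((Cfsg.pCore p G : Subgroup G) : Set G) := ⟨_, rfl⟩
  have hCn : C.Normal := hC ▸ Subgroup.normal_centralizer
  -- the normalizer of `S ∩ C` is proper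
  have hG₁ : Subgroup.normalizer (((S : Subgroup G) ⊓ C : Subgroup G) : Set G) ≠ ⊤ := by
    intro htop
    apply hcon
    have hn : ((S : Subgroup G) ⊓ C).Normal := Subgroup.normalizer_eq_top_iff.mp htop
    rw [hC] at hn
    exact centralizer_pCore_le_of_normal_inf S hK0 hn
  have hSG₁ : (S : Subgroup G) ≤ Subgroup.normalizer (((S : Subgroup G) ⊓ C : Subgroup G) : Set G) := by
    intro s hs
    apply mem_normalizer_of_conjR_subset
    rintro _ ⟨x, hx, rfl⟩
    obtain ⟨hxS, hxC⟩ := Subgroup.mem_inf.mp hx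
    refine Subgroup.mem_inf.mpr ⟨?_, ?_⟩
    · exact (S : Subgroup G).mul_mem ((S : Subgroup G).mul_mem ((S : Subgroup G).inv_mem hs) hxS) hs
    · have := hCn.conj_mem x hxC s⁻¹
      rwa [inv_inv] at this
  -- reduce to subgroups
  have hA₀ : Subgroup.closure A ≤ (S : Subgroup G) := (Subgroup.closure_le _).mpr hA
  have hgA₀ := conjR_closure_subset (S := (S : Subgroup G)) hgA
  suffices hmain : Reach (KW (FamW 𝓦 G) ⊤ (S : Subgroup G)) ((S : Subgroup G) : Set G)
      ((Subgroup.closure A : Subgroup G) : Set G) g from hmain.mono Subgroup.subset_closure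
  obtain ⟨c, hcC, hn, hcA⟩ := exists_frattini_fusion S C (Subgroup.closure A) hA₀ g hgA₀
  have hR2 : Reach (KW (FamW 𝓦 G) ⊤ (S : Subgroup G)) ((S : Subgroup G) : Set G)
      (conjR c ((Subgroup.closure A : Subgroup G) : Set G)) (c⁻¹ * g) := by
    apply hsubR _ hG₁ hSG₁ _ _ hn hcA
    rw [← conjR_mul, mul_inv_cancel_left]
    exact hgA₀
  have hR1 : Reach (KW (FamW 𝓦 G) ⊤ (S : Subgroup G)) ((S : Subgroup G) : Set G)
      ((Subgroup.closure A : Subgroup G) : Set G) c := by
    by_cases hCS : C ⊔ (S : Subgroup G) = ⊤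
    · -- the case `G = C S`
      have hquotp : IsPGroup p (G ⧸ C) := by
        intro y
        obtain ⟨x, rfl⟩ := QuotientGroup.mk_surjective y
        have hx : x ∈ ((C ⊔ (S : Subgroup G) : Subgroup G) : Set G) := hCS ▸ Subgroup.mem_top x
        rw [Subgroup.normal_mul] at hx
        obtain ⟨c₁, hc₁, s, hs, rfl⟩ := hx
        obtain ⟨k, hk⟩ := S.2 ⟨s, hs⟩
        refine ⟨k, ?_⟩
        have hk' : s ^ p ^ k = 1 := congrArg Subtype.val hk
        have e : (QuotientGroup.mk (c₁ * s) : G ⧸ C) = QuotientGroup.mk s := by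
          rw [QuotientGroup.mk_mul, (QuotientGroup.eq_one_iff c₁).mpr hc₁, one_mul]
        rw [e, ← QuotientGroup.mk_pow, hk']
        rfl
      have hcop : ∀ x : G, (orderOf x).Coprime p →
          x ∈ Subgroup.centralizer ((Cfsg.pCore p G : Subgroup G) : Set G) := by
        intro x hx
        rw [← hC]
        exact pResidual_le_of_isPGroup_quotient C hquotp (mem_pResidual_of_coprime hx)
      have hQS : Cfsg.pCore p G ≠ (S : Subgroup G) := by
        intro hQS
        apply hG₁
        rw [Subgroup.normalizer_eq_top_iff, ← hQS]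
        exact Subgroup.normal_inf_normal _ _
      exact reach_of_quotient_pCore h𝓦 S hQS hcop (hquo _ hQ0) hsubR hS _ hA₀ c hcA
    · exact hsubR _ hCS le_sup_right _ c ((le_sup_left : C ≤ C ⊔ (S : Subgroup G)) hcC)
        (by exact_mod_cast hA₀) hcA
  have := hR1.trans hR2
  rwa [mul_inv_cancel_left] at this

end Cfsg.Agent.Helper33
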