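import Cfsg.Agent.Helper33.FusMisc
import Cfsg.Prelude.Def_LocalEven

set_option autoImplicit false

namespace Cfsg.Agent.Helper33

variable {G : Type*} [Group G]

theorem RChain.mem_of_subset {K D : Set G} {N : Subgroup G} (hK : K ⊆ (N : Set G)) {A : Set G} {g : G}
    (h : RChain K D A g) : g ∈ N := by
  induction h with
  | nil A => exact N.one_mem
  | cons A z g hz _ _ ih => exact N.mul_mem (hK hz) ih

/-- If `W(T)` is normal, then `W` (as a one-element family) controls strong fusion. -/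
theorem familyControls_singleton_of_normal {p : ℕ} [Fact p.Prime] [Finite G]
    (W : Subgroup G → Subgroup G) (T : Sylow p G) (hn : (W (T : Subgroup G)).Normal) :
    Cfsg.FamilyControlsStrongFusionIn p {W} ⊤ := by
  apply ctl_of_reach T.2 T.not_dvd_index
  intro A g _ hgA
  apply Reach.of_rchain
  apply RChain.single _ hgA
  refine ⟨W, rfl, Subgroup.mem_inf.mpr ⟨Subgroup.mem_top _, ?_⟩⟩
  rw [Subgroup.normalizer_eq_top_iff.mpr hn]
  exact Subgroup.mem_top _

/-- Control of strong fusion by the one-element family `{W}` gives control of strong fusion by `W(T)` for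
every Sylow `p`-subgroup `T`. -/
theorem controlsStrongFusion_of_familyControls_singleton {p : ℕ} [Fact p.Prime] [Finite G]
    {W : Subgroup G → Subgroup G} (hW : Cfsg.IsConjugacyFunctor p W)
    (hctl : Cfsg.FamilyControlsStrongFusionIn p {W} ⊤) (T : Sylow p G) :
    Cfsg.ControlsStrongFusion p (W (T : Subgroup G)) := by
  refine ⟨T, (hW T T.2).1, ?_⟩
  intro A hA
  refine ⟨hA, ?_⟩
  intro g hgA
  have h𝓦 : ∀ W' ∈ ({W} : Set (Subgroup G → Subgroup G)), Cfsg.IsConjugacyFunctor p W' := by
    intro W' hW'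
    rw [Set.mem_singleton_iff] at hW'
    rw [hW']; exact hW
  have hgA' : conjR g⁻¹ A ⊆ ((T : Subgroup G) : Set G) := by
    rintro _ ⟨a, ha, rfl⟩
    rw [inv_inv]
    exact hgA ⟨a, ha, rfl⟩
  have hidx : ¬ p ∣ (T : Subgroup G).relIndex ⊤ := by
    rw [Subgroup.relIndex_top_right]; exact T.not_dvd_index
  obtain ⟨g', hch, hag⟩ := reach_of_ctlIn h𝓦 hctl le_top T.2 hidx (Subgroup.mem_top g⁻¹) hA hgA'
  have hK : KW ({W} : Set (Subgroup G → Subgroup G)) ⊤ (T : Subgroup G) ⊆
      ((Subgroup.normalizer ((W (T : Subgroup G) : Subgroup G) : Set G) : Subgroup G) : Set G) := by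
    rintro z ⟨W', hW', hz⟩
    rw [Set.mem_singleton_iff] at hW'
    rw [hW'] at hz
    exact (Subgroup.mem_inf.mp hz).2
  have hg'N := hch.mem_of_subset hK
  refine ⟨g'⁻¹, Subgroup.inv_mem _ hg'N, ?_⟩
  intro a ha
  have := hag a ha
  rw [inv_inv] at this ⊢
  exact this.symm

end Cfsg.Agent.Helper33
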