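import Mathlib.GroupTheory.Sylow
import Mathlib.GroupTheory.Nilpotent
import Mathlib.Algebra.Group.End

set_option autoImplicit false

open scoped Pointwise

namespace Cfsg.Agent.Helper33

variable {G : Type*} [Group G]

/-- Normalizers grow in finite `p`-groups (ambient form). -/
theorem exists_mem_normalizer_not_mem {p : ℕ} [Fact p.Prime] [Finite G] {S T : Subgroup G}
    (hS : IsPGroup p S) (hTS : T ≤ S) (hne : T ≠ S) :
    ∃ x ∈ S, x ∈ Subgroup.normalizer (T : Set G) ∧ x ∉ T := by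
  haveI : Group.IsNilpotent S := hS.isNilpotent
  have hnc : NormalizerCondition S := Group.normalizerCondition_of_isNilpotent
  have hlt : T.subgroupOf S < ⊤ := by
    rw [lt_top_iff_ne_top, Ne, Subgroup.subgroupOf_eq_top]
    intro h
    exact hne (le_antisymm hTS h)
  have := hnc _ hlt
  rw [← Subgroup.subgroupOf_normalizer_eq hTS] at this
  obtain ⟨x, hxN, hxT⟩ := SetLike.exists_of_lt this
  refine ⟨x, x.2, ?_, ?_⟩
  · simpa [Subgroup.mem_subgroupOf] using hxN
  · simpa [Subgroup.mem_subgroupOf] using hxT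

/-- Sylow's theorem inside a subgroup `N`: a `p`-subgroup `R ≤ N` is conjugate under `N` into any
`p`-subgroup `K ≤ N` of index prime to `p`. -/
theorem exists_conj_le_of_not_dvd_relIndex {p : ℕ} [Fact p.Prime] [Finite G] {N K R : Subgroup G}
    (hKN : K ≤ N) (hK : IsPGroup p K) (hidx : ¬ p ∣ K.relIndex N) (hRN : R ≤ N) (hR : IsPGroup p R) :
    ∃ m ∈ N, ∀ r ∈ R, m * r * m⁻¹ ∈ K := by
  have hK' : IsPGroup p (K.subgroupOf N) := by
    have : IsPGroup p K := hK
    exact this.comap_subtype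
  have hR' : IsPGroup p (R.subgroupOf N) := hR.comap_subtype
  let P : Sylow p N := hK'.toSylow hidx
  obtain ⟨Q, hQ⟩ := hR'.exists_le_sylow
  obtain ⟨m, hm⟩ := MulAction.exists_smul_eq N Q P
  refine ⟨m, m.2, ?_⟩
  intro r hr
  have h1 : (⟨r, hRN hr⟩ : N) ∈ (Q : Subgroup N) := hQ (by simpa [Subgroup.mem_subgroupOf] using hr)
  have h2 : m * ⟨r, hRN hr⟩ * m⁻¹ ∈ ((m • Q : Sylow p N) : Subgroup N) := by
    rw [Sylow.coe_subgroup_smul]
    exact ⟨⟨r, hRN hr⟩, h1, by simp [MulAut.conj_apply]⟩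
  rw [hm] at h2
  have h3 : m * ⟨r, hRN hr⟩ * m⁻¹ ∈ K.subgroupOf N := (IsPGroup.mem_toSylow hK' hidx).mp h2
  simpa [Subgroup.mem_subgroupOf] using h3

end Cfsg.Agent.Helper33
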