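import Cfsg.Agent.Helper43.PsuM.EvDefs

/-!
helper33 for helper43 (S2089, block I-even): piece (AI) of `tools/helper43_psum/EvSkelA.lean.txt`
(`iE_mul iE_one exists_mulEquiv_Ssub mem_Ssub_iff USsub_le_Ssub xE_add`), verbatim, with a local copy `AI_mat_iE` of
(AMAT2).
-/

set_option autoImplicit false

namespace Cfsg.Agent.Helper33.PsuM

open Matrix Cfsg.Agent.Helper43.PsuM.Ev
open scoped commutatorElement

variable {F : Type*} [Field F] {m : ℕ} {σ : F →+* F}

theorem AI_map_map (hσ : ∀ x, σ (σ x) = x) (M : Matrix (Fin m) (Fin m) F) : (M.map σ).map σ = M := by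
  ext i j
  simp [hσ]

theorem AI_map_one : (1 : Matrix (Fin m) (Fin m) F).map σ = 1 :=
  Matrix.map_one σ (map_zero σ) (map_one σ)

/-- the block-diagonal matrix `[[A, 0], [0, D]]` is unitary when `Dᵀ * σ(A) = 1` and `Aᵀ * σ(D) = 1` -/
theorem AI_isU_iM (A D : Matrix (Fin m) (Fin m) F) (h1 : Aᵀ * D.map σ = 1) (h2 : Dᵀ * A.map σ = 1) :
    IsU σ (iM A D) := by
  unfold IsU iM Hm
  rw [Matrix.fromBlocks_transpose, Matrix.fromBlocks_map, Matrix.fromBlocks_multiply,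
    Matrix.fromBlocks_multiply]
  simp only [Matrix.transpose_zero, Matrix.map_zero σ (map_zero σ), Matrix.mul_zero, Matrix.zero_mul,
    Matrix.mul_one, add_zero, zero_add, h1, h2]

/-- local copy of (AMAT2) -/
theorem AI_mat_iE (hσ : ∀ x, σ (σ x) = x) (A : SpecialLinearGroup (Fin m) F) :
    mat (iE σ A) = iM A.1 ((A⁻¹).1.map σ)ᵀ := by
  unfold iE
  apply mat_ofMat
  · unfold iM
    rw [Matrix.det_fromBlocks_zero₂₁, A.2, one_mul, Matrix.det_transpose]
    have h : ((A⁻¹).1.map σ).det = σ ((A⁻¹).1.det) := by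
      rw [RingHom.map_det]; rfl
    rw [h, (A⁻¹).2, map_one]
  · apply AI_isU_iM
    · rw [Matrix.transpose_map, AI_map_map hσ, ← Matrix.transpose_mul]
      have : (A⁻¹).1 * A.1 = 1 := by
        have h : (A⁻¹ * A).1 = 1 := by rw [inv_mul_cancel]; rfl
        exact h
      rw [this, Matrix.transpose_one]
    · rw [Matrix.transpose_transpose, ← Matrix.map_mul]
      have : (A⁻¹).1 * A.1 = 1 := by
        have h : (A⁻¹ * A).1 = 1 := by rw [inv_mul_cancel]; rfl
        exact h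
      rw [this, AI_map_one]

theorem AI_iM_mul (A D A' D' : Matrix (Fin m) (Fin m) F) : iM A D * iM A' D' = iM (A * A') (D * D') := by
  unfold iM
  rw [Matrix.fromBlocks_multiply]
  simp

/-- (AI1) -/
theorem iE_mul (hσ : ∀ x, σ (σ x) = x) (A A' : SpecialLinearGroup (Fin m) F) :
    iE σ (A * A') = iE σ A * iE σ A' := by
  apply mat_injective
  rw [mat_mul, AI_mat_iE hσ, AI_mat_iE hσ, AI_mat_iE hσ, AI_iM_mul]
  congr 1
  rw [← Matrix.transpose_mul, ← Matrix.map_mul]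
  congr 2
  have h : ((A * A')⁻¹).1 = (A'⁻¹ * A⁻¹).1 := by rw [_root_.mul_inv_rev]
  exact h

/-- (AI2) -/
theorem iE_one (hσ : ∀ x, σ (σ x) = x) : iE σ (1 : SpecialLinearGroup (Fin m) F) = 1 := by
  apply mat_injective
  rw [AI_mat_iE hσ, mat_one, inv_one]
  have h1 : ((1 : SpecialLinearGroup (Fin m) F)).1 = (1 : Matrix (Fin m) (Fin m) F) := rfl
  rw [h1, AI_map_one, Matrix.transpose_one]
  unfold iM
  exact Matrix.fromBlocks_one

/-- `iE σ` as a homomorphism -/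
noncomputable def AI_hom (hσ : ∀ x, σ (σ x) = x) : SpecialLinearGroup (Fin m) F →* SUe m σ where
  toFun := iE σ
  map_one' := iE_one hσ
  map_mul' := iE_mul hσ

theorem AI_hom_injective (hσ : ∀ x, σ (σ x) = x) : Function.Injective (AI_hom (m := m) (σ := σ) hσ) := by
  intro A A' h
  have h1 : mat (iE σ A) = mat (iE σ A') := congrArg mat h
  rw [AI_mat_iE hσ, AI_mat_iE hσ] at h1
  unfold iM at h1
  have h2 := (Matrix.fromBlocks_inj.mp h1).1
  exact Subtype.ext h2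

theorem AI_Ssub_eq (hσ : ∀ x, σ (σ x) = x) : Ssub m σ = (AI_hom (m := m) (σ := σ) hσ).range := by
  unfold Ssub
  have h : Set.range (iE (m := m) σ) = ((AI_hom (m := m) (σ := σ) hσ).range : Set (SUe m σ)) := by
    ext g
    simp only [Set.mem_range, SetLike.mem_coe, MonoidHom.mem_range]
    rfl
  rw [h, Subgroup.closure_eq]

/-- (AI4) -/
theorem mem_Ssub_iff (hσ : ∀ x, σ (σ x) = x) (g : SUe m σ) : g ∈ Ssub m σ ↔ ∃ A, g = iE σ A := by
  rw [AI_Ssub_eq hσ, MonoidHom.mem_range]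
  constructor
  · rintro ⟨A, rfl⟩; exact ⟨A, rfl⟩
  · rintro ⟨A, rfl⟩; exact ⟨A, rfl⟩

/-- (AI3) `Ssub ≅ SL_m(F)` -/
theorem exists_mulEquiv_Ssub (hσ : ∀ x, σ (σ x) = x) :
    ∃ e : SpecialLinearGroup (Fin m) F ≃* ↥(Ssub m σ), ∀ A, ((e A : ↥(Ssub m σ)) : SUe m σ) = iE σ A := by
  have hS := AI_Ssub_eq (m := m) (σ := σ) hσ
  refine ⟨(MonoidHom.ofInjective (AI_hom_injective (m := m) (σ := σ) hσ)).trans (MulEquiv.subgroupCongr hS.symm), ?_⟩
  intro A
  rfl

/-- (AI5) -/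
theorem USsub_le_Ssub (hσ : ∀ x, σ (σ x) = x) : USsub m σ ≤ Ssub m σ := by
  unfold USsub
  rw [Subgroup.closure_le]
  rintro g ⟨i, j, hij, a, rfl⟩
  rw [SetLike.mem_coe, mem_Ssub_iff hσ]
  unfold xE
  rw [dif_pos (ne_of_lt hij)]
  exact ⟨_, rfl⟩

/-- (AI6) -/
theorem xE_add (hσ : ∀ x, σ (σ x) = x) (i j : Fin m) (a b : F) :
    xE σ i j (a + b) = xE σ i j a * xE σ i j b := by
  unfold xE
  by_cases h : i ≠ j
  · rw [dif_pos h, dif_pos h, dif_pos h, ← iE_mul hσ]
    congr 1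
    apply Subtype.ext
    show Matrix.transvection i j (a + b) = Matrix.transvection i j a * Matrix.transvection i j b
    rw [Matrix.transvection_mul_transvection_same i j h]
  · rw [dif_neg h, dif_neg h, dif_neg h, mul_one]

end Cfsg.Agent.Helper33.PsuM
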