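import Cfsg.Agent.Helper43.PsuM.EvDefs
import Cfsg.Agent.Helper33.PsuM_AI

/-!
helper33 for helper43 (S2089, block I-even): piece (AT) of `tools/helper43_psum/EvSkelA.lean.txt`
(`mem_Tsub_iff Tsub_comm card_Tsub_coprime tE_mem_Tij`), verbatim, with a local copy `AT_mat_tE` of (AMAT3).
-/

set_option autoImplicit false

namespace Cfsg.Agent.Helper33.PsuM

open Matrix Cfsg.Agent.Helper43.PsuM.Ev
open scoped commutatorElement

variable {F : Type*} [Field F] {m : ℕ} {σ : F →+* F}

/-- local copy of (AMAT3) -/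
theorem AT_mat_tE (hσ : ∀ x, σ (σ x) = x) (d : Fin m → F) (hd : ∀ i, d i ≠ 0)
    (hdet : σ (∏ i, d i) = ∏ i, d i) :
    mat (tE σ d) = iM (Matrix.diagonal d) (Matrix.diagonal fun i => (σ (d i))⁻¹) := by
  unfold tE
  apply mat_ofMat
  · unfold iM
    rw [Matrix.det_fromBlocks_zero₂₁, Matrix.det_diagonal, Matrix.det_diagonal, Finset.prod_inv_distrib,
      ← map_prod, hdet]
    exact mul_inv_cancel₀ (Finset.prod_ne_zero_iff.mpr fun i _ => hd i)
  · apply AI_isU_iM
    · rw [Matrix.diagonal_transpose, Matrix.diagonal_map (map_zero σ), Matrix.diagonal_mul_diagonal,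
        ← Matrix.diagonal_one]
      congr 1
      funext i
      rw [map_inv₀, hσ, mul_inv_cancel₀ (hd i)]
    · rw [Matrix.diagonal_transpose, Matrix.diagonal_map (map_zero σ), Matrix.diagonal_mul_diagonal,
        ← Matrix.diagonal_one]
      congr 1
      funext i
      have h : σ (d i) ≠ 0 := by
        intro h0
        apply hd i
        rw [← hσ (d i), h0, map_zero]
      rw [inv_mul_cancel₀ h]

/-- the matrix of an element of `Tsub` -/
theorem AT_mat_eq_iM (g : SUe m σ) (hg : g ∈ Tsub m σ) :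
    mat g = iM (Matrix.diagonal fun i => mat g (Sum.inl i) (Sum.inl i))
      (Matrix.diagonal fun i => mat g (Sum.inr i) (Sum.inr i)) := by
  have hg' : ∀ a b, a ≠ b → mat g a b = 0 := hg
  ext a b
  rcases a with a | a <;> rcases b with b | b
  · by_cases h : a = b
    · subst h; simp [iM]
    · have h' : (Sum.inl a : Fin m ⊕ Fin m) ≠ Sum.inl b := by simpa using h
      rw [hg' _ _ h']; simp [iM, h]
  · rw [hg' _ _ (by simp)]; simp [iM]
  · rw [hg' _ _ (by simp)]; simp [iM]
  · by_cases h : a = b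
    · subst h; simp [iM]
    · have h' : (Sum.inr a : Fin m ⊕ Fin m) ≠ Sum.inr b := by simpa using h
      rw [hg' _ _ h']; simp [iM, h]

/-- the relation between the two diagonal blocks of an element of `Tsub` -/
theorem AT_diag_rel (hσ : ∀ x, σ (σ x) = x) (g : SUe m σ) (hg : g ∈ Tsub m σ) (i : Fin m) :
    mat g (Sum.inl i) (Sum.inl i) ≠ 0 ∧
      mat g (Sum.inr i) (Sum.inr i) = (σ (mat g (Sum.inl i) (Sum.inl i)))⁻¹ := by
  have hU : IsU σ (mat g) := isU_mat g
  rw [AT_mat_eq_iM g hg] at hU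
  unfold IsU iM Hm at hU
  rw [Matrix.fromBlocks_transpose, Matrix.fromBlocks_map, Matrix.fromBlocks_multiply,
    Matrix.fromBlocks_multiply] at hU
  simp only [Matrix.transpose_zero, Matrix.map_zero σ (map_zero σ), Matrix.mul_zero, Matrix.zero_mul,
    Matrix.mul_one, add_zero, zero_add, Matrix.diagonal_transpose, Matrix.diagonal_map (map_zero σ),
    Matrix.diagonal_mul_diagonal] at hU
  have h12 := (Matrix.fromBlocks_inj.mp hU).2.1
  have h1 : mat g (Sum.inl i) (Sum.inl i) * σ (mat g (Sum.inr i) (Sum.inr i)) = 1 := by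
    have := congrFun (congrFun h12 i) i
    rw [Matrix.diagonal_apply_eq, Matrix.one_apply_eq] at this
    exact this
  have hne : mat g (Sum.inl i) (Sum.inl i) ≠ 0 := left_ne_zero_of_mul_eq_one h1
  refine ⟨hne, ?_⟩
  have h2 : σ (mat g (Sum.inr i) (Sum.inr i)) = (mat g (Sum.inl i) (Sum.inl i))⁻¹ :=
    eq_inv_of_mul_eq_one_right h1
  rw [← hσ (mat g (Sum.inr i) (Sum.inr i)), h2, map_inv₀]

/-- (AT1) -/
theorem mem_Tsub_iff (hσ : ∀ x, σ (σ x) = x) (g : SUe m σ) :
    g ∈ Tsub m σ ↔ ∃ d : Fin m → F, (∀ i, d i ≠ 0) ∧ σ (∏ i, d i) = ∏ i, d i ∧ g = tE σ d := by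
  constructor
  · intro hg
    have hrel := AT_diag_rel hσ g hg
    set d : Fin m → F := fun i => mat g (Sum.inl i) (Sum.inl i) with hd
    have hd0 : ∀ i, d i ≠ 0 := fun i => (hrel i).1
    have hmat : mat g = iM (Matrix.diagonal d) (Matrix.diagonal fun i => (σ (d i))⁻¹) := by
      rw [AT_mat_eq_iM g hg]
      congr 2
      funext i
      exact (hrel i).2
    have hdet : σ (∏ i, d i) = ∏ i, d i := by
      have h1 : (mat g).det = 1 := g.1.2
      rw [hmat] at h1
      unfold iM at h1
      rw [Matrix.det_fromBlocks_zero₂₁, Matrix.det_diagonal, Matrix.det_diagonal, Finset.prod_inv_distrib,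
        ← map_prod] at h1
      have h2 : (∏ i, d i) ≠ 0 := Finset.prod_ne_zero_iff.mpr fun i _ => hd0 i
      have h3 : σ (∏ i, d i) ≠ 0 := by
        intro h0
        rw [h0, _root_.inv_zero, mul_zero] at h1
        exact zero_ne_one h1
      field_simp at h1
      exact h1.symm
    refine ⟨d, hd0, hdet, ?_⟩
    apply mat_injective
    rw [hmat, AT_mat_tE hσ d hd0 hdet]
  · rintro ⟨d, hd0, hdet, rfl⟩
    intro a b hab
    rw [AT_mat_tE hσ d hd0 hdet]
    unfold iM
    rcases a with a | a <;> rcases b with b | b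
    · have h : a ≠ b := fun h => hab (by rw [h])
      simp [h]
    · simp
    · simp
    · have h : a ≠ b := fun h => hab (by rw [h])
      simp [h]

/-- (AT2) -/
theorem Tsub_comm (a b : SUe m σ) (ha : a ∈ Tsub m σ) (hb : b ∈ Tsub m σ) : a * b = b * a := by
  apply mat_injective
  rw [mat_mul, mat_mul, AT_mat_eq_iM a ha, AT_mat_eq_iM b hb, AI_iM_mul, AI_iM_mul,
    Matrix.diagonal_mul_diagonal, Matrix.diagonal_mul_diagonal, Matrix.diagonal_mul_diagonal,
    Matrix.diagonal_mul_diagonal]
  congr 2 <;> funext i <;> exact mul_comm _ _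

/-- the first diagonal block, as a homomorphism -/
noncomputable def AT_diagHom (m : ℕ) (σ : F →+* F) : ↥(Tsub m σ) →* (Fin m → F) where
  toFun g := fun i => mat g.1 (Sum.inl i) (Sum.inl i)
  map_one' := by
    funext i
    show mat (1 : SUe m σ) (Sum.inl i) (Sum.inl i) = 1
    rw [mat_one, Matrix.one_apply_eq]
  map_mul' := by
    intro a b
    funext i
    show mat (a.1 * b.1) (Sum.inl i) (Sum.inl i) =
      mat a.1 (Sum.inl i) (Sum.inl i) * mat b.1 (Sum.inl i) (Sum.inl i)
    rw [mat_mul, AT_mat_eq_iM a.1 a.2, AT_mat_eq_iM b.1 b.2, AI_iM_mul, Matrix.diagonal_mul_diagonal,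
      Matrix.diagonal_mul_diagonal]
    simp [iM]

theorem AT_diagHom_injective (hσ : ∀ x, σ (σ x) = x) : Function.Injective (AT_diagHom (F := F) m σ) := by
  intro a b hab
  apply Subtype.ext
  apply mat_injective
  have h1 : ∀ i, mat a.1 (Sum.inl i) (Sum.inl i) = mat b.1 (Sum.inl i) (Sum.inl i) :=
    fun i => congrFun hab i
  have e1 : (fun i => mat a.1 (Sum.inl i) (Sum.inl i)) = fun i => mat b.1 (Sum.inl i) (Sum.inl i) :=
    funext h1
  have e2 : (fun i => mat a.1 (Sum.inr i) (Sum.inr i)) = fun i => mat b.1 (Sum.inr i) (Sum.inr i) := by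
    funext i
    rw [(AT_diag_rel hσ a.1 a.2 i).2, (AT_diag_rel hσ b.1 b.2 i).2, h1 i]
  rw [AT_mat_eq_iM a.1 a.2, AT_mat_eq_iM b.1 b.2, e1, e2]

/-- (AT3) the order of the torus is prime to the characteristic: `Tsub` embeds into `(Fˣ)^m` via the
diagonal entries of the first block -/
theorem card_Tsub_coprime [Fintype F] (hσ : ∀ x, σ (σ x) = x) (p : ℕ) [Fact p.Prime] [CharP F p] :
    (Nat.card (Tsub m σ)).Coprime p := by
  have hp : p.Prime := Fact.out
  apply Nat.Coprime.symm
  rw [Nat.Prime.coprime_iff_not_dvd hp]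
  intro hdvd
  obtain ⟨t, ht⟩ := exists_prime_orderOf_dvd_card' p hdvd
  have htp : t ^ p = 1 := by rw [← ht]; exact pow_orderOf_eq_one t
  have h1 : (AT_diagHom m σ t) ^ p = 1 := by rw [← map_pow, htp, map_one]
  have h2 : AT_diagHom m σ t = 1 := by
    funext i
    have h3 : (AT_diagHom m σ t i) ^ p = 1 := by
      have := congrFun h1 i
      simpa using this
    have h4 : (AT_diagHom m σ t i - 1) ^ p = 0 := by
      rw [sub_pow_char, h3, one_pow, sub_self]
    have h5 := pow_eq_zero_iff (hp.ne_zero) |>.mp h4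
    show AT_diagHom m σ t i = 1
    exact sub_eq_zero.mp h5
  have h6 : t = 1 := AT_diagHom_injective hσ (by rw [h2, map_one])
  rw [h6, orderOf_one] at ht
  exact hp.one_lt.ne' ht.symm

/-- a diagonal matrix commutes with a matrix whose nonzero entries join equal diagonal entries -/
theorem AT_diag_comm (D : Fin m → F) (N : Matrix (Fin m) (Fin m) F)
    (h : ∀ x y, N x y ≠ 0 → D x = D y) : Matrix.diagonal D * N = N * Matrix.diagonal D := by
  ext x y
  rw [Matrix.diagonal_mul, Matrix.mul_diagonal]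
  by_cases h0 : N x y = 0
  · rw [h0, mul_zero, zero_mul]
  · rw [h x y h0, mul_comm]

theorem AT_transvection_inv {i j : Fin m} (hij : i ≠ j) (a : F) :
    (SpecialLinearGroup.transvection hij a)⁻¹ = SpecialLinearGroup.transvection hij (-a) := by
  apply inv_eq_of_mul_eq_one_right
  apply Subtype.ext
  show Matrix.transvection i j a * Matrix.transvection i j (-a) = 1
  rw [Matrix.transvection_mul_transvection_same i j hij, add_neg_cancel, Matrix.transvection_zero]

/-- (AT4) `tE σ d ∈ Tij σ i j` when `d i = d j` -/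
theorem tE_mem_Tij (hσ : ∀ x, σ (σ x) = x) (d : Fin m → F) (hd : ∀ i, d i ≠ 0)
    (hdet : σ (∏ i, d i) = ∏ i, d i) (i j : Fin m) (hij : d i = d j) : tE σ d ∈ Tij σ i j := by
  unfold Tij
  refine Subgroup.mem_inf.mpr ⟨(mem_Tsub_iff hσ _).mpr ⟨d, hd, hdet, rfl⟩, ?_⟩
  rw [Subgroup.mem_centralizer_iff]
  rintro h ⟨a, rfl⟩
  unfold xE
  by_cases hne : i ≠ j
  · rw [dif_pos hne]
    apply mat_injective
    rw [mat_mul, mat_mul, AI_mat_iE hσ, AT_mat_tE hσ d hd hdet, AI_iM_mul, AI_iM_mul, AT_transvection_inv]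
    congr 1
    · symm
      apply AT_diag_comm
      intro x y hxy
      have hT : (SpecialLinearGroup.transvection hne a).1 = 1 + Matrix.single i j a := rfl
      rw [hT, Matrix.add_apply] at hxy
      by_cases hxy' : x = y
      · rw [hxy']
      · rw [Matrix.one_apply_ne hxy', zero_add] at hxy
        by_cases h1 : i = x ∧ j = y
        · rw [← h1.1, ← h1.2, hij]
        · rw [Matrix.single_apply_of_ne _ _ _ _ _ h1] at hxy
          exact absurd rfl hxy
    · symm
      apply AT_diag_comm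
      intro x y hxy
      have hT : (SpecialLinearGroup.transvection hne (-a)).1 = 1 + Matrix.single i j (-a) := rfl
      rw [hT, Matrix.transpose_apply, Matrix.map_apply, Matrix.add_apply] at hxy
      by_cases hxy' : x = y
      · rw [hxy']
      · rw [Matrix.one_apply_ne (Ne.symm hxy'), zero_add] at hxy
        by_cases h1 : i = y ∧ j = x
        · show (σ (d x))⁻¹ = (σ (d y))⁻¹
          rw [← h1.1, ← h1.2, hij]
        · rw [Matrix.single_apply_of_ne _ _ _ _ _ h1, map_zero] at hxy
          exact absurd rfl hxy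
  · rw [dif_neg hne, one_mul, mul_one]

end Cfsg.Agent.Helper33.PsuM
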