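import Mathlib
import Cfsg.Agent.Helper13.FExtDefs

/-! (K7) of helper13's S5975 skeleton: an element of the normalizer of a field subalgebra `K` that
does not centralize `K` has a fixed space of dimension at most half the dimension. -/

set_option autoImplicit false

namespace Cfsg.Agent.Helper33.FExtK7

open Matrix Cfsg Cfsg.Geo
open Cfsg.Agent.Helper13.FExt

variable {F : Type*} [Field F] {ι : Type} [Fintype ι] [DecidableEq ι]

theorem mem_fixSp_iff (y : Matrix ι ι F) (u : ι → F) : u ∈ fixSp y ↔ y *ᵥ u = u := by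
  unfold fixSp
  rw [LinearMap.mem_ker, Matrix.mulVecLin_apply, Matrix.sub_mulVec, Matrix.one_mulVec, sub_eq_zero]

/-- (K7) an element of the normalizer that does not centralize `K` has a small fixed space -/
theorem two_mul_finrank_fixSp_le (k : ℕ) (K : Subalgebra F (Matrix ι ι F))
    (hK : IsFieldSubalgebra k K) (y : GL ι F) (hy : y ∈ subalgebraNormalizer K)
    (hnc : ¬ Centralizes K (y : Matrix ι ι F)) :
    2 * Module.finrank F (fixSp (y : Matrix ι ι F)) ≤ Fintype.card ι := by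
  unfold Centralizes at hnc
  push Not at hnc
  obtain ⟨a, haK, hne⟩ := hnc
  set Y : Matrix ι ι F := (y : Matrix ι ι F) with hY
  set Yi : Matrix ι ι F := ((y⁻¹ : GL ι F) : Matrix ι ι F) with hYi
  have hYYi : Yi * Y = 1 := by
    rw [hY, hYi, ← Units.val_mul, inv_mul_cancel, Units.val_one]
  -- `b = y a y⁻¹ ∈ K`
  have hbK : Y * a * Yi ∈ K := (hy a).mp haK
  set b := Y * a * Yi with hb
  have hbY : b * Y = Y * a := by
    rw [hb, mul_assoc, hYYi, mul_one]
  have hab : a - b ≠ 0 := by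
    intro h
    rw [sub_eq_zero] at h
    apply hne
    rw [← hbY, ← h]
  have ha0 : a ≠ 0 := by
    intro h
    apply hne
    rw [h, mul_zero, zero_mul]
  obtain ⟨c', hc'K, hc'⟩ := hK.inv (a - b) (K.sub_mem haK hbK) hab
  have hc'' : c' * (a - b) = 1 := by
    rw [hK.comm c' hc'K (a - b) (K.sub_mem haK hbK)]; exact hc'
  obtain ⟨a', ha'K, ha'⟩ := hK.inv a haK ha0
  have ha'' : a' * a = 1 := by rw [hK.comm a' ha'K a haK]; exact ha'
  -- the linear equivalence `a`
  let e : (ι → F) ≃ₗ[F] (ι → F) :=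
    LinearEquiv.ofLinearMap a.mulVecLin a'.mulVecLin
      (LinearMap.ext fun v => by simp [Matrix.mulVec_mulVec, ha'])
      (LinearMap.ext fun v => by simp [Matrix.mulVec_mulVec, ha''])
  set U := fixSp Y with hU
  have hdisj : U ⊓ U.map (e : (ι → F) →ₗ[F] (ι → F)) = ⊥ := by
    rw [eq_bot_iff]
    rintro v ⟨hv1, hv2⟩
    obtain ⟨u, hu, rfl⟩ := hv2
    have hu' : Y *ᵥ u = u := (mem_fixSp_iff Y u).mp hu
    have hv' : Y *ᵥ (a *ᵥ u) = a *ᵥ u := (mem_fixSp_iff Y _).mp hv1
    have h1 : a *ᵥ u = b *ᵥ u := by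
      calc a *ᵥ u = Y *ᵥ (a *ᵥ u) := hv'.symm
        _ = (Y * a) *ᵥ u := by rw [Matrix.mulVec_mulVec]
        _ = (b * Y) *ᵥ u := by rw [hbY]
        _ = b *ᵥ (Y *ᵥ u) := by rw [Matrix.mulVec_mulVec]
        _ = b *ᵥ u := by rw [hu']
    have h2 : (a - b) *ᵥ u = 0 := by rw [Matrix.sub_mulVec, h1, sub_self]
    have h3 : u = 0 := by
      have := congrArg (fun w => c' *ᵥ w) h2
      simp only [Matrix.mulVec_mulVec, hc'', Matrix.one_mulVec, Matrix.mulVec_zero] at this
      exact this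
    rw [Submodule.mem_bot, h3]
    simp
  have hdim : Module.finrank F (U.map (e : (ι → F) →ₗ[F] (ι → F))) = Module.finrank F U :=
    LinearEquiv.finrank_map_eq e U
  have hsum := Submodule.finrank_sup_add_finrank_inf_eq U (U.map (e : (ι → F) →ₗ[F] (ι → F)))
  rw [hdisj, finrank_bot, add_zero, hdim] at hsum
  have hle := Submodule.finrank_le (U ⊔ U.map (e : (ι → F) →ₗ[F] (ι → F)))
  rw [Module.finrank_fintype_fun_eq_card] at hle
  omega

end Cfsg.Agent.Helper33.FExtK7
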