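import Mathlib
import Cfsg.Agent.Helper13.SqOMDefs

/-!
# Helper33: piece (RSQ) of helper13's (OM) farm for S4625: in characteristic 2 the positive root
elements are involutions.
-/

set_option autoImplicit false

namespace Cfsg.Agent.Helper33.SqOM

open Matrix Cfsg Cfsg.Agent.Helper5.OmBN Cfsg.Agent.Helper13.SqOM

variable {F : Type*} [Field F] {m : ℕ} {α β : F}

/-- (RSQ) in characteristic 2 the positive root elements are involutions -/
theorem rootSet_sq [CharP F 2] (g : OG m α β) (hg : g ∈ RootSet m α β) : g * g = 1 := by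
  apply mat_injective
  rw [mat_mul, mat_one]
  rcases hg with ⟨a, b, t, ha1, ha2, hb1, hb2, hab, hab', hmat⟩ | ⟨i, w1, w2, hmat⟩
  · have hne : a ≠ b := by
      intro h
      rw [h] at hab
      exact lt_irrefl _ hab
    have h := Cfsg.Agent.Helper90.OmBN.xMat_neg_mul a b hne hab' t
    rw [CharTwo.neg_eq] at h
    rw [hmat]
    exact h
  · rw [hmat, Cfsg.Agent.Helper48.OmBN.sgMat_mul (lo i) (lo_ne_c1 i) (lo_ne_c2 i),
      CharTwo.add_self_eq_zero, CharTwo.add_self_eq_zero, Cfsg.Agent.Helper48.OmBN.sgMat_zero]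

end Cfsg.Agent.Helper33.SqOM
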