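import Mathlib
import Cfsg.Agent.Helper13.SqOMDefs

/-!
# Helper33: piece (RU) of helper13's (OM) farm for S4625: the positive root elements lie in `Usub`.
-/

set_option autoImplicit false

namespace Cfsg.Agent.Helper33.SqOM

open Matrix Cfsg Cfsg.Agent.Helper5.OmBN Cfsg.Agent.Helper13.SqOM

variable {F : Type*} [Field F] {m : ℕ} {α β : F}

/-- (RU) the positive root elements are in `Usub` -/
theorem rootSet_subset_Usub : RootSet m α β ⊆ (Usub m α β : Set (OG m α β)) := by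
  intro g hg
  rw [SetLike.mem_coe, mem_Usub_iff]
  rcases hg with ⟨a, b, t, ha1, ha2, hb1, hb2, hab, hab', hmat⟩ | ⟨i, w1, w2, hmat⟩
  · have hrev : pos (Fin.rev b) < pos (Fin.rev a) := (pos_rev_lt_iff b a).mpr hab
    constructor
    · intro r s hsr
      rw [hmat, xMat_apply]
      have h1 : ¬ r = s := by rintro rfl; exact lt_irrefl _ hsr
      have h2 : ¬ (a = r ∧ b = s) := by rintro ⟨rfl, rfl⟩; omega
      have h3 : ¬ (Fin.rev b = r ∧ Fin.rev a = s) := by rintro ⟨rfl, rfl⟩; omega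
      rw [if_neg h1, if_neg h2, if_neg h3]; ring
    · intro r s hrs
      rw [hmat, xMat_apply]
      have h2 : ¬ (a = r ∧ b = s) := by rintro ⟨rfl, rfl⟩; omega
      have h3 : ¬ (Fin.rev b = r ∧ Fin.rev a = s) := by rintro ⟨rfl, rfl⟩; omega
      rw [if_neg h2, if_neg h3]; ring
  · have hrev : Fin.rev (lo i) = hi i := rev_lo i
    have hi2 := i.2
    constructor
    · intro r s hsr
      rw [hmat, sgMat_apply, hrev]
      have h1 : ¬ r = s := by rintro rfl; exact lt_irrefl _ hsr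
      have h2 : ¬ (lo i = r ∧ c1 = s) := by
        rintro ⟨rfl, rfl⟩; rw [pos_c1, pos_lo] at hsr; omega
      have h3 : ¬ (lo i = r ∧ c2 = s) := by
        rintro ⟨rfl, rfl⟩; rw [pos_c2, pos_lo] at hsr; omega
      have h4 : ¬ (c1 = r ∧ hi i = s) := by
        rintro ⟨rfl, rfl⟩; rw [pos_c1, pos_hi] at hsr; omega
      have h5 : ¬ (c2 = r ∧ hi i = s) := by
        rintro ⟨rfl, rfl⟩; rw [pos_c2, pos_hi] at hsr; omega
      have h6 : ¬ (lo i = r ∧ hi i = s) := by
        rintro ⟨rfl, rfl⟩; rw [pos_lo, pos_hi] at hsr; omega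
      rw [if_neg h1, if_neg h2, if_neg h3, if_neg h4, if_neg h5, if_neg h6]; ring
    · intro r s hrs
      rw [hmat, sgMat_apply, hrev]
      have h2 : ¬ (lo i = r ∧ c1 = s) := by
        rintro ⟨rfl, rfl⟩; rw [pos_c1, pos_lo] at hrs; omega
      have h3 : ¬ (lo i = r ∧ c2 = s) := by
        rintro ⟨rfl, rfl⟩; rw [pos_c2, pos_lo] at hrs; omega
      have h4 : ¬ (c1 = r ∧ hi i = s) := by
        rintro ⟨rfl, rfl⟩; rw [pos_c1, pos_hi] at hrs; omega
      have h5 : ¬ (c2 = r ∧ hi i = s) := by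
        rintro ⟨rfl, rfl⟩; rw [pos_c2, pos_hi] at hrs; omega
      have h6 : ¬ (lo i = r ∧ hi i = s) := by
        rintro ⟨rfl, rfl⟩; rw [pos_lo, pos_hi] at hrs; omega
      rw [if_neg h2, if_neg h3, if_neg h4, if_neg h5, if_neg h6]; ring

end Cfsg.Agent.Helper33.SqOM
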