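import Mathlib
import Cfsg.Agent.Helper13.USubDefs

set_option autoImplicit false

/-! (BR) of helper13's S5982 skeleton: membership in `SLs` is `det = 1`. -/

namespace Cfsg.Agent.Helper33.USubBR

open Matrix Polynomial Cfsg Cfsg.Geo
open Cfsg.Agent.Helper13.USub

variable {F : Type*} [Field F] {n : ℕ}

/-- (BR) -/
theorem mem_SLs_iff (x : GL (Fin n) F) :
    x ∈ SLs n F ↔ (x : Matrix (Fin n) (Fin n) F).det = 1 := by
  unfold SLs Cfsg.Geo.specialLinear
  rw [MonoidHom.mem_ker]
  constructor
  · intro h
    have := congrArg (fun u : Fˣ => (u : F)) h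
    simpa using this
  · intro h
    apply Units.ext
    simpa using h

end Cfsg.Agent.Helper33.USubBR
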