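import Mathlib
import Cfsg.Agent.Helper15.MixDefs
import Cfsg.Agent.Helper62.Radical

/-!
# S4017 piece (D3) of board post #5926 (helper15): an element of odd order inverted by an
involution is a `p`-element.
-/

set_option autoImplicit false

namespace Cfsg.Agent.Helper33.Mix

open Subgroup Cfsg.Agent.Helper15.Mix

variable {G : Type*} [Group G] [Finite G] {p a : ℕ} {Q : Subgroup G} {x : G}

/-- local copy of (M1): an even-order subgroup which is not a 2-group has order divisible by `p` -/
theorem mix_aux (h : MC G p a) (H : Subgroup G) (h2 : 2 ∣ Nat.card H) (hn : ¬ IsPGroup 2 H) :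
    p ∣ Nat.card H := by
  by_cases hT : H = ⊤
  · rw [hT, Subgroup.card_top]; exact h.hpG
  · -- some odd prime divides |H|
    by_contra hp
    apply hn
    have hpos : Nat.card H ≠ 0 := Nat.card_pos.ne'
    have hall : ∀ r : ℕ, r.Prime → r ∣ Nat.card H → r = 2 := by
      intro r hr hrd
      rcases h.f1 H hT h2 hn r hr hrd with h1 | h1
      · exact absurd (h1 ▸ hrd) hp
      · exact h1
    have := Nat.eq_prime_pow_of_unique_prime_dvd hpos (p := 2) (fun {r} hr hrd => hall r hr hrd)
    exact IsPGroup.of_card this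

theorem p_odd (h : MC G p a) : ¬ p ∣ 2 := by
  intro hd
  have hp := h.hp
  have h2 : p = 2 := (Nat.prime_dvd_prime_iff_eq hp Nat.prime_two).mp hd
  have ha := h.ha
  have hpa := h.hpa
  rw [h2] at hpa
  -- 3 = 2 ^ a with a ≥ 2
  have : 4 ∣ 2 ^ a := by
    obtain ⟨k, rfl⟩ := Nat.exists_eq_add_of_le ha
    rw [pow_add]; norm_num
  rw [← hpa] at this
  omega

/-- (D3) an element of odd order inverted by an involution is a `p`-element. -/
theorem pelt_of_inverted (h : MC G p a) {t g : G} (ht : orderOf t = 2)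
    (hinv : t * g * t⁻¹ = g⁻¹) (hodd : Odd (orderOf g)) : IsPElt p g := by
  have hp := h.hp
  obtain ⟨j, m, hm, hjm⟩ := Nat.exists_eq_pow_mul_and_not_dvd (orderOf_pos g).ne' p hp.one_lt.ne'
  by_cases hm1 : m = 1
  · exact ⟨j, by rw [hjm, hm1, mul_one]⟩
  exfalso
  set g' := g ^ (p ^ j) with hg'
  have hord : orderOf g' = m := by
    rw [hg', orderOf_pow' g (pow_pos hp.pos j).ne', hjm,
      Nat.gcd_eq_right (Dvd.intro _ rfl), Nat.mul_div_cancel_left _ (pow_pos hp.pos j)]
  have hmodd : Odd m := by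
    rw [hjm] at hodd
    exact (Nat.odd_mul.mp hodd).2
  have hm0 : m ≠ 0 := by
    intro h0; rw [h0] at hmodd; exact absurd hmodd (by decide)
  have hinv' : t * g' * t⁻¹ = g'⁻¹ := by
    rw [hg', ← conj_pow, hinv, inv_pow]
  -- `t` normalizes `zpowers g'`
  have htn : zpowers t ≤ normalizer ((zpowers g' : Subgroup G) : Set G) := by
    rw [zpowers_le]
    apply Subgroup.mem_normalizer_fintype
    intro n hn
    obtain ⟨k, rfl⟩ := Subgroup.mem_zpowers_iff.mp hn
    have : t * g' ^ k * t⁻¹ = (g'⁻¹) ^ k := by rw [← conj_zpow, hinv']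
    show t * g' ^ k * t⁻¹ ∈ (zpowers g' : Subgroup G)
    rw [this]
    exact Subgroup.zpow_mem _ (Subgroup.inv_mem _ (Subgroup.mem_zpowers g')) k
  set H : Subgroup G := zpowers t ⊔ zpowers g' with hH
  have hdvd : Nat.card H ∣ 2 * m := by
    have := Helper62.card_sup_dvd_of_le_normalizer htn
    rwa [Nat.card_zpowers, Nat.card_zpowers, ht, hord] at this
  have htH : t ∈ H := (le_sup_left : zpowers t ≤ H) (mem_zpowers t)
  have hgH : g' ∈ H := (le_sup_right : zpowers g' ≤ H) (mem_zpowers g')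
  have h2 : 2 ∣ Nat.card H := by
    have := Subgroup.orderOf_dvd_natCard H htH
    rwa [ht] at this
  have hn2 : ¬ IsPGroup 2 H := by
    intro hP
    obtain ⟨k, hk⟩ := hP ⟨g', hgH⟩
    have h1 : g' ^ 2 ^ k = 1 := by
      have := congrArg (fun w : H => (w : G)) hk
      simpa using this
    have h3 : m ∣ 2 ^ k := by rw [← hord]; exact orderOf_dvd_of_pow_eq_one h1
    have hcop : Nat.Coprime m (2 ^ k) := (Nat.Coprime.pow_right k hmodd.coprime_two_right)
    exact hm1 (hcop.eq_one_of_dvd h3)
  have hpH := mix_aux h H h2 hn2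
  have hp2m : p ∣ 2 * m := hpH.trans hdvd
  rcases (Nat.Prime.dvd_mul hp).mp hp2m with h1 | h1
  · exact p_odd h h1
  · exact hm h1

end Cfsg.Agent.Helper33.Mix
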