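import Mathlib
import Cfsg.Agent.Helper15.MixDefs
import Cfsg.Agent.Helper33.MixD3

/-!
# S4017 (helper15's Mix project): basic facts about a configuration `Cfg G p a Q x`
-/

set_option autoImplicit false

namespace Cfsg.Agent.Helper33.Mix

open Subgroup Cfsg.Agent.Helper15.Mix

variable {G : Type*} [Group G] [Finite G] {p a : ℕ} {Q : Subgroup G} {x : G}

/-- a `p`-element which is also a 2-element is trivial -/
theorem eq_one_of_pelt_of_two (h : MC G p a) {g : G} (hg : IsPElt p g) {k : ℕ}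
    (h2 : g ^ 2 ^ k = 1) : g = 1 := by
  obtain ⟨j, hj⟩ := hg
  have h1 : orderOf g ∣ 2 ^ k := orderOf_dvd_of_pow_eq_one h2
  have hcop : Nat.Coprime (p ^ j) (2 ^ k) := by
    apply Nat.Coprime.pow
    exact (Nat.Prime.coprime_iff_not_dvd h.hp).2 (p_odd h)
  rw [hj] at h1
  have := hcop.eq_one_of_dvd h1
  rw [← hj] at this
  exact orderOf_eq_one_iff.mp this

theorem isPElt_of_mem (hp : p.Prime) {H : Subgroup G} (hH : IsPGroup p H) {g : G} (hg : g ∈ H) :
    IsPElt p g := by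
  obtain ⟨k, hk⟩ := hH ⟨g, hg⟩
  have h1 : g ^ p ^ k = 1 := by
    have := congrArg (fun w : H => (w : G)) hk
    simpa using this
  obtain ⟨j, -, hj⟩ := (Nat.dvd_prime_pow hp).mp (orderOf_dvd_of_pow_eq_one h1)
  exact ⟨j, hj⟩

theorem isPGroup_zpowers_of_pelt (hp : p.Prime) {g : G} (hg : IsPElt p g) :
    IsPGroup p (zpowers g) := by
  obtain ⟨j, hj⟩ := hg
  haveI : Fact p.Prime := ⟨hp⟩
  exact IsPGroup.of_card (n := j) (by rw [Nat.card_zpowers, hj])

theorem Q_ne_bot (h : Cfg G p a Q x) : Q ≠ ⊥ := by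
  intro hQ
  have h1 := h.qcard
  rw [hQ, Subgroup.card_bot] at h1
  have h2 : 2 ≤ a := h.mc.ha
  have : 2 ^ 1 < 2 ^ a := Nat.pow_lt_pow_right (by norm_num) (by omega)
  omega

theorem exists_mem_Q_ne_one (h : Cfg G p a Q x) : ∃ t ∈ Q, t ≠ 1 := by
  by_contra hc
  push_neg at hc
  apply Q_ne_bot h
  rw [Subgroup.eq_bot_iff_forall]
  exact hc

theorem normalizer_Q_ne_top (h : Cfg G p a Q x) : normalizer (Q : Set G) ≠ ⊤ := by
  intro hN
  haveI := h.simple
  have hn : Q.Normal := Subgroup.normalizer_eq_top_iff.mp hN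
  rcases hn.eq_bot_or_eq_top with h1 | h1
  · exact Q_ne_bot h h1
  · have h2 := h.qcard
    rw [h1, Subgroup.card_top] at h2
    have h3 := h.mc.hpG
    rw [h2] at h3
    exact p_odd h.mc ((Nat.Prime.dvd_of_dvd_pow h.mc.hp h3))

theorem cz_ne_top (h : Cfg G p a Q x) {y : G} (hy : y ≠ 1) :
    centralizer ({y} : Set G) ≠ ⊤ := by
  intro hT
  haveI := h.simple
  have hyc : y ∈ center G := by
    rw [Subgroup.mem_center_iff]
    intro g
    have hg : g ∈ centralizer ({y} : Set G) := by rw [hT]; exact mem_top g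
    exact (Subgroup.mem_centralizer_iff.mp hg y rfl).symm
  rcases (inferInstance : (center G).Normal).eq_bot_or_eq_top with h1 | h1
  · rw [h1, Subgroup.mem_bot] at hyc
    exact hy hyc
  · apply normalizer_Q_ne_top h
    rw [Subgroup.normalizer_eq_top_iff]
    refine ⟨fun n hn g => ?_⟩
    have hg : g ∈ center G := by rw [h1]; exact mem_top g
    have : g * n * g⁻¹ = n := by
      rw [← Subgroup.mem_center_iff.mp hg n, mul_inv_cancel_right]
    rw [this]; exact hn

theorem normalizer_normalizer_ne_top (h : Cfg G p a Q x) :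
    normalizer ((normalizer (Q : Set G) : Subgroup G) : Set G) ≠ ⊤ := by
  intro hT
  haveI := h.simple
  have hn : (normalizer (Q : Set G)).Normal := Subgroup.normalizer_eq_top_iff.mp hT
  rcases hn.eq_bot_or_eq_top with h1 | h1
  · apply Q_ne_bot h
    have : Q ≤ normalizer (Q : Set G) := le_normalizer
    rw [h1] at this
    exact le_bot_iff.mp this
  · exact normalizer_Q_ne_top h h1

/-- `Q` as a Sylow 2-subgroup -/
noncomputable def sylQ (h : Cfg G p a Q x) : Sylow 2 G :=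
  haveI : Fact (Nat.Prime 2) := ⟨Nat.prime_two⟩
  Sylow.ofCard Q (by rw [h.qcard, h.mc.hcard])

theorem coe_sylQ (h : Cfg G p a Q x) : ((sylQ h : Sylow 2 G) : Subgroup G) = Q := rfl

/-- a 2-element of `N(Q)` lies in `Q` -/
theorem mem_Q_of_two_elt (h : Cfg G p a Q x) {u : G} (hu : u ∈ normalizer (Q : Set G)) {k : ℕ}
    (hk : u ^ 2 ^ k = 1) : u ∈ Q := by
  haveI : Fact (Nat.Prime 2) := ⟨Nat.prime_two⟩
  have h1 : IsPGroup 2 (zpowers u) := by
    obtain ⟨j, -, hj⟩ := (Nat.dvd_prime_pow Nat.prime_two).mp (orderOf_dvd_of_pow_eq_one hk)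
    exact IsPGroup.of_card (n := j) (by rw [Nat.card_zpowers, hj])
  have h2 : zpowers u ≤ normalizer (Q : Set G) := by rw [zpowers_le]; exact hu
  have h3 : IsPGroup 2 (zpowers u ⊔ Q : Subgroup G) :=
    IsPGroup.to_sup_of_normal_right' h1 (sylQ h).isPGroup' h2
  have h4 := (sylQ h).is_maximal' h3 le_sup_right
  have h5 : u ∈ zpowers u ⊔ Q := (le_sup_left : zpowers u ≤ _) (mem_zpowers u)
  rw [h4] at h5
  exact h5

theorem mem_Q_of_order_two (h : Cfg G p a Q x) {u : G} (hu : u ∈ normalizer (Q : Set G))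
    (h2 : orderOf u = 2) : u ∈ Q := by
  apply mem_Q_of_two_elt h hu (k := 1)
  rw [pow_one, ← h2, pow_orderOf_eq_one]

theorem orderOf_eq_two_of_mem_Q (h : Cfg G p a Q x) {t : G} (ht : t ∈ Q) (ht1 : t ≠ 1) :
    orderOf t = 2 := by
  apply orderOf_eq_prime
  · rw [pow_two]; exact h.qexp t ht
  · exact ht1

theorem inv_eq_self_of_mem_Q (h : Cfg G p a Q x) {t : G} (ht : t ∈ Q) : t⁻¹ = t :=
  inv_eq_of_mul_eq_one_left (h.qexp t ht)

theorem Q_comm (h : Cfg G p a Q x) {u v : G} (hu : u ∈ Q) (hv : v ∈ Q) : u * v = v * u := by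
  have h1 := h.qexp (u * v) (Q.mul_mem hu hv)
  have hu2 := h.qexp u hu
  have hv2 := h.qexp v hv
  calc u * v = u * (u * v * (u * v)) * v := by rw [h1, mul_one]
    _ = (u * u) * v * u * (v * v) := by group
    _ = v * u := by rw [hu2, hv2, one_mul, mul_one]

omit [Finite G] in
theorem orderOf_conj' (g y : G) : orderOf (g * y * g⁻¹) = orderOf y :=
  (SemiconjBy.orderOf_eq g (show SemiconjBy g y (g * y * g⁻¹) by
    unfold SemiconjBy; group)).symm

omit [Finite G] in
theorem conj_inv_of_conj_eq_inv {t g : G} (h : t * g * t⁻¹ = g⁻¹) : t * g⁻¹ * t⁻¹ = g := by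
  calc t * g⁻¹ * t⁻¹ = (t * g * t⁻¹)⁻¹ := by group
    _ = g := by rw [h, inv_inv]

omit [Finite G] in
/-- an element inverting `y` normalizes the centralizer of `y` -/
theorem conj_mem_cz_of_inverts {t y n : G} (h : t * y * t⁻¹ = y⁻¹)
    (hn : n ∈ centralizer ({y} : Set G)) : t * n * t⁻¹ ∈ centralizer ({y} : Set G) := by
  have hn' : y * n = n * y := Subgroup.mem_centralizer_iff.mp hn y rfl
  rw [Subgroup.mem_centralizer_iff]
  intro z hz
  rw [Set.mem_singleton_iff.mp hz]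
  have h1 : y⁻¹ * n = n * y⁻¹ := by
    rw [inv_mul_eq_iff_eq_mul, ← mul_assoc, hn', mul_inv_cancel_right]
  have h2 : y = t * y⁻¹ * t⁻¹ := (conj_inv_of_conj_eq_inv h).symm
  calc y * (t * n * t⁻¹) = t * y⁻¹ * t⁻¹ * (t * n * t⁻¹) := by rw [← h2]
    _ = t * (y⁻¹ * n) * t⁻¹ := by group
    _ = t * (n * y⁻¹) * t⁻¹ := by rw [h1]
    _ = t * n * t⁻¹ * (t * y⁻¹ * t⁻¹) := by group
    _ = t * n * t⁻¹ * y := by rw [← h2]

omit [Finite G] in
theorem conj_mem_sylow_smul {p : ℕ} (c y : G) (P : Sylow p G) (hy : y ∈ P) :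
    c * y * c⁻¹ ∈ ((c • P : Sylow p G) : Subgroup G) := by
  rw [Sylow.coe_subgroup_smul]
  have := Subgroup.smul_mem_pointwise_smul y (MulAut.conj c) (P : Subgroup G) hy
  simpa [MulAut.smul_def] using this

end Cfsg.Agent.Helper33.Mix
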