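import Mathlib
import Cfsg.Agent.Helper15.MixDefs
import Cfsg.Agent.Helper33.MixBasicA

/-!
# S4017 piece (I3) of board post #5926/#5944 (helper15): `Y p Q ≠ ⊥` is impossible.

`false_of_Y_ne_bot'` takes the pieces (C2), (C3), (C4), (C5), (I1b), (I2) as explicit hypotheses.
-/

set_option autoImplicit false

namespace Cfsg.Agent.Helper33.Mix

open Subgroup Cfsg.Agent.Helper15.Mix

variable {G : Type*} [Group G] [Finite G] {p a : ℕ} {Q : Subgroup G} {x : G}

/-- (I3), primed: with the other pieces as hypotheses -/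
theorem false_of_Y_ne_bot' (h : Cfg G p a Q x) (hY : Y p Q ≠ ⊥)
    (hC2 : ∀ t ∈ Q, t ≠ 1 → IsPGroup p (W p t))
    (hC3 : ∀ E : Subgroup G, normalizer (Q : Set G) ≤ E → E ≠ ⊤ → E ≤ normalizer (Q : Set G))
    (hC4 : normalizer (Q : Set G) ≤ centralizer ((Y p Q : Subgroup G) : Set G))
    (hI : ∀ t ∈ Q, t ≠ 1 → W p t ≤ centralizer (Q : Set G))
    (hI1b : ∀ g u : G, u ∈ Q → u ≠ 1 → g * u * g⁻¹ ∈ Q → g ∈ normalizer (Q : Set G))
    (hI2 : ∀ t u : G, t ∈ Q → t ≠ 1 → orderOf u = 2 → u ∉ normalizer (Q : Set G) →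
      t * u ≠ 1 ∧ IsPElt p (t * u) ∧ IsPGroup p (centralizer ({t * u} : Set G))) : False := by
  classical
  have hp : p.Prime := h.mc.hp
  haveI : Fact p.Prime := ⟨hp⟩
  obtain ⟨t, ht, ht1⟩ := exists_mem_Q_ne_one h
  have htt : t * t = 1 := h.qexp t ht
  have htinv : t⁻¹ = t := inv_eq_self_of_mem_Q h ht
  -- (i) `cz y = N` for `y ∈ Y`, `y ≠ 1`
  have hi : ∀ y ∈ Y p Q, y ≠ 1 → centralizer ({y} : Set G) = normalizer (Q : Set G) := by
    intro y hy hy1
    apply le_antisymm
    · apply hC3 _ _ (cz_ne_top h hy1)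
      refine hC4.trans ?_
      apply Subgroup.centralizer_le
      rw [Set.singleton_subset_iff]; exact hy
    · refine hC4.trans ?_
      apply Subgroup.centralizer_le
      rw [Set.singleton_subset_iff]; exact hy
  -- `Y ≤ W p t`, a `p`-group
  have hYW : Y p Q ≤ W p t := by
    apply Subgroup.closure_mono
    rintro g ⟨hg, hgp⟩
    exact ⟨Subgroup.mem_centralizer_iff.mp hg t ht |>.symm, hgp⟩
  have hWp := hC2 t ht ht1
  obtain ⟨y, hyY, hy1⟩ : ∃ y ∈ Y p Q, y ≠ 1 := by
    by_contra hc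
    push_neg at hc
    exact hY ((Subgroup.eq_bot_iff_forall _).mpr hc)
  have hyp : IsPElt p y := isPElt_of_mem hp hWp (hYW hyY)
  have hczy := hi y hyY hy1
  -- (ii) an involution outside `N`
  obtain ⟨c0, hc0⟩ : ∃ c0 : G, c0 ∉ normalizer (Q : Set G) := by
    by_contra hc
    push_neg at hc
    exact normalizer_Q_ne_top h ((Subgroup.eq_top_iff' _).mpr hc)
  set u := c0 * t * c0⁻¹ with hu
  have hu2 : orderOf u = 2 := by
    rw [hu, orderOf_conj']
    exact orderOf_eq_two_of_mem_Q h ht ht1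
  have huN : u ∉ normalizer (Q : Set G) := by
    intro hmem
    exact hc0 (hI1b c0 t ht ht1 (mem_Q_of_order_two h hmem hu2))
  have huu : u * u = 1 := by rw [← pow_two, ← hu2, pow_orderOf_eq_one]
  have huinv : u⁻¹ = u := inv_eq_of_mul_eq_one_left huu
  -- (iii)
  obtain ⟨hg1, hgp, hSp⟩ := hI2 t u ht ht1 hu2 huN
  set g := t * u with hg
  set S := centralizer ({g} : Set G) with hS
  have hSab : ∀ v ∈ S, ∀ w ∈ S, v * w = w * v := h.mc.pab S hSp
  have hgS : g ∈ S := Subgroup.mem_centralizer_iff.mpr (fun z hz => by rw [Set.mem_singleton_iff.mp hz])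
  have htg : t * g * t⁻¹ = g⁻¹ := by
    rw [hg, mul_inv_rev, huinv, htinv, ← mul_assoc, htt, one_mul]
  -- `t` normalizes `S`
  have htS : ∀ s ∈ S, t * s * t⁻¹ ∈ S := by
    intro s hs
    exact conj_mem_cz_of_inverts htg hs
  -- (iv) a conjugate of `y` in `S`
  obtain ⟨P1, hP1⟩ := hSp.exists_le_sylow
  have hP1S : (P1 : Subgroup G) = S := by
    apply le_antisymm _ hP1
    intro w hw
    rw [hS, Subgroup.mem_centralizer_iff]
    intro z hz
    rw [Set.mem_singleton_iff.mp hz]
    exact h.mc.pab P1 P1.isPGroup' g (hP1 hgS) w hw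
  obtain ⟨P0, hP0⟩ := (isPGroup_zpowers_of_pelt hp hyp).exists_le_sylow
  obtain ⟨c, hc⟩ := MulAction.exists_smul_eq G P0 P1
  set y' := c * y * c⁻¹ with hy'
  have hy'S : y' ∈ S := by
    rw [← hP1S, ← hc]
    exact conj_mem_sylow_smul c y P0 (hP0 (mem_zpowers y))
  have hy'1 : y' ≠ 1 := by
    intro h1
    apply hy1
    have : y = c⁻¹ * y' * c := by rw [hy']; group
    rw [this, h1]; group
  have hy'p : IsPElt p y' := isPElt_of_mem hp hSp hy'S
  -- (v)
  set w := y' * (t * y' * t⁻¹) with hw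
  have hwS : w ∈ S := S.mul_mem hy'S (htS y' hy'S)
  have hwt : w * t = t * w := by
    have h1 : t * w * t⁻¹ = w := by
      rw [hw]
      calc t * (y' * (t * y' * t⁻¹)) * t⁻¹ = (t * y' * t⁻¹) * ((t * t) * y' * (t * t)⁻¹) := by group
        _ = (t * y' * t⁻¹) * y' := by rw [htt]; group
        _ = y' * (t * y' * t⁻¹) := hSab _ (htS y' hy'S) _ hy'S
    calc w * t = (t * w * t⁻¹) * t := by rw [h1]
      _ = t * w := by group
  by_cases hw1 : w = 1
  · -- Case A: `t` inverts `y'`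
    have hinv : t * y' * t⁻¹ = y'⁻¹ := by
      have := hw1
      rw [hw] at this
      exact (eq_inv_of_mul_eq_one_right this)
    set t' := c⁻¹ * t * c with ht'
    have ht'y : t' * y * t'⁻¹ = y⁻¹ := by
      have : t' * y * t'⁻¹ = c⁻¹ * (t * y' * t⁻¹) * c := by rw [ht', hy']; group
      rw [this, hinv, hy']; group
    have ht'N : t' ∈ normalizer ((centralizer ({y} : Set G) : Subgroup G) : Set G) := by
      apply Subgroup.mem_normalizer_fintype
      intro n hn
      exact conj_mem_cz_of_inverts ht'y hn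
    rw [hczy] at ht'N
    have hE := hC3 _ le_normalizer (normalizer_normalizer_ne_top h)
    have ht'cz : t' ∈ centralizer ({y} : Set G) := by rw [hczy]; exact hE ht'N
    have hcomm : y * t' = t' * y := Subgroup.mem_centralizer_iff.mp ht'cz y rfl
    have hyy : y = y⁻¹ := by
      rw [← ht'y, ← hcomm, mul_inv_cancel_right]
    have hy2 : y ^ 2 ^ 1 = 1 := by
      rw [pow_one, pow_two]
      nth_rewrite 2 [hyy]
      exact mul_inv_cancel y
    exact hy1 (eq_one_of_pelt_of_two h.mc hyp hy2)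
  · -- Case B
    have hwp : IsPElt p w := isPElt_of_mem hp hSp hwS
    have hwW : w ∈ W p t := Subgroup.subset_closure ⟨hwt, hwp⟩
    have hwCQ : w ∈ centralizer (Q : Set G) := hI t ht ht1 hwW
    have hwY : w ∈ Y p Q := Subgroup.subset_closure ⟨hwCQ, hwp⟩
    have hczw := hi w hwY hw1
    have hgN : g ∈ normalizer (Q : Set G) := by
      rw [← hczw, Subgroup.mem_centralizer_iff]
      intro z hz
      rw [Set.mem_singleton_iff.mp hz]
      exact hSab w hwS g hgS
    have hgg : g * g ∈ Q := by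
      have h1 : g * g = t * (g⁻¹ * t⁻¹ * g) := by
        have : g = t * g⁻¹ * t⁻¹ := (conj_inv_of_conj_eq_inv htg).symm
        calc g * g = (t * g⁻¹ * t⁻¹) * g := by rw [← this]
          _ = t * (g⁻¹ * t⁻¹ * g) := by group
      rw [h1]
      apply Q.mul_mem ht
      have h2 : g⁻¹ ∈ normalizer (Q : Set G) := Subgroup.inv_mem _ hgN
      have := (Subgroup.mem_normalizer_iff.mp h2 t⁻¹).mp (Q.inv_mem ht)
      simpa using this
    have hg4 : g ^ 2 ^ 2 = 1 := by
      have := h.qexp (g * g) hgg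
      have h4 : (2 : ℕ) ^ 2 = 4 := by norm_num
      rw [h4]
      calc g ^ 4 = g * g * (g * g) := by
            simp only [pow_succ, pow_zero, one_mul, mul_assoc]
        _ = 1 := this
    exact hg1 (eq_one_of_pelt_of_two h.mc hgp hg4)

end Cfsg.Agent.Helper33.Mix
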