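import Mathlib
import Cfsg.Agent.Helper15.AbFourier
import Cfsg.Agent.Helper15.ExcValues

set_option autoImplicit false

/-!
# (K1) of #5037 for S4018 (helper15): the Gram matrix of the relative Fourier coefficients for the
column orthogonality `|Q| ([y' = y] + [y' = y⁻¹])`.   (helper33)
-/

namespace Cfsg.Agent.Helper33.TIInv

open Finset
open Cfsg.Agent.Helper15.AbFourier Cfsg.Agent.Helper15.ExcValues
open scoped ComplexConjugate

universe u

variable {Q : Type u} [CommGroup Q] [Fintype Q] [DecidableEq Q] [Fintype (Q →* ℂˣ)]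
  [DecidableEq (Q →* ℂˣ)]

omit [DecidableEq Q] [Fintype (Q →* ℂˣ)] in
/-- the basic sum. -/
theorem sum_phi_mul (ψ χ : Q →* ℂˣ) (hψ : ψ ≠ 1) (hχ : χ ≠ 1) :
    ∑ z, (conj ((ψ z : ℂˣ) : ℂ) - 1) * (((χ z : ℂˣ) : ℂ) - 1)
      = (if χ = ψ then (Nat.card Q : ℂ) else 0) + (Nat.card Q : ℂ) := by
  have hexp : ∀ z, (conj ((ψ z : ℂˣ) : ℂ) - 1) * (((χ z : ℂˣ) : ℂ) - 1)
      = ((χ z : ℂˣ) : ℂ) * conj ((ψ z : ℂˣ) : ℂ) - conj ((ψ z : ℂˣ) : ℂ)
        - ((χ z : ℂˣ) : ℂ) + 1 := by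
    intro z
    ring
  rw [Finset.sum_congr rfl (fun z _ => hexp z), Finset.sum_add_distrib, Finset.sum_sub_distrib,
    Finset.sum_sub_distrib, row_orth, sum_conj_apply_eq_zero hψ, sum_apply_eq_zero hχ]
  simp [Nat.card_eq_fintype_card]

/-- (K1) -/
theorem gram_inv {ι : Type*} [Fintype ι] (X : ι → Q → ℂ)
    (hCO : ∀ y y' : Q, y ≠ 1 → y' ≠ 1 → ∑ i, X i y * conj (X i y') =
      (Nat.card Q : ℂ) * ((if y' = y then 1 else 0) + (if y' = y⁻¹ then 1 else 0)))
    (ψ ψ' : Q →* ℂˣ) (hψ : ψ ≠ 1) (hψ' : ψ' ≠ 1) :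
    ∑ i, acoef (X i) ψ * conj (acoef (X i) ψ') =
      2 + (if ψ' = ψ then 1 else 0) + (if ψ' = ψ⁻¹ then 1 else 0) := by
  classical
  obtain ⟨n, hn⟩ : ∃ n : ℂ, n = (Nat.card Q : ℂ) := ⟨_, rfl⟩
  have hn0 : n ≠ 0 := hn ▸ card_ne_zero'
  let φ : Q → ℂ := fun z => conj ((ψ z : ℂˣ) : ℂ) - 1
  let φ' : Q → ℂ := fun z => ((ψ' z : ℂˣ) : ℂ) - 1
  have hφ1 : φ 1 = 0 := by simp [φ]
  have hφ'1 : φ' 1 = 0 := by simp [φ']
  let K : Q → Q → ℂ := fun z z' => ∑ i, X i z * conj (X i z')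
  -- step 0
  have h0 : ∑ i, acoef (X i) ψ * conj (acoef (X i) ψ')
      = n⁻¹ * n⁻¹ * ∑ z, φ z * ∑ z', φ' z' * K z z' := by
    have ha : ∀ i, acoef (X i) ψ = n⁻¹ * ∑ z, X i z * φ z := fun i => by
      rw [hn]; exact acoef_eq _ _
    have hb : ∀ i, conj (acoef (X i) ψ') = n⁻¹ * ∑ z', conj (X i z') * φ' z' := by
      intro i
      rw [acoef_eq, map_mul, map_inv₀, Complex.conj_natCast, map_sum, hn]
      congr 1
      refine Finset.sum_congr rfl (fun z _ => ?_)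
      rw [map_mul, map_sub, Complex.conj_conj, map_one]
    calc ∑ i, acoef (X i) ψ * conj (acoef (X i) ψ')
        = n⁻¹ * n⁻¹ * ∑ i, ∑ z, ∑ z', (X i z * φ z) * (conj (X i z') * φ' z') := by
          rw [Finset.mul_sum]
          refine Finset.sum_congr rfl (fun i _ => ?_)
          rw [ha, hb, ← Finset.sum_mul_sum]
          ring
      _ = n⁻¹ * n⁻¹ * ∑ z, ∑ z', ∑ i, (X i z * φ z) * (conj (X i z') * φ' z') := by
          congr 1
          rw [Finset.sum_comm]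
          refine Finset.sum_congr rfl (fun z _ => ?_)
          rw [Finset.sum_comm]
      _ = n⁻¹ * n⁻¹ * ∑ z, φ z * ∑ z', φ' z' * K z z' := by
          congr 1
          refine Finset.sum_congr rfl (fun z _ => ?_)
          rw [Finset.mul_sum]
          refine Finset.sum_congr rfl (fun z' _ => ?_)
          simp only [K]
          rw [Finset.mul_sum, Finset.mul_sum]
          refine Finset.sum_congr rfl (fun i _ => ?_)
          ring
  -- step 1
  have hC1 : ∀ z, z ≠ 1 → ∑ z', φ' z' * K z z' = n * (φ' z + φ' z⁻¹) := by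
    intro z hz
    have hK : ∀ z', φ' z' * K z z'
        = (if z' = z then n * φ' z' else 0) + (if z' = z⁻¹ then n * φ' z' else 0) := by
      intro z'
      by_cases hz' : z' = 1
      · subst hz'
        rw [hφ'1]
        split_ifs <;> simp
      · rw [show K z z' = n * ((if z' = z then 1 else 0) + (if z' = z⁻¹ then 1 else 0)) from
          hn ▸ hCO z z' hz hz']
        split_ifs <;> ring
    rw [Finset.sum_congr rfl (fun z' _ => hK z'), Finset.sum_add_distrib,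
      Finset.sum_ite_eq' Finset.univ z, Finset.sum_ite_eq' Finset.univ z⁻¹]
    simp only [Finset.mem_univ, if_true]
    ring
  -- step 2
  have h1 : ∑ z, φ z * ∑ z', φ' z' * K z z'
      = n * (∑ z, φ z * φ' z + ∑ z, φ z * φ' z⁻¹) := by
    have h2 : ∀ z, φ z * ∑ z', φ' z' * K z z' = n * (φ z * φ' z + φ z * φ' z⁻¹) := by
      intro z
      by_cases hz : z = 1
      · subst hz
        rw [hφ1]
        simp
      · rw [hC1 z hz]
        ring
    rw [Finset.sum_congr rfl (fun z _ => h2 z), ← Finset.mul_sum, Finset.sum_add_distrib]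
  -- step 3
  have hinv1 : ψ'⁻¹ ≠ 1 := by
    intro h
    apply hψ'
    ext z
    have h' := DFunLike.congr_fun h z
    simpa using h'
  have hA : ∑ z, φ z * φ' z = (if ψ' = ψ then n else 0) + n := by
    rw [hn]
    exact sum_phi_mul ψ ψ' hψ hψ'
  have hB : ∑ z, φ z * φ' z⁻¹ = (if ψ' = ψ⁻¹ then n else 0) + n := by
    have h3 := sum_phi_mul ψ ψ'⁻¹ hψ hinv1
    have h4 : ∀ z, φ z * φ' z⁻¹
        = (conj ((ψ z : ℂˣ) : ℂ) - 1) * ((((ψ'⁻¹) z : ℂˣ) : ℂ) - 1) := by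
      intro z
      simp only [φ, φ', MonoidHom.inv_apply, map_inv]
    rw [Finset.sum_congr rfl (fun z _ => h4 z), h3, hn]
    have h5 : (ψ'⁻¹ = ψ) ↔ (ψ' = ψ⁻¹) := by
      constructor
      · intro h
        rw [← h]
        ext z; simp
      · intro h
        rw [h]
        ext z; simp
    by_cases h6 : ψ' = ψ⁻¹
    · rw [if_pos h6, if_pos (h5.2 h6)]
    · rw [if_neg h6, if_neg (fun h => h6 (h5.1 h))]
  rw [h0, h1, hA, hB]
  have h7 : (if ψ' = ψ then n else 0) = n * (if ψ' = ψ then (1 : ℂ) else 0) := by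
    split_ifs <;> simp
  have h8 : (if ψ' = ψ⁻¹ then n else 0) = n * (if ψ' = ψ⁻¹ then (1 : ℂ) else 0) := by
    split_ifs <;> simp
  rw [h7, h8]
  field_simp
  ring

end Cfsg.Agent.Helper33.TIInv
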