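import Mathlib
import Cfsg.Agent.Helper15.AbFourier
import Cfsg.Agent.Helper15.ExcValues

set_option autoImplicit false

/-!
# (K3a) of #5037 for S4018 (helper15): values of the exceptional functions from the shape of
their relative Fourier coefficients.   (helper33)
-/

namespace Cfsg.Agent.Helper33.TIInv

open Cfsg.Agent.Helper15.AbFourier Cfsg.Agent.Helper15.ExcValues
open scoped ComplexConjugate

universe u

variable {Q : Type u} [CommGroup Q] [Fintype Q] [DecidableEq Q] [Fintype (Q →* ℂˣ)]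
  [DecidableEq (Q →* ℂˣ)]

omit [DecidableEq Q] in
/-- inversion over the nontrivial characters. -/
theorem inversion_NT (f : Q → ℂ) {x : Q} (hx : x ≠ 1) :
    f x = ∑ l : NT Q, acoef f l.1 * ((l.1 x : ℂˣ) : ℂ) := by
  have h1 := inversion_ne_one f hx
  have h2 := sum_NT (Q := Q) (fun ψ => acoef f ψ * ((ψ x : ℂˣ) : ℂ))
  simp only [acoef_one, zero_mul, sub_zero] at h2
  rw [h1, ← h2]

/-- (K3a) -/
theorem values_of_structure {ι : Type*} [DecidableEq ι] (X : ι → Q → ℂ) (ε δ : ℤ) (o Y : ι)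
    (Θ : NT Q → ι) (hYo : Y ≠ o)
    (hΘ1 : ∀ l : NT Q, l.1⁻¹ ≠ l.1 → Θ l ≠ o ∧ Θ l ≠ Y)
    (hΘ2 : ∀ l k : NT Q, l.1⁻¹ ≠ l.1 → k.1⁻¹ ≠ k.1 → (Θ l = Θ k ↔ (k.1 = l.1 ∨ k.1 = l.1⁻¹)))
    (ha : ∀ l : NT Q, l.1⁻¹ ≠ l.1 → ∀ i, acoef (X i) l.1 =
        (if i = o then -1 else 0) + (if i = Y then -(δ : ℂ) else 0) + (if i = Θ l then (ε : ℂ) else 0))
    (hf : ∀ f : NT Q, f.1⁻¹ = f.1 → acoef (X Y) f.1 = -(δ : ℂ) ∧
      ∀ l : NT Q, l.1⁻¹ ≠ l.1 → acoef (X (Θ l)) f.1 = 0) :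
    (∀ x : Q, x ≠ 1 → X Y x = δ) ∧
    (∀ l : NT Q, l.1⁻¹ ≠ l.1 → ∀ x : Q, x ≠ 1 →
      X (Θ l) x = (ε : ℂ) * (((l.1 x : ℂˣ) : ℂ) + (((l.1 x)⁻¹ : ℂˣ) : ℂ))) := by
  constructor
  · intro x hx
    rw [inversion_NT (X Y) hx]
    have h1 : ∀ l : NT Q, acoef (X Y) l.1 = -(δ : ℂ) := by
      intro l
      by_cases hl : l.1⁻¹ = l.1
      · exact (hf l hl).1
      · rw [ha l hl Y, if_neg hYo, if_pos rfl, if_neg (fun h => (hΘ1 l hl).2 h.symm)]
        ring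
    simp only [h1]
    rw [← Finset.mul_sum, sum_NT_apply hx]
    ring
  · intro l₁ hl₁ x hx
    rw [inversion_NT (X (Θ l₁)) hx]
    have hne1 : l₁.1⁻¹ ≠ 1 := by
      intro h
      apply l₁.2
      ext z
      have h' := DFunLike.congr_fun h z
      simpa using h'
    let l₂ : NT Q := ⟨l₁.1⁻¹, hne1⟩
    have h12 : l₁ ≠ l₂ := fun h => hl₁ (congrArg Subtype.val h).symm
    have h1 : ∀ l : NT Q, acoef (X (Θ l₁)) l.1 = if l = l₁ ∨ l = l₂ then (ε : ℂ) else 0 := by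
      intro l
      by_cases hl : l.1⁻¹ = l.1
      · rw [(hf l hl).2 l₁ hl₁, if_neg]
        rintro (h | h)
        · exact hl₁ (h ▸ hl)
        · apply hl₁
          have h2 : l.1 = l₁.1⁻¹ := congrArg Subtype.val h
          rw [← h2]
          calc l.1 = l.1⁻¹ := hl.symm
            _ = (l₁.1⁻¹)⁻¹ := by rw [h2]
            _ = l₁.1 := by ext z; simp
      · rw [ha l hl (Θ l₁), if_neg (hΘ1 l₁ hl₁).1, if_neg (hΘ1 l₁ hl₁).2, zero_add, zero_add]
        have h3 : (Θ l₁ = Θ l) ↔ (l = l₁ ∨ l = l₂) := by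
          rw [hΘ2 l₁ l hl₁ hl]
          constructor
          · rintro (h | h)
            · exact Or.inl (Subtype.ext h)
            · exact Or.inr (Subtype.ext h)
          · rintro (h | h)
            · exact Or.inl (congrArg Subtype.val h)
            · exact Or.inr (congrArg Subtype.val h)
        by_cases h4 : Θ l₁ = Θ l
        · rw [if_pos h4, if_pos (h3.1 h4)]
        · rw [if_neg h4, if_neg (fun h => h4 (h3.2 h))]
    simp only [h1, ite_mul, zero_mul]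
    rw [← Finset.sum_filter]
    have h5 : (Finset.univ.filter (fun l : NT Q => l = l₁ ∨ l = l₂)) = {l₁, l₂} := by
      ext l
      simp
    rw [h5, Finset.sum_pair h12]
    have h6 : ((l₂.1 x : ℂˣ) : ℂ) = (((l₁.1 x)⁻¹ : ℂˣ) : ℂ) := by
      show (((l₁.1⁻¹) x : ℂˣ) : ℂ) = _
      rw [MonoidHom.inv_apply]
    rw [h6]
    ring

end Cfsg.Agent.Helper33.TIInv
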