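import Mathlib
import Cfsg.Agent.Helper15.AbFourier
import Cfsg.Agent.Helper15.ExcValues

set_option autoImplicit false

/-!
# (K3c) of #5037 for S4018 (helper15): few self-inverse characters when `|Q| = 2 m`, `m` odd.
(helper33)
-/

namespace Cfsg.Agent.Helper33.TIInv

open Cfsg.Agent.Helper15.AbFourier Cfsg.Agent.Helper15.ExcValues
open scoped ComplexConjugate

universe u

variable {Q : Type u} [CommGroup Q] [Fintype Q] [DecidableEq Q] [Fintype (Q →* ℂˣ)]
  [DecidableEq (Q →* ℂˣ)]

/-- In a finite commutative group of order `2 m`, `m` odd, there are at most two elements of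
square one. -/
theorem card_sq_eq_one_le {A : Type*} [CommGroup A] [Finite A] (m : ℕ) (hm : Odd m)
    (hcard : Nat.card A = 2 * m) : Nat.card ((powMonoidHom 2 : A →* A).ker) ≤ 2 := by
  set D := (powMonoidHom 2 : A →* A).ker with hD
  have hp : IsPGroup 2 D := by
    intro x
    refine ⟨1, ?_⟩
    have hx : (powMonoidHom 2 : A →* A) (x : A) = 1 := x.2
    apply Subtype.ext
    simpa using hx
  obtain ⟨k, hk⟩ := (IsPGroup.iff_card (p := 2)).1 hp
  have hdvd : Nat.card D ∣ 2 * m := hcard ▸ Subgroup.card_subgroup_dvd_card D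
  rw [hk] at hdvd ⊢
  rcases Nat.lt_or_ge k 2 with h | h
  · interval_cases k <;> simp
  · exfalso
    have h4 : 4 ∣ 2 * m := (pow_dvd_pow 2 h).trans hdvd
    obtain ⟨c, hc⟩ := hm
    omega

/-- finset form. -/
theorem finset_sq_eq_one_card_le {A : Type*} [CommGroup A] [Finite A] (m : ℕ) (hm : Odd m)
    (hcard : Nat.card A = 2 * m) (s : Finset A) (hs : ∀ x ∈ s, x * x = 1) : s.card ≤ 2 := by
  classical
  have hD := card_sq_eq_one_le (A := A) m hm hcard
  let D := (powMonoidHom 2 : A →* A).ker
  have hmem : ∀ x ∈ s, x ∈ D := by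
    intro x hx
    show (powMonoidHom 2 : A →* A) x = 1
    rw [powMonoidHom_apply, pow_two]
    exact hs x hx
  have : Fintype D := Fintype.ofFinite D
  have h1 : s.card = (s.attach.image (fun x => (⟨x.1, hmem x.1 x.2⟩ : D))).card := by
    rw [Finset.card_image_of_injective, Finset.card_attach]
    intro x y hxy
    exact Subtype.ext (congrArg (fun d : D => (d : A)) hxy)
  rw [h1]
  refine le_trans (Finset.card_le_univ _) ?_
  rw [← Nat.card_eq_fintype_card]
  exact hD

/-- (K3c) -/
theorem card_nonfixed (m : ℕ) (hm : Odd m) (hcard : Nat.card Q = 2 * m) :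
    2 * m - 2 ≤ (Finset.univ.filter (fun l : NT Q => l.1⁻¹ ≠ l.1)).card := by
  classical
  have hdual : Fintype.card (Q →* ℂˣ) = 2 * m := by
    have h := card_dual (Q := Q)
    rw [← hcard]
    exact_mod_cast h
  have hNT : Fintype.card (NT Q) = 2 * m - 1 := by
    rw [Fintype.card_subtype_compl, hdual]
    simp
  -- the fixed nontrivial characters
  have hfix : (Finset.univ.filter (fun l : NT Q => l.1⁻¹ = l.1)).card ≤ 1 := by
    by_contra hcon
    rw [not_le] at hcon
    obtain ⟨a, ha, b, hb, hab⟩ := Finset.one_lt_card.1 hcon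
    simp only [Finset.mem_filter, Finset.mem_univ, true_and] at ha hb
    have hsq : ∀ l : NT Q, l.1⁻¹ = l.1 → l.1 * l.1 = 1 := by
      intro l hl
      have h := inv_mul_cancel (l.1 : Q →* ℂˣ)
      rwa [hl] at h
    have h3 : ({(1 : Q →* ℂˣ), a.1, b.1} : Finset (Q →* ℂˣ)).card = 3 := by
      rw [Finset.card_insert_of_notMem, Finset.card_insert_of_notMem, Finset.card_singleton]
      · simp only [Finset.mem_singleton]
        exact fun h => hab (Subtype.ext h)
      · simp only [Finset.mem_insert, Finset.mem_singleton, not_or]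
        exact ⟨fun h => a.2 h.symm, fun h => b.2 h.symm⟩
    have h2 := finset_sq_eq_one_card_le (A := (Q →* ℂˣ)) m hm
      (by rw [Nat.card_eq_fintype_card, hdual]) {(1 : Q →* ℂˣ), a.1, b.1} (by
        intro x hx
        simp only [Finset.mem_insert, Finset.mem_singleton] at hx
        rcases hx with rfl | rfl | rfl
        · simp
        · exact hsq a ha
        · exact hsq b hb)
    omega
  have hsplit : (Finset.univ.filter (fun l : NT Q => l.1⁻¹ = l.1)).card
      + (Finset.univ.filter (fun l : NT Q => l.1⁻¹ ≠ l.1)).card = Fintype.card (NT Q) := by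
    rw [Finset.card_filter_add_card_filter_not]
    rfl
  omega

end Cfsg.Agent.Helper33.TIInv
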