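import Mathlib
import Cfsg.Agent.Helper15.MixDefs
import Cfsg.Agent.Helper15.MixBasic
import Cfsg.Agent.Helper33.MixBasicA
import Cfsg.Agent.Helper70.DefOneXG
import Cfsg.Agent.S4018

/-!
# S4017 piece (II5) of board post #5926/#5958 (helper15): the case `p = 3`, `a = 2`, `Y = 1`,
`W_t ≠ 1` reduces to S4018.

`false_of_two'` takes the pieces (U1), (II3), (C2), (C2b) as explicit hypotheses.
-/

set_option autoImplicit false

namespace Cfsg.Agent.Helper33.Mix

open Subgroup Cfsg.Agent.Helper15.Mix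

variable {G : Type*} [Group G] [Finite G] {Q : Subgroup G} {x : G}

omit [Finite G] in
/-- an involution normalizing an abelian group and fixing no non-identity element inverts it -/
theorem inverts_of_fpf (A : Subgroup G) (hcomm : ∀ v ∈ A, ∀ w ∈ A, v * w = w * v) {s : G}
    (hs2 : s * s = 1) (hsA : ∀ w ∈ A, s * w * s⁻¹ ∈ A)
    (hfix : ∀ w ∈ A, w * s = s * w → w = 1) : ∀ w ∈ A, s * w * s⁻¹ = w⁻¹ := by
  intro w hw
  set v := w * (s * w * s⁻¹) with hv
  have hvA : v ∈ A := A.mul_mem hw (hsA w hw)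
  have h1 : s * v * s⁻¹ = v := by
    rw [hv]
    calc s * (w * (s * w * s⁻¹)) * s⁻¹ = (s * w * s⁻¹) * ((s * s) * w * (s * s)⁻¹) := by group
      _ = (s * w * s⁻¹) * w := by rw [hs2]; group
      _ = w * (s * w * s⁻¹) := hcomm _ (hsA w hw) _ hw
  have h2 : v * s = s * v := by
    calc v * s = (s * v * s⁻¹) * s := by rw [h1]
      _ = s * v := by group
  have h3 := hfix v hvA h2
  rw [hv] at h3
  exact eq_inv_of_mul_eq_one_right h3

/-- every proper subgroup of even order has order dividing `4 |P|` -/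
theorem heven_aux (h : Cfg G 3 2 Q x) (P : Sylow 3 G) (H : Subgroup G) (hH : H ≠ ⊤)
    (h2 : 2 ∣ Nat.card H) : Nat.card H ∣ 4 * Nat.card P := by
  haveI : Fact (Nat.Prime 3) := ⟨Nat.prime_three⟩
  obtain ⟨i, j, hij, hi⟩ := h.mc.card_two_p H hH h2
  have hP : Nat.card P = 3 ^ (Nat.card G).factorization 3 := P.card_eq_multiplicity
  have hdiv : Nat.card H ∣ Nat.card G := Subgroup.card_subgroup_dvd_card H
  have h3 : 3 ^ j ∣ Nat.card G := by
    refine Dvd.dvd.trans ?_ hdiv
    rw [hij]; exact Dvd.intro_left _ rfl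
  have hj : j ≤ (Nat.card G).factorization 3 :=
    (Nat.Prime.pow_dvd_iff_le_factorization Nat.prime_three Nat.card_pos.ne').mp h3
  rw [hij, hP]
  apply mul_dvd_mul
  · have : (4 : ℕ) = 2 ^ 2 := by norm_num
    rw [this]; exact pow_dvd_pow 2 hi
  · exact pow_dvd_pow 3 hj

/-- (II5), primed: with (U1), (II3), (C2), (C2b) as hypotheses -/
theorem false_of_two' (h : Cfg G 3 2 Q x)
    (hU1 : ∀ w z : G, IsPElt 3 w → w ≠ 1 → orderOf z = 2 → w * z = z * w →
      ∀ P P' : Sylow 3 G, w ∈ P → w ∈ P' → P = P')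
    (hII3 : ∀ t s : G, t ∈ Q → t ≠ 1 → s ∈ Q → s ≠ 1 → t ≠ s → W 3 t ≠ ⊥ →
      ∀ P : Sylow 3 G, W 3 t ≤ P → W 3 s ≤ P → False)
    (hC2 : ∀ t ∈ Q, t ≠ 1 → IsPGroup 3 (W 3 t))
    (hC2b : ∀ t ∈ Q, t ≠ 1 → ∀ c ∈ centralizer ({t} : Set G), ∃ w ∈ W 3 t, ∃ u ∈ Q, c = w * u)
    {t : G} (ht : t ∈ Q) (ht1 : t ≠ 1) (hW : W 3 t ≠ ⊥) : False := by
  classical
  have hp3 : Nat.Prime 3 := Nat.prime_three
  haveI : Fact (Nat.Prime 3) := ⟨hp3⟩
  have hWp := hC2 t ht ht1
  obtain ⟨P, hWP⟩ := hWp.exists_le_sylow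
  have hPab : ∀ a ∈ (P : Subgroup G), ∀ b ∈ (P : Subgroup G), a * b = b * a :=
    h.mc.pab P P.isPGroup'
  obtain ⟨w0, hw0W, hw01⟩ : ∃ w0 ∈ W 3 t, w0 ≠ 1 := by
    by_contra hc
    push Not at hc
    exact hW ((Subgroup.eq_bot_iff_forall _).mpr hc)
  have hw0p : IsPElt 3 w0 := isPElt_of_mem hp3 hWp hw0W
  have ht2 : orderOf t = 2 := orderOf_eq_two_of_mem_Q h ht ht1
  have htt : t * t = 1 := h.qexp t ht
  -- (2) `Q ≤ N(P)`
  have hQN : ∀ c ∈ Q, c ∈ normalizer ((P : Subgroup G) : Set G) := by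
    intro c hc
    have hct : c * t * c⁻¹ = t := by
      rw [Q_comm h hc ht, mul_inv_cancel_right]
    have h1 : c * w0 * c⁻¹ ∈ W 3 t := by
      have := mem_W_conj (c := c) hw0W
      rwa [hct] at this
    have h2 : c * w0 * c⁻¹ ∈ ((c • P : Sylow 3 G) : Subgroup G) :=
      conj_mem_sylow_smul c w0 P (hWP hw0W)
    have h3 : IsPElt 3 (c * w0 * c⁻¹) := isPElt_conj c hw0p
    have h4 : c * w0 * c⁻¹ ≠ 1 := by
      intro h5
      apply hw01
      have : w0 = c⁻¹ * (c * w0 * c⁻¹) * c := by group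
      rw [this, h5]; group
    have h5 : (c * w0 * c⁻¹) * t = t * (c * w0 * c⁻¹) :=
      (Subgroup.mem_centralizer_iff.mp (W_le_cz t h1) t rfl).symm
    have := hU1 _ t h3 h4 ht2 h5 (c • P) P h2 (hWP h1)
    exact Sylow.smul_eq_iff_mem_normalizer.mp this
  -- (3) fixed points
  have hfix : ∀ s ∈ Q, s ≠ 1 → s ≠ t → ∀ w ∈ (P : Subgroup G), w * s = s * w → w = 1 := by
    intro s hs hs1 hst w hw hws
    by_contra hw1
    have hwp : IsPElt 3 w := isPElt_of_mem hp3 P.isPGroup' hw
    have hwWs : w ∈ W 3 s := mem_W hws hwp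
    obtain ⟨P', hP'⟩ := (hC2 s hs hs1).exists_le_sylow
    have hs2 : orderOf s = 2 := orderOf_eq_two_of_mem_Q h hs hs1
    have := hU1 w s hwp hw1 hs2 hws P P' hw (hP' hwWs)
    rw [← this] at hP'
    exact hII3 t s ht ht1 hs hs1 (Ne.symm hst) hW P hWP hP'
  have hinv : ∀ s ∈ Q, s ≠ 1 → s ≠ t → ∀ w ∈ (P : Subgroup G), s * w * s⁻¹ = w⁻¹ := by
    intro s hs hs1 hst
    apply inverts_of_fpf (P : Subgroup G) hPab (h.qexp s hs)
    · intro w hw
      exact (Subgroup.mem_normalizer_iff.mp (hQN s hs) w).mp hw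
    · exact hfix s hs hs1 hst
  obtain ⟨s, hs, hs1, hst⟩ : ∃ s ∈ Q, s ≠ 1 ∧ s ≠ t := by
    obtain ⟨u, hu, v, hv, hu1, hv1, huv⟩ := h.exists_two
    by_cases hut : u = t
    · exact ⟨v, hv, hv1, fun hvt => huv (hut.trans hvt.symm)⟩
    · exact ⟨u, hu, hu1, hut⟩
  set r := t * s with hr
  have hrQ : r ∈ Q := Q.mul_mem ht hs
  have hr1 : r ≠ 1 := by
    intro h1
    apply hst
    have : s = t⁻¹ := eq_inv_of_mul_eq_one_right h1
    rw [this, inv_eq_self_of_mem_Q h ht]
  have hrt : r ≠ t := by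
    intro h1
    apply hs1
    have : t * s = t * 1 := by rw [mul_one]; exact h1
    exact mul_left_cancel this
  have hsinvP := hinv s hs hs1 hst
  have hrinvP := hinv r hrQ hr1 hrt
  -- `t` centralizes `P`
  have htP : ∀ w ∈ (P : Subgroup G), t * w = w * t := by
    intro w hw
    have hss := h.qexp s hs
    have htrs : t = r * s := by rw [hr, mul_assoc, hss, mul_one]
    have h1 : s * w * s⁻¹ = w⁻¹ := hsinvP w hw
    have h2 : r * w⁻¹ * r⁻¹ = w := by
      have := hrinvP w⁻¹ ((P : Subgroup G).inv_mem hw)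
      rw [this, inv_inv]
    have h3 : t * w * t⁻¹ = w := by
      calc t * w * t⁻¹ = r * (s * w * s⁻¹) * r⁻¹ := by rw [htrs]; group
        _ = w := by rw [h1, h2]
    calc t * w = (t * w * t⁻¹) * t := by group
      _ = w * t := by rw [h3]
  set K : Subgroup G := centralizer ((P : Subgroup G) : Set G) with hK
  set L : Subgroup G := normalizer ((P : Subgroup G) : Set G) with hL
  have htK : t ∈ K := by
    rw [hK, Subgroup.mem_centralizer_iff]
    intro w hw
    exact (htP w hw).symm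
  have hPK : (P : Subgroup G) ≤ K := by
    intro w hw
    rw [hK, Subgroup.mem_centralizer_iff]
    intro v hv
    exact hPab v hv w hw
  have hKL : K ≤ L := Subgroup.centralizer_le_normalizer _
  have hPL : (P : Subgroup G) ≤ L := le_normalizer
  have hQL : Q ≤ L := fun c hc => hQN c hc
  have hw0P : w0 ∈ (P : Subgroup G) := hWP hw0W
  have hsK : s ∉ K := by
    intro hsK
    have h1 : w0 * s = s * w0 := Subgroup.mem_centralizer_iff.mp hsK w0 hw0P
    exact hw01 (hfix s hs hs1 hst w0 hw0P h1)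
  have hP_ne_bot : (P : Subgroup G) ≠ ⊥ := fun hb =>
    hw01 (by rw [hb] at hw0P; exact Subgroup.mem_bot.mp hw0P)
  have hP_ne_top : (P : Subgroup G) ≠ ⊤ := by
    intro hT
    have : t ∈ (P : Subgroup G) := by rw [hT]; exact mem_top t
    have htp := isPElt_of_mem hp3 P.isPGroup' this
    exact ht1 (eq_one_of_pelt_of_two h.mc htp (k := 1) (by rw [pow_one, pow_two]; exact htt))
  have hL_ne_top : L ≠ ⊤ := h.normalizer_ne_top hP_ne_bot hP_ne_top
  have hcardP : Nat.card P = 3 ^ (Nat.card G).factorization 3 := P.card_eq_multiplicity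
  have hcop4 : Nat.Coprime 4 (Nat.card P) := by
    rw [hcardP]; exact Nat.Coprime.pow_right _ (by norm_num)
  have hcop2 : Nat.Coprime 2 (Nat.card P) := by
    rw [hcardP]; exact Nat.Coprime.pow_right _ (by norm_num)
  have h2L : 2 ∣ Nat.card L := by
    have := Subgroup.orderOf_dvd_natCard L (hQL ht)
    rwa [ht2] at this
  have hN : Nat.card L = 4 * Nat.card P := by
    apply Nat.dvd_antisymm (heven_aux h P L hL_ne_top h2L)
    apply hcop4.mul_dvd_of_dvd_of_dvd
    · have := Subgroup.card_dvd_of_le hQL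
      rw [h.qcard] at this
      have e : (4 : ℕ) = 2 ^ 2 := by norm_num
      rw [e]; exact this
    · exact Subgroup.card_dvd_of_le hPL
  have hK_ne_top : K ≠ ⊤ := fun hT => hsK (by rw [hT]; exact mem_top s)
  have h2K : 2 ∣ Nat.card K := by
    have := Subgroup.orderOf_dvd_natCard K htK
    rwa [ht2] at this
  have hC : Nat.card K = 2 * Nat.card P := by
    have h1 : Nat.card K ∣ 4 * Nat.card P := heven_aux h P K hK_ne_top h2K
    have h2 : 2 * Nat.card P ∣ Nat.card K :=
      hcop2.mul_dvd_of_dvd_of_dvd h2K (Subgroup.card_dvd_of_le hPK)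
    obtain ⟨m, hm⟩ := h2
    have hpos : 0 < 2 * Nat.card P := by
      have : 0 < Nat.card P := Nat.card_pos
      omega
    have hm2 : m ∣ 2 := by
      rw [hm] at h1
      have e : 4 * Nat.card P = 2 * Nat.card P * 2 := by ring
      rw [e] at h1
      exact Nat.dvd_of_mul_dvd_mul_left hpos h1
    have hm12 : m = 1 ∨ m = 2 := by
      have := Nat.le_of_dvd (by norm_num) hm2
      interval_cases m
      · simp at hm2
      · left; rfl
      · right; rfl
    rcases hm12 with rfl | rfl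
    · rw [hm, mul_one]
    · exfalso
      have hle : Nat.card L ≤ Nat.card K := by
        rw [hN, hm]
        exact le_of_eq (by ring)
      have hKLeq := Subgroup.eq_of_le_of_card_ge hKL hle
      exact hsK (by rw [hKLeq]; exact hQL hs)
  -- a 3-element of `N(P)` lies in `P`
  have hmemP : ∀ w : G, w ∈ L → w ^ Nat.card P = 1 → w ∈ (P : Subgroup G) := by
    intro w hwL hwp
    rw [hcardP] at hwp
    exact Helper70.DefOneXG.mem_sylow_of_pow P hwp hwL
  -- `L` normalizes `K`
  have hLK : ∀ g ∈ L, g ∈ normalizer ((K : Subgroup G) : Set G) := by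
    intro g hg
    apply Subgroup.mem_normalizer_fintype
    intro k hk
    show g * k * g⁻¹ ∈ K
    rw [hK, Subgroup.mem_centralizer_iff]
    intro w hw
    have hginv : g⁻¹ ∈ L := L.inv_mem hg
    have h1 : g⁻¹ * w * g⁻¹⁻¹ ∈ (P : Subgroup G) :=
      (Subgroup.mem_normalizer_iff.mp hginv w).mp hw
    rw [inv_inv] at h1
    have h2 : (g⁻¹ * w * g) * k = k * (g⁻¹ * w * g) :=
      Subgroup.mem_centralizer_iff.mp hk _ h1
    calc w * (g * k * g⁻¹) = g * ((g⁻¹ * w * g) * k) * g⁻¹ := by group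
      _ = g * (k * (g⁻¹ * w * g)) * g⁻¹ := by rw [h2]
      _ = g * k * g⁻¹ * w := by group
  -- `t` is the unique involution of `K`
  have hnotP : ∀ k : G, k ≠ 1 → k * k = 1 → k ∉ (P : Subgroup G) := by
    intro k hk1 hkk hkP
    have hkp := isPElt_of_mem hp3 P.isPGroup' hkP
    exact hk1 (eq_one_of_pelt_of_two h.mc hkp (k := 1) (by rw [pow_one, pow_two]; exact hkk))
  have hidx : ((P : Subgroup G).subgroupOf K).index = 2 := by
    have h1 := Subgroup.card_mul_index ((P : Subgroup G).subgroupOf K)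
    have h2 : Nat.card ((P : Subgroup G).subgroupOf K) = Nat.card P :=
      Nat.card_congr (Subgroup.subgroupOfEquivOfLe hPK).toEquiv
    rw [h2, hC] at h1
    have hpos : 0 < Nat.card P := Nat.card_pos
    have : Nat.card P * ((P : Subgroup G).subgroupOf K).index = Nat.card P * 2 := by
      rw [h1]; ring
    exact Nat.eq_of_mul_eq_mul_left hpos this
  have hinvK : ∀ k ∈ K, k ≠ 1 → k * k = 1 → k = t := by
    intro k hk hk1 hkk
    have h1 := Subgroup.mul_mem_iff_of_index_two hidx (a := ⟨k, hk⟩) (b := ⟨t, htK⟩)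
    have h2 : (⟨k, hk⟩ : K) * ⟨t, htK⟩ ∈ (P : Subgroup G).subgroupOf K := by
      rw [h1]
      constructor
      · intro h3; exact absurd (Subgroup.mem_subgroupOf.mp h3) (hnotP k hk1 hkk)
      · intro h3; exact absurd (Subgroup.mem_subgroupOf.mp h3) (hnotP t ht1 htt)
    have h3 : k * t ∈ (P : Subgroup G) := Subgroup.mem_subgroupOf.mp h2
    set w' := k * t with hw'
    have hkw : k = w' * t := by rw [hw', mul_assoc, htt, mul_one]
    have hw't : t * w' = w' * t := htP w' h3
    have hw'2 : w' * w' = 1 := by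
      have : k * k = w' * w' := by
        calc k * k = (w' * t) * (w' * t) := by rw [← hkw]
          _ = w' * (t * w') * t := by group
          _ = w' * (w' * t) * t := by rw [hw't]
          _ = w' * w' * (t * t) := by group
          _ = w' * w' := by rw [htt, mul_one]
      rw [← this]; exact hkk
    have hw'1 : w' = 1 := eq_one_of_pelt_of_two h.mc (isPElt_of_mem hp3 P.isPGroup' h3)
      (k := 1) (by rw [pow_one, pow_two]; exact hw'2)
    rw [hkw, hw'1, one_mul]
  -- TI
  have hTI : Cfsg.IsTISubset ((K : Subgroup G) : Set G) := by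
    intro g hg k hk hgk
    by_contra hk1
    apply hg
    by_cases hkk : k * k = 1
    · have hkt : k = t := hinvK k hk hk1 hkk
      have h1 : g * k * g⁻¹ = t := by
        apply hinvK _ hgk
        · intro h2
          apply hk1
          have : k = g⁻¹ * (g * k * g⁻¹) * g := by group
          rw [this, h2]; group
        · calc g * k * g⁻¹ * (g * k * g⁻¹) = g * (k * k) * g⁻¹ := by group
            _ = 1 := by rw [hkk]; group
      rw [hkt] at h1
      have hgcz : g ∈ centralizer ({t} : Set G) := by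
        rw [Subgroup.mem_centralizer_iff]
        intro z hz
        rw [Set.mem_singleton_iff.mp hz]
        calc t * g = (g * t * g⁻¹) * g := by rw [h1]
          _ = g * t := by group
      obtain ⟨w, hw, u, hu, rfl⟩ := hC2b t ht ht1 g hgcz
      exact hLK _ (L.mul_mem (hPL (hWP hw)) (hQL hu))
    · set w := k * k with hw
      have hwK : w ∈ K := K.mul_mem hk hk
      have hkpow : k ^ (2 * Nat.card P) = 1 := by
        rw [← hC]
        exact orderOf_dvd_iff_pow_eq_one.mp (Subgroup.orderOf_dvd_natCard K hk)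
      have hwpow : w ^ Nat.card P = 1 := by
        rw [hw, ← pow_two, ← pow_mul]; exact hkpow
      have hwP : w ∈ (P : Subgroup G) := hmemP w (hKL hwK) hwpow
      set w2 := g * w * g⁻¹ with hw2
      have hw2K : w2 ∈ K := by
        have : w2 = (g * k * g⁻¹) * (g * k * g⁻¹) := by rw [hw2, hw]; group
        rw [this]; exact K.mul_mem hgk hgk
      have hw2pow : w2 ^ Nat.card P = 1 := by
        rw [hw2, conj_pow, hwpow]; group
      have hw2P : w2 ∈ (P : Subgroup G) := hmemP w2 (hKL hw2K) hw2pow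
      have hwp : IsPElt 3 w := isPElt_of_mem hp3 P.isPGroup' hwP
      have hwt : w * t = t * w := (htP w hwP).symm
      have hwP' : w ∈ ((g⁻¹ • P : Sylow 3 G) : Subgroup G) := by
        have := conj_mem_sylow_smul g⁻¹ w2 P hw2P
        have e : g⁻¹ * w2 * g⁻¹⁻¹ = w := by rw [hw2]; group
        rwa [e] at this
      have := hU1 w t hwp hkk ht2 hwt (g⁻¹ • P) P hwP' hwP
      have hginv : g⁻¹ ∈ L := Sylow.smul_eq_iff_mem_normalizer.mp this
      have hgL : g ∈ L := by simpa using L.inv_mem hginv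
      exact hLK g hgL
  have hab : IsMulCommutative P := ⟨⟨fun a b => Subtype.ext (hPab a a.2 b b.2)⟩⟩
  exact Cfsg.Agent.S4018.result P hab hN hC hTI (fun H hH h2 => heven_aux h P H hH h2) h.simple

end Cfsg.Agent.Helper33.Mix
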