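import Cfsg.Agent.Helper18.InvOdd.G2D

/-!
# Helper33: pieces (K) and (I) of helper18's S4279 farm (batch C): the two rank-one subgroups of
`G₂(F)` for the roots `b` and `2a+b` commute elementwise and meet in `⟨τ⟩`.
-/

set_option autoImplicit false
set_option linter.unusedVariables false

namespace Cfsg.Agent.Helper33.G2Inv

open Cfsg Cfsg.Lie Cfsg.Agent.Helper18 Cfsg.Agent.Helper18.G2Odd Cfsg.Agent.Helper40.SL2Hom

variable {F : Type*} [Field F]

/-- (K) the two rank-one subgroups commute elementwise.  Proof: `phiR_range`, `X_comm`, closure induction twice. -/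
theorem phiR_range_commute (x y : GL chevG2.Idx F) (hx : x ∈ (phiR (F := F) 6 (by decide)).range)
    (hy : y ∈ (phiR (F := F) 9 (by decide)).range) : x * y = y * x := by
  rw [phiR_range] at hx hy
  have hgen : ∀ g ∈ Set.range (X (F := F) 6) ∪ Set.range (X (F := F) (11 - 6)),
      ∀ k ∈ Set.range (X (F := F) 9) ∪ Set.range (X (F := F) (11 - 9)), Commute g k := by
    rintro g (⟨t, rfl⟩ | ⟨t, rfl⟩) k (⟨u, rfl⟩ | ⟨u, rfl⟩)
    · exact X_comm 6 9 (Or.inl rfl) (Or.inl rfl) t u
    · exact X_comm 6 2 (Or.inl rfl) (Or.inr rfl) t u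
    · exact X_comm 5 9 (Or.inr rfl) (Or.inl rfl) t u
    · exact X_comm 5 2 (Or.inr rfl) (Or.inr rfl) t u
  have key : ∀ g ∈ Set.range (X (F := F) 6) ∪ Set.range (X (F := F) (11 - 6)), Commute g y := by
    intro g hg
    induction hy using Subgroup.closure_induction with
    | mem k hk => exact hgen g hg k hk
    | one => exact Commute.one_right g
    | mul a b _ _ ha hb => exact ha.mul_right hb
    | inv a _ ha => exact ha.inv_right
  have : Commute x y := by
    induction hx using Subgroup.closure_induction with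
    | mem g hg => exact key g hg
    | one => exact Commute.one_left y
    | mul a b _ _ ha hb => exact ha.mul_left hb
    | inv a _ ha => exact ha.inv_left
  exact this

/-- the matrix `-1` of `SL₂(F)` -/
def negOneSL : Matrix.SpecialLinearGroup (Fin 2) F :=
  ⟨!![-1, 0; 0, -1], by simp [Matrix.det_fin_two]⟩

theorem phiR_negOneSL (r : ℕ) (hr : r < 12) : phiR (F := F) r hr negOneSL = hh r (-1) := by
  show phiFun (X (F := F) r) (X (11 - r)) negOneSL = _
  unfold phiFun phi
  have h10 : (negOneSL (F := F)) 1 0 = 0 := rfl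
  have h00 : (negOneSL (F := F)) 0 0 = -1 := rfl
  have h01 : (negOneSL (F := F)) 0 1 = 0 := rfl
  rw [h10, h00, h01, if_pos rfl, mul_zero, X_zero, one_mul]
  rfl

/-- (I) the two rank-one subgroups meet in `⟨τ⟩` (`2 ≠ 0`), given (J) and (K). -/
theorem phiR_range_inf (h2 : (2 : F) ≠ 0)
    (hJ6 : Function.Injective (phiR (F := F) 6 (by decide)))
    (hK : ∀ x ∈ (phiR (F := F) 6 (by decide)).range, ∀ y ∈ (phiR (F := F) 9 (by decide)).range, x * y = y * x) :
    (phiR (F := F) 6 (by decide)).range ⊓ (phiR (F := F) 9 (by decide)).range = Subgroup.zpowers tau := by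
  have ht6 : phiR (F := F) 6 (by decide) negOneSL = tau := by
    rw [phiR_negOneSL, hh6_neg_one]
  have ht9 : phiR (F := F) 9 (by decide) negOneSL = tau := by
    rw [phiR_negOneSL, hh9_neg_one]
  apply le_antisymm
  · rintro z ⟨⟨A, rfl⟩, hz9⟩
    -- `A` is central in `SL₂(F)`
    have hA : A ∈ Subgroup.center (Matrix.SpecialLinearGroup (Fin 2) F) := by
      rw [Subgroup.mem_center_iff]
      intro B
      apply hJ6
      rw [map_mul, map_mul]
      exact hK _ ⟨B, rfl⟩ _ hz9
    obtain ⟨c, hc, hcA⟩ := Matrix.SpecialLinearGroup.mem_center_iff.mp hA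
    have hc2 : c * c = 1 := by
      have : c ^ 2 = 1 := by simpa using hc
      rw [← this]; ring
    have hc' : c = 1 ∨ c = -1 := mul_self_eq_one_iff.mp hc2
    rcases hc' with rfl | rfl
    · have hA1 : A = 1 := by
        apply Subtype.ext
        rw [← hcA]
        simp
      rw [hA1, map_one]
      exact Subgroup.one_mem _
    · have hA1 : A = negOneSL := by
        apply Subtype.ext
        rw [← hcA]
        ext i j
        fin_cases i <;> fin_cases j <;> simp [negOneSL, Matrix.scalar_apply]
      rw [hA1, ht6]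
      exact Subgroup.mem_zpowers tau
  · rw [Subgroup.zpowers_le, Subgroup.mem_inf]
    exact ⟨⟨negOneSL, ht6⟩, ⟨negOneSL, ht9⟩⟩

end Cfsg.Agent.Helper33.G2Inv
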