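import Mathlib
import Cfsg.Agent.Helper19.OpBN.Defs

/-!
# (R1) of helper19's S2548 farm: `B = (B ∩ s⁻¹ B s) X_k` for the type `A` simple roots.
-/

set_option autoImplicit false

namespace Cfsg.Agent.Helper33.OpBN

open Matrix Cfsg.Agent.Helper19.OpBN

variable {F : Type*} [Field F] {m : ℕ}

/-- right multiplication by a root element -/
theorem mul_xMat_apply (Y : Matrix (Fin (2 * m)) (Fin (2 * m)) F) (a b : Fin (2 * m)) (t : F)
    (i j : Fin (2 * m)) :
    (Y * xMat a b t) i j = Y i j + (if b = j then Y i a * t else 0)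
      - (if Fin.rev a = j then Y i (Fin.rev b) * t else 0) := by
  rw [Matrix.mul_apply]
  simp only [xMat_apply, mul_add, mul_sub, Finset.sum_add_distrib, Finset.sum_sub_distrib]
  congr 1
  · congr 1
    · simp
    · by_cases h : b = j
      · simp [h]
      · simp [h]
  · by_cases h : Fin.rev a = j
    · simp [h]
    · simp [h]

/-- left multiplication by a permutation matrix -/
theorem pMat_mul_apply (π : Equiv.Perm (Fin (2 * m))) (Y : Matrix (Fin (2 * m)) (Fin (2 * m)) F)
    (i j : Fin (2 * m)) : ((pMat π : Matrix _ _ F) * Y) i j = Y (π⁻¹ i) j := by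
  rw [Matrix.mul_apply]
  simp only [pMat_apply]
  rw [Finset.sum_eq_single (π⁻¹ i)]
  · rw [if_pos (by simp), one_mul]
  · intro c _ hc
    rw [if_neg, zero_mul]
    intro h
    apply hc
    rw [h]
    simp
  · intro hh; exact absurd (Finset.mem_univ _) hh

/-- right multiplication by a permutation matrix -/
theorem mul_pMat_apply (π : Equiv.Perm (Fin (2 * m))) (Y : Matrix (Fin (2 * m)) (Fin (2 * m)) F)
    (i j : Fin (2 * m)) : (Y * (pMat π : Matrix _ _ F)) i j = Y i (π j) := by
  rw [Matrix.mul_apply]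
  simp only [pMat_apply]
  rw [Finset.sum_eq_single (π j)]
  · rw [if_pos rfl, mul_one]
  · intro c _ hc
    rw [if_neg hc, mul_zero]
  · intro hh; exact absurd (Finset.mem_univ _) hh

theorem sPerm_inv_apply (k : Fin (m - 1)) (j : Fin (2 * m)) : (sPerm k)⁻¹ j = sPerm k j := by
  rw [Equiv.Perm.inv_eq_iff_eq, sPerm_sPerm]

/-- conjugation by `sA k` permutes the entries -/
theorem sA_conj_apply (k : Fin (m - 1)) (y : OG m F) (i j : Fin (2 * m)) :
    mat (sA k * y * (sA k)⁻¹) i j = mat y (sPerm k i) (sPerm k j) := by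
  rw [sA_inv, mat_mul, mat_mul, mat_sA, mul_pMat_apply, pMat_mul_apply, sPerm_inv_apply]

/-- the root elements `x_k(t)` are upper triangular -/
theorem xMat_upper (k : Fin (m - 1)) (t : F) (i j : Fin (2 * m)) (hji : j < i) :
    xMat (ia k) (ib k) t i j = 0 := by
  have hk := k.2
  have hi := i.2
  have hj := j.2
  rw [Fin.lt_def] at hji
  rw [xMat_apply, if_neg (fun h => by rw [h] at hji; exact lt_irrefl _ hji), if_neg, if_neg]
  · ring
  · rintro ⟨h1, h2⟩
    have h1' := congrArg Fin.val h1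
    have h2' := congrArg Fin.val h2
    rw [val_rev, val_ib] at h1'
    rw [val_rev, val_ia] at h2'
    omega
  · rintro ⟨h1, h2⟩
    have h1' := congrArg Fin.val h1
    have h2' := congrArg Fin.val h2
    rw [val_ia] at h1'
    rw [val_ib] at h2'
    omega

/-- (R1) `B = (B ∩ s⁻¹ B s) X_k` -/
theorem exists_factor_A
    (hX : ∀ (a b : Fin (2 * m)), a ≠ b → a ≠ Fin.rev b → ∀ t : F, IsOJ (xMat a b t))
    (k : Fin (m - 1)) (b : OG m F) (hb : b ∈ Bsub m F) :
    ∃ y x : OG m F, b = y * x ∧ sA k * y * (sA k)⁻¹ ∈ Bsub m F ∧ x ∈ Xset k := by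
  have hk := k.2
  have hbB := (mem_Bsub_iff b).1 hb
  have hne1 : ia k ≠ ib k := by
    intro h; have := congrArg Fin.val h; rw [val_ia, val_ib] at this; omega
  have hne2 : ia k ≠ Fin.rev (ib k) := by
    intro h; have := congrArg Fin.val h; rw [val_rev, val_ia, val_ib] at this; omega
  have hne3 : Fin.rev (ia k) ≠ ia k := rev_ne _
  have hne4 : Fin.rev (ia k) ≠ ib k := by
    intro h; have := congrArg Fin.val h; rw [val_rev, val_ia, val_ib] at this; omega
  obtain ⟨p, hp⟩ : ∃ p, p = mat b (ia k) (ia k) := ⟨_, rfl⟩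
  obtain ⟨r, hr⟩ : ∃ r, r = mat b (ia k) (ib k) := ⟨_, rfl⟩
  have hp0 : p ≠ 0 := by rw [hp]; exact diag_ne_zero b hbB (ia k)
  obtain ⟨x, hx⟩ := exists_of_isOJ (hX (ia k) (ib k) hne1 hne2 (r / p))
  have hxB : x ∈ Bsub m F := by
    rw [mem_Bsub_iff]
    intro i j hji
    rw [hx]
    exact xMat_upper k _ i j hji
  set y := b * x⁻¹ with hy
  have hyB : y ∈ Bsub m F := (Bsub m F).mul_mem hb ((Bsub m F).inv_mem hxB)
  have hyU := (mem_Bsub_iff y).1 hyB
  have hbyx : b = y * x := by rw [hy, inv_mul_cancel_right]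
  have hmat : ∀ i j, mat b i j = mat y i j + (if ib k = j then mat y i (ia k) * (r / p) else 0)
      - (if Fin.rev (ia k) = j then mat y i (Fin.rev (ib k)) * (r / p) else 0) := by
    intro i j
    rw [← mul_xMat_apply, ← hx, ← mat_mul, ← hbyx]
  -- entries of `y`
  have hyaa : mat y (ia k) (ia k) = p := by
    have h := hmat (ia k) (ia k)
    rw [if_neg hne1.symm, if_neg hne3, ← hp] at h
    rw [h]; ring
  have hyab : mat y (ia k) (ib k) = 0 := by
    have h := hmat (ia k) (ib k)
    rw [if_pos rfl, if_neg hne4, hyaa, ← hr] at h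
    have h'' : p * (r / p) = r := by field_simp
    linear_combination -h - h''
  -- the mirrored entry
  have hybb : mat y (Fin.rev (ib k)) (Fin.rev (ia k)) = 0 := by
    have h := rel_col y (ib k) (Fin.rev (ia k))
    rw [Fin.rev_rev, if_neg hne1.symm] at h
    have hsingle : ∑ a, mat y a (ib k) * mat y (Fin.rev a) (Fin.rev (ia k))
        = mat y (ib k) (ib k) * mat y (Fin.rev (ib k)) (Fin.rev (ia k)) := by
      apply Finset.sum_eq_single (ib k)
      · intro a _ ha
        by_cases h1 : a = ia k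
        · rw [h1, hyab, zero_mul]
        · by_cases h2 : (ib k) < a
          · rw [hyU a (ib k) h2, zero_mul]
          · have h3 : a.val < k.val := by
              have ha' : a.val ≠ k.val + 1 := fun h' => ha (Fin.ext (by rw [val_ib]; exact h'))
              have ha'' : a.val ≠ k.val := fun h' => h1 (Fin.ext (by rw [val_ia]; exact h'))
              rw [Fin.lt_def, val_ib] at h2
              omega
            rw [hyU (Fin.rev a) (Fin.rev (ia k)) (by
              rw [Fin.lt_def, val_rev, val_rev, val_ia]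
              have := a.2
              omega), mul_zero]
      · intro hh; exact absurd (Finset.mem_univ _) hh
    rw [hsingle] at h
    rcases mul_eq_zero.1 h with h0 | h0
    · exact absurd h0 (diag_ne_zero y hyU (ib k))
    · exact h0
  refine ⟨y, x, hbyx, ?_, ⟨r / p, hx⟩⟩
  rw [mem_Bsub_iff]
  intro i j hji
  rw [sA_conj_apply]
  by_cases hc1 : sPerm k i = ia k ∧ sPerm k j = ib k
  · rw [hc1.1, hc1.2, hyab]
  by_cases hc2 : sPerm k i = Fin.rev (ib k) ∧ sPerm k j = Fin.rev (ia k)
  · rw [hc2.1, hc2.2, hybb]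
  apply hyU
  rw [Fin.lt_def] at hji ⊢
  have hi := i.2
  have hj := j.2
  have e1 : sPerm k i = ia k ↔ (sPerm k i).val = k.val := by rw [eq_iff_val_eq, val_ia]
  have e2 : sPerm k j = ib k ↔ (sPerm k j).val = k.val + 1 := by rw [eq_iff_val_eq, val_ib]
  have e3 : sPerm k i = Fin.rev (ib k) ↔ (sPerm k i).val = 2 * m - 1 - (k.val + 1) := by
    rw [eq_iff_val_eq, val_rev, val_ib]
  have e4 : sPerm k j = Fin.rev (ia k) ↔ (sPerm k j).val = 2 * m - 1 - k.val := by
    rw [eq_iff_val_eq, val_rev, val_ia]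
  rw [e1, e2] at hc1
  rw [e3, e4] at hc2
  rw [val_sPerm] at hc1 hc2 ⊢
  rw [val_sPerm] at hc1 hc2 ⊢
  split_ifs at hc1 hc2 ⊢ <;> omega

end Cfsg.Agent.Helper33.OpBN
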