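import Mathlib
import Cfsg.Agent.Helper19.OpBN.Defs
import Cfsg.Agent.Helper33.OpBNR1

/-!
# (R3) of helper19's S2548 farm: the rank one relation `s x s⁻¹ ∈ B s X_k` for the type `A`
simple roots.
-/

set_option autoImplicit false

namespace Cfsg.Agent.Helper33.OpBN

open Matrix Cfsg.Agent.Helper19.OpBN

variable {F : Type*} [Field F] {m : ℕ}

theorem sPerm_ia (k : Fin (m - 1)) : sPerm k (ia k) = ib k := by
  apply Fin.ext
  rw [val_sPerm, val_ia, val_ib]
  have hk := k.2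
  split_ifs <;> omega

theorem sPerm_rev_ib (k : Fin (m - 1)) : sPerm k (Fin.rev (ib k)) = Fin.rev (ia k) := by
  apply Fin.ext
  rw [val_sPerm, val_rev, val_rev, val_ia, val_ib]
  have hk := k.2
  split_ifs <;> omega

/-- the inverse of a root element -/
theorem mat_inv_of_xMat (a b : Fin (2 * m)) (u : F) (x : OG m F) (hx : mat x = xMat a b u) :
    mat x⁻¹ = xMat a b (-u) := by
  ext i j
  rw [inv_apply, hx, xMat_apply, xMat_apply]
  have e1 : (Fin.rev j = Fin.rev i) ↔ (i = j) := by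
    rw [Fin.rev_inj]; exact eq_comm
  have e2 : (a = Fin.rev j ∧ b = Fin.rev i) ↔ (Fin.rev b = i ∧ Fin.rev a = j) := by
    constructor
    · rintro ⟨h1, h2⟩
      exact ⟨by rw [h2, Fin.rev_rev], by rw [h1, Fin.rev_rev]⟩
    · rintro ⟨h1, h2⟩
      exact ⟨by rw [← h2, Fin.rev_rev], by rw [← h1, Fin.rev_rev]⟩
  have e3 : (Fin.rev b = Fin.rev j ∧ Fin.rev a = Fin.rev i) ↔ (a = i ∧ b = j) := by
    rw [Fin.rev_inj, Fin.rev_inj]; exact and_comm
  simp only [e1, e2, e3]
  split_ifs <;> ring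

/-- (R3) the rank one relation `s x s⁻¹ ∈ B s X_k`: `x = x_k(t)`, `x₂ = x_k(t⁻¹)` -/
theorem rank_one_A
    (hX : ∀ (a b : Fin (2 * m)), a ≠ b → a ≠ Fin.rev b → ∀ t : F, IsOJ (xMat a b t))
    (k : Fin (m - 1)) (x : OG m F) (hx : x ∈ Xset k) (hx1 : x ≠ 1) :
    ∃ b₁ ∈ Bsub m F, ∃ x₂ ∈ Xset k, sA k * x * (sA k)⁻¹ = b₁ * sA k * x₂ := by
  have hk := k.2
  obtain ⟨t, ht⟩ := hx
  have hne1 : ia k ≠ ib k := by
    intro h; have := congrArg Fin.val h; rw [val_ia, val_ib] at this; omega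
  have hne2 : ia k ≠ Fin.rev (ib k) := by
    intro h; have := congrArg Fin.val h; rw [val_rev, val_ia, val_ib] at this; omega
  have ht0 : t ≠ 0 := by
    intro h0
    apply hx1
    apply mat_injective
    rw [ht, h0, mat_one]
    unfold xMat
    simp
  obtain ⟨x₂, hx₂⟩ := exists_of_isOJ (hX (ia k) (ib k) hne1 hne2 t⁻¹)
  refine ⟨sA k * x * (sA k)⁻¹ * x₂⁻¹ * (sA k)⁻¹, ?_, x₂, ⟨t⁻¹, hx₂⟩, by group⟩
  rw [mem_Bsub_iff]
  intro i j hji
  have hinv := mat_inv_of_xMat (ia k) (ib k) t⁻¹ x₂ hx₂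
  have key : mat (sA k * x * (sA k)⁻¹ * x₂⁻¹ * (sA k)⁻¹) i j =
      xMat (ia k) (ib k) t (sPerm k i) j
        + (if ib k = sPerm k j then xMat (ia k) (ib k) t (sPerm k i) (ib k) * (-t⁻¹) else 0)
        - (if Fin.rev (ia k) = sPerm k j then
            xMat (ia k) (ib k) t (sPerm k i) (Fin.rev (ia k)) * (-t⁻¹) else 0) := by
    rw [sA_inv, mat_mul _ (sA k), mat_sA, mul_pMat_apply, mat_mul _ x₂⁻¹, hinv, mul_xMat_apply]
    have hC : ∀ l, mat (sA k * x * sA k) i l = xMat (ia k) (ib k) t (sPerm k i) (sPerm k l) := by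
      intro l
      have := sA_conj_apply k x i l
      rw [sA_inv] at this
      rw [this, ht]
    rw [hC, hC, hC, sPerm_sPerm, sPerm_ia, sPerm_rev_ib]
  rw [key]
  have htu : t * t⁻¹ = 1 := mul_inv_cancel₀ ht0
  -- the four special positions
  have hab : ia k ≠ ib k := hne1
  have hab' : ia k ≠ Fin.rev (ib k) := hne2
  have haa' : ia k ≠ Fin.rev (ia k) := (rev_ne _).symm
  have hbb' : ib k ≠ Fin.rev (ib k) := (rev_ne _).symm
  have hba' : ib k ≠ Fin.rev (ia k) := by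
    intro h; have := congrArg Fin.val h; rw [val_rev, val_ia, val_ib] at this; omega
  have hb'a' : Fin.rev (ib k) ≠ Fin.rev (ia k) := by
    intro h; exact hab (Fin.rev_injective h).symm
  have hpb : sPerm k (ib k) = ia k := by
    rw [← sPerm_ia, sPerm_sPerm]
  have hpa' : sPerm k (Fin.rev (ia k)) = Fin.rev (ib k) := by
    rw [← sPerm_rev_ib, sPerm_sPerm]
  have hgen : ∀ l : Fin (2 * m), l ≠ ia k → l ≠ ib k → l ≠ Fin.rev (ib k) → l ≠ Fin.rev (ia k) →
      sPerm k l = l := by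
    intro l h1 h2 h3 h4
    have h1' : l.val ≠ k.val := fun h => h1 (Fin.ext (by rw [val_ia]; exact h))
    have h2' : l.val ≠ k.val + 1 := fun h => h2 (Fin.ext (by rw [val_ib]; exact h))
    have h3' : l.val ≠ 2 * m - 2 - k.val := fun h =>
      h3 (Fin.ext (by rw [val_rev, val_ib]; omega))
    have h4' : l.val ≠ 2 * m - 1 - k.val := fun h =>
      h4 (Fin.ext (by rw [val_rev, val_ia]; omega))
    apply Fin.ext
    rw [val_sPerm, if_neg h1', if_neg h2', if_neg h3', if_neg h4']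
  have hij : i ≠ j := fun h => by rw [h] at hji; exact lt_irrefl _ hji
  have hcases : ∀ l : Fin (2 * m), l = ia k ∨ l = ib k ∨ l = Fin.rev (ib k) ∨ l = Fin.rev (ia k) ∨
      (l ≠ ia k ∧ l ≠ ib k ∧ l ≠ Fin.rev (ib k) ∧ l ≠ Fin.rev (ia k)) := by
    intro l
    by_cases h1 : l = ia k
    · exact Or.inl h1
    by_cases h2 : l = ib k
    · exact Or.inr (Or.inl h2)
    by_cases h3 : l = Fin.rev (ib k)
    · exact Or.inr (Or.inr (Or.inl h3))
    by_cases h4 : l = Fin.rev (ia k)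
    · exact Or.inr (Or.inr (Or.inr (Or.inl h4)))
    exact Or.inr (Or.inr (Or.inr (Or.inr ⟨h1, h2, h3, h4⟩)))
  have hva : (ia k).val = k.val := val_ia k
  have hvb : (ib k).val = k.val + 1 := val_ib k
  have hvb' : (Fin.rev (ib k)).val = 2 * m - 2 - k.val := by rw [val_rev, val_ib]; omega
  have hva' : (Fin.rev (ia k)).val = 2 * m - 1 - k.val := by rw [val_rev, val_ia]
  rw [Fin.lt_def] at hji
  rcases hcases i with hi | hi | hi | hi | ⟨hi1, hi2, hi3, hi4⟩ <;>
  rcases hcases j with hj | hj | hj | hj | ⟨hj1, hj2, hj3, hj4⟩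
  all_goals first
    | (exfalso; rw [hi, hj] at hji; omega)
    | skip
  all_goals
    try (have hpi := hgen i hi1 hi2 hi3 hi4)
    try (have hpj := hgen j hj1 hj2 hj3 hj4)
    try (have hi1' := hi1.symm; have hi2' := hi2.symm; have hi3' := hi3.symm; have hi4' := hi4.symm)
    try (have hj1' := hj1.symm; have hj2' := hj2.symm; have hj3' := hj3.symm; have hj4' := hj4.symm)
    try (subst hi)
    try (subst hj)
    simp [xMat_apply, *, sPerm_ia, sPerm_rev_ib, hab.symm, hab'.symm, haa'.symm, hbb'.symm,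
      hba'.symm, hb'a'.symm, hij.symm]

end Cfsg.Agent.Helper33.OpBN
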