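import Mathlib
import Cfsg.Agent.Helper5.SuBN.Defs

/-!
# (MEMS) the reflection matrices are special unitary (for helper5's S2546)
-/

set_option autoImplicit false

namespace Cfsg.Agent.Helper33.SuBNMEMS

open Matrix Cfsg.Agent.Helper5.SuBN

variable {F : Type*} [Field F] {n : ℕ} {σ : F →+* F}

theorem sSign_mul (c : F) (hc0 : c ≠ 0) (hc : σ c = -c) (k : Fin (n / 2)) (a : Fin n) :
    sSign c k a * σ (sSign c k (Fin.rev a)) = 1 := by
  have hk := k.2
  have ha := a.2
  unfold sSign
  by_cases h1 : 2 * k.val + 3 < n
  · rw [if_pos h1, if_pos h1, map_one, mul_one]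
  · rw [if_neg h1, if_neg h1]
    by_cases h2 : 2 * k.val + 2 = n
    · rw [if_pos h2, if_pos h2]
      have hrev_ia : Fin.rev (ia k) = ib k := by
        apply Fin.ext; rw [val_rev, val_ia, val_ib]; omega
      have hne : ia k ≠ ib k := by
        intro h; have := congrArg Fin.val h; rw [val_ia, val_ib] at this; omega
      by_cases ha1 : a = ia k
      · rw [ha1, if_pos rfl, hrev_ia, if_neg hne.symm, if_pos rfl, hc]
        field_simp
      · rw [if_neg ha1]
        by_cases ha2 : a = ib k
        · rw [ha2, if_pos rfl, ← hrev_ia, Fin.rev_rev, if_pos rfl, map_neg, map_inv₀, hc]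
          field_simp
        · rw [if_neg ha2]
          have h3 : Fin.rev a ≠ ia k := by
            intro h; apply ha2; rw [← hrev_ia, ← h, Fin.rev_rev]
          have h4 : Fin.rev a ≠ ib k := by
            intro h; apply ha1; rw [← hrev_ia] at h; exact Fin.rev_injective h
          rw [if_neg h3, if_neg h4, map_one, mul_one]
    · rw [if_neg h2, if_neg h2]
      have h3 : 2 * k.val + 3 = n := by omega
      have hrev_ib : Fin.rev (ib k) = ib k := by
        apply Fin.ext; rw [val_rev, val_ib]; omega
      by_cases ha1 : a = ib k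
      · rw [ha1, if_pos rfl, hrev_ib, if_pos rfl, map_neg, map_one]; ring
      · have : Fin.rev a ≠ ib k := by
          intro h; apply ha1; rw [← hrev_ib] at h; exact Fin.rev_injective h
        rw [if_neg ha1, if_neg this, map_one, mul_one]

theorem sMat_unitary (c : F) (hc0 : c ≠ 0) (hc : σ c = -c) (k : Fin (n / 2)) (a b : Fin n) :
    ∑ i, sMat c k i a * σ (sMat c k (Fin.rev i) b) = if a = Fin.rev b then 1 else 0 := by
  rw [Finset.sum_eq_single (sPerm k a)]
  · rw [sMat_apply, if_pos rfl, sMat_apply, ← sPerm_rev]
    by_cases hab : a = Fin.rev b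
    · rw [if_pos hab]
      have hb : b = Fin.rev a := by rw [hab, Fin.rev_rev]
      rw [← hb, if_pos rfl, hb]
      exact sSign_mul c hc0 hc k a
    · rw [if_neg hab, if_neg, map_zero, mul_zero]
      intro h
      apply hab
      have := (sPerm k).injective h
      rw [← this, Fin.rev_rev]
  · intro i _ hi
    rw [sMat_apply, if_neg hi, zero_mul]
  · intro h; exact absurd (Finset.mem_univ _) h

theorem sMat_eq_submatrix (c : F) (k : Fin (n / 2)) :
    sMat c k = (Matrix.diagonal (sSign c k)).submatrix (sPerm k) id := by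
  ext i j
  rw [sMat_apply, Matrix.submatrix_apply, id, Matrix.diagonal_apply]
  by_cases h : i = sPerm k j
  · rw [if_pos h, if_pos (by rw [h, sPerm_sPerm]), h, sPerm_sPerm]
  · rw [if_neg h, if_neg]
    intro h'
    apply h
    rw [← h', sPerm_sPerm]

theorem sign_mul_prod (c : F) (hc0 : c ≠ 0) (k : Fin (n / 2)) :
    ((Equiv.Perm.sign (sPerm k) : ℤ) : F) * ∏ j, sSign c k j = 1 := by
  have hk := k.2
  have hne : ia k ≠ ib k := by
    intro h; have := congrArg Fin.val h; rw [val_ia, val_ib] at this; omega
  by_cases h1 : 2 * k.val + 3 < n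
  · have hs : Equiv.Perm.sign (sPerm k) = 1 := by
      unfold sPerm
      rw [if_pos h1, Equiv.Perm.sign_mul, Equiv.Perm.sign_swap hne,
        Equiv.Perm.sign_swap (fun h => hne (Fin.rev_injective h))]
      rfl
    have hp : ∀ j, sSign c k j = 1 := fun j => by unfold sSign; rw [if_pos h1]
    rw [hs]
    simp [hp]
  · have hne' : ia k ≠ Fin.rev (ia k) := by
      intro h; have := congrArg Fin.val h; rw [val_rev, val_ia] at this; omega
    have hs : Equiv.Perm.sign (sPerm k) = -1 := by
      unfold sPerm
      rw [if_neg h1, Equiv.Perm.sign_swap hne']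
    rw [hs]
    by_cases h2 : 2 * k.val + 2 = n
    · have hp : ∀ j, sSign c k j = (if j = ia k then -c⁻¹ else 1) * (if j = ib k then c else 1) := by
        intro j
        unfold sSign
        rw [if_neg h1, if_pos h2]
        by_cases hj : j = ia k
        · rw [if_pos hj, if_pos hj, hj, if_neg hne, mul_one]
        · rw [if_neg hj, if_neg hj, one_mul]
      simp only [hp, Finset.prod_mul_distrib, Finset.prod_ite_eq', Finset.mem_univ, if_true]
      push_cast
      field_simp
    · have hp : ∀ j, sSign c k j = (if j = ib k then -1 else 1) := by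
        intro j
        unfold sSign
        rw [if_neg h1, if_neg h2]
      simp only [hp, Finset.prod_ite_eq', Finset.mem_univ, if_true]
      push_cast
      ring

theorem sMat_isUJ (c : F) (hc0 : c ≠ 0) (hc : σ c = -c) (k : Fin (n / 2)) :
    IsUJ σ (sMat c k) := by
  refine ⟨?_, sMat_unitary c hc0 hc k⟩
  rw [sMat_eq_submatrix, Matrix.det_permute, Matrix.det_diagonal]
  exact sign_mul_prod c hc0 k

end Cfsg.Agent.Helper33.SuBNMEMS
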