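import Cfsg.Agent.Helper19.SpBN.ParaGrp

/-!
# (L4a) the matrix argument `U ∩ n₀ B n₀⁻¹ ≤ OJ` (for helper19's S2316)
-/

set_option autoImplicit false

namespace Cfsg.Agent.Helper33.SpParaL4a

open Matrix Cfsg.Agent.Helper96.StN Cfsg.Agent.Helper96.StC Cfsg.Agent.Helper29.StCM
open Cfsg Cfsg.Agent.Helper6 Cfsg.Agent.Helper18 Cfsg.Agent.Helper19.Cox Cfsg.Agent.Helper19.Poinc
  Cfsg.Agent.Helper19.Stein Cfsg.Agent.Helper19.StBN Cfsg.Agent.Helper19.Unip
open Cfsg.Agent.Helper64.StCB Cfsg.Agent.Helper19.SpBN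

universe u

variable {K : Type u} [Field K] {m : ℕ}

/-- (L4a) the matrix argument: `U ∩ n₀ B n₀⁻¹ ≤ OJ`. -/
theorem mem_OJ_of_conj (hM : MonoData (XS K m) reflPerm cw) [Fintype K] (J : Finset (Fin m))
    {n₀ : SpG K m} {π : Equiv.Perm (Fin m ⊕ Fin m)} {c : Fin m ⊕ Fin m → K}
    (hπ : IsMono (XS K m) n₀ π c) (hbar : ∀ k, π (bar k) = bar (π k))
    (hblk : ∀ x, blk J (π x) = blk J x)
    (hrev : ∀ x y, rk x < rk y → blk J x = blk J y → rk (π y) < rk (π x))
    {u : SpG K m} (hu : u ∈ U K m) (hv : n₀⁻¹ * u * n₀ ∈ B K m) : u ∈ OJ K J := by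
  set v' := n₀⁻¹ * u * n₀ with hv'def
  have hmat : u.1 * n₀.1 = n₀.1 * v'.1 := by
    have e : u * n₀ = n₀ * v' := by rw [hv'def]; group
    have := congrArg Subtype.val e
    simpa using this
  have hnz : ∀ k, n₀.1 (π k) k ≠ 0 := by
    intro k
    obtain ⟨r, hr⟩ := Cfsg.Agent.Helper68.StCN2a.exists_ne_zero n₀ k
    have : r = π k := by
      by_contra hne
      exact hr (mono_col_zero hπ hbar k r hne)
    rwa [this] at hr
  have hupper := B_upper hM hv
  have hzero : ∀ a k : Fin m ⊕ Fin m, rk k < rk a → u.1 (π a) (π k) = 0 := by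
    intro a k hka
    have h1 := congrFun (congrFun hmat (π a)) k
    rw [Matrix.mul_apply, Matrix.mul_apply,
      Finset.sum_eq_single (π k) (fun l _ hl => by
        rw [mono_col_zero hπ hbar k l hl, mul_zero]) (fun h => absurd (Finset.mem_univ _) h),
      Finset.sum_eq_single a (fun l _ hl => by
        rw [mono_col_zero hπ hbar l (π a) (fun e => hl (π.injective e).symm), zero_mul])
        (fun h => absurd (Finset.mem_univ _) h),
      hupper a k hka, mul_zero] at h1
    exact (mul_eq_zero.mp h1).resolve_right (hnz k)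
  rw [mem_OJ]
  intro r k hrk
  obtain ⟨hup, hdiag⟩ := U_unitri hu
  by_cases hne : r = k
  · subst hne
    rw [hdiag, Matrix.one_apply_eq]
  · rw [Matrix.one_apply_ne hne]
    have hne' : rk r ≠ rk k := fun e => hne (rk_injective e)
    rcases lt_or_gt_of_ne hne' with hlt | hgt
    · -- above the diagonal, inside a block
      have hb1 : blk J r = blk J k := le_antisymm (blk_mono J hlt.le) hrk
      have ha : π (π⁻¹ r) = r := by simp
      have hk : π (π⁻¹ k) = k := by simp
      have hba : blk J (π⁻¹ r) = blk J r := by rw [← hblk (π⁻¹ r), ha]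
      have hbk : blk J (π⁻¹ k) = blk J k := by rw [← hblk (π⁻¹ k), hk]
      have hlt' : rk (π⁻¹ k) < rk (π⁻¹ r) := by
        by_contra hcon
        have hne'' : rk (π⁻¹ r) ≠ rk (π⁻¹ k) :=
          fun e => hne (π⁻¹.injective (rk_injective e))
        have h := hrev (π⁻¹ r) (π⁻¹ k) (by omega) (by rw [hba, hbk, hb1])
        rw [ha, hk] at h
        omega
      have h := hzero (π⁻¹ r) (π⁻¹ k) hlt'
      rw [ha, hk] at h
      exact h
    · exact hup r k hgt

end Cfsg.Agent.Helper33.SpParaL4a
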