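import Mathlib
import Cfsg.Agent.Helper21.THDefs2
import Cfsg.Agent.Helper21.THMin
import Cfsg.Agent.Helper50.THW1

set_option autoImplicit false

/-!
# (E5) `YCfg.final` of #5557 for S3797 (helper21): the parity endgame.   (helper33)
-/

namespace Cfsg.Agent.Helper33.TH

open Subgroup Cfsg Cfsg.Agent.Helper21.TH
open scoped commutatorElement

universe u

variable {G : Type u} [Group G] [Finite G]

/-- abstract form of the endgame. -/
theorem final_aux (P V Y R : Subgroup G)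
    (hV : ∀ g : G, g ∈ V ↔ g ∈ P ∧ g ^ 2 = 1) (hVne : V ≠ ⊥) (hYP : Y ≤ P)
    (hsq : ∀ y ∈ Y, y ^ 2 ∈ V) (hRP : R ≤ normalizer (P : Set G))
    (htrans : ∀ v ∈ V, v ≠ 1 → ∀ w ∈ V, w ≠ 1 → ∃ r ∈ R, r * v * r⁻¹ = w)
    {ι : Type*} [Finite ι] (Yf : ι → Subgroup G) (hYfY : ∀ i, Yf i ≤ Y)
    (hact : ∀ r ∈ R, ∀ i, ∃ j, ∀ y ∈ Yf i, r * y * r⁻¹ ∈ Yf j)
    (htr : ∀ i j, ∃ r ∈ R, (∀ y ∈ Yf i, r * y * r⁻¹ ∈ Yf j) ∧ (∀ y ∈ Yf j, r⁻¹ * y * r ∈ Yf i))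
    (hne : ∃ i j : ι, i ≠ j)
    (hc : ∀ i j, i ≠ j → Yf i ≤ centralizer ((Yf j : Subgroup G) : Set G))
    (hnotV : ¬ ∀ i, Yf i ≤ V)
    (hint : ∀ i, Yf i ⊓ ((⨆ j ∈ {j : ι | j ≠ i}, Yf j) ⊔ V) ≤ V) : False := by
  classical
  -- basic facts on `V`
  have hV2 : ∀ v ∈ V, v ^ 2 = 1 := fun v hv => ((hV v).1 hv).2
  have hVP : V ≤ P := fun v hv => ((hV v).1 hv).1
  have hRV : ∀ r ∈ R, ∀ v : G, v ∈ V ↔ r * v * r⁻¹ ∈ V := by
    intro r hr v
    rw [hV, hV]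
    have h1 : (r * v * r⁻¹) ^ 2 = r * v ^ 2 * r⁻¹ := by
      rw [pow_two, pow_two]; group
    rw [h1]
    constructor
    · rintro ⟨h2, h3⟩
      exact ⟨(mem_normalizer_iff.1 (hRP hr) v).1 h2, by rw [h3]; group⟩
    · rintro ⟨h2, h3⟩
      refine ⟨(mem_normalizer_iff.1 (hRP hr) v).2 h2, ?_⟩
      have h4 : v ^ 2 = r⁻¹ * (r * v ^ 2 * r⁻¹) * r := by group
      rw [h4, h3]; group
  -- involutions of `Y` lie in `V`
  have hinvV : ∀ y ∈ Y, y ^ 2 = 1 → y ∈ V := fun y hy h => (hV y).2 ⟨hYP hy, h⟩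
  -- the sets `Θ i`
  let Θ : ι → Set G := fun i => {v | ∃ y ∈ Yf i, y ∉ V ∧ v = y ^ 2}
  have hsub : ∀ i, ∀ v ∈ Θ i, v ∈ V ∧ v ≠ 1 := by
    rintro i v ⟨y, hy, hyV, rfl⟩
    exact ⟨hsq y (hYfY i hy), fun h => hyV (hinvV y (hYfY i hy) h)⟩
  -- commuting squares
  have hcomm : ∀ i j, i ≠ j → ∀ y ∈ Yf i, ∀ z ∈ Yf j, y * z = z * y := by
    intro i j hij y hy z hz
    exact (mem_centralizer_iff.1 (hc i j hij hy) z hz).symm
  -- membership in the complement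
  have hcompl : ∀ i j, j ≠ i → Yf j ≤ (⨆ k ∈ {k : ι | k ≠ i}, Yf k) ⊔ V := by
    intro i j hji
    refine le_trans ?_ le_sup_left
    exact le_biSup (fun k => Yf k) (show j ∈ {k : ι | k ≠ i} from hji)
  have hdisj : ∀ i j, i ≠ j → ∀ v ∈ Θ i, v ∉ Θ j := by
    rintro i j hij v ⟨y, hy, hyV, rfl⟩ ⟨z, hz, hzV, hyz⟩
    apply hyV
    have hcz := hcomm i j hij y hy z hz
    have h1 : (y * z⁻¹) ^ 2 = 1 := by
      have hcz' : y * z⁻¹ = z⁻¹ * y := by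
        rw [eq_inv_mul_iff_mul_eq, ← mul_assoc, ← hcz, mul_assoc, mul_inv_cancel, mul_one]
      calc (y * z⁻¹) ^ 2 = y * z⁻¹ * (y * z⁻¹) := pow_two _
        _ = y * z⁻¹ * (z⁻¹ * y) := by rw [hcz']
        _ = y * (z ^ 2)⁻¹ * y := by rw [pow_two]; group
        _ = y * (y ^ 2)⁻¹ * y := by rw [hyz]
        _ = 1 := by rw [pow_two]; group
    have h2 : y * z⁻¹ ∈ V :=
      hinvV _ (Y.mul_mem (hYfY i hy) (Y.inv_mem (hYfY j hz))) h1
    have h3 : y ∈ (⨆ k ∈ {k : ι | k ≠ i}, Yf k) ⊔ V := by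
      have : y = (y * z⁻¹) * z := by group
      rw [this]
      exact Subgroup.mul_mem _ (le_sup_right (a := ⨆ k ∈ {k : ι | k ≠ i}, Yf k) h2)
        (hcompl i j (Ne.symm hij) hz)
    exact hint i (mem_inf.2 ⟨hy, h3⟩)
  -- equivariance of `Θ`
  have hΘact : ∀ r ∈ R, ∀ i j, (∀ y ∈ Yf i, r * y * r⁻¹ ∈ Yf j) → ∀ v ∈ Θ i, r * v * r⁻¹ ∈ Θ j := by
    rintro r hr i j hij v ⟨y, hy, hyV, rfl⟩
    refine ⟨r * y * r⁻¹, hij y hy, fun h => hyV ((hRV r hr y).2 h), ?_⟩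
    rw [pow_two, pow_two]; group
  -- some `Θ i₀` is nonempty
  obtain ⟨i₀, v₀, hv₀⟩ : ∃ i₀ v₀, v₀ ∈ Θ i₀ := by
    by_contra hcon
    apply hnotV
    intro i y hy
    by_contra hyV
    exact hcon ⟨i, y ^ 2, y, hy, hyV, rfl⟩
  have hcover : ∀ v ∈ V, v ≠ 1 → ∃ i, v ∈ Θ i := by
    intro v hv hv1
    obtain ⟨hv₀V, hv₀1⟩ := hsub i₀ v₀ hv₀
    obtain ⟨r, hr, hrv⟩ := htrans v₀ hv₀V hv₀1 v hv hv1
    obtain ⟨j, hj⟩ := hact r hr i₀
    exact ⟨j, hrv ▸ hΘact r hr i₀ j hj v₀ hv₀⟩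
  have hcard : ∀ i j, Nat.card (Θ i) = Nat.card (Θ j) := by
    intro i j
    obtain ⟨r, hr, h1, h2⟩ := htr i j
    have himg : Θ j = (fun v => r * v * r⁻¹) '' Θ i := by
      ext w
      constructor
      · intro hw
        refine ⟨r⁻¹ * w * r, ?_, by group⟩
        have := hΘact r⁻¹ (R.inv_mem hr) j i (by simpa using h2) w hw
        simpa using this
      · rintro ⟨v, hv, rfl⟩
        exact hΘact r hr i j h1 v hv
    rw [himg]
    exact (Nat.card_image_of_injective (fun a b hab => by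
      have : r * a * r⁻¹ = r * b * r⁻¹ := hab
      exact mul_left_cancel (mul_right_cancel this)) (Θ i)).symm
  have hclos : ∀ i j, i ≠ j → ∀ a ∈ Θ i, ∀ b ∈ Θ j, a * b ∈ Θ i ∨ a * b ∈ Θ j := by
    intro i j hij a ha b hb
    have haV := hsub i a ha
    have hbV := hsub j b hb
    obtain ⟨y, hy, hyV, hay⟩ := ha
    obtain ⟨z, hz, hzV, hbz⟩ := hb
    have hyz := hcomm i j hij y hy z hz
    have habsq : a * b = (y * z) ^ 2 := by
      rw [hay, hbz, pow_two, pow_two, pow_two]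
      calc y * y * (z * z) = y * (y * z) * z := by group
        _ = y * (z * y) * z := by rw [hyz]
        _ = y * z * (y * z) := by group
    have hab1 : a * b ≠ 1 := by
      intro h
      have hb2 := hV2 b hbV.1
      have hab : a = b := by
        have h3 : a = b⁻¹ := eq_inv_of_mul_eq_one_left h
        have h4 : b⁻¹ = b := by
          rw [inv_eq_iff_mul_eq_one, ← pow_two, hb2]
        rw [h3, h4]
      exact hdisj i j hij a ⟨y, hy, hyV, hay⟩ (hab ▸ ⟨z, hz, hzV, hbz⟩)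
    obtain ⟨k, hk⟩ := hcover (a * b) (V.mul_mem haV.1 hbV.1) hab1
    by_cases hki : k = i
    · left; rw [← hki]; exact hk
    by_cases hkj : k = j
    · right; rw [← hkj]; exact hk
    exfalso
    obtain ⟨w, hw, hwV, habw⟩ := hk
    apply hwV
    have hwy := hcomm k i hki w hw y hy
    have hwz := hcomm k j hkj w hw z hz
    have h1 : (y * z * w⁻¹) ^ 2 = 1 := by
      have hwyz : w * (y * z) = (y * z) * w := by
        rw [← mul_assoc, hwy, mul_assoc, hwz, mul_assoc]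
      have hwyz' : w⁻¹ * (y * z) = (y * z) * w⁻¹ := by
        rw [inv_mul_eq_iff_eq_mul, ← mul_assoc, hwyz, mul_assoc, mul_inv_cancel, mul_one]
      calc (y * z * w⁻¹) ^ 2 = (y * z) * (w⁻¹ * (y * z)) * w⁻¹ := by rw [pow_two]; group
        _ = (y * z) * ((y * z) * w⁻¹) * w⁻¹ := by rw [hwyz']
        _ = (y * z) ^ 2 * (w ^ 2)⁻¹ := by rw [pow_two, pow_two]; group
        _ = 1 := by rw [← habsq, habw, mul_inv_cancel]
    have hYy := hYfY i hy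
    have hYz := hYfY j hz
    have hYw := hYfY k hw
    have h2 : y * z * w⁻¹ ∈ V :=
      hinvV _ (Y.mul_mem (Y.mul_mem hYy hYz) (Y.inv_mem hYw)) h1
    have h3 : w ∈ (⨆ k' ∈ {k' : ι | k' ≠ k}, Yf k') ⊔ V := by
      have : w = (y * z * w⁻¹)⁻¹ * (y * z) := by group
      rw [this]
      refine Subgroup.mul_mem _ (le_sup_right (a := ⨆ k' ∈ {k' : ι | k' ≠ k}, Yf k') (V.inv_mem h2)) ?_
      exact Subgroup.mul_mem _ (hcompl k i (Ne.symm hki) hy) (hcompl k j (Ne.symm hkj) hz)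
    exact hint k (mem_inf.2 ⟨hw, h3⟩)
  obtain ⟨i, j, hij⟩ := hne
  exact Cfsg.Agent.Helper50.TH.parity_false V hV2 hVne Θ hsub hdisj hcover hcard hclos i j hij

omit [Finite G] in
/-- `⁅Y, A⁆ ≤ Y` when `A` normalizes `Y`. -/
theorem commutator_le_of_le_normalizer (Y A : Subgroup G) (hA : A ≤ normalizer (Y : Set G)) :
    ⁅Y, A⁆ ≤ Y := by
  rw [commutator_le]
  intro y hy a ha
  have h1 : a * y⁻¹ * a⁻¹ ∈ Y := (mem_normalizer_iff.1 (hA ha) y⁻¹).1 (Y.inv_mem hy)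
  have h2 : ⁅y, a⁆ = y * (a * y⁻¹ * a⁻¹) := by
    rw [commutatorElement_def]; group
  rw [h2]
  exact Y.mul_mem hy h1

omit [Finite G] in
/-- conjugation by `r ∈ N(Y) ∩ N(U)` maps `⁅Y, U ⊓ C(H)⁆` into `⁅Y, U ⊓ C(r H r⁻¹)⁆`. -/
theorem conj_mem_commutator_cent (Y U H : Subgroup G) (r : G) (hrY : r ∈ normalizer (Y : Set G))
    (hrU : r ∈ normalizer (U : Set G)) (y : G) (hy : y ∈ ⁅Y, U ⊓ centralizer (H : Set G)⁆) :
    r * y * r⁻¹ ∈ ⁅Y, U ⊓ centralizer ((cj r H : Subgroup G) : Set G)⁆ := by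
  have h1 : (MulAut.conj r).toMonoidHom y ∈ (⁅Y, U ⊓ centralizer (H : Set G)⁆).map
      (MulAut.conj r).toMonoidHom := mem_map_of_mem _ hy
  rw [map_commutator] at h1
  have h2 : Y.map (MulAut.conj r).toMonoidHom ≤ Y := by
    rintro _ ⟨a, ha, rfl⟩
    exact (mem_normalizer_iff.1 hrY a).1 ha
  have h3 : (U ⊓ centralizer (H : Set G)).map (MulAut.conj r).toMonoidHom
      ≤ U ⊓ centralizer ((cj r H : Subgroup G) : Set G) := by
    rintro _ ⟨a, ha, rfl⟩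
    obtain ⟨haU, haC⟩ := mem_inf.1 ha
    refine mem_inf.2 ⟨(mem_normalizer_iff.1 hrU a).1 haU, ?_⟩
    rw [mem_centralizer_iff]
    rintro _ ⟨b, hb, rfl⟩
    have h4 := mem_centralizer_iff.1 haC b hb
    show r * b * r⁻¹ * (r * a * r⁻¹) = r * a * r⁻¹ * (r * b * r⁻¹)
    calc r * b * r⁻¹ * (r * a * r⁻¹) = r * (b * a) * r⁻¹ := by group
      _ = r * (a * b) * r⁻¹ := by rw [h4]
      _ = r * a * r⁻¹ * (r * b * r⁻¹) := by group
  exact commutator_mono h2 h3 h1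

omit [Finite G] in
theorem cj_cj (r s : G) (H : Subgroup G) : cj r (cj s H) = cj (r * s) H := by
  unfold cj
  rw [Subgroup.map_map]
  congr 1
  ext x
  simp [mul_assoc]

/-- (E5) uses (W1) -/
theorem YCfg.final {P V X D U R Y H₀ : Subgroup G} (h : YCfg P V X D U R Y) (hH : IsHyp X D H₀)
    (hne : ∃ i j : Orb R H₀, i ≠ j)
    (hc : ∀ i j : Orb R H₀, i ≠ j →
      ⁅Y, U ⊓ centralizer ((i : Subgroup G) : Set G)⁆ ≤
        centralizer ((⁅Y, U ⊓ centralizer ((j : Subgroup G) : Set G)⁆ : Subgroup G) : Set G))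
    (hsup : Y = ⨆ i : Orb R H₀, ⁅Y, U ⊓ centralizer ((i : Subgroup G) : Set G)⁆)
    (hint : ∀ i : Orb R H₀, ⁅Y, U ⊓ centralizer ((i : Subgroup G) : Set G)⁆ ⊓
      ((⨆ j ∈ {j : Orb R H₀ | j ≠ i}, ⁅Y, U ⊓ centralizer ((j : Subgroup G) : Set G)⁆) ⊔ V) ≤ V) :
    False := by
  have hVne : V ≠ ⊥ := by
    intro hbot
    have h4 := h.z.hV4
    rw [hbot, Subgroup.card_bot] at h4
    omega
  have hYfY : ∀ i : Orb R H₀, ⁅Y, U ⊓ centralizer ((i : Subgroup G) : Set G)⁆ ≤ Y := fun i =>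
    commutator_le_of_le_normalizer Y _ (inf_le_left.trans h.hUY)
  refine final_aux P V Y R h.z.hV hVne h.hYP h.hsq h.z.hRP h.z.htrans
    (fun i : Orb R H₀ => ⁅Y, U ⊓ centralizer ((i : Subgroup G) : Set G)⁆) hYfY ?_ ?_ hne hc ?_ hint
  · -- the action
    intro r hr i
    obtain ⟨r₀, hr₀, hi⟩ := i.2
    refine ⟨⟨cj r i.1, r * r₀, R.mul_mem hr hr₀, by rw [hi, cj_cj]⟩, ?_⟩
    intro y hy
    exact conj_mem_commutator_cent Y U i.1 r (h.hRY hr) (h.z.m.hRU hr) y hy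
  · -- transitivity
    intro i j
    obtain ⟨r₁, hr₁, hi⟩ := i.2
    obtain ⟨r₂, hr₂, hj⟩ := j.2
    have hr : r₂ * r₁⁻¹ ∈ R := R.mul_mem hr₂ (R.inv_mem hr₁)
    have hij : cj (r₂ * r₁⁻¹) i.1 = j.1 := by
      rw [hi, hj, cj_cj, mul_assoc, inv_mul_cancel, mul_one]
    have hji : cj (r₂ * r₁⁻¹)⁻¹ j.1 = i.1 := by
      rw [← hij, cj_cj, inv_mul_cancel]
      unfold cj
      ext x
      simp
    refine ⟨r₂ * r₁⁻¹, hr, ?_, ?_⟩
    · intro y hy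
      have := conj_mem_commutator_cent Y U i.1 (r₂ * r₁⁻¹) (h.hRY hr) (h.z.m.hRU hr) y hy
      rwa [hij] at this
    · intro y hy
      have := conj_mem_commutator_cent Y U j.1 (r₂ * r₁⁻¹)⁻¹ (h.hRY (R.inv_mem hr))
        (h.z.m.hRU (R.inv_mem hr)) y hy
      rw [hji] at this
      simpa using this
  · -- not all `Y_i ≤ V`
    intro hall
    have hYV : Y ≤ V := by
      rw [hsup]
      exact iSup_le hall
    have hVU : V ≤ centralizer (U : Set G) := le_centralizer_iff.1 h.z.hUV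
    have h1 : ⁅Y, U⁆ = ⊥ := commutator_eq_bot_iff_le_centralizer.2 (hYV.trans hVU)
    have h2 : Y = ⊥ := by rw [← h.hcomm, h1]
    exact hVne (le_bot_iff.1 (h2 ▸ h.hVY))

end Cfsg.Agent.Helper33.TH
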