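import Mathlib

set_option autoImplicit false
set_option linter.style.haveILetI false

namespace Cfsg.Agent.Helper33.BG1365

open Subgroup
open scoped commutatorElement

/-- In a finite group `X` with `S` normal, `D = U ⊔ S` normal, `K` generated by `k0` (as natural
powers) and normalizing `U`: if `S = ⁅S, U ⊔ K⁆` then every element of `S` centralized by `k0` lies
in `D' = ⁅D, D⁆`. -/
theorem fix_le_derived {X : Type*} [Group X] [Finite X] (S U K : Subgroup X) [hS : S.Normal]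
    (hD : (U ⊔ S).Normal) (k0 : X) (hk0 : ∀ k ∈ K, ∃ i : ℕ, k = k0 ^ i)
    (hKU : K ≤ normalizer (U : Set X))
    (hSE : ⁅S, U ⊔ K⁆ = S) :
    S ⊓ centralizer ({k0} : Set X) ≤ ⁅U ⊔ S, U ⊔ S⁆ := by
  classical
  haveI := hD
  obtain ⟨T, hT⟩ : ∃ T : Subgroup X, T = ⁅U ⊔ S, U ⊔ S⁆ := ⟨_, rfl⟩
  haveI hTn : T.Normal := by rw [hT]; infer_instance
  rw [← hT]
  obtain ⟨π, hπ⟩ : ∃ π : X →* X ⧸ T, π = QuotientGroup.mk' T := ⟨_, rfl⟩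
  have hπker : ∀ x : X, π x = 1 ↔ x ∈ T := by
    intro x; rw [hπ]; exact QuotientGroup.eq_one_iff x
  obtain ⟨A, hA⟩ : ∃ A : Subgroup (X ⧸ T), A = S.map π := ⟨_, rfl⟩
  obtain ⟨Db, hDb⟩ : ∃ Db : Subgroup (X ⧸ T), Db = (U ⊔ S).map π := ⟨_, rfl⟩
  obtain ⟨κ, hκ⟩ : ∃ κ : X ⧸ T, κ = π k0 := ⟨_, rfl⟩
  have hADb : A ≤ Db := by rw [hA, hDb]; exact Subgroup.map_mono le_sup_right
  -- `Db` is commutative
  have hcomm : ∀ a ∈ Db, ∀ b ∈ Db, a * b = b * a := by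
    intro a ha b hb
    rw [hDb] at ha hb
    obtain ⟨x, hx, rfl⟩ := ha
    obtain ⟨y, hy, rfl⟩ := hb
    have h1 : ⁅x, y⁆ ∈ T := by rw [hT]; exact Subgroup.commutator_mem_commutator hx hy
    have h2 : π ⁅x, y⁆ = 1 := (hπker _).2 h1
    rw [commutatorElement_def, map_mul, map_mul, map_mul, map_inv, map_inv] at h2
    have : π x * π y = π y * π x := by
      calc π x * π y = (π x * π y * (π x)⁻¹ * (π y)⁻¹) * (π y * π x) := by group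
        _ = π y * π x := by rw [h2, one_mul]
    exact this
  -- conjugation by `κ ^ i` preserves `A`
  have hconj : ∀ (i : ℕ), ∀ a ∈ A, κ ^ i * a * (κ ^ i)⁻¹ ∈ A := by
    intro i a ha
    rw [hA] at ha ⊢
    obtain ⟨x, hx, rfl⟩ := ha
    refine ⟨k0 ^ i * x * (k0 ^ i)⁻¹, hS.conj_mem x hx _, ?_⟩
    rw [hκ, map_mul, map_mul, map_inv, map_pow]
  have hconj1 : ∀ a ∈ A, κ * a * κ⁻¹ ∈ A := by
    intro a ha
    have := hconj 1 a ha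
    rwa [pow_one] at this
  -- the image of `δ`
  obtain ⟨I, hI⟩ : ∃ I : Subgroup (X ⧸ T), ∀ z, z ∈ I ↔ ∃ b ∈ A, z = κ * b * κ⁻¹ * b⁻¹ := by
    refine ⟨{ carrier := {z | ∃ b ∈ A, z = κ * b * κ⁻¹ * b⁻¹}
              mul_mem' := ?_
              one_mem' := ⟨1, A.one_mem, by group⟩
              inv_mem' := ?_ }, fun z => Iff.rfl⟩
    · rintro _ _ ⟨b, hb, rfl⟩ ⟨c, hc, rfl⟩
      refine ⟨b * c, A.mul_mem hb hc, ?_⟩
      have hb' := hconj1 b hb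
      have hc' := hconj1 c hc
      have e1 : b⁻¹ * (κ * c * κ⁻¹) = (κ * c * κ⁻¹) * b⁻¹ :=
        hcomm _ (hADb (A.inv_mem hb)) _ (hADb hc')
      have e2 : b⁻¹ * c⁻¹ = c⁻¹ * b⁻¹ := hcomm _ (hADb (A.inv_mem hb)) _ (hADb (A.inv_mem hc))
      calc κ * b * κ⁻¹ * b⁻¹ * (κ * c * κ⁻¹ * c⁻¹)
          = κ * b * κ⁻¹ * (b⁻¹ * (κ * c * κ⁻¹)) * c⁻¹ := by group
        _ = κ * b * κ⁻¹ * ((κ * c * κ⁻¹) * b⁻¹) * c⁻¹ := by rw [e1]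
        _ = κ * (b * c) * κ⁻¹ * (b⁻¹ * c⁻¹) := by group
        _ = κ * (b * c) * κ⁻¹ * (c⁻¹ * b⁻¹) := by rw [e2]
        _ = κ * (b * c) * κ⁻¹ * (b * c)⁻¹ := by group
    · rintro _ ⟨b, hb, rfl⟩
      refine ⟨b⁻¹, A.inv_mem hb, ?_⟩
      have hb' := hconj1 b⁻¹ (A.inv_mem hb)
      have e1 : b * (κ * b⁻¹ * κ⁻¹) = (κ * b⁻¹ * κ⁻¹) * b := hcomm _ (hADb hb) _ (hADb hb')
      calc (κ * b * κ⁻¹ * b⁻¹)⁻¹ = b * (κ * b⁻¹ * κ⁻¹) := by group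
        _ = (κ * b⁻¹ * κ⁻¹) * b := e1
        _ = κ * b⁻¹ * κ⁻¹ * b⁻¹⁻¹ := by group
  have hIA : I ≤ A := by
    intro z hz
    obtain ⟨b, hb, rfl⟩ := (hI z).1 hz
    exact A.mul_mem (hconj1 b hb) (A.inv_mem hb)
  -- `κ ^ i b κ ^ -i b⁻¹ ∈ I`
  have hpow : ∀ (i : ℕ), ∀ b ∈ A, κ ^ i * b * (κ ^ i)⁻¹ * b⁻¹ ∈ I := by
    intro i
    induction i with
    | zero => intro b hb; simp [I.one_mem]
    | succ i ih =>
      intro b hb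
      have h1 := ih b hb
      have h2 : κ * (κ ^ i * b * (κ ^ i)⁻¹) * κ⁻¹ * (κ ^ i * b * (κ ^ i)⁻¹)⁻¹ ∈ I :=
        (hI _).2 ⟨_, hconj i b hb, rfl⟩
      have h3 := I.mul_mem h2 h1
      have e : κ * (κ ^ i * b * (κ ^ i)⁻¹) * κ⁻¹ * (κ ^ i * b * (κ ^ i)⁻¹)⁻¹ *
          (κ ^ i * b * (κ ^ i)⁻¹ * b⁻¹) = κ ^ (i + 1) * b * (κ ^ (i + 1))⁻¹ * b⁻¹ := by
        rw [pow_succ']; group
      rwa [e] at h3
  -- `A ≤ I`
  have hAI : A ≤ I := by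
    have h1 : A = ⁅A, (U ⊔ K).map π⁆ := by
      rw [hA, ← Subgroup.map_commutator, hSE]
    rw [h1, Subgroup.commutator_le]
    intro a ha e he
    obtain ⟨y, hy, rfl⟩ := he
    -- decompose `y = u * k`
    have hy' : y ∈ ((U ⊔ K : Subgroup X) : Set X) := hy
    rw [Subgroup.coe_mul_of_right_le_normalizer_left _ _ hKU] at hy'
    obtain ⟨u, hu, k, hk, rfl⟩ := hy'
    obtain ⟨i, rfl⟩ := hk0 k hk
    have hub : π u ∈ Db := by rw [hDb]; exact ⟨u, Subgroup.mem_sup_left hu, rfl⟩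
    have hin := hconj i a⁻¹ (A.inv_mem ha)
    have e1 : a * π u = π u * a := hcomm _ (hADb ha) _ hub
    have e2 : (a * (κ ^ i * a⁻¹ * (κ ^ i)⁻¹)) * (π u)⁻¹ = (π u)⁻¹ * (a * (κ ^ i * a⁻¹ * (κ ^ i)⁻¹)) :=
      hcomm _ (hADb (A.mul_mem ha hin)) _ (Db.inv_mem hub)
    have e3 : a * (κ ^ i * a⁻¹ * (κ ^ i)⁻¹) = (κ ^ i * a⁻¹ * (κ ^ i)⁻¹) * a :=
      hcomm _ (hADb ha) _ (hADb hin)
    have : ⁅a, π (u * k0 ^ i)⁆ = κ ^ i * a⁻¹ * (κ ^ i)⁻¹ * a⁻¹⁻¹ := by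
      rw [commutatorElement_def, map_mul, map_pow, ← hκ]
      calc a * (π u * κ ^ i) * a⁻¹ * (π u * κ ^ i)⁻¹
          = (a * π u) * (κ ^ i * a⁻¹ * (κ ^ i)⁻¹) * (π u)⁻¹ := by group
        _ = (π u * a) * (κ ^ i * a⁻¹ * (κ ^ i)⁻¹) * (π u)⁻¹ := by rw [e1]
        _ = π u * ((a * (κ ^ i * a⁻¹ * (κ ^ i)⁻¹)) * (π u)⁻¹) := by group
        _ = π u * ((π u)⁻¹ * (a * (κ ^ i * a⁻¹ * (κ ^ i)⁻¹))) := by rw [e2]
        _ = a * (κ ^ i * a⁻¹ * (κ ^ i)⁻¹) := by group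
        _ = (κ ^ i * a⁻¹ * (κ ^ i)⁻¹) * a := e3
        _ = κ ^ i * a⁻¹ * (κ ^ i)⁻¹ * a⁻¹⁻¹ := by group
    rw [this]
    exact hpow i a⁻¹ (A.inv_mem ha)
  -- the map `δ` on `A` is surjective, hence injective
  let f : A → A := fun b => ⟨κ * b * κ⁻¹ * (b : X ⧸ T)⁻¹, A.mul_mem (hconj1 b b.2) (A.inv_mem b.2)⟩
  have hfsurj : Function.Surjective f := by
    rintro ⟨z, hz⟩
    obtain ⟨b, hb, rfl⟩ := (hI z).1 (hAI hz)
    exact ⟨⟨b, hb⟩, rfl⟩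
  have hfinj : Function.Injective f := Finite.injective_iff_surjective.2 hfsurj
  intro c hc
  have hcS : c ∈ S := hc.1
  have hck : c * k0 = k0 * c := by
    have h0 : c ∈ centralizer ({k0} : Set X) := hc.2
    rw [Subgroup.mem_centralizer_iff] at h0
    exact (h0 k0 rfl).symm
  have hcA : π c ∈ A := by rw [hA]; exact ⟨c, hcS, rfl⟩
  have h1 : f ⟨π c, hcA⟩ = f ⟨1, A.one_mem⟩ := by
    apply Subtype.ext
    show κ * π c * κ⁻¹ * (π c)⁻¹ = κ * 1 * κ⁻¹ * (1 : X ⧸ T)⁻¹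
    rw [hκ, ← map_mul, ← hck, map_mul]
    group
  have h2 := hfinj h1
  have h3 : π c = 1 := congrArg Subtype.val h2
  exact (hπker c).1 h3

end Cfsg.Agent.Helper33.BG1365
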