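import Mathlib
import Cfsg.Prelude.Def_OddOrderLocal
import Cfsg.Agent.Helper60.BGAsmB
import Cfsg.Agent.Helper33.BG1365A

set_option autoImplicit false
set_option linter.style.haveILetI false

namespace Cfsg.Agent.Helper33.BG1365

open Subgroup
open scoped commutatorElement
open Cfsg.Agent.Helper60.BGAsm

variable {G : Type*} [Group G]

/-- If `M = N K` with `N` normalized by `M` and `K` commutative then `M' ≤ N`. -/
theorem commutator_le_of_cover (M N K : Subgroup G) (hMN : M ≤ normalizer (N : Set G))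
    (hKM : K ≤ M) (hK : ∀ a ∈ K, ∀ b ∈ K, a * b = b * a)
    (hcover : ∀ m ∈ M, ∃ n ∈ N, ∃ k ∈ K, m = n * k) : ⁅M, M⁆ ≤ N := by
  rw [Subgroup.commutator_le]
  intro a ha b hb
  obtain ⟨n1, hn1, k1, hk1, rfl⟩ := hcover a ha
  obtain ⟨n2, hn2, k2, hk2, rfl⟩ := hcover b hb
  have c1 : k1 * n2 * k1⁻¹ ∈ N := (mem_normalizer_iff.mp (hMN (hKM hk1)) n2).mp hn2
  have c2 : k2 * n1⁻¹ * k2⁻¹ ∈ N := (mem_normalizer_iff.mp (hMN (hKM hk2)) n1⁻¹).mp (N.inv_mem hn1)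
  have hkk : k1 * k2 * k1⁻¹ = k2 := by
    rw [hK k1 hk1 k2 hk2, mul_inv_cancel_right]
  have e : ⁅n1 * k1, n2 * k2⁆ = n1 * (k1 * n2 * k1⁻¹) * (k2 * n1⁻¹ * k2⁻¹) * n2⁻¹ := by
    rw [commutatorElement_def]
    calc n1 * k1 * (n2 * k2) * (n1 * k1)⁻¹ * (n2 * k2)⁻¹
        = n1 * (k1 * n2 * k1⁻¹) * (k1 * k2 * k1⁻¹) * n1⁻¹ * k2⁻¹ * n2⁻¹ := by group
      _ = n1 * (k1 * n2 * k1⁻¹) * k2 * n1⁻¹ * k2⁻¹ * n2⁻¹ := by rw [hkk]
      _ = n1 * (k1 * n2 * k1⁻¹) * (k2 * n1⁻¹ * k2⁻¹) * n2⁻¹ := by group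
  rw [e]
  exact N.mul_mem (N.mul_mem (N.mul_mem hn1 c1) c2) (N.inv_mem hn2)

/-- If `k` normalizes the finite subgroup `U` and `C_U(k) = 1`, then every element of `U` is a
commutator `⁅u⁻¹, k⁻¹⁆`; in particular `U ≤ ⁅M, M⁆` when `U ≤ M`, `k ∈ M`. -/
theorem le_commutator_of_fpf [Finite G] (M U : Subgroup G) (hUM : U ≤ M) (k : G) (hkM : k ∈ M)
    (hkU : k ∈ normalizer (U : Set G)) (hfix : U ⊓ centralizer ({k} : Set G) = ⊥) :
    U ≤ ⁅M, M⁆ := by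
  classical
  have hkinv : k⁻¹ ∈ normalizer (U : Set G) := inv_mem hkU
  have hmem : ∀ u : U, (u : G)⁻¹ * (k⁻¹ * u * k) ∈ U := by
    intro u
    have h1 : k⁻¹ * (u : G) * k⁻¹⁻¹ ∈ U := (mem_normalizer_iff.mp hkinv u).mp u.2
    rw [inv_inv] at h1
    exact U.mul_mem (U.inv_mem u.2) h1
  let f : U → U := fun u => ⟨(u : G)⁻¹ * (k⁻¹ * u * k), hmem u⟩
  have hinj : Function.Injective f := by
    intro u v huv
    have h1 : (u : G)⁻¹ * (k⁻¹ * u * k) = (v : G)⁻¹ * (k⁻¹ * v * k) := congrArg Subtype.val huv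
    have h2 : ((v : G) * (u : G)⁻¹) * k = k * ((v : G) * (u : G)⁻¹) := by
      have h3 : (u : G)⁻¹ * k⁻¹ * u = (v : G)⁻¹ * k⁻¹ * v := by
        have := congrArg (fun z => z * k⁻¹) h1
        simpa [mul_assoc] using this
      have h4 : k⁻¹ = ((v : G) * (u : G)⁻¹)⁻¹ * k⁻¹ * ((v : G) * (u : G)⁻¹) := by
        calc k⁻¹ = (u : G) * ((u : G)⁻¹ * k⁻¹ * u) * (u : G)⁻¹ := by group
          _ = (u : G) * ((v : G)⁻¹ * k⁻¹ * v) * (u : G)⁻¹ := by rw [h3]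
          _ = ((v : G) * (u : G)⁻¹)⁻¹ * k⁻¹ * ((v : G) * (u : G)⁻¹) := by group
      have h5 : ((v : G) * (u : G)⁻¹) * k⁻¹ = k⁻¹ * ((v : G) * (u : G)⁻¹) := by
        calc ((v : G) * (u : G)⁻¹) * k⁻¹
            = ((v : G) * (u : G)⁻¹) * (((v : G) * (u : G)⁻¹)⁻¹ * k⁻¹ * ((v : G) * (u : G)⁻¹)) := by
              rw [← h4]
          _ = k⁻¹ * ((v : G) * (u : G)⁻¹) := by group
      calc ((v : G) * (u : G)⁻¹) * k = k * (k⁻¹ * ((v : G) * (u : G)⁻¹)) * k := by group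
        _ = k * (((v : G) * (u : G)⁻¹) * k⁻¹) * k := by rw [h5]
        _ = k * ((v : G) * (u : G)⁻¹) := by group
    have h6 : (v : G) * (u : G)⁻¹ ∈ U ⊓ centralizer ({k} : Set G) := by
      have hc : (v : G) * (u : G)⁻¹ ∈ centralizer ({k} : Set G) := by
        rw [mem_centralizer_iff]
        intro h hh
        rw [Set.mem_singleton_iff] at hh
        rw [hh]; exact h2.symm
      exact ⟨U.mul_mem v.2 (U.inv_mem u.2), hc⟩
    rw [hfix, mem_bot] at h6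
    apply Subtype.ext
    have : (v : G) = u := by
      calc (v : G) = ((v : G) * (u : G)⁻¹) * u := by group
        _ = u := by rw [h6, one_mul]
    exact this.symm
  have hsurj : Function.Surjective f := Finite.injective_iff_surjective.1 hinj
  intro x hx
  obtain ⟨u, hu⟩ := hsurj ⟨x, hx⟩
  have h1 : (u : G)⁻¹ * (k⁻¹ * u * k) = x := congrArg Subtype.val hu
  have h2 : ⁅(u : G)⁻¹, k⁻¹⁆ = x := by
    rw [commutatorElement_def, ← h1]; group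
  rw [← h2]
  exact Subgroup.commutator_mem_commutator (M.inv_mem (hUM u.2)) (M.inv_mem hkM)

end Cfsg.Agent.Helper33.BG1365
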