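import Mathlib
import Cfsg.Prelude.Def_OddOrderLocal
import Cfsg.Agent.Helper60.BGAsmB
import Cfsg.Agent.Helper33.BG1365A
import Cfsg.Agent.Helper33.BG1365B

set_option autoImplicit false
set_option linter.style.haveILetI false

namespace Cfsg.Agent.Helper33.BG1365

open Subgroup
open scoped commutatorElement
open Cfsg.Agent.Helper60.BGAsm

variable {G : Type*} [Group G]

/-- `κ(M)` and `σ(M)` are disjoint, so `K ⊓ M_σ = ⊥`. -/
theorem K_inf_sigmaCore [Finite G] (M K : Subgroup G)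
    (hK : Cfsg.IsPiHallOf (Cfsg.kappa M) K M)
    (h1350 : Cfsg.IsPiHallOf (Cfsg.sigma M) (Cfsg.sigmaCore M) M) :
    K ⊓ Cfsg.sigmaCore M = ⊥ := by
  apply inf_eq_bot_of_coprime_card
  apply Nat.coprime_of_dvd
  intro q hq hq1 hq2
  have h1 : q ∈ Cfsg.kappa M := hK.2.1 q hq hq1
  have h2 : q ∈ Cfsg.sigma M := h1350.2.1 q hq hq2
  exact h1.2.2.1 h2

/-- The complement `E = U ⊔ K` of `M_σ` in `M` attached to a σ-decomposition. -/
theorem isComplIn_sup [Finite G] (M K U : Subgroup G) (hKU : Cfsg.IsSigmaDecomposition M K U)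
    (h1350 : Cfsg.IsPiHallOf (Cfsg.sigma M) (Cfsg.sigmaCore M) M) :
    Cfsg.IsComplIn (U ⊔ K) (Cfsg.sigmaCore M) M := by
  have hSM := sigmaCore_le' M
  have hMS := le_normalizer_sigmaCore M
  have hKM : K ≤ M := hKU.hall.1
  have hUM : U ≤ M := hKU.compl.1
  refine ⟨sup_le hUM hKM, hSM, ?_, ?_⟩
  · rw [eq_bot_iff]
    intro x hx
    have hx1 : x ∈ ((U ⊔ K : Subgroup G) : Set G) := hx.1
    have hxS : x ∈ Cfsg.sigmaCore M := hx.2
    rw [Subgroup.coe_mul_of_right_le_normalizer_left _ _ hKU.normal] at hx1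
    obtain ⟨u, hu, k, hk, rfl⟩ := hx1
    have hu' : u ∈ U ⊓ (K ⊔ Cfsg.sigmaCore M) := by
      refine ⟨hu, ?_⟩
      have : u = (u * k) * k⁻¹ := by group
      rw [this]
      exact Subgroup.mul_mem _ (Subgroup.mem_sup_right hxS) (Subgroup.mem_sup_left (K.inv_mem hk))
    rw [hKU.compl.2.2.1, mem_bot] at hu'
    subst hu'
    have hxS' : k ∈ Cfsg.sigmaCore M := by simpa using hxS
    have : k ∈ K ⊓ Cfsg.sigmaCore M := ⟨hk, hxS'⟩
    rw [K_inf_sigmaCore M K hKU.hall h1350] at this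
    simpa using this
  · intro m hm
    obtain ⟨u, hu, b, hb, rfl⟩ := hKU.compl.2.2.2 m hm
    have hb' : b ∈ ((K ⊔ Cfsg.sigmaCore M : Subgroup G) : Set G) := hb
    rw [Subgroup.coe_mul_of_left_le_normalizer_right _ _ (hKM.trans hMS)] at hb'
    obtain ⟨k, hk, s, hs, rfl⟩ := hb'
    exact ⟨u * k, Subgroup.mul_mem _ (Subgroup.mem_sup_left hu) (Subgroup.mem_sup_right hk), s, hs,
      by group⟩

/-- **B-G, Theorem B-type assembly (S1365).**  Statement-shaped hypotheses: `h1350` (from S1350),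
`h1353` (S1353), `h1426` (S1426, second clause). -/
theorem thm_1365 [Finite G] (M K U : Subgroup G) (hKU : Cfsg.IsSigmaDecomposition M K U)
    (hK1 : K ≠ ⊥)
    (h1350 : Cfsg.IsPiHallOf (Cfsg.sigma M) (Cfsg.sigmaCore M) M)
    (h1353 : ∀ k ∈ K, k ≠ 1 → U ⊓ Subgroup.centralizer ({k} : Set G) = ⊥)
    (h1426 : ∀ E : Subgroup G, Cfsg.IsComplIn E (Cfsg.sigmaCore M) M →
      ⁅Cfsg.sigmaCore M, E⁆ = Cfsg.sigmaCore M) :
    ⁅M, M⁆ = U ⊔ Cfsg.sigmaCore M ∧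
      (Cfsg.sigmaCore M ⊓ Subgroup.centralizer (K : Set G)) ≤ ⁅⁅M, M⁆, ⁅M, M⁆⁆ := by
  classical
  have hSM := sigmaCore_le' M
  have hMS := le_normalizer_sigmaCore M
  have hKM : K ≤ M := hKU.hall.1
  have hUM : U ≤ M := hKU.compl.1
  have hKUn : K ≤ normalizer (U : Set G) := hKU.normal
  haveI hKc : IsCyclic K := hKU.cyclic
  have hKcomm : ∀ a ∈ K, ∀ b ∈ K, a * b = b * a := by
    intro a ha b hb
    have := hKc.isMulCommutative.is_comm.comm ⟨a, ha⟩ ⟨b, hb⟩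
    exact congrArg Subtype.val this
  -- `M` normalizes `U ⊔ M_σ`
  have hMN : M ≤ normalizer ((U ⊔ Cfsg.sigmaCore M : Subgroup G) : Set G) := by
    have hU : U ≤ normalizer ((U ⊔ Cfsg.sigmaCore M : Subgroup G) : Set G) :=
      le_sup_left.trans Subgroup.le_normalizer
    have hS : Cfsg.sigmaCore M ≤ normalizer ((U ⊔ Cfsg.sigmaCore M : Subgroup G) : Set G) :=
      le_sup_right.trans Subgroup.le_normalizer
    have hK : K ≤ normalizer ((U ⊔ Cfsg.sigmaCore M : Subgroup G) : Set G) := fun k hk =>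
      mem_normalizer_sup (hKUn hk) (hMS (hKM hk))
    intro m hm
    obtain ⟨a, ha, b, hb, rfl⟩ := hKU.compl.2.2.2 m hm
    exact Subgroup.mul_mem _ (hU ha) ((sup_le hK hS) hb)
  -- cover `M = (U ⊔ M_σ) K`
  have hcover : ∀ m ∈ M, ∃ n ∈ U ⊔ Cfsg.sigmaCore M, ∃ k ∈ K, m = n * k := by
    intro m hm
    obtain ⟨u, hu, b, hb, rfl⟩ := hKU.compl.2.2.2 m hm
    have hb' : b ∈ ((K ⊔ Cfsg.sigmaCore M : Subgroup G) : Set G) := hb
    rw [Subgroup.coe_mul_of_left_le_normalizer_right _ _ (hKM.trans hMS)] at hb'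
    obtain ⟨k, hk, s, hs, rfl⟩ := hb'
    have hs' : k * s * k⁻¹ ∈ Cfsg.sigmaCore M := (mem_normalizer_iff.mp (hMS (hKM hk)) s).mp hs
    exact ⟨u * (k * s * k⁻¹), Subgroup.mul_mem _ (Subgroup.mem_sup_left hu) (Subgroup.mem_sup_right hs'),
      k, hk, by group⟩
  have hle : ⁅M, M⁆ ≤ U ⊔ Cfsg.sigmaCore M :=
    commutator_le_of_cover M _ K hMN hKM hKcomm hcover
  -- the complement `E = U ⊔ K`
  have hE := isComplIn_sup M K U hKU h1350
  have hSE : ⁅Cfsg.sigmaCore M, U ⊔ K⁆ = Cfsg.sigmaCore M := h1426 _ hE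
  have hSle : Cfsg.sigmaCore M ≤ ⁅M, M⁆ := by
    calc Cfsg.sigmaCore M = ⁅Cfsg.sigmaCore M, U ⊔ K⁆ := hSE.symm
      _ ≤ ⁅M, M⁆ := Subgroup.commutator_mono hSM hE.1
  -- a non-identity element of `K`
  obtain ⟨k1, hk1K, hk11⟩ : ∃ k ∈ K, k ≠ 1 := by
    by_contra hcon
    apply hK1
    rw [Subgroup.eq_bot_iff_forall]
    intro k hk
    by_contra hk1
    exact hcon ⟨k, hk, hk1⟩
  have hUle : U ≤ ⁅M, M⁆ :=
    le_commutator_of_fpf M U hUM k1 (hKM hk1K) (hKUn hk1K) (h1353 k1 hk1K hk11)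
  have heq : ⁅M, M⁆ = U ⊔ Cfsg.sigmaCore M := le_antisymm hle (sup_le hUle hSle)
  refine ⟨heq, ?_⟩
  -- second part: pass to the group `↥M`
  rw [heq]
  obtain ⟨x, hx⟩ := IsCyclic.exists_monoid_generator (α := K)
  obtain ⟨S', hS'⟩ : ∃ S' : Subgroup M, S' = (Cfsg.sigmaCore M).subgroupOf M := ⟨_, rfl⟩
  obtain ⟨U', hU'⟩ : ∃ U' : Subgroup M, U' = U.subgroupOf M := ⟨_, rfl⟩
  obtain ⟨K', hK'⟩ : ∃ K' : Subgroup M, K' = K.subgroupOf M := ⟨_, rfl⟩
  haveI hS'n : S'.Normal := by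
    rw [hS']; exact (Subgroup.normal_subgroupOf_iff_le_normalizer hSM).2 hMS
  have hsup : U' ⊔ S' = (U ⊔ Cfsg.sigmaCore M).subgroupOf M := by
    rw [hU', hS', Subgroup.subgroupOf_sup hUM hSM]
  have hDn : (U' ⊔ S').Normal := by
    rw [hsup]; exact (Subgroup.normal_subgroupOf_iff_le_normalizer (sup_le hUM hSM)).2 hMN
  have hk0 : ∀ k ∈ K', ∃ i : ℕ, k = (⟨(x : G), hKM x.2⟩ : M) ^ i := by
    intro k hk
    rw [hK', Subgroup.mem_subgroupOf] at hk
    obtain ⟨i, hi⟩ := hx ⟨(k : G), hk⟩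
    refine ⟨i, ?_⟩
    apply Subtype.ext
    have := congrArg Subtype.val hi
    simp only [SubmonoidClass.coe_pow] at this
    rw [SubmonoidClass.coe_pow]
    exact this.symm
  have hKU'' : K' ≤ normalizer (U' : Set M) := by
    intro k hk
    rw [hK', Subgroup.mem_subgroupOf] at hk
    have h1 := hKUn hk
    rw [mem_normalizer_iff] at h1 ⊢
    intro h
    rw [hU', Subgroup.mem_subgroupOf, Subgroup.mem_subgroupOf]
    exact h1 h
  have hmapS : S'.map M.subtype = Cfsg.sigmaCore M := by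
    rw [hS', Subgroup.subgroupOf_map_subtype, inf_eq_left.2 hSM]
  have hmapU : U'.map M.subtype = U := by
    rw [hU', Subgroup.subgroupOf_map_subtype, inf_eq_left.2 hUM]
  have hmapK : K'.map M.subtype = K := by
    rw [hK', Subgroup.subgroupOf_map_subtype, inf_eq_left.2 hKM]
  have hSE' : ⁅S', U' ⊔ K'⁆ = S' := by
    apply Subgroup.map_injective M.subtype_injective
    rw [Subgroup.map_commutator, Subgroup.map_sup, hmapS, hmapU, hmapK, hSE]
  have key := fix_le_derived S' U' K' hDn ⟨(x : G), hKM x.2⟩ hk0 hKU'' hSE'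
  intro c hc
  have hcS : c ∈ Cfsg.sigmaCore M := hc.1
  have hcK : c ∈ centralizer (K : Set G) := hc.2
  have hcM : c ∈ M := hSM hcS
  have hc' : (⟨c, hcM⟩ : M) ∈ S' ⊓ centralizer ({(⟨(x : G), hKM x.2⟩ : M)} : Set M) := by
    have h2 : (⟨c, hcM⟩ : M) ∈ centralizer ({(⟨(x : G), hKM x.2⟩ : M)} : Set M) := by
      rw [mem_centralizer_iff]
      intro h hh
      rw [Set.mem_singleton_iff] at hh
      rw [hh]
      apply Subtype.ext
      rw [mem_centralizer_iff] at hcK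
      exact hcK x x.2
    have h1 : (⟨c, hcM⟩ : M) ∈ S' := by
      rw [hS', Subgroup.mem_subgroupOf]
      exact hcS
    exact ⟨h1, h2⟩
  have h3 := key hc'
  have h4 : c ∈ (⁅U' ⊔ S', U' ⊔ S'⁆).map M.subtype := ⟨⟨c, hcM⟩, h3, rfl⟩
  rw [Subgroup.map_commutator, Subgroup.map_sup, hmapU, hmapS] at h4
  exact h4

end Cfsg.Agent.Helper33.BG1365
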