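import Mathlib

/-!
helper33 for helper80 (S2372/S2375 tori): piece (CP) `charpoly_eq_cyclotomic` of `tools/helper80_tor/SkelABC.lean.txt`,
verbatim.
-/

set_option autoImplicit false
set_option linter.unusedVariables false

namespace Cfsg.Agent.Helper33.Tor

open Polynomial

/-- (CP) -/
theorem charpoly_eq_cyclotomic {l m : ℕ} (hm : 0 < m) (hl : Nat.totient m = l)
    (M : Matrix (Fin l) (Fin l) ℤ) (hM : aeval M (cyclotomic m ℤ) = 0) :
    M.charpoly = cyclotomic m ℤ := by
  have hl0 : 0 < l := by rw [← hl]; exact Nat.totient_pos.mpr hm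
  have : Nonempty (Fin l) := ⟨⟨0, hl0⟩⟩
  set Mq : Matrix (Fin l) (Fin l) ℚ := (Int.castRingHom ℚ).mapMatrix M with hMq
  -- `Φ_m(Mq) = 0`
  have h1 : aeval Mq (cyclotomic m ℚ) = 0 := by
    have h2 : aeval Mq (cyclotomic m ℚ) = (Int.castRingHom ℚ).mapMatrix (aeval M (cyclotomic m ℤ)) := by
      rw [← map_cyclotomic_int m ℚ, aeval_def, aeval_def, eval₂_map, hom_eval₂]
      congr 1
      exact RingHom.ext_int _ _
    rw [h2, hM, map_zero]
  have h3 : cyclotomic m ℚ = minpoly ℚ Mq :=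
    minpoly.eq_of_irreducible_of_monic (cyclotomic.irreducible_rat hm) h1 (cyclotomic.monic m ℚ)
  have h4 : cyclotomic m ℚ ∣ Mq.charpoly := by rw [h3]; exact Matrix.minpoly_dvd_charpoly Mq
  have h5 : Mq.charpoly = cyclotomic m ℚ := by
    apply Polynomial.eq_of_monic_of_dvd_of_natDegree_le (cyclotomic.monic m ℚ) (Matrix.charpoly_monic Mq) h4
    rw [Matrix.charpoly_natDegree_eq_dim, natDegree_cyclotomic, Fintype.card_fin, hl]
  have h6 : Mq.charpoly = (M.charpoly).map (Int.castRingHom ℚ) := by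
    rw [hMq, RingHom.mapMatrix_apply, Matrix.charpoly_map]
  rw [h6, ← map_cyclotomic_int m ℚ] at h5
  exact Polynomial.map_injective (Int.castRingHom ℚ) Int.cast_injective h5

end Cfsg.Agent.Helper33.Tor
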