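import Mathlib
import Cfsg.Prelude.Def_OddOrderLocal
import Cfsg.Prelude.Def_OddOrder
import Cfsg.Agent.Helper29.BG10F
import Cfsg.Agent.Helper50.BG134
import Cfsg.Agent.Helper50.CyclicSylow
import Cfsg.Agent.Helper60.BGAsmB
import Cfsg.Agent.Helper60.BGAsmD

set_option autoImplicit false
set_option linter.style.haveILetI false

namespace Cfsg.Agent.Helper33.BG1355

open Subgroup
open Cfsg.Agent.Helper60.BGAsm
open Cfsg.Agent.Helper29.BG10

variable {G : Type*} [Group G] [Finite G]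

/-- a prime dividing the order of a normal nilpotent Hall subgroup of the maximal subgroup `M`
lies in `σ(M)` -/
theorem mem_sigma_of_dvd_card (hG : Cfsg.IsMinSimpleOddOrder G) {M : Subgroup G} (hM : IsCoatom M)
    (N : Subgroup ↥M) (hN : N.Normal) (hnil : Group.IsNilpotent N)
    (hcop : (Nat.card N).Coprime N.index) {p : ℕ} (hp : p.Prime) (hpN : p ∣ Nat.card N) :
    p ∈ Cfsg.sigma M := by
  classical
  haveI : Fact p.Prime := ⟨hp⟩
  haveI := hN
  haveI := hnil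
  obtain ⟨P⟩ : Nonempty (Sylow p ↥N) := inferInstance
  have hPn : (P : Subgroup ↥N).Normal := inferInstance
  haveI hPc : (P : Subgroup ↥N).Characteristic := Sylow.characteristic_of_normal P hPn
  obtain ⟨P0, hP0⟩ : ∃ P0 : Subgroup ↥M, P0 = (P : Subgroup ↥N).map N.subtype := ⟨_, rfl⟩
  have hP0n : P0.Normal := by rw [hP0]; infer_instance
  have hP0p : IsPGroup p P0 := by rw [hP0]; exact P.isPGroup'.map _
  have hpidx : ¬ p ∣ N.index := fun h => hp.one_lt.ne' (Nat.eq_one_of_dvd_coprimes hcop hpN h)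
  have hidx : ¬ p ∣ P0.index := by
    rw [hP0, Subgroup.index_map_subtype]
    intro h
    rcases (Nat.Prime.dvd_mul hp).1 h with h | h
    · exact P.not_dvd_index h
    · exact hpidx h
  obtain ⟨PS, hPS⟩ : ∃ PS : Sylow p ↥M, (PS : Subgroup ↥M) = P0 :=
    ⟨hP0p.toSylow hidx, IsPGroup.toSylow_coe _ _⟩
  have hpM : p ∣ Nat.card ↥M := hpN.trans (Subgroup.card_subgroup_dvd_card N)
  refine ⟨hp, hpM, PS, ?_⟩
  rw [hPS]
  obtain ⟨Q, hQ⟩ : ∃ Q : Subgroup G, Q = P0.map M.subtype := ⟨_, rfl⟩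
  rw [← hQ]
  have hQM : Q ≤ M := by rw [hQ]; exact Subgroup.map_subtype_le _
  have hMQ : M ≤ normalizer (Q : Set G) := by
    apply le_normalizer_of_forall_conj_mem
    intro m hm y hy
    rw [hQ] at hy ⊢
    obtain ⟨y', hy', rfl⟩ := hy
    exact ⟨⟨m, hm⟩ * y' * ⟨m, hm⟩⁻¹, hP0n.conj_mem y' hy' _, rfl⟩
  have hQ1 : Q ≠ ⊥ := by
    have h1 : (P : Subgroup ↥N) ≠ ⊥ := P.ne_bot_of_dvd_card hpN
    intro h
    apply h1
    rw [hQ, hP0, Subgroup.map_map] at h
    exact (Subgroup.map_eq_bot_iff_of_injective _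
      (by
        intro a b hab
        exact Subtype.ext (Subtype.ext hab))).1 h
  have hQ2 : Q ≠ ⊤ := fun h => hM.1 (top_le_iff.1 (h ▸ hQM))
  have hne : normalizer (Q : Set G) ≠ ⊤ := by
    intro h
    have hn : Q.Normal := Subgroup.normalizer_eq_top_iff.mp h
    haveI : IsSimpleGroup G := hG.2.1
    rcases hn.eq_bot_or_eq_top with h1 | h1
    · exact hQ1 h1
    · exact hQ2 h1
  by_contra hnot
  have hlt : M < normalizer (Q : Set G) := lt_of_le_of_ne hMQ (fun h => hnot (h ▸ le_rfl))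
  exact hne (hM.2 _ hlt)

/-- `M_F ≤ M_σ` -/
theorem fittingHallOf_le_sigmaCore (hG : Cfsg.IsMinSimpleOddOrder G) {M : Subgroup G}
    (hM : IsCoatom M) : Cfsg.fittingHallOf M ≤ Cfsg.sigmaCore M := by
  unfold Cfsg.fittingHallOf Cfsg.sigmaCore
  apply Subgroup.map_mono
  unfold Cfsg.fittingHall Cfsg.piCore
  apply sSup_le
  rintro N ⟨hN, hnil, hcop⟩
  apply le_sSup
  exact ⟨hN, fun p hp hpN => mem_sigma_of_dvd_card hG hM N hN hnil hcop hp hpN⟩

/-- `M_σ ≤ M'` -/
theorem sigmaCore_le_commutator (hG : Cfsg.IsMinSimpleOddOrder G) (hU : UniquenessThm G)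
    {M : Subgroup G} (hM : IsCoatom M) : Cfsg.sigmaCore M ≤ ⁅M, M⁆ := by
  have h1 := Cfsg.Agent.Helper50.BG13.piCore_sigma_le_commutator hG hU hM
  have h2 : (commutator ↥M).map M.subtype = ⁅M, M⁆ := Subgroup.map_subtype_commutator M
  rw [← h2]
  exact Subgroup.map_mono h1

omit [Finite G] in
/-- `M' < M` -/
theorem commutator_lt (hG : Cfsg.IsMinSimpleOddOrder G) {M : Subgroup G} (hM : IsCoatom M)
    (hM1 : M ≠ ⊥) : ⁅M, M⁆ < M := by
  haveI : Group.IsSolvable ↥M := hG.2.2.2 M hM.1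
  haveI : Nontrivial ↥M := (Subgroup.nontrivial_iff_ne_bot M).2 hM1
  have h1 : commutator ↥M < ⊤ := Group.IsSolvable.commutator_lt_top_of_nontrivial ↥M
  have h2 : (commutator ↥M).map M.subtype = ⁅M, M⁆ := Subgroup.map_subtype_commutator M
  rw [← h2]
  refine lt_of_le_of_ne (Subgroup.map_subtype_le _) ?_
  intro h
  apply h1.ne
  rw [eq_top_iff]
  intro x _
  have hx : (x : G) ∈ (commutator ↥M).map M.subtype := by rw [h]; exact x.2
  obtain ⟨y, hy, hyx⟩ := hx
  have : y = x := Subtype.ext hyx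
  rwa [← this]

end Cfsg.Agent.Helper33.BG1355
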