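import Mathlib
import Cfsg.Prelude.Def_OddOrderLocal
import Cfsg.Prelude.Def_OddOrder
import Cfsg.Agent.Helper33.BG1355A
import Cfsg.Agent.Helper60.BGSigmaNe
import Cfsg.Agent.Helper71.BGHall

set_option autoImplicit false
set_option linter.style.haveILetI false

namespace Cfsg.Agent.Helper33.BG1355

open Subgroup
open Cfsg.Agent.Helper60.BGAsm
open Cfsg.Agent.Helper29.BG10

/-- the image of a nilpotent subgroup under a homomorphism is nilpotent -/
theorem isNilpotent_map {X Y : Type*} [Group X] [Group Y] (f : X →* Y) (D : Subgroup X)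
    (hD : Group.IsNilpotent D) : Group.IsNilpotent (D.map f) := by
  haveI := hD
  exact Group.nilpotent_of_surjective (f.subgroupMap D) (f.subgroupMap_surjective D)

/-- `D.subgroupOf M` is nilpotent when `D ≤ M` is -/
theorem isNilpotent_subgroupOf {X : Type*} [Group X] (D M : Subgroup X) (hDM : D ≤ M)
    (hD : Group.IsNilpotent D) : Group.IsNilpotent (D.subgroupOf M) := by
  haveI := hD
  exact Group.nilpotent_of_mulEquiv (Subgroup.subgroupOfEquivOfLe hDM).symm

variable {G : Type*} [Group G] [Finite G]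

/-- The weak form of S1437 used for S1355. -/
def H1437 (M : Subgroup G) : Prop :=
  Cfsg.fittingHallOf M ≠ Cfsg.sigmaCore M →
    Cfsg.sigmaCore M = ⁅M, M⁆ ∧ ∃ (q : ℕ) (Q : Subgroup G), q.Prime ∧ Q ≤ Cfsg.fittingHallOf M ∧
      M ≤ normalizer (Q : Set G) ∧ IsPGroup q Q ∧ ¬ q ∣ Q.relIndex (Cfsg.sigmaCore M) ∧
      ∀ D : Subgroup G, Cfsg.IsComplIn Q D (Cfsg.sigmaCore M) →
        Group.IsNilpotent D ∧ Q ⊓ centralizer (D : Set G) < Q

/-- **S1355, assembly.**  `h1415`: first clause of S1415; `h1437`: the needed part of S1437 (with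
`K`, `U` provided by S1351/S1352). -/
theorem thm_1355 (hG : Cfsg.IsMinSimpleOddOrder G) (hU : UniquenessThm G) (M : Subgroup G)
    (hM : IsCoatom M)
    (h1415 : ∀ E : Subgroup G, Cfsg.IsComplIn E (Cfsg.sigmaCore M) M → Group.IsNilpotent ↥⁅E, E⁆)
    (h1437 : H1437 M) :
    Cfsg.fittingHallOf M ≠ ⊥ ∧ Cfsg.fittingHallOf M ≤ Cfsg.sigmaCore M ∧
      Cfsg.sigmaCore M ≤ ⁅M, M⁆ ∧ ⁅M, M⁆ < M ∧
      Group.IsNilpotent ↥((commutator ↥M).map (QuotientGroup.mk' (Cfsg.fittingHall ↥M))) := by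
  classical
  have hSne : Cfsg.sigmaCore M ≠ ⊥ := Cfsg.Agent.Helper29.BG11.sigmaCore_ne_bot hG hU hM
  have hSM : Cfsg.sigmaCore M ≤ M := sigmaCore_le' M
  have hM1 : M ≠ ⊥ := fun h => hSne (le_bot_iff.1 (h ▸ hSM))
  have hFS := fittingHallOf_le_sigmaCore hG hM
  have hSc := sigmaCore_le_commutator hG hU hM
  have hlt := commutator_lt hG hM hM1
  obtain ⟨π, hπ⟩ : ∃ π : ↥M →* ↥M ⧸ Cfsg.fittingHall ↥M, π = QuotientGroup.mk' (Cfsg.fittingHall ↥M) :=
    ⟨_, rfl⟩
  rw [← hπ]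
  have hker : ∀ x : ↥M, (x : G) ∈ Cfsg.fittingHallOf M → π x = 1 := by
    intro x hx
    rw [hπ]
    apply (QuotientGroup.eq_one_iff x).2
    obtain ⟨y, hy, hyx⟩ := hx
    have : y = x := Subtype.ext hyx
    rwa [← this]
  by_cases hcase : Cfsg.fittingHallOf M = Cfsg.sigmaCore M
  · -- case `M_F = M_σ`
    refine ⟨by rw [hcase]; exact hSne, hFS, hSc, hlt, ?_⟩
    obtain ⟨E, hE⟩ := Cfsg.Agent.Helper71.BGHall.exists_isComplIn_sigmaCore hG hU hM
    have hEM : E ≤ M := hE.1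
    have hnilE := h1415 E hE
    have htop : (⊤ : Subgroup ↥M).map π = (E.subgroupOf M).map π := by
      apply le_antisymm
      · rintro _ ⟨x, -, rfl⟩
        obtain ⟨e, he, s, hs, hx⟩ := hE.2.2.2 (x : G) x.2
        have hsM : s ∈ M := hSM hs
        have hx' : x = (⟨e, hEM he⟩ : ↥M) * ⟨s, hsM⟩ := Subtype.ext hx
        refine ⟨⟨e, hEM he⟩, Subgroup.mem_subgroupOf.2 he, ?_⟩
        rw [hx', map_mul, hker ⟨s, hsM⟩ (by rw [hcase]; exact hs), mul_one]
      · exact Subgroup.map_mono le_top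
    have h1 : (commutator ↥M).map π = (⁅E.subgroupOf M, E.subgroupOf M⁆).map π := by
      rw [commutator_def, Subgroup.map_commutator, htop, ← Subgroup.map_commutator]
    rw [h1]
    apply isNilpotent_map
    have h2 : (⁅E.subgroupOf M, E.subgroupOf M⁆).map M.subtype = ⁅E, E⁆ := by
      rw [Subgroup.map_commutator, Subgroup.subgroupOf_map_subtype, inf_eq_left.2 hEM]
    haveI : Group.IsNilpotent ↥((⁅E.subgroupOf M, E.subgroupOf M⁆).map M.subtype) := by
      rw [h2]; exact hnilE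
    exact Group.nilpotent_of_mulEquiv
      (Subgroup.equivMapOfInjective _ M.subtype M.subtype_injective).symm
  · -- case `M_F ≠ M_σ`
    obtain ⟨hSeq, q, Q, hq, hQF, hMQ, hQp, hqidx, hD⟩ := h1437 hcase
    have hQS : Q ≤ Cfsg.sigmaCore M := hQF.trans hFS
    -- Schur–Zassenhaus complement of `Q` in `M_σ`
    haveI hQn : (Q.subgroupOf (Cfsg.sigmaCore M)).Normal :=
      Subgroup.normal_subgroupOf_of_le_normalizer (hSM.trans hMQ)
    have hcop : (Nat.card (Q.subgroupOf (Cfsg.sigmaCore M))).Coprime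
        (Q.subgroupOf (Cfsg.sigmaCore M)).index := by
      haveI : Fact q.Prime := ⟨hq⟩
      have hp' : IsPGroup q (Q.subgroupOf (Cfsg.sigmaCore M)) := hQp.comap_subtype
      obtain ⟨k, hk⟩ := hp'.exists_card_eq
      rw [hk]
      apply Nat.Coprime.pow_left
      rw [Nat.Prime.coprime_iff_not_dvd hq]
      exact hqidx
    obtain ⟨D0, hD0⟩ := Subgroup.exists_right_complement'_of_coprime hcop
    have hcompl := isComplIn_of_isComplement' _ _ hD0
    rw [Subgroup.subgroupOf_map_subtype, inf_eq_left.2 hQS] at hcompl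
    obtain ⟨D, hDdef⟩ : ∃ D : Subgroup G, D = D0.map (Cfsg.sigmaCore M).subtype := ⟨_, rfl⟩
    rw [← hDdef] at hcompl
    obtain ⟨hDnil, hQlt⟩ := hD D hcompl
    have hQ1 : Q ≠ ⊥ := by
      intro h
      rw [h] at hQlt
      exact absurd hQlt (by simp)
    have hF1 : Cfsg.fittingHallOf M ≠ ⊥ := fun h => hQ1 (le_bot_iff.1 (h ▸ hQF))
    refine ⟨hF1, hFS, hSc, hlt, ?_⟩
    have hDS : D ≤ Cfsg.sigmaCore M := hcompl.2.1
    have hDM : D ≤ M := hDS.trans hSM
    have hcomm : commutator ↥M = (Cfsg.sigmaCore M).subgroupOf M := by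
      apply Subgroup.map_injective M.subtype_injective
      rw [Subgroup.map_subtype_commutator, Subgroup.subgroupOf_map_subtype, inf_eq_left.2 hSM, hSeq]
    have h1 : (commutator ↥M).map π = (D.subgroupOf M).map π := by
      rw [hcomm]
      apply le_antisymm
      · rintro _ ⟨x, hx0, rfl⟩
        have hx : (x : G) ∈ Cfsg.sigmaCore M := Subgroup.mem_subgroupOf.1 hx0
        obtain ⟨a, ha, b, hb, hx'⟩ := hcompl.2.2.2 (x : G) hx
        have haM : a ∈ M := hSM (hQS ha)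
        have hx'' : x = (⟨a, haM⟩ : ↥M) * ⟨b, hDM hb⟩ := Subtype.ext hx'
        refine ⟨⟨b, hDM hb⟩, Subgroup.mem_subgroupOf.2 hb, ?_⟩
        rw [hx'', map_mul, hker ⟨a, haM⟩ (hQF ha), one_mul]
      · apply Subgroup.map_mono
        intro x hx
        rw [Subgroup.mem_subgroupOf] at hx ⊢
        exact hDS hx
    rw [h1]
    exact isNilpotent_map π _ (isNilpotent_subgroupOf D M hDM hDnil)

end Cfsg.Agent.Helper33.BG1355
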