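import Mathlib
import Cfsg.Agent.Helper62.FrobActGroup
import Cfsg.Agent.S0055

/-!
# Pure group theory lemmas for B-G Theorem 14.7 (S1435)  -- helper33
-/

set_option autoImplicit false
set_option linter.style.haveILetI false

namespace Cfsg.Agent.Helper33.BG147

open Subgroup

variable {X : Type*} [Group X]

/-- (FROB) A Frobenius group `F ⋊ K` of conjugations on a solvable subgroup `V` of coprime order:
if `K` has no fixed points on `V`, then `F` centralizes `V`. -/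
theorem frob_centralizes [Finite X] (F K V : Subgroup X) (hK1 : K ≠ ⊥)
    (hKF : ∀ e ∈ K, ∀ u ∈ F, e * u * e⁻¹ ∈ F)
    (hfpf : ∀ e ∈ K, e ≠ 1 → ∀ u ∈ F, e * u = u * e → u = 1)
    (hV : ∀ x ∈ F ⊔ K, ∀ v ∈ V, x * v * x⁻¹ ∈ V) (hsolv : Group.IsSolvable V)
    (hcop : Nat.Coprime (Nat.card V) (Nat.card ↥(F ⊔ K)))
    (hCK : V ⊓ centralizer (K : Set X) = ⊥) : V ≤ centralizer (F : Set X) := by
  have key := Cfsg.Agent.Helper62.FrobAct.frobenius_fixed_point_formula F K hK1 hKF hfpf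
    (Nat.card V) V rfl hV hsolv hcop
  have h1 : V ⊓ centralizer ((F ⊔ K : Subgroup X) : Set X) = ⊥ := by
    rw [eq_bot_iff, ← hCK]
    exact inf_le_inf_left _ (centralizer_le (by exact_mod_cast (le_sup_right : K ≤ F ⊔ K)))
  rw [h1, hCK] at key
  simp only [Subgroup.card_bot, one_pow, one_mul] at key
  have h2 : V ⊓ centralizer (F : Set X) = V :=
    Subgroup.eq_of_le_of_card_ge inf_le_left key.le
  rw [← h2]
  exact inf_le_right

/-- in a group of prime order every non-identity element generates -/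
theorem mem_centralizer_of_commute_of_prime_card {K : Subgroup X} (hK : (Nat.card K).Prime)
    {e : X} (he : e ∈ K) (he1 : e ≠ 1) {u : X} (hu : e * u = u * e) :
    u ∈ centralizer (K : Set X) := by
  haveI : Fact (Nat.card K).Prime := ⟨hK⟩
  have h1 : Subgroup.zpowers (⟨e, he⟩ : ↥K) = ⊤ :=
    zpowers_eq_top_of_prime_card rfl (fun h => he1 (by simpa using congrArg Subtype.val h))
  rw [mem_centralizer_iff]
  intro k hk
  have h2 : (⟨k, hk⟩ : ↥K) ∈ Subgroup.zpowers (⟨e, he⟩ : ↥K) := by rw [h1]; trivial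
  obtain ⟨n, hn⟩ := Subgroup.mem_zpowers_iff.1 h2
  have h3 : k = e ^ n := by
    have := congrArg Subtype.val hn
    simpa using this.symm
  rw [h3]
  have hc : Commute e u := hu
  exact ((hc.zpow_left n).eq)



/-- elements of an abelian subgroup `A` killed by `n` -/
def torsionBy (A : Subgroup X) (hA : ∀ a ∈ A, ∀ b ∈ A, a * b = b * a) (n : ℕ) : Subgroup X where
  carrier := {a | a ∈ A ∧ a ^ n = 1}
  mul_mem' := by
    rintro a b ⟨ha, ha'⟩ ⟨hb, hb'⟩
    refine ⟨A.mul_mem ha hb, ?_⟩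
    have hc : Commute a b := hA a ha b hb
    rw [hc.mul_pow, ha', hb', one_mul]
  one_mem' := ⟨A.one_mem, one_pow n⟩
  inv_mem' := by
    rintro a ⟨ha, ha'⟩
    exact ⟨A.inv_mem ha, by rw [inv_pow, ha', inv_one]⟩

theorem mem_torsionBy {A : Subgroup X} {hA : ∀ a ∈ A, ∀ b ∈ A, a * b = b * a} {n : ℕ} {a : X} :
    a ∈ torsionBy A hA n ↔ a ∈ A ∧ a ^ n = 1 := Iff.rfl

theorem torsionBy_le (A : Subgroup X) (hA : ∀ a ∈ A, ∀ b ∈ A, a * b = b * a) (n : ℕ) :
    torsionBy A hA n ≤ A := fun _ h => h.1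

theorem le_normalizer_torsionBy {A K : Subgroup X} (hA : ∀ a ∈ A, ∀ b ∈ A, a * b = b * a) (n : ℕ)
    (hKA : K ≤ normalizer (A : Set X)) : K ≤ normalizer ((torsionBy A hA n : Subgroup X) : Set X) := by
  intro k hk
  have key : ∀ k ∈ K, ∀ a ∈ torsionBy A hA n, k * a * k⁻¹ ∈ torsionBy A hA n := by
    intro k hk a ha
    refine ⟨(mem_normalizer_iff.1 (hKA hk) a).1 ha.1, ?_⟩
    rw [conj_pow, ha.2, mul_one, mul_inv_cancel]
  rw [mem_normalizer_iff]
  intro a
  constructor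
  · exact key k hk a
  · intro h
    have := key k⁻¹ (K.inv_mem hk) _ h
    simpa [mul_assoc] using this

/-- the order of `torsionBy A n` is coprime to a prime `q` not dividing `n` -/
theorem card_torsionBy_coprime [Finite X] {A : Subgroup X} (hA : ∀ a ∈ A, ∀ b ∈ A, a * b = b * a)
    {n q : ℕ} (hq : q.Prime) (hqn : ¬ q ∣ n) : (Nat.card (torsionBy A hA n)).Coprime q := by
  rw [Nat.coprime_comm, Nat.Prime.coprime_iff_not_dvd hq]
  intro hd
  haveI : Fact q.Prime := ⟨hq⟩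
  obtain ⟨x, hx⟩ := exists_prime_orderOf_dvd_card' q hd
  have h1 : (x : X) ^ n = 1 := x.2.2
  have h2 : orderOf (x : X) = q := by rw [← hx]; exact (Subgroup.orderOf_coe x)
  apply hqn
  rw [← h2]
  exact orderOf_dvd_of_pow_eq_one h1

theorem isPGroup_torsionBy {A : Subgroup X} (hA : ∀ a ∈ A, ∀ b ∈ A, a * b = b * a)
    {q s : ℕ} : IsPGroup q (torsionBy A hA (q ^ s)) := by
  intro x
  refine ⟨s, ?_⟩
  apply Subtype.ext
  simpa using x.2.2

/-- **Centralizing an abelian subgroup, part by part.** -/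
theorem le_centralizer_of_parts [Finite X] {A K : Subgroup X} {q : ℕ} (hq : q.Prime)
    (hA : ∀ a ∈ A, ∀ b ∈ A, a * b = b * a) (hKA : K ≤ normalizer (A : Set X)) (hKq : IsPGroup q K)
    (h1 : ∀ T : Subgroup X, T ≤ K ⊔ A → IsPGroup q T → ∀ a ∈ T, ∀ b ∈ T, a * b = b * a)
    (h2 : ∀ B : Subgroup X, B ≤ A → (Nat.card B).Coprime q → K ≤ normalizer (B : Set X) →
      (∀ a ∈ B, ∀ b ∈ B, a * b = b * a) → B ≤ centralizer (K : Set X)) :
    A ≤ centralizer (K : Set X) := by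
  obtain ⟨n, hn⟩ : ∃ n, n = Nat.card A := ⟨_, rfl⟩
  have hn0 : n ≠ 0 := by rw [hn]; exact Nat.card_pos.ne'
  obtain ⟨s, hs⟩ : ∃ s, s = n.factorization q := ⟨_, rfl⟩
  obtain ⟨m, hm⟩ : ∃ m, m = n / q ^ s := ⟨_, rfl⟩
  have hmul : q ^ s * m = n := by rw [hm, hs]; exact Nat.ordProj_mul_ordCompl_eq_self n q
  have hcop : Nat.Coprime q m := by rw [hm, hs]; exact Nat.coprime_ordCompl hq hn0
  have hqm : ¬ q ∣ m := (Nat.Prime.coprime_iff_not_dvd hq).1 hcop
  have hcop' : Nat.Coprime (q ^ s) m := Nat.Coprime.pow_left s hcop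
  -- the two parts
  have hB : torsionBy A hA m ≤ centralizer (K : Set X) :=
    h2 _ (torsionBy_le A hA m) (card_torsionBy_coprime hA hq hqm) (le_normalizer_torsionBy hA m hKA)
      (fun a ha b hb => hA a ha.1 b hb.1)
  have hC : torsionBy A hA (q ^ s) ≤ centralizer (K : Set X) := by
    have hT : IsPGroup q ↥(K ⊔ torsionBy A hA (q ^ s)) :=
      IsPGroup.to_sup_of_normal_right' hKq (isPGroup_torsionBy hA) (le_normalizer_torsionBy hA _ hKA)
    have hab := h1 _ (sup_le_sup_left (torsionBy_le A hA _) K) hT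
    intro c hc
    rw [mem_centralizer_iff]
    intro k hk
    exact hab k (mem_sup_left hk) c (mem_sup_right hc)
  intro a ha
  have hpow : a ^ n = 1 := by
    have h := pow_card_eq_one' (G := ↥A) (x := ⟨a, ha⟩)
    rw [hn]
    have h' := congrArg Subtype.val h
    rw [Subgroup.coe_pow, Subgroup.coe_one] at h'
    exact h'
  have hb : a ^ (q ^ s) ∈ torsionBy A hA m := ⟨A.pow_mem ha _, by rw [← pow_mul, hmul, hpow]⟩
  have hc : a ^ m ∈ torsionBy A hA (q ^ s) :=
    ⟨A.pow_mem ha _, by rw [← pow_mul, mul_comm, hmul, hpow]⟩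
  have hbez : ((q ^ s : ℕ) : ℤ) * Nat.gcdA (q ^ s) m + (m : ℤ) * Nat.gcdB (q ^ s) m = 1 := by
    have := Nat.gcd_eq_gcd_ab (q ^ s) m
    rw [hcop'.gcd_eq_one] at this
    exact_mod_cast this.symm
  have hdec : a = (a ^ (q ^ s)) ^ (Nat.gcdA (q ^ s) m) * (a ^ m) ^ (Nat.gcdB (q ^ s) m) := by
    rw [← zpow_natCast, ← zpow_natCast, ← zpow_mul, ← zpow_mul, ← zpow_add, hbez, zpow_one]
  rw [hdec]
  exact (centralizer (K : Set X)).mul_mem ((centralizer (K : Set X)).zpow_mem (hB hb) _)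
    ((centralizer (K : Set X)).zpow_mem (hC hc) _)

end Cfsg.Agent.Helper33.BG147
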