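import Mathlib
import Cfsg.Prelude.Def_OddOrderLocal
import Cfsg.Agent.S1403
import Cfsg.Agent.S1404
import Cfsg.Agent.S1420
import Cfsg.Agent.Helper55.ShultSolv
import Cfsg.Agent.Helper68.BG12A
import Cfsg.Agent.Helper60.BGSigmaNe
import Cfsg.Agent.Helper60.BGAsmB
import Cfsg.Agent.Helper48.WielandtOrder
import Cfsg.Agent.Helper33.BG147A

/-!
# B-G Theorem 14.7 / 15.9 (S1435), piece (P3): the case `τ₂(H) = ∅` of `E ≤ M*`  -- helper33

Setting: `H` a maximal subgroup with `κ(H) = ∅`, `K ≤ H` of prime order `q` acting fixed point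
freely on `H_σ`, `E` a complement of `H_σ` in `H` containing `K`, `M*` a maximal subgroup with
`q ∈ σ(M*)`, `C_G(K) ≤ M*`.

* `derived_le_centralizer`: if moreover `τ₂(H) = ∅` then `K` centralizes `E' = ⁅E, E⁆`.
* `le_Mstar_of_derived_le_centralizer`: if `K` centralizes `E'` then `E ≤ M*` (and `K ⊔ E'` is an
  abelian normal subgroup of `E`).
-/

set_option autoImplicit false
set_option linter.style.haveILetI false
set_option linter.unusedVariables false

namespace Cfsg.Agent.Helper33.BG147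

open Subgroup
open scoped commutatorElement
open Cfsg.Agent.Helper29.BG10

variable {G : Type*} [Group G] [Finite G]

/-- the text of the frozen statement S1432 (after `hG`) -/
def H1432 (G : Type*) [Group G] [Finite G] : Prop :=
  ∀ (M : Subgroup G) (hM : IsCoatom M) (x : G) (hx : x ∈ Cfsg.sigmaCore M) (hx1 : x ≠ 1) (x' : G) (hx' : x' ∈ M ⊓ Subgroup.centralizer ({x} : Set G)) (hx'1 : x' ≠ 1)
    (hσ : ∀ p : ℕ, p.Prime → p ∣ orderOf x' → p ∉ Cfsg.sigma M),
    ((∀ p : ℕ, p.Prime → p ∣ orderOf x' → p ∈ Cfsg.kappa M) ∧ Subgroup.centralizer ({x} : Set G) ≤ M) ∨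
      ((∀ p : ℕ, p.Prime → p ∣ orderOf x' → p ∈ Cfsg.tau2 M) ∧
        (∃ L : Subgroup G, IsCoatom L ∧ ∀ p : ℕ, p.Prime → p ∣ orderOf x' → p ∈ Cfsg.sigma L) ∧
        (Subgroup.centralizer ({x'} : Set G) ≤ M ∧ ∀ L : Subgroup G, IsCoatom L → Subgroup.centralizer ({x'} : Set G) ≤ L → L = M))

/-- **Step 4 of #3780 when `τ₂(H) = ∅`**: `K` centralizes `E'`. -/
theorem derived_le_centralizer (hG : Cfsg.IsMinSimpleOddOrder G) (h1432 : H1432 G)
    {H : Subgroup G} (hH : IsCoatom H) {K : Subgroup G} {q : ℕ} (hq : q.Prime)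
    (hKq : Nat.card K = q) (hκ : Cfsg.kappa H = ∅) (hτ : Cfsg.tau2 H = ∅)
    (hfpf : Cfsg.sigmaCore H ⊓ Subgroup.centralizer (K : Set G) = ⊥)
    {E : Subgroup G} (hE : Cfsg.IsComplIn E (Cfsg.sigmaCore H) H) (hKE : K ≤ E) :
    ⁅E, E⁆ ≤ Subgroup.centralizer (K : Set G) := by
  classical
  haveI : Fact q.Prime := ⟨hq⟩
  have hU : UniquenessThm G := fun K hK hK2 hK3 => Cfsg.Agent.S1403.result hG K hK hK2 hK3
  have hctx := Cfsg.Agent.Helper68.BG12.eCtx_of hG hU hH hE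
  obtain ⟨h20a, h20b, -, -⟩ := Cfsg.Agent.S1420.result hG H hH E hE
  have hEH : E ≤ H := hE.1
  have hAE : ⁅E, E⁆ ≤ E := Subgroup.commutator_le_self E
  have hS1 : Cfsg.sigmaCore H ≠ ⊥ := Cfsg.Agent.Helper60.BGSigmaNe.sigmaCore_ne_bot hG H hH
  have hSH : Cfsg.sigmaCore H ≤ H := Cfsg.Agent.Helper68.BG12.sigmaCore_le H
  have hHsolv : Group.IsSolvable ↥H := hctx.solvable_M
  have hKp : IsPGroup q K := by
    exact IsPGroup.of_card (n := 1) (by rw [hKq, pow_one])
  have hKA : K ≤ normalizer ((⁅E, E⁆ : Subgroup G) : Set G) :=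
    (hKE.trans Subgroup.le_normalizer).trans
      (Cfsg.Agent.Helper48.normalizer_le_normalizer_commutator_self E)
  have hAab : ∀ a ∈ ⁅E, E⁆, ∀ b ∈ ⁅E, E⁆, a * b = b * a := by
    intro a ha b hb
    have := h20b.is_comm.comm ⟨a, ha⟩ ⟨b, hb⟩
    exact congrArg Subtype.val this
  have hKAE : K ⊔ ⁅E, E⁆ ≤ E := sup_le hKE hAE
  -- primes of subgroups of `E` avoid `σ(H)`
  have hprime : ∀ T : Subgroup G, T ≤ E → ∀ p : ℕ, p.Prime → p ∣ Nat.card T → p ∉ Cfsg.sigma H :=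
    fun T hT p hp hd => hctx.not_sigma_of_dvd p hp (hd.trans (Subgroup.card_dvd_of_le hT))
  refine le_centralizer_of_parts hq hAab hKA hKp ?_ ?_
  · -- `q`-subgroups of `E` are abelian
    intro T hT hTq a ha b hb
    have hTn : Group.IsNilpotent T := hTq.isNilpotent
    have := h20a T ((hT.trans hKAE).trans hEH) hTn (hprime T (hT.trans hKAE))
    have h := this.is_comm.comm ⟨a, ha⟩ ⟨b, hb⟩
    exact congrArg Subtype.val h
  · intro B hBA hBq hKB hBab
    have hBE : B ≤ E := hBA.trans hAE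
    have hBKE : B ⊔ K ≤ E := sup_le hBE hKE
    -- Shult: `⁅B, K⁆` centralizes `H_σ`
    have hNS : H ≤ normalizer ((Cfsg.sigmaCore H : Subgroup G) : Set G) :=
      Cfsg.Agent.Helper60.BGAsm.le_normalizer_sigmaCore H
    have hsolvBK : Group.IsSolvable ↥(B ⊔ K) :=
      Group.isSolvable_of_isSolvable_injective
        (Subgroup.inclusion_injective (hBKE.trans hEH))
    have hsolvS : Group.IsSolvable ↥(Cfsg.sigmaCore H) :=
      Group.isSolvable_of_isSolvable_injective (Subgroup.inclusion_injective hSH)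
    have hoddBK : Odd (Nat.card ↥(B ⊔ K)) :=
      Odd.of_dvd_nat hG.1 (Subgroup.card_subgroup_dvd_card _)
    have hcopE : (Nat.card E).Coprime (Nat.card (Cfsg.sigmaCore H)) := by
      apply Nat.coprime_of_dvd
      intro k hk hk1 hk2
      exact hctx.not_sigma_of_dvd k hk hk1 (hctx.sigma_of_dvd k hk hk2)
    have hcop : (Nat.card ↥(B ⊔ K)).Coprime (Nat.card (Cfsg.sigmaCore H)) :=
      Nat.Coprime.coprime_dvd_left (Subgroup.card_dvd_of_le hBKE) hcopE
    have hqB : ¬ q ∣ Nat.card B := by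
      intro hd
      have := Nat.Coprime.eq_one_of_dvd hBq.symm hd
      exact hq.one_lt.ne' this
    have hsh := Cfsg.Agent.Helper55.ShultSolv.commutator_le_centralizer_of_fpf_solvable
      (Cfsg.sigmaCore H) B K hsolvS hq hKq hKB ((hBE.trans hEH).trans hNS)
      ((hKE.trans hEH).trans hNS) hsolvBK hoddBK hcop hqB hfpf
    -- so `⁅B, K⁆ = ⊥`
    rw [← Subgroup.commutator_eq_bot_iff_le_centralizer]
    by_contra hne
    have hF1B : ⁅B, K⁆ ≤ B := Cfsg.Agent.Helper63.BG13F.commutator_le_left_of_le_normalizer hKB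
    -- an element `x` of prime order in `⁅B, K⁆`
    have hcard : Nat.card ↥⁅B, K⁆ ≠ 1 := fun h => hne (Subgroup.card_eq_one.1 h)
    obtain ⟨r, hr, hrd⟩ := Nat.exists_prime_and_dvd hcard
    haveI : Fact r.Prime := ⟨hr⟩
    obtain ⟨x, hx⟩ := exists_prime_orderOf_dvd_card' r hrd
    have hxo : orderOf (x : G) = r := by rw [← hx]; exact (Subgroup.orderOf_coe x)
    have hx1 : (x : G) ≠ 1 := by
      intro h
      rw [h, orderOf_one] at hxo
      exact hr.one_lt.ne hxo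
    have hxB : (x : G) ∈ B := hF1B x.2
    have hxE : (x : G) ∈ E := hBE hxB
    -- a nontrivial element `y` of `H_σ`
    obtain ⟨y, hy1⟩ := (Subgroup.ne_bot_iff_exists_ne_one).1 hS1
    have hyS : (y : G) ∈ Cfsg.sigmaCore H := y.2
    have hy1' : (y : G) ≠ 1 := fun h => hy1 (Subtype.ext h)
    have hxy : (x : G) ∈ H ⊓ Subgroup.centralizer ({(y : G)} : Set G) := by
      refine Subgroup.mem_inf.2 ⟨hEH hxE, ?_⟩
      rw [Subgroup.mem_centralizer_singleton_iff]
      have := (Subgroup.mem_centralizer_iff.1 (hsh x.2)) (y : G) hyS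
      exact this.symm
    have hσx : ∀ p : ℕ, p.Prime → p ∣ orderOf (x : G) → p ∉ Cfsg.sigma H := by
      intro p hp hd
      rw [hxo] at hd
      have hpr : p = r := (Nat.prime_dvd_prime_iff_eq hp hr).1 hd
      rw [hpr]
      apply hctx.not_sigma_of_dvd r hr
      exact hrd.trans (Subgroup.card_dvd_of_le (hF1B.trans hBE))
    rcases h1432 H hH (y : G) hyS hy1' (x : G) hxy hx1 hσx with ⟨hk, -⟩ | ⟨ht, -⟩
    · have : r ∈ Cfsg.kappa H := hk r hr (by rw [hxo])
      rw [hκ] at this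
      exact this
    · have : r ∈ Cfsg.tau2 H := ht r hr (by rw [hxo])
      rw [hτ] at this
      exact this

/-- **Step 5 of #3780**: if `K` centralizes `E'` then `E ≤ M*`. -/
theorem le_Mstar_of_derived_le_centralizer (hG : Cfsg.IsMinSimpleOddOrder G)
    {Mstar : Subgroup G} (hMstar : IsCoatom Mstar) {K : Subgroup G} {q : ℕ} (hq : q.Prime)
    (hKq : Nat.card K = q) (hqMs : q ∈ Cfsg.sigma Mstar) (hKMs : K ≤ Mstar)
    (hCK : Subgroup.centralizer (K : Set G) ≤ Mstar)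
    {E : Subgroup G} (hKE : K ≤ E) (hcen : ⁅E, E⁆ ≤ Subgroup.centralizer (K : Set G)) :
    E ≤ Mstar := by
  classical
  haveI : Fact q.Prime := ⟨hq⟩
  have hKp : IsPGroup q K := IsPGroup.of_card (n := 1) (by rw [hKq, pow_one])
  have hK1 : K ≠ ⊥ := by
    intro h
    rw [h, Subgroup.card_bot] at hKq
    exact hq.one_lt.ne hKq
  obtain ⟨h04, -⟩ := Cfsg.Agent.S1404.result hG Mstar hMstar q hqMs K hKp hK1 hKMs
  intro e he
  have hmap : K.map (MulAut.conj e).toMonoidHom ≤ Mstar := by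
    rintro _ ⟨k, hk, rfl⟩
    have h1 : ⁅e, k⁆ ∈ ⁅E, E⁆ := Subgroup.commutator_mem_commutator he (hKE hk)
    have h2 : (MulAut.conj e).toMonoidHom k = ⁅e, k⁆ * k := by
      simp [commutatorElement_def]
    rw [h2]
    exact Mstar.mul_mem (hCK (hcen h1)) (hKMs hk)
  obtain ⟨m, hm, c, hc, rfl⟩ := h04 e hmap
  exact Mstar.mul_mem hm (hCK hc)

/-- **(P3)**: the case `τ₂(H) = ∅` of `E ≤ M*`. -/
theorem le_Mstar_of_tau2_empty (hG : Cfsg.IsMinSimpleOddOrder G) (h1432 : H1432 G)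
    {H : Subgroup G} (hH : IsCoatom H) {Mstar : Subgroup G} (hMstar : IsCoatom Mstar)
    {K : Subgroup G} {q : ℕ} (hq : q.Prime) (hKq : Nat.card K = q)
    (hqMs : q ∈ Cfsg.sigma Mstar) (hKMs : K ≤ Mstar)
    (hCK : Subgroup.centralizer (K : Set G) ≤ Mstar)
    (hκ : Cfsg.kappa H = ∅) (hτ : Cfsg.tau2 H = ∅)
    (hfpf : Cfsg.sigmaCore H ⊓ Subgroup.centralizer (K : Set G) = ⊥)
    {E : Subgroup G} (hE : Cfsg.IsComplIn E (Cfsg.sigmaCore H) H) (hKE : K ≤ E) : E ≤ Mstar :=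
  le_Mstar_of_derived_le_centralizer hG hMstar hq hKq hqMs hKMs hCK hKE
    (derived_le_centralizer hG h1432 hH hq hKq hκ hτ hfpf hE hKE)

end Cfsg.Agent.Helper33.BG147
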