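import Mathlib
import Cfsg.Prelude.Def_Classical
import Cfsg.Agent.Helper84.RUn.Defs

set_option autoImplicit false
set_option linter.unusedSectionVars false

namespace Cfsg.Agent.Helper33.RUn

open Matrix Cfsg.Agent.Helper84.PSU Cfsg.Agent.Helper84.RUn

variable {K : Type*} [Field K] {j : ℕ}

local notation "Vec" => (I (j + 2) 1 → K)
local notation "Mat" => Matrix (I (j + 2) 1) (I (j + 2) 1) K
local notation "Mk" => Matrix (Fin (j + 2)) (Fin (j + 2)) K

variable (bar : K →+* K) (hb : ∀ x, bar (bar x) = x)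

/-- a matrix times a basis vector is a column -/
theorem mulVec_bv_UWA (M : Mat) (z : I (j + 2) 1) : M *ᵥ (bv z : Vec) = fun y => M y z := by
  unfold bv
  rw [Matrix.mulVec_single_one]
  rfl

/-- the action of `UW'` on a basis vector -/
theorem UWM_bv_UWA (c : K) (z : I (j + 2) 1) :
    UWM bar c *ᵥ (bv z : Vec) = fun y =>
      lvM (MpM : Mk) 1 MqM y z + (bv z : Vec) (fI im) * lvM (MpM : Mk) 1 MqM y (wI 0)
        - (bv z : Vec) (wI 0) * lvM (MpM : Mk) 1 MqM y (eI im)
        + c * (bv z : Vec) (fI im) * lvM (MpM : Mk) 1 MqM y (eI im) := by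
  unfold UWM vE vW
  rw [← Matrix.mulVec_mulVec, eichM_mulVec, hf_bv_right, hf_bv_right, Matrix.mulVec_add,
    Matrix.mulVec_sub, Matrix.mulVec_add, Matrix.mulVec_smul, Matrix.mulVec_smul, Matrix.mulVec_smul,
    mulVec_bv_UWA, mulVec_bv_UWA, mulVec_bv_UWA]
  funext y
  simp only [Pi.add_apply, Pi.sub_apply, Pi.smul_apply, smul_eq_mul, op_eI, op_wI]

theorem bv_e_f_UWA (l i : Fin (j + 2)) : (bv (eI l) : Vec) (fI i) = 0 := by
  rw [bv_apply, if_neg (by simp)]

theorem bv_e_w_UWA (l : Fin (j + 2)) : (bv (eI l) : Vec) (wI 0) = 0 := by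
  rw [bv_apply, if_neg (by simp)]

theorem UWM_vE_gen_UWA (c : K) (l : Fin (j + 2)) :
    UWM bar c *ᵥ (vE l : Vec) = fun y => lvM (MpM : Mk) 1 MqM y (eI l) := by
  unfold vE
  rw [UWM_bv_UWA]
  funext y
  rw [bv_e_f_UWA, bv_e_w_UWA]
  ring

theorem UWM_vE1 (c : K) : UWM bar c *ᵥ (vE i1 : Vec) = vE i1 := by
  rw [UWM_vE_gen_UWA]
  funext y
  rcases y with i | a | i
  · show (MpM : Mk) i i1 = (bv (eI i1) : Vec) (eI i)
    rw [bv_apply]
    unfold MpM i1
    simp only [Matrix.of_apply, Sum.inl.injEq, Fin.ext_iff]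
    split_ifs <;> first | rfl | (exfalso; omega)
  · show (0 : K) = (bv (eI i1) : Vec) (wI a)
    rw [bv_apply, if_neg (by simp)]
  · show (0 : K) = (bv (eI i1) : Vec) (fI i)
    rw [bv_apply, if_neg (by simp)]

/-- `UW' e_l = e_2 + ... + e_l` for `l ≥ 2` -/
theorem UWM_vE (c : K) (l : Fin (j + 2)) (hl : 1 ≤ l.val) : UWM bar c *ᵥ (vE l : Vec) = pE l := by
  rw [UWM_vE_gen_UWA]
  funext y
  rcases y with i | a | i
  · show (MpM : Mk) i l = (pE l : Vec) (eI i)
    unfold MpM pE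
    simp only [Matrix.of_apply, Fin.ext_iff]
    split_ifs <;> first | rfl | (exfalso; omega)
  · rfl
  · rfl

theorem UWM_vE2 (c : K) : UWM bar c *ᵥ (vE i2 : Vec) = vE i2 := by
  rw [UWM_vE_gen_UWA]
  funext y
  rcases y with i | a | i
  · show (MpM : Mk) i i2 = (bv (eI i2) : Vec) (eI i)
    rw [bv_apply]
    unfold MpM i2
    simp only [Matrix.of_apply, Sum.inl.injEq, Fin.ext_iff]
    split_ifs <;> first | rfl | (exfalso; omega)
  · show (0 : K) = (bv (eI i2) : Vec) (wI a)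
    rw [bv_apply, if_neg (by simp)]
  · show (0 : K) = (bv (eI i2) : Vec) (fI i)
    rw [bv_apply, if_neg (by simp)]

theorem bv_f_w_UWA (l : Fin (j + 2)) : (bv (fI l) : Vec) (wI 0) = 0 := by
  rw [bv_apply, if_neg (by simp)]

theorem bv_w_f_UWA (i : Fin (j + 2)) : (bv (wI 0) : Vec) (fI i) = 0 := by
  rw [bv_apply, if_neg (by simp)]

theorem UWM_vF_gen_UWA (c : K) (l : Fin (j + 2)) (hl : l.val < j + 1) :
    UWM bar c *ᵥ (vF l : Vec) = fun y => lvM (MpM : Mk) 1 MqM y (fI l) := by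
  unfold vF
  rw [UWM_bv_UWA]
  funext y
  have h0 : (bv (fI l) : Vec) (fI im) = 0 := by
    rw [bv_apply, if_neg]
    unfold im
    simp only [Sum.inr.injEq, Fin.ext_iff]
    omega
  rw [h0, bv_f_w_UWA]
  ring

theorem UWM_vF1 (c : K) : UWM bar c *ᵥ (vF i1 : Vec) = vF i1 := by
  rw [UWM_vF_gen_UWA bar c i1 (by unfold i1; simp)]
  funext y
  rcases y with i | a | i
  · show (0 : K) = (bv (fI i1) : Vec) (eI i)
    rw [bv_apply, if_neg (by simp)]
  · show (0 : K) = (bv (fI i1) : Vec) (wI a)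
    rw [bv_apply, if_neg (by simp)]
  · show (MqM : Mk) i i1 = (bv (fI i1) : Vec) (fI i)
    rw [bv_apply]
    unfold MqM i1
    simp only [Matrix.of_apply, Sum.inr.injEq, Fin.ext_iff]
    split_ifs <;> first | rfl | (exfalso; omega)

theorem UWM_vF (c : K) (l : Fin (j + 2)) (hl : 1 ≤ l.val) (hl' : l.val < j + 1) :
    UWM bar c *ᵥ (vF l : Vec) = vF l - vF ⟨l.val + 1, by omega⟩ := by
  rw [UWM_vF_gen_UWA bar c l hl']
  funext y
  unfold vF
  rw [Pi.sub_apply]
  rcases y with i | a | i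
  · show (0 : K) = (bv (fI l) : Vec) (eI i) - (bv (fI ⟨l.val + 1, by omega⟩) : Vec) (eI i)
    rw [bv_apply, bv_apply, if_neg (by simp), if_neg (by simp), sub_zero]
  · show (0 : K) = (bv (fI l) : Vec) (wI a) - (bv (fI ⟨l.val + 1, by omega⟩) : Vec) (wI a)
    rw [bv_apply, bv_apply, if_neg (by simp), if_neg (by simp), sub_zero]
  · show (MqM : Mk) i l = (bv (fI l) : Vec) (fI i) - (bv (fI ⟨l.val + 1, by omega⟩) : Vec) (fI i)
    rw [bv_apply, bv_apply]
    unfold MqM
    simp only [Matrix.of_apply, Sum.inr.injEq, Fin.ext_iff]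
    split_ifs <;> first | (exfalso; omega) | simp

theorem UWM_vFm (c : K) : UWM bar c *ᵥ (vF im : Vec) = vF im + vW + c • sE := by
  unfold vF
  rw [UWM_bv_UWA]
  funext y
  have h1 : (bv (fI im) : Vec) (fI im) = 1 := by rw [bv_apply, if_pos rfl]
  rw [h1, bv_f_w_UWA, Pi.add_apply, Pi.add_apply, Pi.smul_apply, smul_eq_mul]
  unfold vW
  rcases y with i | a | i
  · show (0 : K) + 1 * 0 - 0 * (MpM : Mk) i im + c * 1 * (MpM : Mk) i im =
      (bv (fI im) : Vec) (eI i) + (bv (wI 0) : Vec) (eI i) + c * (sE : Vec) (eI i)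
    rw [bv_apply, bv_apply, if_neg (by simp), if_neg (by simp)]
    unfold MpM sE im
    simp only [Matrix.of_apply, Fin.ext_iff]
    split_ifs <;> first | (exfalso; omega) | ring
  · show (0 : K) + 1 * (1 : Matrix (Fin 1) (Fin 1) K) a 0 - 0 * 0 + c * 1 * 0 =
      (bv (fI im) : Vec) (wI a) + (bv (wI 0) : Vec) (wI a) + c * (sE : Vec) (wI a)
    have ha : a = 0 := Subsingleton.elim _ _
    subst ha
    rw [bv_apply, bv_apply, if_neg (by simp), if_pos rfl, Matrix.one_apply_eq]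
    show _ = (0 : K) + 1 + c * 0
    ring
  · show (MqM : Mk) i im + 1 * 0 - 0 * 0 + c * 1 * 0 =
      (bv (fI im) : Vec) (fI i) + (bv (wI 0) : Vec) (fI i) + c * (sE : Vec) (fI i)
    rw [bv_apply, bv_apply, if_neg (show ¬ (fI i : I (j + 2) 1) = wI 0 by simp)]
    show _ = _ + 0 + c * 0
    unfold MqM im
    simp only [Matrix.of_apply, Sum.inr.injEq, Fin.ext_iff]
    split_ifs <;> first | (exfalso; omega) | ring

theorem UWM_vW (c : K) : UWM bar c *ᵥ (vW : Vec) = vW - sE := by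
  unfold vW
  rw [UWM_bv_UWA]
  funext y
  have h1 : (bv (wI 0) : Vec) (wI 0) = 1 := by rw [bv_apply, if_pos rfl]
  rw [h1, bv_w_f_UWA, Pi.sub_apply]
  rcases y with i | a | i
  · show (0 : K) + 0 * 0 - 1 * (MpM : Mk) i im + c * 0 * (MpM : Mk) i im =
      (bv (wI 0) : Vec) (eI i) - (sE : Vec) (eI i)
    rw [bv_apply, if_neg (by simp)]
    unfold MpM sE im
    simp only [Matrix.of_apply, Fin.ext_iff]
    split_ifs <;> first | (exfalso; omega) | ring
  · show (1 : Matrix (Fin 1) (Fin 1) K) a 0 + 0 * (1 : Matrix (Fin 1) (Fin 1) K) a 0 - 1 * 0 + c * 0 * 0 =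
      (bv (wI 0) : Vec) (wI a) - (sE : Vec) (wI a)
    have ha : a = 0 := Subsingleton.elim _ _
    subst ha
    rw [bv_apply, if_pos rfl, Matrix.one_apply_eq]
    show _ = (1 : K) - 0
    ring
  · show (0 : K) + 0 * 0 - 1 * 0 + c * 0 * 0 = (bv (wI 0) : Vec) (fI i) - (sE : Vec) (fI i)
    rw [bv_apply, if_neg (by simp)]
    show _ = (0 : K) - 0
    ring

theorem UWM_vB (c : K) : UWM bar c *ᵥ (vB : Vec) = vB - (dB K j) • vE i2 := by
  unfold vB dB
  by_cases h : 1 ≤ j
  · rw [dif_pos h, if_pos h]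
    have := UWM_vE bar c (⟨2, by omega⟩ : Fin (j + 2)) (by simp)
    unfold vE at this
    rw [this]
    funext y
    unfold vE
    rw [Pi.sub_apply, Pi.smul_apply, smul_eq_mul]
    rcases y with i | a | i
    · show (pE (⟨2, by omega⟩ : Fin (j + 2)) : Vec) (eI i) = _
      rw [bv_apply, bv_apply]
      unfold pE i2
      simp only [Sum.inl.injEq, Fin.ext_iff]
      split_ifs <;> first | (exfalso; omega) | ring
    · show (0 : K) = _
      rw [bv_apply, bv_apply, if_neg (by simp), if_neg (by simp)]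
      ring
    · show (0 : K) = _
      rw [bv_apply, bv_apply, if_neg (by simp), if_neg (by simp)]
      ring
  · rw [dif_neg h, if_neg h]
    have := UWM_vW bar c (j := j)
    unfold vW at this
    rw [this, one_smul]
    congr 1
    funext y
    unfold vE
    rcases y with i | a | i
    · show (sE : Vec) (eI i) = _
      rw [bv_apply]
      unfold sE i2
      simp only [Sum.inl.injEq, Fin.ext_iff]
      have := i.2
      split_ifs <;> first | rfl | (exfalso; omega)
    · show (0 : K) = _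
      rw [bv_apply, if_neg (by simp)]
    · show (0 : K) = _
      rw [bv_apply, if_neg (by simp)]

end Cfsg.Agent.Helper33.RUn
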