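import Mathlib
import Cfsg.Prelude.Def_Characters
import Cfsg.Prelude.Def_Blocks
import Cfsg.Agent.Helper3.DixonDefs
import Cfsg.Agent.Helper80.CharLevel
import Cfsg.Agent.Helper80.Pullback
import Cfsg.Agent.Helper80.ItoConv
import Cfsg.Agent.Helper15.CliffordCorr
import Cfsg.Agent.Helper76.CentralType
import Cfsg.Agent.Helper71.SolvMax

/-!
# (CT1) central type: `ψ(1)² = [E : Z(G)]` (for helper3's S4467, Dixon's theorem)
-/

set_option autoImplicit false
set_option linter.unusedVariables false

namespace Cfsg.Agent.Helper33.Dixon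

open Cfsg
open scoped commutatorElement ComplexConjugate

universe u

theorem sq_eq_relIndex_center {G : Type u} [Group G] [Fintype G] (χ : IrrCharacter G)
    (hfaith : ∀ g : G, (χ : G → ℂ) g = (χ : G → ℂ) 1 → g = 1)
    (E : Subgroup G) [Fintype E] (hZE : Subgroup.center G ≤ E)
    (hcomm : ∀ x ∈ E, ∀ y ∈ E, ⁅x, y⁆ ∈ Subgroup.center G)
    (hcen : ∀ x ∈ E, (∀ y ∈ E, x * y = y * x) → x ∈ Subgroup.center G)
    (ψ : E → ℂ) (hψ : IsIrrCharacter E ψ)
    (hψχ : classInner (fun a : E => (χ : G → ℂ) a) ψ ≠ 0) :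
    charDegree ψ ^ 2 = (Subgroup.center G).relIndex E := by
  classical
  -- the centre of `E`
  have hcenE : Subgroup.center E = (Subgroup.center G).subgroupOf E := by
    ext x
    rw [Subgroup.mem_center_iff, Subgroup.mem_subgroupOf]
    constructor
    · intro h
      apply hcen x.1 x.2
      intro y hy
      have h1 := h ⟨y, hy⟩
      have h2 := congrArg Subtype.val h1
      simp only [Subgroup.coe_mul] at h2
      exact h2.symm
    · intro h g
      apply Subtype.ext
      simp only [Subgroup.coe_mul]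
      exact Subgroup.mem_center_iff.1 h g.1
  -- central elements `≠ 1` are not in the kernel of `ψ`
  have hker : ∀ z : E, z ∈ Subgroup.center E → ψ z = ψ 1 → z = 1 := by
    intro z hz hψz
    have hzG : (z : G) ∈ Subgroup.center G := by
      rw [hcenE, Subgroup.mem_subgroupOf] at hz
      exact hz
    obtain ⟨ω, hω⟩ := Helper80.IsIrrCharacter.exists_central_scalar χ.2 hzG
    obtain ⟨ω', hω'⟩ := Helper80.IsIrrCharacter.exists_central_scalar hψ hz
    have hψ1 : ψ 1 ≠ 0 := Helper80.IsIrrCharacter.map_one_ne_zero hψ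
    have hω'1 : ω' = 1 := by
      have h1 := hω' 1
      rw [one_mul, hψz] at h1
      have h3 : (ω' - 1) * ψ 1 = 0 := by linear_combination -h1
      rcases mul_eq_zero.1 h3 with h | h
      · linear_combination h
      · exact absurd h hψ1
    have hS : ∑ a : E, (χ : G → ℂ) a * conj (ψ a) ≠ 0 := by
      intro h0
      apply hψχ
      unfold classInner
      rw [h0, mul_zero]
    have hre : ∑ a : E, (χ : G → ℂ) ((a * z : E) : G) * conj (ψ (a * z)) =
        ∑ a : E, (χ : G → ℂ) a * conj (ψ a) :=
      Fintype.sum_equiv (Equiv.mulRight z) _ _ (fun a => rfl)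
    have hω1 : ω = 1 := by
      have h4 : ∑ a : E, (χ : G → ℂ) a * conj (ψ a) =
          ω * ∑ a : E, (χ : G → ℂ) a * conj (ψ a) := by
        conv_lhs => rw [← hre]
        rw [Finset.mul_sum]
        apply Finset.sum_congr rfl
        intro a _
        rw [Subgroup.coe_mul, hω, hω', hω'1, one_mul]
        ring
      have h5 : (ω - 1) * ∑ a : E, (χ : G → ℂ) a * conj (ψ a) = 0 := by
        linear_combination -h4
      rcases mul_eq_zero.1 h5 with h | h
      · linear_combination h
      · exact absurd h hS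
    have hχz : (χ : G → ℂ) z = (χ : G → ℂ) 1 := by
      have h1 := hω 1
      rw [one_mul, hω1, one_mul] at h1
      exact h1
    exact Subtype.ext (hfaith z hχz)
  -- vanishing off the centre
  have hvan : ∀ x : E, x ∉ Subgroup.center E → ψ x = 0 := by
    intro x hx
    rw [Subgroup.mem_center_iff] at hx
    push Not at hx
    obtain ⟨y, hy⟩ := hx
    obtain ⟨z, hz⟩ : ∃ z : E, z = x⁻¹ * y⁻¹ * x * y := ⟨_, rfl⟩
    have hzc : z ∈ Subgroup.center E := by
      rw [hcenE, Subgroup.mem_subgroupOf]
      have h1 : ((z : E) : G) = ⁅(x : G)⁻¹, (y : G)⁻¹⁆ := by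
        rw [commutatorElement_def, hz]
        simp
      rw [h1]
      exact hcomm _ (E.inv_mem x.2) _ (E.inv_mem y.2)
    have hxy : x * y = y * x * z := by
      rw [hz]
      group
    apply Helper76.irr_eq_zero_of_commutator hψ hzc hxy
    intro hψz
    have hz1 := hker z hzc hψz
    apply hy
    rw [hxy, hz1, mul_one]
  have hfin := Helper76.charDegree_sq_eq_index_center_of_vanish hψ hvan
  rw [hfin, hcenE]
  rfl

end Cfsg.Agent.Helper33.Dixon
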