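import Mathlib
import Cfsg.Agent.Helper30.HallSym.Defs
import Cfsg.Agent.Helper64.Basic

/-!
# Hall subgroups of symmetric groups, piece (G-D) of board post #6082 (helper30):
a subgroup of `Perm α` of index prime to `p ≤ |α|` contains a `p`-cycle.
-/

set_option autoImplicit false

namespace Cfsg.Agent.Helper33.HallSym

open Equiv Equiv.Perm MulAction Subgroup Cfsg Cfsg.Agent.Helper30.HallSym
open scoped Nat

universe u

/-- there is a `p`-cycle in `Perm α` when `2 ≤ p ≤ |α|` -/
theorem exists_cycle_card {α : Type u} [Fintype α] [DecidableEq α] {p : ℕ} (hp2 : 2 ≤ p)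
    (hp : p ≤ Fintype.card α) : ∃ c : Perm α, c.IsCycle ∧ c.support.card = p := by
  obtain ⟨s, -, hs⟩ := Finset.exists_subset_card_eq (s := (Finset.univ : Finset α))
    (n := p) (by rw [Finset.card_univ]; exact hp)
  have hnd : s.toList.Nodup := s.nodup_toList
  have hlen : s.toList.length = p := by rw [Finset.length_toList, hs]
  refine ⟨s.toList.formPerm, List.isCycle_formPerm hnd (by omega), ?_⟩
  rw [List.support_formPerm_of_nodup _ hnd, Finset.toList_toFinset, hs]
  intro x hx
  have := congrArg List.length hx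
  rw [hlen] at this
  simp at this
  omega

/-- (G-D) -/
theorem exists_prime_cycle_mem {α : Type u} [Fintype α] [DecidableEq α] {p : ℕ} [Fact p.Prime]
    (hp : p ≤ Fintype.card α) (H : Subgroup (Perm α)) (hH : ¬ p ∣ H.index) :
    ∃ c ∈ H, c.IsCycle ∧ c.support.card = p := by
  have hp2 : 2 ≤ p := (Fact.out : p.Prime).two_le
  obtain ⟨c0, hcyc, hsupp⟩ := exists_cycle_card (α := α) hp2 hp
  have hord : orderOf c0 = p := by rw [hcyc.orderOf, hsupp]
  have hpg : IsPGroup p (zpowers c0) := by
    apply IsPGroup.of_card (n := 1)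
    rw [Nat.card_zpowers, hord, pow_one]
  obtain ⟨g, hg⟩ := Helper64.exists_le_map_conj_of_not_dvd_index _ hpg H hH
  have h1 := (Helper64.mem_map_conj _ _ _).mp (hg (mem_zpowers _))
  refine ⟨g⁻¹ * c0 * g, h1, ?_, ?_⟩
  · have := hcyc.conj (g := g⁻¹)
    simpa using this
  · have := card_support_conj (σ := g⁻¹) (τ := c0)
    simp only [inv_inv] at this
    rw [this, hsupp]

end Cfsg.Agent.Helper33.HallSym
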