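import Mathlib
import Cfsg.Agent.Helper30.HallSym.Defs
import Cfsg.Agent.Helper33.HallSymGD
import Cfsg.Agent.S0713

/-!
# Hall subgroups of symmetric groups, piece (G-C) of board post #6082 (helper30):
a primitive Hall `π`-subgroup of `Perm α` with two primes of `π` up to `|α|` has all of them.
-/

set_option autoImplicit false

namespace Cfsg.Agent.Helper33.HallSym

open Equiv Equiv.Perm MulAction Subgroup Cfsg Cfsg.Agent.Helper30.HallSym
open scoped Nat

universe u

/-- Lemma B: in a group of order dividing `d r` (`d = r + 2` twin primes), a cyclic subgroup of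
order `d` is normal. -/
theorem conj_mem_zpowers_of_card_dvd {G : Type*} [Group G] [Finite G] {d r : ℕ}
    [hd : Fact d.Prime] (hr : r.Prime) (hdr : d = r + 2) (hr3 : 3 ≤ r)
    (hcard : Nat.card G ∣ d * r) (c c' : G) (hc : orderOf c = d) :
    c' * c * c'⁻¹ ∈ Subgroup.zpowers c := by
  have hdp : d.Prime := hd.out
  have hpg : IsPGroup d (zpowers c) := by
    apply IsPGroup.of_card (n := 1)
    rw [Nat.card_zpowers, hc, pow_one]
  obtain ⟨P, hP⟩ := hpg.exists_le_sylow
  have hmod : Nat.card (Sylow d G) ≡ 1 [MOD d] := card_sylow_modEq_one d G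
  have hdiv : Nat.card (Sylow d G) ∣ d * r :=
    (Sylow.card_dvd_index P).trans (((P : Subgroup G).index_dvd_card).trans hcard)
  have hnd : ¬ d ∣ Nat.card (Sylow d G) := by
    intro h
    have h0 : Nat.card (Sylow d G) ≡ 0 [MOD d] := (Nat.modEq_zero_iff_dvd).mpr h
    have := h0.symm.trans hmod
    have h1 : (0 : ℕ) % d = 1 % d := this
    rw [Nat.zero_mod, Nat.mod_eq_of_lt hdp.one_lt] at h1
    omega
  have hcop : Nat.Coprime (Nat.card (Sylow d G)) d :=
    ((Nat.Prime.coprime_iff_not_dvd hdp).2 hnd).symm
  have hnr : Nat.card (Sylow d G) ∣ r := by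
    exact hcop.dvd_of_dvd_mul_left hdiv
  have hn1 : Nat.card (Sylow d G) = 1 := by
    rcases (Nat.dvd_prime hr).mp hnr with h | h
    · exact h
    · exfalso
      rw [h] at hmod
      have h1 : r % d = 1 % d := hmod
      rw [Nat.mod_eq_of_lt (by omega), Nat.mod_eq_of_lt hdp.one_lt] at h1
      omega
  haveI : Subsingleton (Sylow d G) := (Nat.card_eq_one_iff_unique.mp hn1).1
  have hnorm : (P : Subgroup G).Normal := Sylow.normal_of_subsingleton P
  have hcP : c ∈ (P : Subgroup G) := hP (mem_zpowers c)
  have hconj : c' * c * c'⁻¹ ∈ (P : Subgroup G) := hnorm.conj_mem c hcP c'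
  -- `|P| ≤ d`
  obtain ⟨k, hk⟩ := P.isPGroup'.exists_card_eq
  have hPd : Nat.card (P : Subgroup G) ∣ d := by
    have h1 : Nat.card (P : Subgroup G) ∣ d * r := ((P : Subgroup G).card_subgroup_dvd_card).trans hcard
    have hcop2 : Nat.Coprime (Nat.card (P : Subgroup G)) r := by
      rw [hk]
      apply Nat.Coprime.pow_left
      rw [Nat.coprime_primes hdp hr]
      omega
    exact hcop2.dvd_of_dvd_mul_right h1
  have hle : Nat.card (P : Subgroup G) ≤ Nat.card (zpowers c) := by
    rw [Nat.card_zpowers, hc]
    exact Nat.le_of_dvd hdp.pos hPd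
  have heq := Subgroup.eq_of_le_of_card_ge hP hle
  rw [heq]
  exact hconj

/-- Lemma A: a full `d`-cycle is not normalized by a `(d-2)`-cycle (`d` prime). -/
theorem false_of_cycles {α : Type u} [Fintype α] [DecidableEq α] {d r : ℕ}
    [hd : Fact d.Prime] (hdr : d = r + 2) (hr1 : 1 ≤ r) (hcard : Fintype.card α = d)
    (c c' : Perm α) (hc : c.IsCycle) (hcs : c.support.card = d) (hc' : c'.IsCycle)
    (hcs' : c'.support.card = r) (k : ℕ) (hk : c' * c * c'⁻¹ = c ^ k) : False := by
  have hdp : d.Prime := hd.out
  have hoc : orderOf c = d := by rw [hc.orderOf, hcs]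
  have hoc' : orderOf c' = r := by rw [hc'.orderOf, hcs']
  have hpow : ∀ m : ℕ, c' ^ m * c * (c' ^ m)⁻¹ = c ^ (k ^ m) := by
    intro m
    induction m with
    | zero => simp
    | succ m ih =>
      calc c' ^ (m + 1) * c * (c' ^ (m + 1))⁻¹
          = c' * (c' ^ m * c * (c' ^ m)⁻¹) * c'⁻¹ := by
            rw [pow_succ']; group
        _ = c' * c ^ (k ^ m) * c'⁻¹ := by rw [ih]
        _ = (c' * c * c'⁻¹) ^ (k ^ m) := by rw [conj_pow]
        _ = c ^ (k ^ (m + 1)) := by rw [hk, ← pow_mul, pow_succ']
  have h1 := hpow r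
  rw [← hoc', pow_orderOf_eq_one, hoc'] at h1
  simp only [one_mul, inv_one, mul_one] at h1
  have h2 : c ^ 1 = c ^ (k ^ r) := by rw [pow_one]; exact h1
  have h3 : 1 ≡ k ^ r [MOD d] := by
    rw [← hoc]; exact pow_eq_pow_iff_modEq.mp h2
  have h4 : ((k : ZMod d)) ^ r = 1 := by
    have := (ZMod.natCast_eq_natCast_iff _ _ _).mpr h3
    push_cast at this
    exact this.symm
  have hk0 : (k : ZMod d) ≠ 0 := by
    intro h0
    rw [h0, zero_pow (by omega)] at h4
    exact zero_ne_one h4
  have h5 : (k : ZMod d) ^ (d - 1) = 1 := ZMod.pow_card_sub_one_eq_one hk0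
  have h6 : (k : ZMod d) = 1 := by
    have e : d - 1 = r + 1 := by omega
    rw [e, pow_succ, h4, one_mul] at h5
    exact h5
  have h7 : k ≡ 1 [MOD d] := by
    have : ((k : ℕ) : ZMod d) = ((1 : ℕ) : ZMod d) := by rw [h6]; simp
    exact (ZMod.natCast_eq_natCast_iff _ _ _).mp this
  have h8 : c ^ k = c := by
    have : c ^ k = c ^ 1 := by
      rw [pow_eq_pow_iff_modEq, hoc]; exact h7
    rw [this, pow_one]
  rw [h8] at hk
  have hcomm : c' * c = c * c' := by
    calc c' * c = (c' * c * c'⁻¹) * c' := by group
      _ = c * c' := by rw [hk]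
  -- `c'` has a fixed point
  have hsupp : c.support = Finset.univ := by
    apply Finset.eq_univ_of_card
    rw [hcs, hcard]
  obtain ⟨a, ha⟩ : ∃ a, a ∉ c'.support := by
    by_contra hcon
    push Not at hcon
    have : c'.support = Finset.univ := Finset.eq_univ_iff_forall.mpr hcon
    rw [this, Finset.card_univ, hcard] at hcs'
    omega
  have hfa : c' a = a := by
    rwa [Equiv.Perm.mem_support, not_not] at ha
  have hall : ∀ x, c x ≠ x := by
    intro x
    rw [← Equiv.Perm.mem_support, hsupp]
    exact Finset.mem_univ x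
  have hcomm_pow : ∀ i : ℕ, c' * c ^ i = c ^ i * c' := by
    intro i
    induction i with
    | zero => simp
    | succ i ih =>
      calc c' * c ^ (i + 1) = (c' * c ^ i) * c := by rw [pow_succ, mul_assoc]
        _ = c ^ i * (c' * c) := by rw [ih, mul_assoc]
        _ = c ^ (i + 1) * c' := by rw [hcomm, ← mul_assoc, ← pow_succ]
  have hone : c' = 1 := by
    ext x
    obtain ⟨i, hi⟩ := hc.exists_pow_eq (hall a) (hall x)
    rw [← hi]
    have := congrArg (fun f : Perm α => f a) (hcomm_pow i)
    simp only [Perm.mul_apply] at this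
    rw [this, hfa]
    simp
  exact hc'.ne_one hone

/-- (G-C) -/
theorem primitive_hall_allIn {α : Type u} [Fintype α] [DecidableEq α] {π : Set ℕ}
    (H : Subgroup (Perm α)) (hH : IsPiHall π H) (hprim : IsPreprimitive H α)
    (h2 : ¬ AtMostOne π (Fintype.card α)) : AllIn π (Fintype.card α) := by
  classical
  have h2' : ∃ r s : ℕ, r.Prime ∧ s.Prime ∧ r ∈ π ∧ s ∈ π ∧ r ≤ Fintype.card α ∧
      s ≤ Fintype.card α ∧ r ≠ s := by
    unfold AtMostOne at h2
    push Not at h2
    obtain ⟨r, s, h⟩ := h2
    exact ⟨r, s, h⟩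
  obtain ⟨r, s, hr, hs, hrπ, hsπ, hrd, hsd, hrs⟩ := h2'
  wlog hlt : r < s generalizing r s
  · exact this s r hs hr hsπ hrπ hsd hrd (Ne.symm hrs)
      (lt_of_le_of_ne (not_lt.mp hlt) (Ne.symm hrs))
  intro q hq hqd
  by_cases hd4 : Fintype.card α ≤ 4
  · -- the two primes are 2 and 3
    have hs4 : s ≤ 4 := hsd.trans hd4
    have hq4 : q ≤ 4 := hqd.trans hd4
    have hs3 : s = 3 := by
      interval_cases s
      · exact absurd hs (by decide)
      · exact absurd hs (by decide)
      · exfalso
        have : r ≤ 1 := by omega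
        interval_cases r
        · exact absurd hr (by decide)
        · exact absurd hr (by decide)
      · rfl
      · exact absurd hs (by decide)
    have hr2 : r = 2 := by
      have : r ≤ 2 := by omega
      interval_cases r
      · exact absurd hr (by decide)
      · exact absurd hr (by decide)
      · rfl
    interval_cases q
    · exact absurd hq (by decide)
    · exact absurd hq (by decide)
    · rw [← hr2]; exact hrπ
    · rw [← hs3]; exact hsπ
    · exact absurd hq (by decide)
  · push Not at hd4
    have hcyc : ∀ t : ℕ, t.Prime → t ∈ π → t ≤ Fintype.card α →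
        ∃ c ∈ H, c.IsCycle ∧ c.support.card = t := by
      intro t ht htπ htd
      haveI : Fact t.Prime := ⟨ht⟩
      exact exists_prime_cycle_mem htd H (hH.2 t ht htπ)
    by_cases hJ : ∃ t : ℕ, t.Prime ∧ t ∈ π ∧ t + 3 ≤ Fintype.card α
    · obtain ⟨t, ht, htπ, ht3⟩ := hJ
      obtain ⟨c, hcH, hc, hcs⟩ := hcyc t ht htπ (by omega)
      have hA : alternatingGroup α ≤ H :=
        Cfsg.Agent.S0713.result H hprim ht (by omega) ht3 hc hcs hcH
      apply hH.1 q hq
      have h1 : Nat.card (alternatingGroup α) ∣ Nat.card H := Subgroup.card_dvd_of_le hA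
      refine Dvd.dvd.trans ?_ h1
      haveI : Nontrivial α := Fintype.one_lt_card_iff_nontrivial.mp (by omega)
      have h3 : 2 * Nat.card (alternatingGroup α) = (Fintype.card α)! := by
        rw [two_mul_nat_card_alternatingGroup, Nat.card_eq_fintype_card, Fintype.card_perm]
      have hqd' : q ∣ (Fintype.card α)! := (Nat.Prime.dvd_factorial hq).mpr hqd
      by_cases hq2 : q = 2
      · subst hq2
        have h4 : 4 ∣ (Fintype.card α)! := by
          have : (4 : ℕ) ∣ 4 ! := by decide
          exact this.trans (Nat.factorial_dvd_factorial (by omega))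
        rw [← h3] at h4
        have : 2 * 2 ∣ 2 * Nat.card (alternatingGroup α) := by simpa using h4
        exact Nat.dvd_of_mul_dvd_mul_left (by norm_num) this
      · rw [← h3] at hqd'
        exact Nat.Coprime.dvd_of_dvd_mul_left
          ((Nat.coprime_primes hq Nat.prime_two).mpr hq2) hqd'
    · exfalso
      push Not at hJ
      have hr' := hJ r hr hrπ
      have hs' := hJ s hs hsπ
      have hr3 : 3 ≤ r := by omega
      have hrodd : Odd r := hr.odd_of_ne_two (by omega)
      have hsodd : Odd s := hs.odd_of_ne_two (by omega)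
      have hsr : s = r + 2 := by
        obtain ⟨a, ha⟩ := hrodd
        obtain ⟨b, hb⟩ := hsodd
        omega
      have hds : Fintype.card α = s := by omega
      have hdr : Fintype.card α = r + 2 := by omega
      haveI : Fact (Fintype.card α).Prime := ⟨hds ▸ hs⟩
      obtain ⟨c, hcH, hc, hcs⟩ := hcyc s hs hsπ hsd
      obtain ⟨c', hc'H, hc', hcs'⟩ := hcyc r hr hrπ hrd
      rw [← hds] at hcs
      -- `|H| ∣ d * r`
      have hcardH : Nat.card H ∣ Fintype.card α * r := by
        have h1 : Nat.card H ∣ (Fintype.card α)! := by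
          have := Subgroup.card_subgroup_dvd_card H
          rwa [Nat.card_eq_fintype_card (α := Perm α), Fintype.card_perm] at this
        have hfac : (Fintype.card α)! =
            (Fintype.card α * r) * ((Fintype.card α - 1) * (Fintype.card α - 3)!) := by
          obtain ⟨e, rfl⟩ : ∃ e, r = e + 1 := ⟨r - 1, by omega⟩
          rw [hdr]
          have e1 : e + 1 + 2 - 1 = e + 2 := by omega
          have e2 : e + 1 + 2 - 3 = e := by omega
          rw [e1, e2]
          have e3 : e + 1 + 2 = (e + 2) + 1 := by omega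
          rw [e3, Nat.factorial_succ, Nat.factorial_succ, Nat.factorial_succ]
          ring
        rw [hfac] at h1
        refine Nat.Coprime.dvd_of_dvd_mul_right ?_ h1
        apply Nat.Coprime.symm
        apply Nat.coprime_of_dvd
        intro k hk hk1 hk2
        -- `k ∣ |H|`
        have hkπ : k ∈ π := hH.1 k hk hk2
        have hkd : k ≤ Fintype.card α := by
          have : k ∣ (Fintype.card α)! := by
            have := Subgroup.card_subgroup_dvd_card H
            rw [Nat.card_eq_fintype_card (α := Perm α), Fintype.card_perm] at this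
            exact hk2.trans this
          exact (Nat.Prime.dvd_factorial hk).mp this
        have hk3 := hJ k hk hkπ
        rcases (Nat.Prime.dvd_mul hk).mp hk1 with h5 | h5
        · -- `k ∣ d - 1`, `k ≥ d - 2`
          have h6 : k ≤ Fintype.card α - 1 := Nat.le_of_dvd (by omega) h5
          have h7 : k = Fintype.card α - 1 ∨ k = Fintype.card α - 2 := by omega
          rcases h7 with h7 | h7
          · -- `d - 1` is even
            have : Even k := by
              rw [h7, hdr]
              obtain ⟨a, ha⟩ := hrodd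
              exact ⟨a + 1, by omega⟩
            have hk2' : k = 2 := (Nat.Prime.even_iff hk).mp this
            omega
          · have h8 : k ∣ (Fintype.card α - 1) - k := Nat.dvd_sub h5 dvd_rfl
            have h9 : (Fintype.card α - 1) - k = 1 := by omega
            rw [h9] at h8
            exact hk.one_lt.ne' (Nat.dvd_one.mp h8)
        · have := (Nat.Prime.dvd_factorial hk).mp h5
          omega
      -- normality
      have hnorm := conj_mem_zpowers_of_card_dvd (G := ↥H) (d := Fintype.card α) (r := r) hr hdr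
        hr3 hcardH ⟨c, hcH⟩ ⟨c', hc'H⟩ (by
          rw [Subgroup.orderOf_mk, hc.orderOf, hcs])
      rw [← mem_powers_iff_mem_zpowers, Submonoid.mem_powers_iff] at hnorm
      obtain ⟨k, hk⟩ := hnorm
      have hk' : c' * c * c'⁻¹ = c ^ k := by
        have := congrArg Subtype.val hk
        simpa using this.symm
      exact false_of_cycles (d := Fintype.card α) (r := r) hdr (by omega) rfl c c' hc hcs hc' hcs'
        k hk'

end Cfsg.Agent.Helper33.HallSym
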