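import Cfsg.Agent.Helper33.Control

set_option autoImplicit false

namespace Cfsg.Agent.Helper33

variable {G : Type*} [Group G]

local notation:max H "⟪" g "⟫" => Subgroup.map (MulEquiv.toMonoidHom (MulAut.conj g)) H

theorem tower_shift (W : Subgroup G → Subgroup G) (S T : Subgroup G) (i j : ℕ) :
    Cfsg.functorTower W S (Cfsg.functorTower W S T i) j = Cfsg.functorTower W S T (i + j) := by
  induction j with
  | zero => rfl
  | succ j ih =>
    rw [functorTower_succ, ih, ← Nat.add_assoc, functorTower_succ]

theorem conjR_eq_of_mem_centralizer {B : Set G} {c : G} (hc : c ∈ Subgroup.centralizer B) :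
    conjR c B = B := by
  have hc' := Subgroup.mem_centralizer_iff.mp hc
  ext y
  rw [mem_conjR]
  constructor
  · intro h
    have h1 : (c * y * c⁻¹) * c = c * (c * y * c⁻¹) := hc' _ h
    have h2 : c * y * c⁻¹ = y := by
      have : c * y = c * (c * y * c⁻¹) := by rw [← h1]; group
      have := mul_left_cancel this
      exact this.symm
    rwa [h2] at h
  · intro h
    have h1 : y * c = c * y := hc' y h
    have h2 : c * y * c⁻¹ = y := by rw [← h1]; group
    rwa [h2]

section

variable {p : ℕ} {W : Subgroup G → Subgroup G} (hW : Cfsg.IsConjugacyFunctor p W)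
variable (S : Sylow p G)

include hW

theorem isWellPlaced_tower {T : Subgroup G} (hT : Cfsg.IsWellPlaced p W (S : Subgroup G) T) (i : ℕ) :
    Cfsg.IsWellPlaced p W (S : Subgroup G) (Cfsg.functorTower W (S : Subgroup G) T i) := by
  refine ⟨tower_le hW S hT.1 i, fun j => ?_⟩
  rw [tower_shift]
  exact hT.2 (i + j)

theorem tower_ne_bot {T : Subgroup G} (hTS : T ≤ (S : Subgroup G)) (hT : T ≠ ⊥) (i : ℕ) :
    Cfsg.functorTower W (S : Subgroup G) T i ≠ ⊥ := by
  cases i with
  | zero => exact hT
  | succ i =>
    rw [functorTower_succ]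
    apply (hW _ (S.2.to_le inf_le_left)).2.1
    intro h
    apply hT
    have : T ≤ (S : Subgroup G) ⊓ Subgroup.normalizer
        ((Cfsg.functorTower W (S : Subgroup G) T i : Subgroup G) : Set G) :=
      le_trans (le_nm_zero W hTS) (nm_mono hW S T (Nat.zero_le i))
    rw [h] at this
    exact le_bot_iff.mp this

variable [Fact p.Prime] [Finite G]

theorem tower_eq_functor_top (T : Subgroup G) {j : ℕ} (hj : Nat.card (S : Subgroup G) < j) :
    Cfsg.functorTower W (S : Subgroup G) T j = W (S : Subgroup G) := by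
  obtain ⟨i, rfl⟩ : ∃ i, j = i + 1 := ⟨j - 1, by omega⟩
  rw [functorTower_succ]
  congr 1
  apply le_antisymm inf_le_left
  calc (S : Subgroup G) = _ := (nm_card_eq hW S T).symm
    _ ≤ _ := nm_mono hW S T (by omega)

/-- Lemma B: elements of the normalizer of a well-placed subgroup are controlled by `N(W S)`. -/
theorem ctl_of_wellPlaced
    (hloc : ∀ T : Subgroup G, T ≠ ⊥ → Cfsg.IsWellPlaced p W (S : Subgroup G) T →
      Cfsg.ControlsStrongFusionIn p W (Subgroup.normalizer ((T : Subgroup G) : Set G)))
    {T : Subgroup G} (hT : Cfsg.IsWellPlaced p W (S : Subgroup G) T) {x : G}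
    (hx : x ∈ Subgroup.normalizer (T : Set G)) {B : Set G} (hB : B ⊆ (T : Set G)) :
    Ctl (Subgroup.normalizer ((W (S : Subgroup G) : Subgroup G) : Set G)) B x := by
  by_cases hT0 : T = ⊥
  · subst hT0
    refine ⟨x, ?_, 1, Subgroup.one_mem _, by simp⟩
    rw [Subgroup.mem_centralizer_iff]
    intro b hb
    have : b = 1 := by simpa using hB hb
    subst this
    simp
  · have key : ∀ m : ℕ, ∃ c ∈ Subgroup.centralizer B,
        ∃ y ∈ Subgroup.normalizer ((Cfsg.functorTower W (S : Subgroup G) T m : Subgroup G) : Set G),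
          x = c * y := by
      intro m
      induction m with
      | zero => exact ⟨1, Subgroup.one_mem _, x, hx, by simp⟩
      | succ m ih =>
        obtain ⟨c, hc, y, hy, rfl⟩ := ih
        have hctl := hloc _ (tower_ne_bot hW S hT.1 hT0 m) (isWellPlaced_tower hW S hT m)
        have hBN : B ⊆ (((S : Subgroup G) ⊓ Subgroup.normalizer
            ((Cfsg.functorTower W (S : Subgroup G) T m : Subgroup G) : Set G) : Subgroup G) : Set G) := by
          intro b hb
          exact (le_trans (le_nm_zero W hT.1) (nm_mono hW S T (Nat.zero_le m))) (hB hb)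
        have hyB : conjR y B ⊆ (((S : Subgroup G) ⊓ Subgroup.normalizer
            ((Cfsg.functorTower W (S : Subgroup G) T m : Subgroup G) : Set G) : Subgroup G) : Set G) := by
          have h1 : conjR (c * y) B = conjR y B := by
            rw [conjR_mul, conjR_eq_of_mem_centralizer hc]
          rw [← h1]
          intro z hz
          have : z ∈ conjR (c * y) (T : Set G) := conjR_mono hB hz
          rw [conjR_coe_eq_of_mem_normalizer hx] at this
          exact (le_trans (le_nm_zero W hT.1) (nm_mono hW S T (Nat.zero_le m))) this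
        obtain ⟨c', hc', n, hn, rfl⟩ := controlsStrongFusionIn_factor hW hctl inf_le_right
          (S.2.to_le inf_le_left) (hT.2 m) B y hy hBN hyB
        refine ⟨c * c', Subgroup.mul_mem _ hc hc', n, ?_, by group⟩
        rw [functorTower_succ]
        exact (Subgroup.mem_inf.mp hn).2
    obtain ⟨c, hc, y, hy, rfl⟩ := key (Nat.card (S : Subgroup G) + 1)
    rw [tower_eq_functor_top hW S T (Nat.lt_succ_self _)] at hy
    exact ⟨c, hc, y, hy, rfl⟩

theorem controlsStrongFusion_of_local
    (hloc : ∀ T : Subgroup G, T ≠ ⊥ → Cfsg.IsWellPlaced p W (S : Subgroup G) T →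
      Cfsg.ControlsStrongFusionIn p W (Subgroup.normalizer ((T : Subgroup G) : Set G)))
    (A : Set G) (g : G) (hAS : A ⊆ (S : Subgroup G)) (hgA : conjR g A ⊆ (S : Subgroup G)) :
    Ctl (Subgroup.normalizer ((W (S : Subgroup G) : Subgroup G) : Set G)) A g := by
  have hfam : ∀ T : Subgroup G, T ≤ (S : Subgroup G) →
      ∃ U ∈ {T : Subgroup G | Cfsg.IsWellPlaced p W (S : Subgroup G) T},
        (∃ g : G, T⟪g⟫ = U) ∧
        ¬ p ∣ ((S : Subgroup G) ⊓ Subgroup.normalizer ((U : Subgroup G) : Set G)).relIndex
          (Subgroup.normalizer ((U : Subgroup G) : Set G)) := by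
    intro T hT
    obtain ⟨g, hg⟩ := exists_wellPlaced_conj hW S hT
    exact ⟨_, hg, ⟨g, rfl⟩, hg.2 0⟩
  have hcl : Subgroup.closure A ≤ (S : Subgroup G) := (Subgroup.closure_le _).mpr hAS
  have hg : conjR g ((Subgroup.closure A : Subgroup G) : Set G) ⊆ (S : Subgroup G) := by
    rw [← coe_map_conj_inv, MonoidHom.map_closure]
    have : Subgroup.closure ((MulAut.conj g⁻¹).toMonoidHom '' A) ≤ (S : Subgroup G) := by
      rw [Subgroup.closure_le]
      rintro _ ⟨a, ha, rfl⟩
      apply hgA
      exact ⟨a, ha, by simp⟩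
    exact_mod_cast this
  have hch := fchain_of_tame_aux S _ (fun U hU => hU.1) hfam _ (Subgroup.closure A) hcl rfl g hg
  exact (hch.mono Subgroup.subset_closure).ctl
    (fun T hT x hx B hB => ctl_of_wellPlaced hW S hloc hT hx hB)

end

end Cfsg.Agent.Helper33
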