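import Cfsg.Agent.Helper33.ChiefSeries
import Cfsg.Agent.Helper63.ChiefCent

set_option autoImplicit false
set_option linter.style.haveILetI false

open scoped commutatorElement

namespace Cfsg.Agent.Helper33

variable {G : Type*} [Group G]

/-- **Pascal-type induction with the three subgroups lemma.**  `M` and `K` are `Z`-filtrations
(`[M s, Z] ≤ M (s+1)`, `[K t, Z] ≤ K (t+1)`), `W` pairs `M s` into `K 0`, and `M s` into every `K t`
once `s ≥ i`.  Then `[W, Z; n]` pairs `M s` into `K t` as soon as `t + i ≤ n + s + 1`. -/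
theorem pascal_commutator (Z W : Subgroup G) (hWZ : Z ≤ Subgroup.normalizer (W : Set G))
    (M K : ℕ → Subgroup G) (i : ℕ)
    (hM : ∀ s, ⁅M s, Z⁆ ≤ M (s + 1)) (hK : ∀ t, ⁅K t, Z⁆ ≤ K (t + 1))
    (hKW : ∀ t, W ≤ Subgroup.normalizer (K t : Set G))
    (hKZ : ∀ t, Z ≤ Subgroup.normalizer (K t : Set G))
    (hKM : ∀ s t, M s ≤ Subgroup.normalizer (K t : Set G))
    (h0 : ∀ s, ⁅W, M s⁆ ≤ K 0) (h1 : ∀ s, i ≤ s → ∀ t, ⁅W, M s⁆ ≤ K t) :
    ∀ n s t, t + i ≤ n + s + 1 → ⁅Cfsg.iterCommutator W Z n, M s⁆ ≤ K t := by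
  intro n
  induction n with
  | zero =>
    intro s t hst
    cases t with
    | zero => exact h0 s
    | succ t => exact h1 s (by omega) _
  | succ n ih =>
    intro s t hst
    cases t with
    | zero =>
      exact (Subgroup.commutator_mono (iterCommutator_le_self W Z hWZ (n + 1)) le_rfl).trans (h0 s)
    | succ t =>
      show ⁅⁅Cfsg.iterCommutator W Z n, Z⁆, M s⁆ ≤ K (t + 1)
      apply Cfsg.Agent.Helper21.three_subgroups_mod' (K (t + 1)) (Cfsg.iterCommutator W Z n) Z (M s)
        ((iterCommutator_le_self W Z hWZ n).trans (hKW _)) (hKZ _) (hKM _ _)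
      · -- [[Z, M s], W_n] ≤ K (t+1)
        rw [Subgroup.commutator_comm Z (M s), Subgroup.commutator_comm _ (Cfsg.iterCommutator W Z n)]
        exact (Subgroup.commutator_mono le_rfl (hM s)).trans (ih (s + 1) (t + 1) (by omega))
      · -- [[M s, W_n], Z] ≤ K (t+1)
        rw [Subgroup.commutator_comm (M s) _]
        exact (Subgroup.commutator_mono (ih s t (by omega)) le_rfl).trans (hK t)

/-- Elements `w` with `[w, A] ⊆ B`, for `B` normal. -/
def commCent (A B : Subgroup G) (hB : B.Normal) : Subgroup G where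
  carrier := {w | ∀ q ∈ A, ⁅w, q⁆ ∈ B}
  one_mem' := by
    intro q _
    rw [commutatorElement_one_left]
    exact B.one_mem
  mul_mem' := by
    intro w w' hw hw' q hq
    rw [commutatorElement_mul_left_eq_conj_mul]
    exact B.mul_mem (hB.conj_mem _ (hw' q hq) w) (hw q hq)
  inv_mem' := by
    intro w hw q hq
    have e : ⁅w⁻¹, q⁆ = w⁻¹ * (⁅w, q⁆)⁻¹ * w⁻¹⁻¹ := by
      rw [commutatorElement_def, commutatorElement_def]; group
    rw [e]
    exact hB.conj_mem _ (B.inv_mem (hw q hq)) w⁻¹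

theorem mem_commCent {A B : Subgroup G} {hB : B.Normal} {w : G} :
    w ∈ commCent A B hB ↔ ∀ q ∈ A, ⁅w, q⁆ ∈ B := Iff.rfl

theorem commCent_normal (A B : Subgroup G) (hA : A.Normal) (hB : B.Normal) :
    (commCent A B hB).Normal := by
  constructor
  intro w hw x q hq
  have hq' : x⁻¹ * q * x ∈ A := by
    have := hA.conj_mem q hq x⁻¹
    rwa [inv_inv] at this
  have e : ⁅x * w * x⁻¹, q⁆ = x * ⁅w, x⁻¹ * q * x⁆ * x⁻¹ := by
    rw [commutatorElement_def, commutatorElement_def]; group
  rw [e]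
  exact hB.conj_mem _ (hw _ hq') x

/-- The filtration of `P` by the depth of its action on the chain `N`. -/
def depthFiltration (P : Subgroup G) (N : ℕ → Subgroup G) (hN : ∀ l, (N l).Normal) (k : ℕ) :
    Subgroup G :=
  P ⊓ ⨅ l, commCent (N l) (N (l - k)) (hN (l - k))

theorem mem_depthFiltration {P : Subgroup G} {N : ℕ → Subgroup G} {hN : ∀ l, (N l).Normal} {k : ℕ}
    {w : G} : w ∈ depthFiltration P N hN k ↔ w ∈ P ∧ ∀ l, ∀ q ∈ N l, ⁅w, q⁆ ∈ N (l - k) := by
  unfold depthFiltration
  rw [Subgroup.mem_inf, Subgroup.mem_iInf]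
  rfl

theorem depthFiltration_normal (P : Subgroup G) [hP : P.Normal] (N : ℕ → Subgroup G)
    (hN : ∀ l, (N l).Normal) (k : ℕ) : (depthFiltration P N hN k).Normal := by
  unfold depthFiltration
  haveI : (⨅ l, commCent (N l) (N (l - k)) (hN (l - k))).Normal :=
    Subgroup.normal_iInf_normal (fun l => commCent_normal _ _ (hN l) _)
  exact Subgroup.normal_inf_normal _ _

theorem depthFiltration_le (P : Subgroup G) (N : ℕ → Subgroup G) (hN : ∀ l, (N l).Normal) (k : ℕ) :
    depthFiltration P N hN k ≤ P := inf_le_left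

theorem commutator_depthFiltration_le (P : Subgroup G) (N : ℕ → Subgroup G)
    (hN : ∀ l, (N l).Normal) (k l : ℕ) : ⁅depthFiltration P N hN k, N l⁆ ≤ N (l - k) := by
  rw [Subgroup.commutator_le]
  intro w hw q hq
  exact (mem_depthFiltration.mp hw).2 l q hq

theorem le_depthFiltration {P : Subgroup G} {N : ℕ → Subgroup G} {hN : ∀ l, (N l).Normal} {k : ℕ}
    {H : Subgroup G} (hHP : H ≤ P) (h : ∀ l, ⁅H, N l⁆ ≤ N (l - k)) :
    H ≤ depthFiltration P N hN k := by
  intro w hw
  exact mem_depthFiltration.mpr ⟨hHP hw, fun l q hq => h l (Subgroup.commutator_mem_commutator hw hq)⟩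

/-- The key step: `Z` acts with degree at most `i + j - 1` on the factors of the depth filtration. -/
theorem iterCommutator_depthFiltration_le [Finite G] (P : Subgroup G) [hP : P.Normal]
    (Q ZQ Z : Subgroup G) (N : ℕ → Subgroup G) (hN : ∀ l, (N l).Normal) (a i j : ℕ) (hi : 1 ≤ i)
    (hN0 : N 0 = ⊥) (hmono : Monotone N) (hNa : N a = ZQ) (hNQ : ∀ l, N l ≤ Q) (hQP : Q ≤ P)
    (hPQ : ⁅P, Q⁆ ≤ ZQ) (hPN : ∀ l, ⁅P, N (l + 1)⁆ ≤ N l)
    (hdegi : ∀ l, Cfsg.iterCommutator (N (l + 1)) Z i ≤ N l)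
    (hdegj : ∀ l, l < a → Cfsg.iterCommutator (N (l + 1)) Z j ≤ N l) (k : ℕ) :
    Cfsg.iterCommutator (depthFiltration P N hN k) Z (i + j - 1) ≤
      depthFiltration P N hN (k + 1) := by
  obtain ⟨W, hW⟩ : ∃ W : Subgroup G, W = depthFiltration P N hN k := ⟨_, rfl⟩
  rw [← hW]
  have hWn : W.Normal := hW ▸ depthFiltration_normal P N hN k
  have hWP : W ≤ P := hW ▸ depthFiltration_le P N hN k
  have hWN : ∀ l, ⁅W, N l⁆ ≤ N (l - k) := fun l => hW ▸ commutator_depthFiltration_le P N hN k l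
  have hZn : ∀ H : Subgroup G, H.Normal → Z ≤ Subgroup.normalizer (H : Set G) := by
    intro H hH
    rw [Subgroup.normalizer_eq_top_iff.mpr hH]; exact le_top
  have hWZ : Z ≤ Subgroup.normalizer (W : Set G) := hZn W hWn
  have hIW : ∀ n, Cfsg.iterCommutator W Z n ≤ W := iterCommutator_le_self W Z hWZ
  apply le_depthFiltration ((hIW _).trans hWP)
  intro l
  by_cases hlk : l ≤ k
  · have h0 : N (l - k) = ⊥ := by rw [Nat.sub_eq_zero_of_le hlk, hN0]
    have h1 : ⁅W, N l⁆ ≤ ⊥ := h0 ▸ hWN l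
    exact ((Subgroup.commutator_mono (hIW _) le_rfl).trans h1).trans bot_le
  · obtain ⟨l', rfl⟩ : ∃ l', l = l' + 1 := ⟨l - 1, by omega⟩
    obtain ⟨m', hm'⟩ : ∃ m', l' + 1 - k = m' + 1 := ⟨l' - k, by omega⟩
    have hm'1 : l' + 1 - (k + 1) = m' := by omega
    have hm'2 : l' - k = m' := by omega
    rw [hm'1]
    by_cases hma : a ≤ m'
    · calc ⁅Cfsg.iterCommutator W Z (i + j - 1), N (l' + 1)⁆ ≤ ⁅P, Q⁆ :=
            Subgroup.commutator_mono ((hIW _).trans hWP) (hNQ _)
        _ ≤ ZQ := hPQ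
        _ = N a := hNa.symm
        _ ≤ N m' := hmono hma
    · have hma' : m' < a := by omega
      haveI := hN m'
      haveI := hN l'
      obtain ⟨M, hMdef⟩ : ∃ M : ℕ → Subgroup G,
        M = fun s => Cfsg.iterCommutator (N (l' + 1)) Z s ⊔ N l' := ⟨_, rfl⟩
      obtain ⟨K, hKdef⟩ : ∃ K : ℕ → Subgroup G,
        K = fun t => Cfsg.iterCommutator (N (m' + 1)) Z t ⊔ N m' := ⟨_, rfl⟩
      have hMs : ∀ s, M s = Cfsg.iterCommutator (N (l' + 1)) Z s ⊔ N l' := fun s => by rw [hMdef]
      have hKt : ∀ t, K t = Cfsg.iterCommutator (N (m' + 1)) Z t ⊔ N m' := fun t => by rw [hKdef]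
      have hMle : ∀ s, M s ≤ N (l' + 1) := by
        intro s
        rw [hMs]
        exact sup_le (iterCommutator_le_self _ Z (hZn _ (hN _)) s) (hmono (Nat.le_succ l'))
      have hKle : ∀ t, K t ≤ N (m' + 1) := by
        intro t
        rw [hKt]
        exact sup_le (iterCommutator_le_self _ Z (hZn _ (hN _)) t) (hmono (Nat.le_succ m'))
      have hKge : ∀ t, N m' ≤ K t := fun t => by rw [hKt]; exact le_sup_right
      have hPK : ∀ t, P ≤ Subgroup.normalizer (K t : Set G) := by
        intro t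
        apply le_normalizer_of_commutator_le
        calc ⁅K t, P⁆ ≤ ⁅N (m' + 1), P⁆ := Subgroup.commutator_mono (hKle t) le_rfl
          _ = ⁅P, N (m' + 1)⁆ := Subgroup.commutator_comm _ _
          _ ≤ N m' := hPN m'
          _ ≤ K t := hKge t
      have key := pascal_commutator Z W hWZ M K i
        (fun s => by
          rw [hMs, hMs]
          exact commutator_sup_le_of_normal _ _ _)
        (fun t => by
          rw [hKt, hKt]
          exact commutator_sup_le_of_normal _ _ _)
        (fun t => hWP.trans (hPK t))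
        (fun t => by
          rw [hKt]
          exact (le_normalizer_iterCommutator (N (m' + 1)) Z (hZn _ (hN _)) t).trans
            Subgroup.normalizer_le_normalizer_sup_normal)
        (fun s t => ((hMle s).trans ((hNQ _).trans hQP)).trans (hPK t))
        (fun s => by
          calc ⁅W, M s⁆ ≤ ⁅W, N (l' + 1)⁆ := Subgroup.commutator_mono le_rfl (hMle s)
            _ ≤ N (l' + 1 - k) := hWN _
            _ = N (m' + 1) := by rw [hm']
            _ ≤ K 0 := by rw [hKt]; exact le_sup_left)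
        (fun s his t => by
          have h1 : M s ≤ N l' := by
            rw [hMs]
            refine sup_le ?_ le_rfl
            exact (iterCommutator_antitone _ Z (hZn _ (hN _)) his).trans (hdegi l')
          calc ⁅W, M s⁆ ≤ ⁅W, N l'⁆ := Subgroup.commutator_mono le_rfl h1
            _ ≤ N (l' - k) := hWN _
            _ = N m' := by rw [hm'2]
            _ ≤ K t := hKge t)
        (i + j - 1) 0 j (by omega)
      have hM0 : N (l' + 1) ≤ M 0 := by rw [hMs]; exact le_sup_left
      have hKj : K j ≤ N m' := by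
        rw [hKt]
        exact sup_le (hdegj m' hma') le_rfl
      exact ((Subgroup.commutator_mono le_rfl hM0).trans key).trans hKj

/-- Degree of `Z` on all chief factors below `P`, given a normal chain through `Z(Q) ≤ Q` with the
degree bounds `i` (inside `Q`) and `j` (inside `Z(Q)`). -/
theorem chief_degree_of_critical_chain [Finite G] (P : Subgroup G) [hP : P.Normal]
    (Q ZQ Z : Subgroup G) (N : ℕ → Subgroup G) (hN : ∀ l, (N l).Normal) (a r i j : ℕ)
    (hi : 1 ≤ i) (hj : 1 ≤ j)
    (hN0 : N 0 = ⊥) (hmono : Monotone N) (hNa : N a = ZQ) (hNr : N r = Q) (hNQ : ∀ l, N l ≤ Q)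
    (hQP : Q ≤ P) (hPQ : ⁅P, Q⁆ ≤ ZQ) (hcent : P ⊓ Subgroup.centralizer (Q : Set G) ≤ Q)
    (hPN : ∀ l, ⁅P, N (l + 1)⁆ ≤ N l)
    (hdegi : ∀ l, Cfsg.iterCommutator (N (l + 1)) Z i ≤ N l)
    (hdegj : ∀ l, l < a → Cfsg.iterCommutator (N (l + 1)) Z j ≤ N l)
    (X Y : Subgroup G) (hXY : Cfsg.IsChiefFactor X Y) (hXP : X ≤ P) :
    Cfsg.iterCommutator X Z (i + j - 1) ≤ Y := by
  classical
  have hZn : ∀ H : Subgroup G, H.Normal → Z ≤ Subgroup.normalizer (H : Set G) := by
    intro H hH
    rw [Subgroup.normalizer_eq_top_iff.mpr hH]; exact le_top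
  obtain ⟨F, hFdef⟩ : ∃ F : ℕ → Subgroup G,
    F = fun c => if c < r then depthFiltration P N hN (c + 1) else N (2 * r - c) := ⟨_, rfl⟩
  have hF1 : ∀ c, c < r → F c = depthFiltration P N hN (c + 1) := by
    intro c hc; rw [hFdef]; exact if_pos hc
  have hF2 : ∀ c, ¬ c < r → F c = N (2 * r - c) := by
    intro c hc; rw [hFdef]; exact if_neg hc
  apply chief_degree_of_chain Z (i + j - 1) F (2 * r) ?_ ?_ ?_ X Y hXY ?_
  · intro c
    by_cases hc : c < r
    · rw [hF1 c hc]; exact depthFiltration_normal P N hN _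
    · rw [hF2 c hc]; exact hN _
  · rw [hF2 (2 * r) (by omega), Nat.sub_self, hN0]
  · intro c
    by_cases hc : c + 1 < r
    · rw [hF1 c (by omega), hF1 (c + 1) hc]
      exact iterCommutator_depthFiltration_le P Q ZQ Z N hN a i j hi hN0 hmono hNa hNQ hQP hPQ hPN
        hdegi hdegj (c + 1)
    · by_cases hc' : c < r
      · have hcr : c + 1 = r := by omega
        rw [hF1 c hc', hF2 (c + 1) (by omega)]
        have e : 2 * r - (c + 1) = r := by omega
        rw [e, hNr, hcr]
        have hn := depthFiltration_normal P N hN r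
        refine (iterCommutator_le_self _ Z (hZn _ hn) _).trans ?_
        refine le_trans ?_ hcent
        intro w hw
        obtain ⟨hwP, hwN⟩ := mem_depthFiltration.mp hw
        refine Subgroup.mem_inf.mpr ⟨hwP, ?_⟩
        rw [Subgroup.mem_centralizer_iff]
        intro q hq
        have h1 := hwN r q (hNr ▸ hq)
        rw [Nat.sub_self, hN0, Subgroup.mem_bot, commutatorElement_eq_one_iff_mul_comm] at h1
        exact h1.symm
      · rw [hF2 c hc', hF2 (c + 1) (by omega)]
        by_cases hd : 2 * r - c = 0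
        · have e : 2 * r - (c + 1) = 0 := by omega
          rw [hd, e]
          exact iterCommutator_le_self _ Z (hZn _ (hN _)) _
        · obtain ⟨d', hd'⟩ : ∃ d', 2 * r - c = d' + 1 := ⟨2 * r - c - 1, by omega⟩
          have e : 2 * r - (c + 1) = d' := by omega
          rw [hd', e]
          exact (iterCommutator_antitone _ Z (hZn _ (hN _)) (by omega : i ≤ i + j - 1)).trans
            (hdegi d')
  · by_cases hr : 0 < r
    · rw [hF1 0 hr]
      refine hXP.trans (le_depthFiltration le_rfl ?_)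
      intro l
      cases l with
      | zero =>
        rw [hN0]
        rw [Subgroup.commutator_le]
        intro w _ q hq
        rw [Subgroup.mem_bot] at hq
        rw [hq, commutatorElement_one_right]
        exact Subgroup.one_mem _
      | succ l => exact hPN l
    · have hr0 : r = 0 := by omega
      rw [hF2 0 hr, hr0, hN0]
      have hQ0 : Q = ⊥ := by rw [← hNr, hr0, hN0]
      have hPbot : P ≤ ⊥ := by
        have h1 : P ≤ P ⊓ Subgroup.centralizer (Q : Set G) := by
          refine le_inf le_rfl ?_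
          rw [hQ0]
          intro w _
          rw [Subgroup.mem_centralizer_iff]
          intro q hq
          have hq1 : q = 1 := Subgroup.mem_bot.mp hq
          rw [hq1, one_mul, mul_one]
        exact (h1.trans hcent).trans hQ0.le
      exact hXP.trans hPbot

/-- A characteristic subgroup of a normal subgroup is normal. -/
theorem normal_of_characteristic_subgroupOf {P Q : Subgroup G} [hP : P.Normal] (hQP : Q ≤ P)
    (h : (Q.subgroupOf P).Characteristic) : Q.Normal := by
  constructor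
  intro q hq g
  have hqP : q ∈ P := hQP hq
  have h1 := (Subgroup.characteristic_iff_map_le.mp h) (MulAut.conjNormal g)
  have h2 : (MulAut.conjNormal g) ⟨q, hqP⟩ ∈ Q.subgroupOf P :=
    h1 ⟨⟨q, hqP⟩, Subgroup.mem_subgroupOf.mpr hq, rfl⟩
  rw [Subgroup.mem_subgroupOf] at h2
  simpa [MulAut.conjNormal_apply] using h2

/-- A normal `p`-subgroup centralizes every chief factor below it. -/
theorem commutator_le_of_isChiefFactor [Finite G] {p : ℕ} [Fact p.Prime] (P : Subgroup G)
    [hP : P.Normal] (hPp : IsPGroup p P) {U V : Subgroup G} (hUV : Cfsg.IsChiefFactor U V) :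
    ⁅P, U⁆ ≤ V := by
  have hnil : Group.IsNilpotent P := hPp.isNilpotent
  have hUV' : Cfsg.Agent.Helper63.IsChiefFactor U V := ⟨hUV.2.1, hUV.2.2.1, hUV.1, hUV.2.2.2⟩
  have key := Cfsg.Agent.Helper63.centralizes_chief_of_nilpotent (M := P) hnil hUV'
  rw [Subgroup.commutator_le]
  intro g hg u hu
  have h1 := key g hg u hu
  have e : ⁅g, u⁆ = (u * g * u⁻¹ * g⁻¹)⁻¹ := by rw [commutatorElement_def]; group
  rw [e]
  exact V.inv_mem h1

/-- **Degree bound from a critical subgroup** (Glauberman).  If `g` acts with degree `i` on the chief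
factors of `G` inside a critical subgroup `Q` of the normal `p`-subgroup `P`, and with degree `j` on
those inside `Z(Q)`, then it acts with degree `i + j - 1` on all chief factors inside `P`. -/
theorem chief_degree_of_critical [Finite G] {p : ℕ} [Fact p.Prime] (P : Subgroup G) [hPn : P.Normal]
    (hP : IsPGroup p P) (Q : Subgroup G) (hQP : Q ≤ P) (hQn : Q.Normal)
    (hQ3 : ⁅P, Q⁆ ≤ Q ⊓ Subgroup.centralizer ((Q : Subgroup G) : Set G))
    (hQ4 : P ⊓ Subgroup.centralizer ((Q : Subgroup G) : Set G) =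
      Q ⊓ Subgroup.centralizer ((Q : Subgroup G) : Set G))
    (Z : Subgroup G) (i j : ℕ) (hi : 1 ≤ i) (hj : 1 ≤ j)
    (hQi : ∀ U V : Subgroup G, Cfsg.IsChiefFactor U V → U ≤ Q → Cfsg.iterCommutator U Z i ≤ V)
    (hZj : ∀ U V : Subgroup G, Cfsg.IsChiefFactor U V →
      U ≤ Q ⊓ Subgroup.centralizer ((Q : Subgroup G) : Set G) → Cfsg.iterCommutator U Z j ≤ V) :
    ∀ U V : Subgroup G, Cfsg.IsChiefFactor U V → U ≤ P →
      Cfsg.iterCommutator U Z (i + j - 1) ≤ V := by
  classical
  haveI := hQn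
  obtain ⟨ZQ, hZQ⟩ : ∃ ZQ : Subgroup G, ZQ = Q ⊓ Subgroup.centralizer ((Q : Subgroup G) : Set G) :=
    ⟨_, rfl⟩
  rw [← hZQ] at hQ3 hQ4 hZj
  haveI hZQn : ZQ.Normal := by
    rw [hZQ]
    haveI : (Subgroup.centralizer ((Q : Subgroup G) : Set G)).Normal := Subgroup.normal_centralizer
    exact Subgroup.normal_inf_normal _ _
  have hZQQ : ZQ ≤ Q := hZQ ▸ inf_le_left
  have hZn : ∀ H : Subgroup G, H.Normal → Z ≤ Subgroup.normalizer (H : Set G) := by
    intro H hH
    rw [Subgroup.normalizer_eq_top_iff.mpr hH]; exact le_top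
  obtain ⟨a, C₁, hC₁0, hC₁a, hC₁n, hC₁ch, hC₁le⟩ :=
    exists_chief_chain ZQ (Nat.card ZQ) ⊥ inferInstance bot_le (Nat.sub_le _ _)
  obtain ⟨b, C₂, hC₂0, hC₂b, hC₂n, hC₂ch, hC₂le⟩ :=
    exists_chief_chain Q (Nat.card Q) ZQ hZQn hZQQ (Nat.sub_le _ _)
  obtain ⟨N, hNdef⟩ : ∃ N : ℕ → Subgroup G, N = fun l => if l ≤ a then C₁ l else C₂ (l - a) :=
    ⟨_, rfl⟩
  have hN1 : ∀ l, l ≤ a → N l = C₁ l := by
    intro l hl; rw [hNdef]; exact if_pos hl
  have hN2 : ∀ l, a ≤ l → N l = C₂ (l - a) := by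
    intro l hl
    by_cases hla : l ≤ a
    · have hla' : l = a := le_antisymm hla hl
      rw [hN1 l hla, hla', Nat.sub_self, hC₂0, hC₁a a le_rfl]
    · rw [hNdef]; exact if_neg hla
  have hNn : ∀ l, (N l).Normal := by
    intro l
    by_cases hla : l ≤ a
    · rw [hN1 l hla]; exact hC₁n l
    · rw [hN2 l (by omega)]; exact hC₂n _
  have hN0 : N 0 = ⊥ := by rw [hN1 0 (Nat.zero_le a), hC₁0]
  have hNa : N a = ZQ := by rw [hN1 a le_rfl, hC₁a a le_rfl]
  have hNr : N (a + b) = Q := by
    rw [hN2 (a + b) (Nat.le_add_right a b), Nat.add_sub_cancel_left, hC₂b b le_rfl]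
  have hNQ : ∀ l, N l ≤ Q := by
    intro l
    by_cases hla : l ≤ a
    · rw [hN1 l hla]; exact (hC₁le l).trans hZQQ
    · rw [hN2 l (by omega)]; exact hC₂le _
  have hstep : ∀ l, Cfsg.IsChiefFactor (N (l + 1)) (N l) ∨ N (l + 1) = N l := by
    intro l
    by_cases hla : l + 1 ≤ a
    · left
      rw [hN1 (l + 1) hla, hN1 l (by omega)]
      exact hC₁ch l (by omega)
    · have hal : a ≤ l := by omega
      have e : l + 1 - a = (l - a) + 1 := by omega
      rw [hN2 (l + 1) (by omega), hN2 l hal, e]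
      by_cases hlb : l - a < b
      · left; exact hC₂ch _ hlb
      · right
        rw [hC₂b _ (by omega), hC₂b _ (by omega)]
  have hstepZ : ∀ l, l < a → N (l + 1) ≤ ZQ := by
    intro l hl
    rw [hN1 (l + 1) (by omega)]
    exact hC₁le _
  have hmono : Monotone N := by
    apply monotone_nat_of_le_succ
    intro l
    rcases hstep l with h | h
    · exact h.1.le
    · exact h.ge
  have hPN : ∀ l, ⁅P, N (l + 1)⁆ ≤ N l := by
    intro l
    rcases hstep l with h | h
    · exact commutator_le_of_isChiefFactor P hP h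
    · rw [h]
      haveI := hNn l
      exact Subgroup.commutator_le_right _ _
  have hdegi : ∀ l, Cfsg.iterCommutator (N (l + 1)) Z i ≤ N l := by
    intro l
    rcases hstep l with h | h
    · exact hQi _ _ h (hNQ _)
    · rw [h]
      exact iterCommutator_le_self _ Z (hZn _ (hNn l)) i
  have hdegj : ∀ l, l < a → Cfsg.iterCommutator (N (l + 1)) Z j ≤ N l := by
    intro l hl
    rcases hstep l with h | h
    · exact hZj _ _ h (hstepZ l hl)
    · rw [h]
      exact iterCommutator_le_self _ Z (hZn _ (hNn l)) j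
  intro U V hUV hUP
  exact chief_degree_of_critical_chain P Q ZQ Z N hNn a (a + b) i j hi hj hN0 hmono hNa hNr hNQ hQP
    hQ3 (hQ4 ▸ hZQQ) hPN hdegi hdegj U V hUV hUP

end Cfsg.Agent.Helper33
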