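import Mathlib.GroupTheory.Sylow
import Cfsg.Prelude.Def_Solvable

set_option autoImplicit false

namespace Cfsg.Agent.Helper33

variable {G : Type*} [Group G]

theorem pCore_normal (p : ℕ) : (Cfsg.pCore p G).Normal :=
  Subgroup.sSup_normal _ (fun _ hH => hH.1)

theorem pCore_le_sylow {p : ℕ} (S : Sylow p G) : Cfsg.pCore p G ≤ (S : Subgroup G) := by
  apply sSup_le
  rintro N ⟨hN, hNp⟩
  exact hNp.le_sylow_of_normal S

theorem pCore_isPGroup {p : ℕ} [Fact p.Prime] [Finite G] : IsPGroup p (Cfsg.pCore p G) := by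
  obtain ⟨S⟩ : Nonempty (Sylow p G) := inferInstance
  exact S.2.to_le (pCore_le_sylow S)

theorem le_pCore {p : ℕ} (N : Subgroup G) [hN : N.Normal] (hp : IsPGroup p N) : N ≤ Cfsg.pCore p G :=
  le_sSup ⟨hN, hp⟩

end Cfsg.Agent.Helper33
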