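import Cfsg.Agent.Helper33.TransferUniqueMax
import Cfsg.Agent.Lib.HW3
import Cfsg.Agent.Helper33.PCore
import Cfsg.Prelude.Def_PLocal
import Cfsg.Prelude.Def_LocalEven

set_option autoImplicit false
set_option linter.style.haveILetI false

namespace Cfsg.Agent.Helper33

open Cfsg.Agent.Lib.PT Cfsg.Agent.Lib.HW

section Iter

variable {G : Type*} [Group G]

/-- Homomorphic images of the iterated commutator chain. -/
theorem iterCommutator_map (f : G →* G) (N Z : Subgroup G) (n : ℕ) :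
    (Cfsg.iterCommutator N Z n).map f = Cfsg.iterCommutator (N.map f) (Z.map f) n := by
  induction n with
  | zero => rfl
  | succ n ih =>
    show (⁅Cfsg.iterCommutator N Z n, Z⁆).map f =
      ⁅Cfsg.iterCommutator (N.map f) (Z.map f) n, Z.map f⁆
    rw [Subgroup.map_commutator, ih]

/-- The iterated commutator elements `[y, z; n]` lie in the iterated commutator chain. -/
theorem iterate_mem_iterCommutator (N : Subgroup G) (z y : G) (hy : y ∈ N) (n : ℕ) :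
    (fun v : G => v⁻¹ * z⁻¹ * v * z)^[n] y ∈ Cfsg.iterCommutator N (Subgroup.zpowers z) n := by
  induction n with
  | zero => exact hy
  | succ n ih =>
    rw [Function.iterate_succ_apply']
    show _ ∈ ⁅Cfsg.iterCommutator N (Subgroup.zpowers z) n, Subgroup.zpowers z⁆
    have := Subgroup.commutator_mem_commutator (Subgroup.inv_mem _ ih)
      (Subgroup.inv_mem _ (Subgroup.mem_zpowers z))
    rw [commutatorElement_def, inv_inv, inv_inv] at this
    exact this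

theorem iterCommutator_succ_le_commutator (N Z : Subgroup G) (n : ℕ) :
    Cfsg.iterCommutator N Z (n + 1) ≤ commutator G := by
  show ⁅Cfsg.iterCommutator N Z n, Z⁆ ≤ commutator G
  rw [commutator_def]
  exact Subgroup.commutator_mono le_top le_top

/-- Below any nontrivial normal subgroup of a finite group there is a chief factor. -/
theorem exists_isChiefFactor_below [Finite G] (X : Subgroup G) [hX : X.Normal] (hX0 : X ≠ ⊥) :
    ∃ Y : Subgroup G, Cfsg.IsChiefFactor X Y := by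
  obtain ⟨𝒴, h𝒴⟩ : ∃ 𝒴 : Set (Subgroup G), 𝒴 = {Y | Y.Normal ∧ Y < X} := ⟨_, rfl⟩
  have hne : 𝒴.Nonempty := ⟨⊥, by rw [h𝒴]; exact ⟨inferInstance, bot_lt_iff_ne_bot.mpr hX0⟩⟩
  obtain ⟨Y, hY, hYmax⟩ := (Set.toFinite 𝒴).exists_maximal hne
  rw [h𝒴] at hY
  refine ⟨Y, hY.2, hX, hY.1, ?_⟩
  intro N hN hYN hNX
  by_cases h : N = X
  · exact Or.inr h
  · left
    have hN𝒴 : N ∈ 𝒴 := by rw [h𝒴]; exact ⟨hN, lt_of_le_of_ne hNX h⟩
    exact le_antisymm (hYmax hN𝒴 hYN) hYN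

end Iter

section Key

variable {G : Type*} [Group G] [Finite G] {p : ℕ} [hp : Fact p.Prime]

/-- **Key lemma on a unique maximal overgroup of a Sylow subgroup.**  Let `M` contain every proper
subgroup of `G` that contains the Sylow `p`-subgroup `S`.  Suppose `S ∩ G' ≤ T₀ (O_p(G) ∩ G')` with
`T₀ ≤ M'`, and that some `u₀ ∈ S` outside `O_p(G)` satisfies `[U, u₀; p-1] ≤ V` on every chief factor
`U/V` of `G` below `O_p(G)`.  Then `S ∩ G' ≤ M'`. -/
theorem focal_le_of_unique_max (S : Sylow p G) (M : Subgroup G) (hSM : (S : Subgroup G) ≤ M)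
    (hmax : ∀ H : Subgroup G, (S : Subgroup G) ≤ H → H ≠ ⊤ → H ≤ M)
    (T₀ : Subgroup G) (hT₀M : T₀ ≤ ⁅M, M⁆)
    (hA3 : (S : Subgroup G) ⊓ commutator G ≤ T₀ ⊔ (Cfsg.pCore p G ⊓ commutator G))
    (u₀ : G) (hu₀S : u₀ ∈ (S : Subgroup G)) (hu₀P : u₀ ∉ Cfsg.pCore p G)
    (hchief : ∀ U V : Subgroup G, Cfsg.IsChiefFactor U V → U ≤ Cfsg.pCore p G →
      Cfsg.iterCommutator U (Subgroup.zpowers u₀) (p - 1) ≤ V) :
    commutator G ⊓ (S : Subgroup G) ≤ ⁅M, M⁆ := by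
  classical
  by_contra hnot
  obtain ⟨M₁, hM₁n, hM₁i, y₀, hy₀S, hy₀G, hy₀M⟩ := exists_index_p_of_not_focal S M hSM hnot
  haveI := hM₁n
  have hcard : Nat.card (M ⧸ M₁) = p := by rw [← Subgroup.index_eq_card]; exact hM₁i
  haveI : IsCyclic (M ⧸ M₁) := isCyclic_of_prime_card hcard
  letI : CommGroup (M ⧸ M₁) := IsCyclic.commGroup
  let lam : M →* (M ⧸ M₁) := QuotientGroup.mk' M₁
  have hA : ∀ a : M ⧸ M₁, a ^ p = 1 := by
    intro a; rw [← hcard]; exact pow_card_eq_one'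
  obtain ⟨P, hP⟩ : ∃ P : Subgroup G, P = Cfsg.pCore p G := ⟨_, rfl⟩
  have hPn : P.Normal := hP ▸ pCore_normal p
  have hPS : P ≤ (S : Subgroup G) := hP ▸ pCore_le_sylow S
  have hPM : P ≤ M := hPS.trans hSM
  rw [← hP] at hA3
  -- `lam` kills `M'`
  have hlamM' : ∀ t ∈ ⁅M, M⁆, ext M lam t = 1 := by
    intro t ht
    rw [← Subgroup.map_subtype_commutator] at ht
    obtain ⟨t', ht', rfl⟩ := ht
    rw [Subgroup.subtype_apply, ext_of_mem M lam t'.2]
    exact Abelianization.commutator_subset_ker lam ht'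
  -- an element of `P ∩ G'` not killed by `lam`
  have hy₀' : (y₀ : G) ∈ T₀ ⊔ (P ⊓ commutator G) := hA3 ⟨hy₀S, hy₀G⟩
  haveI : (P ⊓ commutator G).Normal := Subgroup.normal_inf_normal _ _
  rw [← SetLike.mem_coe, Subgroup.mul_normal] at hy₀'
  obtain ⟨t, ht, y, hy, hty⟩ := hy₀'
  have hyP : y ∈ P := hy.1
  have hyG : y ∈ commutator G := hy.2
  have hy1 : ext M lam y ≠ 1 := by
    intro h1
    apply hy₀M
    have e : ext M lam (y₀ : G) = ext M lam t * ext M lam y := by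
      rw [← hty]
      exact ext_mul M lam (Subgroup.commutator_le_self _ (hT₀M ht)) (hPM hyP)
    rw [hlamM' t (hT₀M ht), h1, mul_one, ext_of_mem M lam y₀.2] at e
    exact (QuotientGroup.eq_one_iff _).mp e
  -- a minimal normal subgroup `X ≤ P` carrying such an element
  obtain ⟨𝒳, h𝒳⟩ : ∃ 𝒳 : Set (Subgroup G),
    𝒳 = {X | X.Normal ∧ X ≤ P ∧ ∃ y ∈ X, y ∈ commutator G ∧ ext M lam y ≠ 1} := ⟨_, rfl⟩
  have h𝒳ne : 𝒳.Nonempty := ⟨P, by rw [h𝒳]; exact ⟨hPn, le_rfl, y, hyP, hyG, hy1⟩⟩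
  obtain ⟨X, hX𝒳, hXmin⟩ := (Set.toFinite 𝒳).exists_minimal h𝒳ne
  rw [h𝒳] at hX𝒳
  obtain ⟨hXn, hXP, x, hxX, hxG, hx1⟩ := hX𝒳
  have hX0 : X ≠ ⊥ := by
    rintro rfl
    rw [Subgroup.mem_bot] at hxX
    subst hxX
    apply hx1
    rw [ext_of_mem M lam M.one_mem]
    exact map_one lam
  haveI := hXn
  obtain ⟨Y₀, hch⟩ := exists_isChiefFactor_below X hX0
  have hY₀X : Y₀ < X := hch.1
  have hY₀n : Y₀.Normal := hch.2.2.1
  have hY₀kill : ∀ w ∈ Y₀, w ∈ commutator G → ext M lam w = 1 := by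
    intro w hw hwG
    by_contra hne
    have hY𝒳 : Y₀ ∈ 𝒳 := by rw [h𝒳]; exact ⟨hY₀n, hY₀X.le.trans hXP, w, hw, hwG, hne⟩
    have := hXmin hY𝒳 hY₀X.le
    exact absurd hY₀X (not_lt_of_ge this)
  -- the conjugation-closed set of elements acting with small degree on the chief factors below `P`
  obtain ⟨𝒵, h𝒵⟩ : ∃ 𝒵 : Set G, 𝒵 = {z | z ∈ (S : Subgroup G) ∧ ∀ U V : Subgroup G,
    Cfsg.IsChiefFactor U V → U ≤ P → Cfsg.iterCommutator U (Subgroup.zpowers z) (p - 1) ≤ V} :=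
    ⟨_, rfl⟩
  have hu₀𝒵 : u₀ ∈ 𝒵 := by
    rw [h𝒵]; exact ⟨hu₀S, fun U V h1 h2 => hchief U V h1 (hP ▸ h2)⟩
  have h𝒵S : 𝒵 ⊆ ((S : Subgroup G) : Set G) := by rw [h𝒵]; exact fun z hz => hz.1
  have h𝒵conj : ∀ z ∈ 𝒵, ∀ g : G, g⁻¹ * z * g ∈ (S : Subgroup G) → g⁻¹ * z * g ∈ 𝒵 := by
    intro z hz g hzg
    rw [h𝒵] at hz ⊢
    refine ⟨hzg, ?_⟩
    intro U V hUV hUP
    haveI hUn : U.Normal := hUV.2.1
    haveI hVn : V.Normal := hUV.2.2.1
    have h1 := hz.2 U V hUV hUP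
    have h2 := Subgroup.map_mono (f := (MulAut.conj g⁻¹).toMonoidHom) h1
    rw [iterCommutator_map, ← smul_eq_map_conj U, ← smul_eq_map_conj V, Subgroup.Normal.conj_smul_eq_self,
      Subgroup.Normal.conj_smul_eq_self, MonoidHom.map_zpowers] at h2
    have e : (MulAut.conj g⁻¹).toMonoidHom z = g⁻¹ * z * g := by
      show (MulAut.conj g⁻¹) z = g⁻¹ * z * g
      rw [MulAut.conj_apply, inv_inv]
    rw [e] at h2
    exact h2
  obtain ⟨R, hR⟩ : ∃ R : Subgroup G, R = Subgroup.closure 𝒵 := ⟨_, rfl⟩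
  have h𝒵R : 𝒵 ⊆ (R : Set G) := hR ▸ Subgroup.subset_closure
  have hRS : R ≤ (S : Subgroup G) := by rw [hR, Subgroup.closure_le]; exact h𝒵S
  have hRp : IsPGroup p R := S.2.to_le hRS
  have hRM : R ≤ M := hRS.trans hSM
  have hnorm : ∀ h : G, (∀ r ∈ R, h⁻¹ * r * h ∈ (S : Subgroup G)) →
      h ∈ Subgroup.normalizer (R : Set G) := by
    intro h hh
    apply mem_normalizer_of_conjR_subset
    have h1 : conjR h 𝒵 ⊆ (R : Set G) := by
      rintro _ ⟨z, hz, rfl⟩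
      exact h𝒵R (h𝒵conj z hz h (hh z (h𝒵R hz)))
    have := conjR_closure_subset (S := R) h1
    rwa [← hR] at this
  have hNR : Subgroup.normalizer (R : Set G) ≤ M := by
    apply hmax
    · intro s hs
      apply hnorm
      intro r hr
      exact (S : Subgroup G).mul_mem ((S : Subgroup G).mul_mem ((S : Subgroup G).inv_mem hs)
        (hRS hr)) hs
    · intro htop
      haveI hRn : R.Normal := Subgroup.normalizer_eq_top_iff.mp htop
      have := le_pCore R hRp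
      exact hu₀P (this (h𝒵R hu₀𝒵))
  have hfix : ∀ g : G, (∀ r ∈ R, g⁻¹ * r * g ∈ M) → g ∈ M := by
    intro g hg
    obtain ⟨Rg, hRg⟩ : ∃ Rg : Subgroup G, Rg = R.map (MulAut.conj g⁻¹).toMonoidHom := ⟨_, rfl⟩
    have hRgM : Rg ≤ M := by
      rw [hRg]
      rintro _ ⟨r, hr, rfl⟩
      show (MulAut.conj g⁻¹) r ∈ M
      rw [MulAut.conj_apply, inv_inv]
      exact hg r hr
    have hRgp : IsPGroup p Rg := hRg ▸ hRp.map _
    have hidx : ¬ p ∣ (S : Subgroup G).relIndex M :=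
      fun hd => S.not_dvd_index (hd.trans (Subgroup.relIndex_dvd_index_of_le hSM))
    obtain ⟨m, hm, hmR⟩ := exists_conj_le_of_not_dvd_relIndex hSM S.2 hidx hRgM hRgp
    have hh : g * m⁻¹ ∈ Subgroup.normalizer (R : Set G) := by
      apply hnorm
      intro r hr
      have h1 : g⁻¹ * r * g ∈ Rg := by
        rw [hRg]
        refine ⟨r, hr, ?_⟩
        show (MulAut.conj g⁻¹) r = g⁻¹ * r * g
        rw [MulAut.conj_apply, inv_inv]
      have := hmR (g⁻¹ * r * g) h1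
      have e : (g * m⁻¹)⁻¹ * r * (g * m⁻¹) = m * (g⁻¹ * r * g) * m⁻¹ := by group
      rw [e]
      exact this
    have := M.mul_mem (hNR hh) hm
    rwa [inv_mul_cancel_right] at this
  have hkill : ∀ z ∈ 𝒵, ∀ g : G,
      ext M lam (g⁻¹ * ((fun v : G => v⁻¹ * z⁻¹ * v * z)^[p - 1] x) * g) = 1 := by
    intro z hz g
    have hz' := hz
    rw [h𝒵] at hz'
    have h1 := iterate_mem_iterCommutator X z x hxX (p - 1)
    have h2 : (fun v : G => v⁻¹ * z⁻¹ * v * z)^[p - 1] x ∈ Y₀ := hz'.2 X Y₀ hch hXP h1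
    have h3 : (fun v : G => v⁻¹ * z⁻¹ * v * z)^[p - 1] x ∈ commutator G := by
      obtain ⟨k, hk⟩ : ∃ k, p - 1 = k + 1 := ⟨p - 2, by have := hp.1.two_le; omega⟩
      rw [hk] at h1 ⊢
      exact iterCommutator_succ_le_commutator _ _ _ h1
    apply hY₀kill
    · have := hY₀n.conj_mem _ h2 g⁻¹
      rwa [inv_inv] at this
    · have := (inferInstance : (commutator G).Normal).conj_mem _ h3 g⁻¹
      rwa [inv_inv] at this
  exact hx1 (transfer_eq_one_of_unique_fixed hA M lam P hPM R hRp 𝒵 hR hRM hfix x (hXP hxX) hxG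
    hkill)

end Key

end Cfsg.Agent.Helper33
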