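import Cfsg.Agent.Helper33.TransferConstrainedSections
import Cfsg.Agent.Helper33.TransferQuotCore2
import Cfsg.Agent.Helper33.TransferQuotCore3
import Cfsg.Agent.Helper33.UniqueMaxKey

set_option autoImplicit false
set_option linter.style.haveILetI false

universe u

open scoped Pointwise commutatorElement

namespace Cfsg.Agent.Helper33

section Central

variable {G : Type*} [Group G] [Finite G] {p : ℕ} [hp : Fact p.Prime]

/-- Transfer into `S / T₀`: an element of `S ∩ G'` all of whose `S`-valued conjugate powers are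
congruent to the corresponding powers modulo `T₀ ≥ S'` lies in `T₀`. -/
theorem mem_of_transfer_central (S : Sylow p G) (T₀ : Subgroup G)
    (hS' : ⁅(S : Subgroup G), (S : Subgroup G)⁆ ≤ T₀) (x : G) (hxS : x ∈ (S : Subgroup G))
    (hxG : x ∈ commutator G)
    (hkey : ∀ (k : ℕ) (g₀ : G), g₀⁻¹ * x ^ k * g₀ ∈ (S : Subgroup G) →
      (x ^ k)⁻¹ * (g₀⁻¹ * x ^ k * g₀) ∈ T₀) : x ∈ T₀ := by
  obtain ⟨B, hB⟩ : ∃ B : Subgroup (Abelianization ↥(S : Subgroup G)),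
    B = (T₀.subgroupOf (S : Subgroup G)).map Abelianization.of := ⟨_, rfl⟩
  obtain ⟨ϕ, hϕ⟩ : ∃ ϕ : ↥(S : Subgroup G) →* Abelianization ↥(S : Subgroup G) ⧸ B,
    ϕ = (QuotientGroup.mk' B).comp Abelianization.of := ⟨_, rfl⟩
  have hker : ∀ s : ↥(S : Subgroup G), ϕ s = 1 ↔ (s : G) ∈ T₀ := by
    intro s
    rw [hϕ, MonoidHom.comp_apply, QuotientGroup.mk'_apply, QuotientGroup.eq_one_iff, hB]
    constructor
    · rintro ⟨t, ht, hts⟩
      have h1 : Abelianization.of (t⁻¹ * s) = 1 := by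
        rw [map_mul, map_inv, hts, inv_mul_cancel]
      have h2 : t⁻¹ * s ∈ commutator ↥(S : Subgroup G) := by
        rw [← Abelianization.ker_of]; exact h1
      have h3 : ((t⁻¹ * s : ↥(S : Subgroup G)) : G) ∈ ⁅(S : Subgroup G), (S : Subgroup G)⁆ := by
        rw [← Subgroup.map_subtype_commutator]
        exact ⟨_, h2, rfl⟩
      have h4 := T₀.mul_mem (Subgroup.mem_subgroupOf.mp ht) (hS' h3)
      rw [Subgroup.coe_mul, Subgroup.coe_inv, mul_inv_cancel_left] at h4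
      exact h4
    · intro hs
      exact ⟨s, Subgroup.mem_subgroupOf.mpr hs, rfl⟩
  have key : ∀ (k : ℕ) (g₀ : G) (h : g₀⁻¹ * x ^ k * g₀ ∈ (S : Subgroup G)),
      ϕ ⟨g₀⁻¹ * x ^ k * g₀, h⟩ = ϕ ⟨x, hxS⟩ ^ k := by
    intro k g₀ h
    have hxk : x ^ k ∈ (S : Subgroup G) := (S : Subgroup G).pow_mem hxS k
    have hd : (x ^ k)⁻¹ * (g₀⁻¹ * x ^ k * g₀) ∈ (S : Subgroup G) :=
      (S : Subgroup G).mul_mem ((S : Subgroup G).inv_mem hxk) h
    have e : (⟨g₀⁻¹ * x ^ k * g₀, h⟩ : ↥(S : Subgroup G)) =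
        (⟨x, hxS⟩ : ↥(S : Subgroup G)) ^ k * ⟨(x ^ k)⁻¹ * (g₀⁻¹ * x ^ k * g₀), hd⟩ := by
      apply Subtype.ext
      simp only [Subgroup.coe_mul, Subgroup.coe_pow]
      rw [mul_inv_cancel_left]
    rw [e, map_mul, map_pow,
      (hker ⟨(x ^ k)⁻¹ * (g₀⁻¹ * x ^ k * g₀), hd⟩).mpr (hkey k g₀ h), mul_one]
  have h1 := transfer_eq_pow_of_key ϕ x hxS key
  have h2 : MonoidHom.transfer ϕ x = 1 := by
    have : commutator G ≤ (MonoidHom.transfer ϕ).ker := Abelianization.commutator_subset_ker _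
    exact this hxG
  rw [h2] at h1
  have hord1 : orderOf (ϕ ⟨x, hxS⟩) ∣ (S : Subgroup G).index := orderOf_dvd_of_pow_eq_one h1.symm
  obtain ⟨j, hj⟩ := S.2 ⟨x, hxS⟩
  have hord2 : orderOf (ϕ ⟨x, hxS⟩) ∣ p ^ j := by
    apply orderOf_dvd_of_pow_eq_one
    rw [← map_pow, hj, map_one]
  have hcop : (p ^ j).Coprime (S : Subgroup G).index :=
    Nat.Coprime.pow_left j ((Nat.Prime.coprime_iff_not_dvd hp.out).mpr S.not_dvd_index)
  have hone : orderOf (ϕ ⟨x, hxS⟩) = 1 := Nat.eq_one_of_dvd_coprimes hcop hord2 hord1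
  exact (hker ⟨x, hxS⟩).mp (orderOf_eq_one_iff.mp hone)

omit [Finite G] hp in
/-- If `P ∩ H' ≤ T₀` for a subgroup `H ≥ P` (`P` normal in `G`), then `H` normalizes `T₀ ∩ P`. -/
theorem le_normalizer_inf_of_commutator_le [Finite G] (P : Subgroup G) [hPn : P.Normal]
    (T₀ H : Subgroup G) (hPH : P ≤ H) (h : P ⊓ ⁅H, H⁆ ≤ T₀) :
    H ≤ Subgroup.normalizer ((T₀ ⊓ P : Subgroup G) : Set G) := by
  intro g hg
  apply mem_normalizer_of_conjR_subset
  rintro _ ⟨x, hx, rfl⟩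
  obtain ⟨hxT, hxP⟩ := Subgroup.mem_inf.mp hx
  have hconj : g⁻¹ * x * g ∈ P := by
    have := hPn.conj_mem x hxP g⁻¹
    rwa [inv_inv] at this
  have hc : x⁻¹ * (g⁻¹ * x * g) ∈ P ⊓ ⁅H, H⁆ := by
    refine Subgroup.mem_inf.mpr ⟨P.mul_mem (P.inv_mem hxP) hconj, ?_⟩
    have e : x⁻¹ * (g⁻¹ * x * g) = ⁅x⁻¹, g⁻¹⁆ := by rw [commutatorElement_def]; group
    rw [e]
    exact Subgroup.commutator_mem_commutator (H.inv_mem (hPH hxP)) (H.inv_mem hg)
  have := T₀.mul_mem hxT (h hc)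
  rw [mul_inv_cancel_left] at this
  exact Subgroup.mem_inf.mpr ⟨this, hconj⟩

/-- If `T₀ ∩ O_p(G)` is normal in `G`, `S' ≤ T₀`, and `O_p(G) ∩ H' ≤ T₀` for all proper `H ≥ S`, then
`O_p(G) ∩ G' ≤ T₀` (Frattini argument and transfer into `S / T₀`). -/
theorem pCore_inf_commutator_le_of_normal (S : Sylow p G) (T₀ : Subgroup G)
    (hS' : ⁅(S : Subgroup G), (S : Subgroup G)⁆ ≤ T₀)
    (hQS : Cfsg.pCore p G ≠ (S : Subgroup G))
    (hsub : ∀ H : Subgroup G, H ≠ ⊤ → (S : Subgroup G) ≤ H → Cfsg.pCore p G ⊓ ⁅H, H⁆ ≤ T₀)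
    (hDn : (T₀ ⊓ Cfsg.pCore p G).Normal) :
    Cfsg.pCore p G ⊓ commutator G ≤ T₀ := by
  obtain ⟨P, hP⟩ : ∃ P : Subgroup G, P = Cfsg.pCore p G := ⟨_, rfl⟩
  rw [← hP] at hQS hsub hDn ⊢
  have hPn : P.Normal := hP ▸ pCore_normal p
  have hPS : P ≤ (S : Subgroup G) := hP ▸ pCore_le_sylow S
  obtain ⟨D, hD⟩ : ∃ D : Subgroup G, D = T₀ ⊓ P := ⟨_, rfl⟩
  haveI hDn' : D.Normal := hD ▸ hDn
  obtain ⟨π, hπ⟩ : ∃ π : G →* G ⧸ D, π = QuotientGroup.mk' D := ⟨_, rfl⟩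
  have hπs : Function.Surjective π := hπ ▸ QuotientGroup.mk'_surjective D
  have hπ1 : ∀ g : G, π g = 1 ↔ g ∈ D := by
    intro g; rw [hπ, QuotientGroup.mk'_apply, QuotientGroup.eq_one_iff]
  haveI hPbn : (P.map π).Normal := Subgroup.Normal.map hPn π hπs
  obtain ⟨C, hC⟩ : ∃ C : Subgroup G,
    C = (Subgroup.centralizer ((P.map π : Subgroup (G ⧸ D)) : Set (G ⧸ D))).comap π := ⟨_, rfl⟩
  haveI hCn : C.Normal := hC ▸ Subgroup.Normal.comap Subgroup.normal_centralizer π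
  have hmemC : ∀ g : G, g ∈ C ↔ ∀ x ∈ P, x⁻¹ * g⁻¹ * x * g ∈ D := by
    intro g
    rw [hC, Subgroup.mem_comap, Subgroup.mem_centralizer_iff]
    constructor
    · intro h x hx
      have h1 := h (π x) ⟨x, hx, rfl⟩
      rw [← hπ1, map_mul, map_mul, map_mul, map_inv, map_inv]
      have e : (π x)⁻¹ * (π g)⁻¹ * π x * π g = (π x)⁻¹ * (π g)⁻¹ * (π x * π g) := by group
      rw [e, h1]
      group
    · rintro h _ ⟨x, hx, rfl⟩
      have h1 := (hπ1 _).mpr (h x hx)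
      rw [map_mul, map_mul, map_mul, map_inv, map_inv] at h1
      calc π x * π g = π g * π x * ((π x)⁻¹ * (π g)⁻¹ * π x * π g) := by group
        _ = π g * π x := by rw [h1, mul_one]
  have hHC : ∀ H : Subgroup G, H ≠ ⊤ → (S : Subgroup G) ≤ H → H ≤ C := by
    intro H hH hSH g hg
    rw [hmemC]
    intro x hx
    have hconj : g⁻¹ * x * g ∈ P := by
      have := hPn.conj_mem x hx g⁻¹
      rwa [inv_inv] at this
    have hc : x⁻¹ * g⁻¹ * x * g ∈ P ⊓ ⁅H, H⁆ := by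
      refine Subgroup.mem_inf.mpr ⟨?_, ?_⟩
      · have := P.mul_mem (P.inv_mem hx) hconj
        have e : x⁻¹ * (g⁻¹ * x * g) = x⁻¹ * g⁻¹ * x * g := by group
        rwa [e] at this
      · have e : x⁻¹ * g⁻¹ * x * g = ⁅x⁻¹, g⁻¹⁆ := by rw [commutatorElement_def]; group
        rw [e]
        exact Subgroup.commutator_mem_commutator (H.inv_mem (hSH (hPS hx))) (H.inv_mem hg)
    rw [hD]
    exact Subgroup.mem_inf.mpr ⟨hsub H hH hSH hc, (Subgroup.mem_inf.mp hc).1⟩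
  have hNS : Subgroup.normalizer (((S : Subgroup G) : Subgroup G) : Set G) ≠ ⊤ := by
    intro htop
    haveI hSn : (S : Subgroup G).Normal := Subgroup.normalizer_eq_top_iff.mp htop
    exact hQS (le_antisymm hPS (hP ▸ le_pCore (S : Subgroup G) S.2))
  have hNC := hHC _ hNS Subgroup.le_normalizer
  have hSC : (S : Subgroup G) ≤ C := Subgroup.le_normalizer.trans hNC
  have hCtop : ∀ g : G, g ∈ C := by
    intro g
    have h0 : conjR g (((⊥ : Subgroup G) : Subgroup G) : Set G) ⊆ ((S : Subgroup G) : Set G) := by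
      rintro _ ⟨a, ha, rfl⟩
      have ha1 : a = 1 := Subgroup.mem_bot.mp ha
      rw [ha1]
      show g⁻¹ * 1 * g ∈ (S : Subgroup G)
      rw [mul_one, inv_mul_cancel]
      exact (S : Subgroup G).one_mem
    obtain ⟨c, hcC, hn, -⟩ := exists_frattini_fusion S C ⊥ bot_le g h0
    rw [inf_eq_left.mpr hSC] at hn
    have := C.mul_mem hcC (hNC hn)
    rwa [mul_inv_cancel_left] at this
  intro x hx
  obtain ⟨hxP, hxG⟩ := Subgroup.mem_inf.mp hx
  apply mem_of_transfer_central S T₀ hS' x (hPS hxP) hxG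
  intro k g₀ _
  have h1 := (hmemC g₀).mp (hCtop g₀) (x ^ k) (P.pow_mem hxP k)
  rw [hD] at h1
  have e : (x ^ k)⁻¹ * (g₀⁻¹ * x ^ k * g₀) = (x ^ k)⁻¹ * g₀⁻¹ * x ^ k * g₀ := by group
  rw [e]
  exact (Subgroup.mem_inf.mp h1).1

end Central

section Main

variable {p : ℕ} [hp : Fact p.Prime] {𝓦 : Set (∀ (Q : Type u) [Group Q], Subgroup Q)}
  {G : Type u} [Group G] [Finite G]

/-- **Structure of a minimal failure of transfer control.** -/
theorem min_failure_structure (h𝓦 : ∀ W ∈ 𝓦, Cfsg.IsCharPFunctor.{u} p W) (hne : 𝓦.Nonempty)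
    (S : Sylow p G)
    (hsub : ∀ H : Subgroup G, H ≠ ⊤ → Cfsg.FamilyControlsTransferIn p (FamW 𝓦 ↥H) ⊤)
    (hquo : ∀ N : Subgroup G, [N.Normal] → N ≠ ⊥ →
      Cfsg.FamilyControlsTransferIn p (FamW 𝓦 (G ⧸ N)) ⊤)
    (hG : ¬ Cfsg.FamilyControlsTransferIn p (FamW 𝓦 G) ⊤)
    (hcon : Constrained p G)
    (T M : Subgroup G) (hT : T = focalTarget (FamW 𝓦 G) (S : Subgroup G))
    (hM : M = Subgroup.normalizer ((T ⊓ Cfsg.pCore p G : Subgroup G) : Set G)) :
    (M ≠ ⊤ ∧ ∀ H : Subgroup G, (S : Subgroup G) ≤ H → H ≠ ⊤ → H ≤ M) ∧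
    (⁅Cfsg.pCore p G, M⁆ ≤ Cfsg.pCore p G ⊓ ⁅M, M⁆ ∧
      Cfsg.pCore p G ⊓ ⁅M, M⁆ ≤ Cfsg.pCore p G ⊓ T) ∧
    ∀ u : G, u ∈ (S : Subgroup G) → u ∉ Cfsg.pCore p G →
      ∃ U V : Subgroup G, Cfsg.IsChiefFactor U V ∧ U ≤ Cfsg.pCore p G ∧
        ¬ Cfsg.iterCommutator U (Subgroup.zpowers u) (p - 1) ≤ V := by
  have hPn : (Cfsg.pCore p G).Normal := pCore_normal p
  have hPS : Cfsg.pCore p G ≤ (S : Subgroup G) := pCore_le_sylow S
  subst hT
  -- non-control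
  have hnot : ¬ ((S : Subgroup G) ⊓ commutator G ≤ focalTarget (FamW 𝓦 G) (S : Subgroup G)) :=
    fun h => hG (familyControlsTransfer_of_le S.2 S.not_dvd_index h)
  have hsubT : ∀ H : Subgroup G, H ≠ ⊤ → (S : Subgroup G) ≤ H →
      (S : Subgroup G) ⊓ ⁅H, H⁆ ≤ focalTarget (FamW 𝓦 G) (S : Subgroup G) := by
    intro H hH hSH
    exact inf_commutator_le_of_subgroup h𝓦 H (hsub H hH) hSH S.2 S.not_dvd_index
  -- the normalizers of the `W(S)` are proper and contain `S`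
  have hNW : ∀ W' ∈ FamW 𝓦 G,
      Subgroup.normalizer ((W' (S : Subgroup G) : Subgroup G) : Set G) ≠ ⊤ := by
    intro W' hW' htop
    apply hnot
    unfold focalTarget
    refine le_trans ?_ (le_iSup₂ (f := fun (W'' : Subgroup G → Subgroup G) (_ : W'' ∈ FamW 𝓦 G) =>
      (S : Subgroup G) ⊓ ⁅Subgroup.normalizer ((W'' (S : Subgroup G) : Subgroup G) : Set G),
        Subgroup.normalizer ((W'' (S : Subgroup G) : Subgroup G) : Set G)⁆) W' hW')
    rw [htop, commutator_def]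
  have hSNW : ∀ W' ∈ FamW 𝓦 G,
      (S : Subgroup G) ≤ Subgroup.normalizer ((W' (S : Subgroup G) : Subgroup G) : Set G) := by
    intro W' hW'
    exact Subgroup.le_normalizer.trans
      (normalizer_le_normalizer_functor (famW_isConjugacyFunctor h𝓦 G W' hW') S.2)
  have hQS : Cfsg.pCore p G ≠ (S : Subgroup G) := by
    intro hPS'
    obtain ⟨W, hW⟩ := hne
    have hW' : Cfsg.inducedFunctor (G := G) W ∈ FamW 𝓦 G := ⟨W, hW, rfl⟩
    apply hNW _ hW'
    have hNS : Subgroup.normalizer (((S : Subgroup G) : Subgroup G) : Set G) = ⊤ := by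
      rw [← hPS']; exact Subgroup.normalizer_eq_top_iff.mpr hPn
    rw [eq_top_iff, ← hNS]
    exact normalizer_le_normalizer_functor (famW_isConjugacyFunctor h𝓦 G _ hW') S.2
  have hStop : (S : Subgroup G) ≠ ⊤ := by
    intro htop
    apply hQS
    apply le_antisymm hPS
    haveI : (S : Subgroup G).Normal := htop ▸ (inferInstance : (⊤ : Subgroup G).Normal)
    exact le_pCore (S : Subgroup G) S.2
  have hS' : ⁅(S : Subgroup G), (S : Subgroup G)⁆ ≤ focalTarget (FamW 𝓦 G) (S : Subgroup G) :=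
    le_trans (le_inf (Subgroup.commutator_le_self _) le_rfl) (hsubT (S : Subgroup G) hStop le_rfl)
  have hsubP : ∀ H : Subgroup G, H ≠ ⊤ → (S : Subgroup G) ≤ H →
      Cfsg.pCore p G ⊓ ⁅H, H⁆ ≤ focalTarget (FamW 𝓦 G) (S : Subgroup G) :=
    fun H hH hSH => le_trans (inf_le_inf_right _ hPS) (hsubT H hH hSH)
  have hmax : ∀ H : Subgroup G, (S : Subgroup G) ≤ H → H ≠ ⊤ → H ≤ M := by
    intro H hSH hH
    rw [hM]
    exact le_normalizer_inf_of_commutator_le (Cfsg.pCore p G) _ H (hPS.trans hSH) (hsubP H hH hSH)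
  have hSM : (S : Subgroup G) ≤ M := hmax (S : Subgroup G) le_rfl hStop
  have hP0 : Cfsg.pCore p G ≠ ⊥ := by
    intro h0
    apply hQS
    have hc : Subgroup.centralizer ((Cfsg.pCore p G : Subgroup G) : Set G) ≤ Cfsg.pCore p G := hcon
    rw [h0] at hc ⊢
    have htop : Subgroup.centralizer (((⊥ : Subgroup G) : Subgroup G) : Set G) = ⊤ := by
      rw [Subgroup.coe_bot, Subgroup.centralizer_eq_top_iff_subset]
      rintro x hx
      rw [Set.mem_singleton_iff] at hx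
      rw [hx]
      exact Subgroup.one_mem _
    rw [htop] at hc
    exact le_antisymm bot_le (le_top.trans hc)
  have hMtop : M ≠ ⊤ := by
    intro htop
    apply hnot
    have hDn : (focalTarget (FamW 𝓦 G) (S : Subgroup G) ⊓ Cfsg.pCore p G).Normal := by
      rw [hM] at htop; exact Subgroup.normalizer_eq_top_iff.mp htop
    have hPG := pCore_inf_commutator_le_of_normal S _ hS' hQS hsubP hDn
    exact inf_commutator_le_of_quotient_pCore' h𝓦 S hQS (hquo _ hP0) hsubT hPG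
  refine ⟨⟨hMtop, hmax⟩, ⟨?_, ?_⟩, ?_⟩
  · exact le_inf (Subgroup.commutator_le_left _ _) (Subgroup.commutator_mono (hPS.trans hSM) le_rfl)
  · exact le_inf inf_le_left (hsubP M hMtop hSM)
  · intro u huS huP
    by_contra hcon4
    push Not at hcon4
    apply hnot
    have hTM : focalTarget (FamW 𝓦 G) (S : Subgroup G) ≤ ⁅M, M⁆ := by
      unfold focalTarget
      refine iSup₂_le ?_
      intro W' hW'
      exact le_trans inf_le_right (Subgroup.commutator_mono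
        (hmax _ (hSNW W' hW') (hNW W' hW')) (hmax _ (hSNW W' hW') (hNW W' hW')))
    have hA3 := inf_commutator_le_sup_of_quotient_pCore h𝓦 S hQS (hquo _ hP0) hsubT
    have h1 := focal_le_of_unique_max S M hSM hmax _ hTM hA3 u huS huP hcon4
    intro x hx
    exact hsubT M hMtop hSM ⟨hx.1, h1 ⟨hx.2, hx.1⟩⟩

end Main

end Cfsg.Agent.Helper33
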