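import Cfsg.Agent.Helper33.KInfElement
import Cfsg.Agent.Helper33.CritDegree
import Cfsg.Agent.S0093
import Cfsg.Agent.S1998

set_option autoImplicit false
set_option linter.style.haveILetI false

open scoped commutatorElement

universe u

namespace Cfsg.Agent.Helper33

section Crit

variable {G : Type*} [Group G] [Finite G] {p : ℕ} [hp : Fact p.Prime]

/-- A critical subgroup of `O_p(G)`, viewed inside `G`. -/
theorem exists_critical_pCore :
    ∃ A : Subgroup G, A ≤ Cfsg.pCore p G ∧ A.Normal ∧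
      ⁅A, A⁆ ≤ Subgroup.centralizer ((A : Subgroup G) : Set G) ∧
      ⁅Cfsg.pCore p G, A⁆ ≤ A ⊓ Subgroup.centralizer ((A : Subgroup G) : Set G) ∧
      Cfsg.pCore p G ⊓ Subgroup.centralizer ((A : Subgroup G) : Set G) =
        A ⊓ Subgroup.centralizer ((A : Subgroup G) : Set G) := by
  obtain ⟨T, hT⟩ : ∃ T : Subgroup G, T = Cfsg.pCore p G := ⟨_, rfl⟩
  rw [← hT]
  haveI hTn : T.Normal := hT ▸ pCore_normal p
  have hTp : IsPGroup p ↥T := hT ▸ pCore_isPGroup
  obtain ⟨H, hHchar, -, hH3, hH4⟩ := Cfsg.Agent.S0093.result (P := ↥T) hTp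
  have hinj : Function.Injective T.subtype := T.subtype_injective
  obtain ⟨A, hA⟩ : ∃ A : Subgroup G, A = H.map T.subtype := ⟨_, rfl⟩
  have hAT : A ≤ T := hA ▸ Subgroup.map_subtype_le H
  have hAsub : A.subgroupOf T = H := by
    ext x
    rw [Subgroup.mem_subgroupOf, hA]
    constructor
    · rintro ⟨y, hy, hyx⟩
      have : y = x := Subtype.ext hyx
      rw [← this]; exact hy
    · intro hx
      exact ⟨x, hx, rfl⟩
  have hZmap : (H ⊓ Subgroup.centralizer (H : Set ↥T)).map T.subtype =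
      A ⊓ Subgroup.centralizer ((A : Subgroup G) : Set G) := by
    rw [map_inf_centralizer _ hinj, ← hA]
  have htop : (⊤ : Subgroup ↥T).map T.subtype = T := by
    rw [← MonoidHom.range_eq_map, Subgroup.range_subtype]
  refine ⟨A, hAT, ?_, ?_, ?_, ?_⟩
  · exact normal_of_characteristic_subgroupOf hAT (hAsub ▸ hHchar)
  · rw [hA, ← Subgroup.map_commutator, map_le_centralizer_map_iff _ hinj]
    exact ((Subgroup.commutator_mono le_rfl le_top).trans hH3).trans inf_le_right
  · have h1 : ⁅T, A⁆ = (⁅(⊤ : Subgroup ↥T), H⁆).map T.subtype := by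
      rw [Subgroup.map_commutator, htop, ← hA]
    rw [← hZmap, h1, Subgroup.commutator_comm]
    exact Subgroup.map_mono hH3
  · apply le_antisymm
    · intro x hx
      obtain ⟨hxT, hxc⟩ := Subgroup.mem_inf.mp hx
      refine Subgroup.mem_inf.mpr ⟨?_, hxc⟩
      have h1 : (⟨x, hxT⟩ : ↥T) ∈ Subgroup.centralizer (H : Set ↥T) := by
        rw [Subgroup.mem_centralizer_iff]
        intro h hh
        apply Subtype.ext
        have hmem : (h : G) ∈ A := hA ▸ ⟨h, hh, rfl⟩
        exact Subgroup.mem_centralizer_iff.mp hxc (h : G) hmem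
      rw [hA]
      exact ⟨⟨x, hxT⟩, hH4 h1, rfl⟩
    · exact inf_le_inf_right _ hAT

end Crit

section Degree

variable {G : Type u} [Group G] [Finite G] {p : ℕ} [hp : Fact p.Prime]

/-- If a K-infinity subgroup of `S` is not normal in `G`, some `g ∈ S` outside `O_p(G)` acts with degree
at most four on all chief factors of `G` below `O_p(G)`, and quadratically on `Z(O_p(G))`. -/
theorem exists_degree_four_element (S : Sylow p G)
    (hK : ¬ (Cfsg.inducedFunctor Cfsg.kInfLower (S : Subgroup G)).Normal ∨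
      ¬ (Cfsg.inducedFunctor Cfsg.kInfUpper (S : Subgroup G)).Normal) :
    ∃ g : G, g ∈ (S : Subgroup G) ∧ g ∉ Cfsg.pCore p G ∧
      (∀ U V : Subgroup G, Cfsg.IsChiefFactor U V → U ≤ Cfsg.pCore p G →
        Cfsg.iterCommutator U (Subgroup.zpowers g) 4 ≤ V) ∧
      ⁅⁅Cfsg.pCore p G ⊓ Subgroup.centralizer ((Cfsg.pCore p G : Subgroup G) : Set G),
        Subgroup.zpowers g⁆, Subgroup.zpowers g⁆ = ⊥ := by
  obtain ⟨A, hAT, hAn, hA2, hA3, hA4⟩ := exists_critical_pCore (G := G) (p := p)
  obtain ⟨g, hgS, hgT, hcub, hquad⟩ := exists_cubic_quadratic_element S A hAT hAn hA2 hA3 hK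
  haveI : (Cfsg.pCore p G).Normal := pCore_normal p
  refine ⟨g, hgS, hgT, ?_, ?_⟩
  · have key := chief_degree_of_critical (Cfsg.pCore p G) pCore_isPGroup A hAT hAn hA3 hA4
      (Subgroup.zpowers g) 3 2 (by norm_num) (by norm_num)
      (fun U V _ hUA => by
        have h1 := iterCommutator_mono' hUA (Subgroup.zpowers g) 3
        rw [hcub] at h1
        exact h1.trans bot_le)
      (fun U V _ hUZ => by
        have h1 := iterCommutator_mono' hUZ (Subgroup.zpowers g) 2
        have h2 : Cfsg.iterCommutator (A ⊓ Subgroup.centralizer ((A : Subgroup G) : Set G))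
            (Subgroup.zpowers g) 2 = ⊥ := hquad
        rw [h2] at h1
        exact h1.trans bot_le)
    exact key
  · apply le_bot_iff.mp
    rw [← hquad]
    have hle : Cfsg.pCore p G ⊓ Subgroup.centralizer ((Cfsg.pCore p G : Subgroup G) : Set G) ≤
        A ⊓ Subgroup.centralizer ((A : Subgroup G) : Set G) := by
      rw [← hA4]
      exact inf_le_inf_left _ (Subgroup.centralizer_le (by exact_mod_cast hAT))
    exact Subgroup.commutator_mono (Subgroup.commutator_mono hle le_rfl) le_rfl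

end Degree

section Transfer

theorem familyControlsTransferIn_singleton_iff {G : Type*} [Group G] {p : ℕ}
    (W : Subgroup G → Subgroup G) (H : Subgroup G) :
    Cfsg.FamilyControlsTransferIn p {W} H ↔ Cfsg.ControlsTransferIn p W H := by
  unfold Cfsg.FamilyControlsTransferIn Cfsg.ControlsTransferIn
  simp only [iSup_singleton]

/-- Proper sections have smaller order. -/
theorem card_section_lt {G : Type*} [Group G] [Finite G] (K R : Subgroup G)
    [hR : (R.subgroupOf K).Normal] (h : K = ⊤ → R ≠ ⊥) :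
    Nat.card (↥K ⧸ R.subgroupOf K) < Nat.card G := by
  have h1 := Subgroup.card_eq_card_quotient_mul_card_subgroup (R.subgroupOf K)
  have h2 : 0 < Nat.card (R.subgroupOf K) := Nat.card_pos
  have h3 : 0 < Nat.card (↥K ⧸ R.subgroupOf K) := Nat.card_pos
  have hK : Nat.card K ≤ Nat.card G := Subgroup.card_le_card_group K
  by_cases hKtop : K = ⊤
  · have hR0 : R ≠ ⊥ := h hKtop
    have h4 : R.subgroupOf K ≠ ⊥ := by
      intro h0
      apply hR0
      rw [Subgroup.subgroupOf_eq_bot, hKtop] at h0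
      exact disjoint_top.mp h0
    have h5 : 1 < Nat.card (R.subgroupOf K) := (Subgroup.one_lt_card_iff_ne_bot _).mpr h4
    nlinarith
  · have h4 : Nat.card K < Nat.card G := by
      have := card_lt_card_of_lt' (lt_top_iff_ne_top.mpr hKtop)
      rwa [Subgroup.card_top] at this
    nlinarith

variable {p : ℕ} [hp : Fact p.Prime]

/-- **Glauberman**: for `p ≥ 5` the lower K-infinity subgroup controls transfer. -/
theorem kInfLower_controlsTransfer (hp5 : 5 ≤ p) :
    ∀ (n : ℕ) (G : Type u) [Group G] [Finite G], Nat.card G = n →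
      Cfsg.ControlsTransferIn p (Cfsg.inducedFunctor (G := G) Cfsg.kInfLower) ⊤ := by
  intro n
  induction n using Nat.strong_induction_on with
  | _ n ih =>
  intro G _ _ hcard
  by_contra hG
  obtain ⟨𝓦, h𝓦def⟩ : ∃ 𝓦 : Set (∀ (Q : Type u) [Group Q], Subgroup Q),
    𝓦 = {fun (Q : Type u) [Group Q] => Cfsg.kInfLower Q} := ⟨_, rfl⟩
  have h𝓦 : ∀ W ∈ 𝓦, Cfsg.IsCharPFunctor.{u} p W := by
    rw [h𝓦def]
    intro W hW
    rw [Set.mem_singleton_iff] at hW
    rw [hW]
    exact isCharPFunctor_kInfLower p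
  have hne : 𝓦.Nonempty := by rw [h𝓦def]; exact Set.singleton_nonempty _
  have hfam : ∀ (X : Type u) [Group X],
      Cfsg.FamilyControlsTransferIn p ((fun W => Cfsg.inducedFunctor (G := X) W) '' 𝓦) ⊤ ↔
        Cfsg.ControlsTransferIn p (Cfsg.inducedFunctor (G := X) Cfsg.kInfLower) ⊤ := by
    intro X _
    rw [h𝓦def, Set.image_singleton]
    exact familyControlsTransferIn_singleton_iff _ _
  obtain ⟨S⟩ : Nonempty (Sylow p G) := inferInstance
  have hsec : ∀ (K R : Subgroup G) [hR : (R.subgroupOf K).Normal], (K = ⊤ → R ≠ ⊥) →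
      Cfsg.FamilyControlsTransferIn p
        ((fun W => Cfsg.inducedFunctor (G := (↥K ⧸ R.subgroupOf K)) W) '' 𝓦) ⊤ := by
    intro K R hR hKR
    rw [hfam]
    exact ih _ (hcard ▸ card_section_lt K R hKR) _ rfl
  have hG' : ¬ Cfsg.FamilyControlsTransferIn p
      ((fun W => Cfsg.inducedFunctor (G := G) W) '' 𝓦) ⊤ := by
    rw [hfam]; exact hG
  obtain ⟨-, -, -, h4⟩ := Cfsg.Agent.S1998.result S 𝓦 h𝓦 hne hsec hG' _ _ rfl rfl
  -- the lower K-infinity subgroup is not normal
  have hKn : ¬ (Cfsg.inducedFunctor Cfsg.kInfLower (S : Subgroup G)).Normal := by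
    intro hn
    apply hG
    refine ⟨S, le_top, S.2, ?_, ?_⟩
    · rw [Subgroup.relIndex_top_right]; exact S.not_dvd_index
    · rw [Subgroup.normalizer_eq_top_iff.mpr hn, inf_top_eq]
  obtain ⟨g, hgS, hgT, hdeg, -⟩ := exists_degree_four_element S (Or.inl hKn)
  obtain ⟨U, V, hUV, hUT, hnot⟩ := h4 g hgS hgT
  apply hnot
  have hZU : Subgroup.zpowers g ≤ Subgroup.normalizer (U : Set G) := by
    rw [Subgroup.normalizer_eq_top_iff.mpr hUV.2.1]; exact le_top
  exact (iterCommutator_antitone U _ hZU (by omega : 4 ≤ p - 1)).trans (hdeg U V hUV hUT)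

end Transfer

end Cfsg.Agent.Helper33
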