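import Mathlib
import Cfsg.Agent.Helper63.PGroup

set_option autoImplicit false

/-!
# (P1) of #5347 for S5320 (helper88): a normal subgroup `T > Z` of the `p`-group `S` contains an
element outside `Z` which is central in `S` modulo `Z`.   (helper33)
-/

namespace Cfsg.Agent.Helper33.PSp4

/-- (P1) a subgroup `T > Z` normalized by the `p`-group `S ≥ T` contains an element outside `Z` which is central in `S` modulo `Z` -/
theorem exists_central_mod {G : Type*} [Group G] [Finite G] (p : ℕ) [Fact p.Prime] (Z S T : Subgroup G)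
    (hS : IsPGroup p S) (hZc : Z ≤ Subgroup.center G) (hZT : Z ≤ T) (hTS : T ≤ S) (hne : T ≠ Z)
    (hnorm : ∀ t ∈ T, ∀ s ∈ S, s * t * s⁻¹ ∈ T) :
    ∃ x ∈ T, x ∉ Z ∧ ∀ s ∈ S, x * s * x⁻¹ * s⁻¹ ∈ Z := by
  classical
  have hZn : (Z.subgroupOf S).Normal := by
    constructor
    intro z hz s
    rw [Subgroup.mem_subgroupOf] at hz ⊢
    have hc := Subgroup.mem_center_iff.1 (hZc hz) (s : G)
    have h1 : ((s * z * s⁻¹ : ↥S) : G) = (z : G) := by
      show (s : G) * (z : G) * (s : G)⁻¹ = (z : G)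
      rw [hc]
      group
    rw [h1]
    exact hz
  have hTn : (T.subgroupOf S).Normal := by
    constructor
    intro t ht s
    rw [Subgroup.mem_subgroupOf] at ht ⊢
    exact hnorm _ ht _ s.2
  let π := QuotientGroup.mk' (Z.subgroupOf S)
  have hπs : Function.Surjective π := QuotientGroup.mk'_surjective _
  have hNn : ((T.subgroupOf S).map π).Normal := Subgroup.Normal.map hTn π hπs
  -- `T ≠ Z` gives an element of `T` outside `Z`
  obtain ⟨t, htT, htZ⟩ : ∃ t ∈ T, t ∉ Z := by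
    by_contra hcon
    push Not at hcon
    exact hne (le_antisymm hcon hZT)
  have hNne : (T.subgroupOf S).map π ≠ ⊥ := by
    intro hbot
    have h1 : π ⟨t, hTS htT⟩ ∈ (T.subgroupOf S).map π :=
      Subgroup.mem_map_of_mem π (Subgroup.mem_subgroupOf.2 htT)
    rw [hbot, Subgroup.mem_bot] at h1
    have h2 : (⟨t, hTS htT⟩ : ↥S) ∈ Z.subgroupOf S := by
      rw [← QuotientGroup.ker_mk' (Z.subgroupOf S)]
      exact h1
    exact htZ (Subgroup.mem_subgroupOf.1 h2)
  have hpQ : IsPGroup p (↥S ⧸ Z.subgroupOf S) := hS.to_quotient _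
  have hmeet := Cfsg.Agent.Helper63.normal_inf_center_ne_bot hpQ ((T.subgroupOf S).map π) hNne
  obtain ⟨⟨c, hc⟩, hc1⟩ := (Subgroup.ne_bot_iff_exists_ne_one).1 hmeet
  have hc1' : c ≠ 1 := fun h => hc1 (Subtype.ext h)
  obtain ⟨hcN, hcC⟩ := Subgroup.mem_inf.1 hc
  obtain ⟨x, hxT, rfl⟩ := Subgroup.mem_map.1 hcN
  refine ⟨(x : G), Subgroup.mem_subgroupOf.1 hxT, ?_, ?_⟩
  · intro hxZ
    apply hc1'
    have : x ∈ (QuotientGroup.mk' (Z.subgroupOf S)).ker := by
      rw [QuotientGroup.ker_mk']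
      exact Subgroup.mem_subgroupOf.2 hxZ
    exact this
  · intro s hs
    have h1 := Subgroup.mem_center_iff.1 hcC (π ⟨s, hs⟩)
    have h2 : π (x * ⟨s, hs⟩ * x⁻¹ * (⟨s, hs⟩ : ↥S)⁻¹) = 1 := by
      rw [map_mul, map_mul, map_mul, map_inv, map_inv, ← h1]
      group
    have h3 : x * ⟨s, hs⟩ * x⁻¹ * (⟨s, hs⟩ : ↥S)⁻¹ ∈ Z.subgroupOf S := by
      rw [← QuotientGroup.ker_mk' (Z.subgroupOf S)]
      exact h2
    exact Subgroup.mem_subgroupOf.1 h3

end Cfsg.Agent.Helper33.PSp4
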