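import Mathlib.GroupTheory.Sylow
import Mathlib.Algebra.Group.End

set_option autoImplicit false

open scoped Pointwise

namespace Cfsg.Agent.Helper33

variable {G : Type*} [Group G]

theorem mem_map_conj_iff (H : Subgroup G) (g x : G) :
    x ∈ H.map (MulAut.conj g).toMonoidHom ↔ g⁻¹ * x * g ∈ H := by
  constructor
  · rintro ⟨y, hy, rfl⟩
    simpa [MulAut.conj_apply, mul_assoc] using hy
  · intro h
    refine ⟨g⁻¹ * x * g, h, ?_⟩
    simp [MulAut.conj_apply, mul_assoc]

theorem conj_mem_map_conj (H : Subgroup G) (g : G) {y : G} (hy : y ∈ H) :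
    g * y * g⁻¹ ∈ H.map (MulAut.conj g).toMonoidHom :=
  ⟨y, hy, by simp [MulAut.conj_apply]⟩

theorem map_conj_le_iff (H K : Subgroup G) (g : G) :
    H.map (MulAut.conj g).toMonoidHom ≤ K ↔ ∀ y ∈ H, g * y * g⁻¹ ∈ K := by
  constructor
  · intro h y hy
    exact h (conj_mem_map_conj H g hy)
  · rintro h _ ⟨y, hy, rfl⟩
    simpa [MulAut.conj_apply] using h y hy

theorem smul_eq_map_conj (H : Subgroup G) (g : G) :
    MulAut.conj g • H = H.map (MulAut.conj g).toMonoidHom := rfl

/-- A `p`-subgroup of index prime to `p` is conjugate to any given Sylow `p`-subgroup. -/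
theorem exists_conj_eq_of_isPGroup_of_not_dvd_index {p : ℕ} [Fact p.Prime] [Finite G]
    (S : Sylow p G) (T : Subgroup G) (hT : IsPGroup p T) (hidx : ¬ p ∣ T.index) :
    ∃ k : G, (S : Subgroup G).map (MulAut.conj k).toMonoidHom = T := by
  obtain ⟨k, hk⟩ := MulAction.exists_smul_eq G S (hT.toSylow hidx)
  refine ⟨k, ?_⟩
  have := congrArg (fun Q : Sylow p G => (Q : Subgroup G)) hk
  simp only [Sylow.coe_subgroup_smul] at this
  rw [← smul_eq_map_conj]
  exact this

end Cfsg.Agent.Helper33
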