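import Cfsg.Agent.Helper33.SylowSub
import Cfsg.Agent.Helper33.SylowBasic
import Mathlib.GroupTheory.Index

set_option autoImplicit false

namespace Cfsg.Agent.Helper33

variable {G : Type*} [Group G]

theorem normalizer_map_conj (H : Subgroup G) (g : G) :
    Subgroup.normalizer ((H.map (MulAut.conj g).toMonoidHom : Subgroup G) : Set G) =
      (Subgroup.normalizer (H : Set G)).map (MulAut.conj g).toMonoidHom :=
  (Subgroup.map_equiv_normalizer_eq H (MulAut.conj g)).symm

theorem relIndex_map_conj (K N : Subgroup G) (g : G) :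
    (K.map (MulAut.conj g).toMonoidHom).relIndex (N.map (MulAut.conj g).toMonoidHom) = K.relIndex N :=
  Subgroup.relIndex_map_map_of_injective K N (MulAut.conj g).injective

theorem map_conj_inf (A B : Subgroup G) (g : G) :
    (A ⊓ B).map (MulAut.conj g).toMonoidHom =
      A.map (MulAut.conj g).toMonoidHom ⊓ B.map (MulAut.conj g).toMonoidHom :=
  Subgroup.map_inf A B _ (MulAut.conj g).injective

theorem map_conj_map_conj (A : Subgroup G) (g h : G) :
    (A.map (MulAut.conj g).toMonoidHom).map (MulAut.conj h).toMonoidHom =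
      A.map (MulAut.conj (h * g)).toMonoidHom := by
  rw [Subgroup.map_map]
  congr 1
  ext z
  simp [MulAut.conj_apply, mul_assoc]

theorem map_conj_one (A : Subgroup G) : A.map (MulAut.conj (1 : G)).toMonoidHom = A := by
  ext z; simp

/-- A `p`-subgroup containing a `p`-subgroup of index prime to `p` (in `N`) equals it. -/
theorem eq_of_le_of_not_dvd_relIndex {p : ℕ} [Fact p.Prime] [Finite G] {K K' N : Subgroup G}
    (hKK' : K ≤ K') (hK'N : K' ≤ N) (hK' : IsPGroup p K') (hidx : ¬ p ∣ K.relIndex N) : K = K' := by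
  apply le_antisymm hKK'
  rw [← Subgroup.relIndex_eq_one]
  obtain ⟨j, hj⟩ := hK'.index (K.subgroupOf K')
  have hmul := Subgroup.relIndex_mul_relIndex K K' N hKK' hK'N
  cases j with
  | zero => simpa using hj
  | succ j =>
    exfalso
    apply hidx
    rw [← hmul]
    apply Dvd.dvd.mul_right
    show p ∣ (K.subgroupOf K').index
    rw [hj]
    exact dvd_pow_self p (Nat.succ_ne_zero j)

/-- Every subgroup `R` of a Sylow `p`-subgroup `S` has a conjugate `U ≤ S` with `N_S(U)` of
index prime to `p` in `N_G(U)`. -/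
theorem exists_tame_conj {p : ℕ} [Fact p.Prime] [Finite G] (S : Sylow p G) (R : Subgroup G)
    (hR : IsPGroup p R) :
    ∃ c : G, R.map (MulAut.conj c).toMonoidHom ≤ (S : Subgroup G) ∧
      ¬ p ∣ ((S : Subgroup G) ⊓ Subgroup.normalizer ((R.map (MulAut.conj c).toMonoidHom : Subgroup G) : Set G)).relIndex
        (Subgroup.normalizer ((R.map (MulAut.conj c).toMonoidHom : Subgroup G) : Set G)) := by
  set N := Subgroup.normalizer (R : Set G) with hN
  -- a Sylow p-subgroup Q of N, viewed in G
  obtain ⟨Q0⟩ : Nonempty (Sylow p N) := inferInstance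
  set Q := (Q0 : Subgroup N).map N.subtype with hQ
  have hQp : IsPGroup p Q := Q0.2.map _
  have hQN : Q ≤ N := Subgroup.map_subtype_le _
  have hQidx : ¬ p ∣ Q.relIndex N := by
    have : Q.relIndex N = (Q0 : Subgroup N).index := by
      rw [hQ, Subgroup.relIndex]
      congr 1
      exact Subgroup.comap_map_eq_self_of_injective (Subgroup.subtype_injective N) _
    rw [this]
    exact Q0.not_dvd_index
  -- R ≤ Q since R is a normal p-subgroup of N
  have hRQ : R ≤ Q := by
    obtain ⟨m, hmN, hm⟩ := exists_conj_le_of_not_dvd_relIndex hQN hQp hQidx Subgroup.le_normalizer hR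
    intro r hr
    have h1 : m⁻¹ * r * m ∈ R := by
      have := (Subgroup.mem_normalizer_iff.mp (Subgroup.inv_mem _ hmN) r).mp hr
      simpa using this
    have := hm _ h1
    simpa [mul_assoc] using this
  -- Q lies in a conjugate of S
  obtain ⟨Q1, hQ1⟩ := hQp.exists_le_sylow
  obtain ⟨x, hSx⟩ := exists_conj_eq_of_isPGroup_of_not_dvd_index Q1 (S : Subgroup G) S.2 S.not_dvd_index
  refine ⟨x, ?_, ?_⟩
  · rw [← hSx]
    exact Subgroup.map_mono (hRQ.trans hQ1)
  · rw [normalizer_map_conj]
    have hle : Q.map (MulAut.conj x).toMonoidHom ≤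
        (S : Subgroup G) ⊓ N.map (MulAut.conj x).toMonoidHom := by
      apply le_inf
      · rw [← hSx]; exact Subgroup.map_mono hQ1
      · exact Subgroup.map_mono hQN
    have hidx' : ¬ p ∣ (Q.map (MulAut.conj x).toMonoidHom).relIndex (N.map (MulAut.conj x).toMonoidHom) := by
      rw [relIndex_map_conj]; exact hQidx
    have heq := eq_of_le_of_not_dvd_relIndex hle inf_le_right (S.2.to_le inf_le_left) hidx'
    rw [← heq]
    exact hidx'

end Cfsg.Agent.Helper33
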