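import Cfsg.Agent.Helper33.Alperin
import Cfsg.Agent.Helper33.Tame

set_option autoImplicit false

namespace Cfsg.Agent.Helper33

variable {G : Type*} [Group G]

/-- Alperin's theorem with a lower bound on the orders of the subgroups involved: the family only needs
to contain tame conjugates of the subgroups of `S` of order at least `c`. -/
theorem fchain_of_tame_bounded {p : ℕ} [Fact p.Prime] [Finite G] (S : Sylow p G) (𝓕 : Set (Subgroup G))
    (c : ℕ)
    (h : ∀ T : Subgroup G, T ≤ (S : Subgroup G) → c ≤ Nat.card T → ∃ U ∈ 𝓕,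
      (∃ g : G, T.map (MulAut.conj g).toMonoidHom = U) ∧
      ¬ p ∣ ((S : Subgroup G) ⊓ Subgroup.normalizer ((U : Subgroup G) : Set G)).relIndex
        (Subgroup.normalizer ((U : Subgroup G) : Set G))) (h𝓕 : ∀ U ∈ 𝓕, U ≤ (S : Subgroup G)) :
    ∀ (k : ℕ) (T : Subgroup G), T ≤ (S : Subgroup G) → c ≤ Nat.card T →
      Nat.card (S : Subgroup G) - Nat.card T = k →
      ∀ g : G, conjR g (T : Set G) ⊆ (S : Subgroup G) → FChain 𝓕 (T : Set G) g := by
  intro k
  induction k using Nat.strong_induction_on with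
  | _ k ih =>
  intro T hTS hcT hk g hg
  have hcardle : ∀ R : Subgroup G, R ≤ (S : Subgroup G) → Nat.card R ≤ Nat.card (S : Subgroup G) :=
    fun R hR => Subgroup.card_le_of_le hR
  by_cases hTeq : T = S
  · subst hTeq
    obtain ⟨U, hU, ⟨c', hc'⟩, -⟩ := h (S : Subgroup G) le_rfl hcT
    have hUS : U = (S : Subgroup G) := by
      have hle := h𝓕 U hU
      have hcard : Nat.card U = Nat.card (S : Subgroup G) := by
        rw [← hc']
        exact (Nat.card_congr ((S : Subgroup G).equivMapOfInjective _ (MulAut.conj c').injective).toEquiv).symm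
      exact Subgroup.eq_of_le_of_card_ge hle hcard.ge
    rw [hUS] at hU
    have hgN : g ∈ Subgroup.normalizer ((S : Subgroup G) : Set G) := by
      apply mem_normalizer_of_conjR_eq
      apply Set.eq_of_subset_of_ncard_le hg ?_ (Set.toFinite _)
      rw [conjR_def, Set.ncard_image_of_injective]
      intro a b hab
      simpa using hab
    exact FChain.single hU hgN le_rfl
  · obtain ⟨U, hU, ⟨c', hc'⟩, htame⟩ := h T hTS hcT
    set T' := T.map (MulAut.conj g⁻¹).toMonoidHom with hT'
    have hT'coe : (T' : Set G) = conjR g (T : Set G) := coe_map_conj_inv T g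
    have hT'S : T' ≤ (S : Subgroup G) := by
      intro y hy
      have : y ∈ (T' : Set G) := hy
      rw [hT'coe] at this
      exact hg this
    have hcardT' : Nat.card T' = Nat.card T :=
      (Nat.card_congr (T.equivMapOfInjective _ (MulAut.conj g⁻¹).injective).toEquiv).symm
    have hT'ne : T' ≠ S := by
      intro hh
      apply hTeq
      apply Subgroup.eq_of_le_of_card_ge hTS
      rw [← hcardT', hh]
    have hc'' : T'.map (MulAut.conj (c' * g)).toMonoidHom = U := by
      rw [← hc', hT', Subgroup.map_map]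
      congr 1
      ext z
      simp [MulAut.conj_apply, mul_assoc]
    obtain ⟨h1, h1U, h1S⟩ := exists_conj_tame S htame c' hc'
    obtain ⟨h2, h2U, h2S⟩ := exists_conj_tame S htame (c' * g) hc''
    have hyN : h1⁻¹ * g * h2 ∈ Subgroup.normalizer (U : Set G) := by
      apply mem_normalizer_of_conjR_eq
      rw [conjR_mul, conjR_mul, ← h1U, conjR_inv_conjR, ← hT'coe, h2U, h1U]
    have hlt1 : T < (S : Subgroup G) ⊓ Subgroup.normalizer (T : Set G) := by
      obtain ⟨x, hxS, hxN, hxT⟩ := exists_mem_normalizer_not_mem S.2 hTS hTeq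
      exact lt_of_le_of_ne (le_inf hTS Subgroup.le_normalizer) (fun hh => hxT (hh ▸ ⟨hxS, hxN⟩))
    have hlt2 : T' < (S : Subgroup G) ⊓ Subgroup.normalizer (T' : Set G) := by
      obtain ⟨x, hxS, hxN, hxT⟩ := exists_mem_normalizer_not_mem S.2 hT'S hT'ne
      exact lt_of_le_of_ne (le_inf hT'S Subgroup.le_normalizer) (fun hh => hxT (hh ▸ ⟨hxS, hxN⟩))
    have c1 := card_lt_card_of_lt' hlt1
    have c2 := card_lt_card_of_lt' hlt2
    have b1 := hcardle _ (inf_le_left : (S : Subgroup G) ⊓ Subgroup.normalizer (T : Set G) ≤ S)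
    have b2 := hcardle _ (inf_le_left : (S : Subgroup G) ⊓ Subgroup.normalizer (T' : Set G) ≤ S)
    have ch1 : FChain 𝓕 (T : Set G) h1 :=
      (ih _ (by omega) _ inf_le_left (by omega) rfl h1 h1S).mono (by exact_mod_cast hlt1.le)
    have ch2 : FChain 𝓕 (T' : Set G) h2 :=
      (ih _ (by omega) _ inf_le_left (by omega) rfl h2 h2S).mono (by exact_mod_cast hlt2.le)
    have ch2' : FChain 𝓕 (U : Set G) h2⁻¹ := by
      have := ch2.inv
      rwa [h2U] at this
    have chy : FChain 𝓕 (U : Set G) (h1⁻¹ * g * h2) := FChain.single hU hyN le_rfl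
    have hyU : conjR (h1⁻¹ * g * h2) (U : Set G) = U := conjR_coe_eq_of_mem_normalizer hyN
    have step1 : FChain 𝓕 (T : Set G) (h1 * (h1⁻¹ * g * h2)) := by
      apply ch1.append
      rw [h1U]; exact chy
    have step2 : FChain 𝓕 (T : Set G) (h1 * (h1⁻¹ * g * h2) * h2⁻¹) := by
      apply step1.append
      rw [conjR_mul, h1U, hyU]
      exact ch2'
    have e : h1 * (h1⁻¹ * g * h2) * h2⁻¹ = g := by group
    rwa [e] at step2

/-- The family of tame subgroups of `S` of order at least `c`. -/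
def tameFamily (p : ℕ) (S : Subgroup G) (c : ℕ) : Set (Subgroup G) :=
  {U | U ≤ S ∧ c ≤ Nat.card U ∧
    ¬ p ∣ (S ⊓ Subgroup.normalizer ((U : Subgroup G) : Set G)).relIndex
      (Subgroup.normalizer ((U : Subgroup G) : Set G))}

theorem fchain_tameFamily {p : ℕ} [Fact p.Prime] [Finite G] (S : Sylow p G) (c : ℕ)
    (T : Subgroup G) (hTS : T ≤ (S : Subgroup G)) (hcT : c ≤ Nat.card T) (g : G)
    (hg : conjR g (T : Set G) ⊆ (S : Subgroup G)) :
    FChain (tameFamily p (S : Subgroup G) c) (T : Set G) g := by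
  apply fchain_of_tame_bounded S _ c ?_ (fun U hU => hU.1) _ T hTS hcT rfl g hg
  intro R hRS hcR
  obtain ⟨x, hxS, hxtame⟩ := exists_tame_conj S R (S.2.to_le hRS)
  refine ⟨_, ⟨hxS, ?_, hxtame⟩, ⟨x, rfl⟩, hxtame⟩
  rw [← Nat.card_congr (R.equivMapOfInjective _ (MulAut.conj x).injective).toEquiv]
  exact hcR

end Cfsg.Agent.Helper33
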