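import Cfsg.Agent.Helper33.FChainData
import Cfsg.Agent.Helper33.SylowSub
import Cfsg.Agent.Helper33.SylowBasic

set_option autoImplicit false

namespace Cfsg.Agent.Helper33

variable {G : Type*} [Group G]

theorem card_lt_card_of_lt' [Finite G] {H K : Subgroup G} (h : H < K) : Nat.card H < Nat.card K := by
  rw [← SetLike.coe_sort_coe, ← SetLike.coe_sort_coe K, Nat.card_coe_set_eq, Nat.card_coe_set_eq]
  exact Set.ncard_lt_ncard (SetLike.coe_ssubset_coe.mpr h) (Set.toFinite _)

theorem coe_map_conj (T : Subgroup G) (g : G) :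
    ((T.map (MulAut.conj g).toMonoidHom : Subgroup G) : Set G) = conjR g⁻¹ (T : Set G) := by
  have := coe_map_conj_inv T g⁻¹
  rwa [inv_inv] at this

theorem mem_normalizer_of_conjR_eq {U : Subgroup G} {y : G} (h : conjR y (U : Set G) = U) :
    y ∈ Subgroup.normalizer (U : Set G) := by
  rw [Subgroup.mem_normalizer_iff]
  intro u
  rw [← SetLike.mem_coe, ← h, mem_conjR, SetLike.mem_coe]

theorem conjR_normalizer_subset (T : Subgroup G) (g : G) :
    conjR g (Subgroup.normalizer (T : Set G) : Set G) ⊆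
      Subgroup.normalizer ((T.map (MulAut.conj g⁻¹).toMonoidHom : Subgroup G) : Set G) := by
  intro y hy
  rw [mem_conjR] at hy
  rw [SetLike.mem_coe, Subgroup.mem_normalizer_iff] at hy ⊢
  intro z
  rw [mem_map_conj_iff, mem_map_conj_iff, inv_inv]
  have := hy (g * z * g⁻¹)
  rw [this]
  have e : g * y * g⁻¹ * (g * z * g⁻¹) * (g * y * g⁻¹)⁻¹ = g * (y * z * y⁻¹) * g⁻¹ := by group
  rw [e]

/-- Key step: a subgroup `R ≤ S` conjugate to a tame `U` can be conjugated onto `U` carrying
`N_S(R)` into `S`. -/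
theorem exists_conj_tame {p : ℕ} [Fact p.Prime] [Finite G] (S : Sylow p G) {R U : Subgroup G}
    (htame : ¬ p ∣ ((S : Subgroup G) ⊓ Subgroup.normalizer (U : Set G)).relIndex
      (Subgroup.normalizer (U : Set G)))
    (c : G) (hc : R.map (MulAut.conj c).toMonoidHom = U) :
    ∃ h : G, conjR h (R : Set G) = U ∧
      conjR h (((S : Subgroup G) ⊓ Subgroup.normalizer (R : Set G) : Subgroup G) : Set G) ⊆ (S : Subgroup G) := by
  set N := Subgroup.normalizer (U : Set G) with hN
  set K := (S : Subgroup G) ⊓ N with hK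
  set R' := ((S : Subgroup G) ⊓ Subgroup.normalizer (R : Set G)).map (MulAut.conj c).toMonoidHom with hR'
  have hKp : IsPGroup p K := S.2.to_le inf_le_left
  have hR'p : IsPGroup p R' := (S.2.to_le inf_le_left).map _
  have hR'N : R' ≤ N := by
    rintro _ ⟨r, hr, rfl⟩
    have h1 := conjR_normalizer_subset R c⁻¹
    rw [inv_inv, hc] at h1
    apply h1
    rw [mem_conjR]
    simpa [MulAut.conj_apply, mul_assoc] using hr.2
  obtain ⟨m, hmN, hm⟩ := exists_conj_le_of_not_dvd_relIndex inf_le_right hKp htame hR'N hR'p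
  have hmi : m⁻¹ ∈ Subgroup.normalizer (U : Set G) := Subgroup.inv_mem _ hmN
  refine ⟨(m * c)⁻¹, ?_, ?_⟩
  · rw [mul_inv_rev, conjR_mul, ← coe_map_conj, hc]
    exact conjR_coe_eq_of_mem_normalizer hmi
  · rw [mul_inv_rev, conjR_mul, ← coe_map_conj]
    intro y hy
    rw [mem_conjR, inv_inv] at hy
    have := hm _ hy
    have e : m * (m⁻¹ * y * m) * m⁻¹ = y := by group
    rw [e] at this
    exact this.1

end Cfsg.Agent.Helper33
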