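import Mathlib
import Cfsg.Agent.Helper44.AltSylDefs

set_option autoImplicit false

namespace Cfsg.Agent.Helper33.AltSyl

open Cfsg.Agent.Helper44.AltSyl
open scoped RegularWreathProduct

theorem C2_cases (c : C2) : c = 1 ∨ c = gC2 := by
  revert c; decide

theorem gC2_ne_one : gC2 ≠ 1 := by decide

theorem univ_C2 : (Finset.univ : Finset C2) = {1, gC2} := by decide

theorem prod_C2 {M : Type*} [CommMonoid M] (f : C2 → M) : ∏ c, f c = f 1 * f gC2 := by
  rw [univ_C2, Finset.prod_pair gC2_ne_one.symm]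

theorem mulLeft_gC2 : (Equiv.mulLeft gC2 : Equiv.Perm C2) = Equiv.swap 1 gC2 := by
  ext c
  rcases C2_cases c with rfl | rfl
  · rw [Equiv.swap_apply_left]; rfl
  · rw [Equiv.swap_apply_right]; rfl

theorem sign_mulLeft_gC2 : Equiv.Perm.sign (Equiv.mulLeft gC2 : Equiv.Perm C2) = -1 := by
  rw [mulLeft_gC2, Equiv.Perm.sign_swap gC2_ne_one.symm]

theorem sign_mulLeft_one : Equiv.Perm.sign (Equiv.mulLeft (1 : C2) : Equiv.Perm C2) = 1 := by
  have : (Equiv.mulLeft (1 : C2) : Equiv.Perm C2) = 1 := by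
    ext c; simp
  rw [this, map_one]

/-- general form of the sign of the action of `W (e + 1)` -/
theorem sgnW_succ_gen (e : ℕ) (w : W (e + 1)) :
    sgnW (e + 1) w =
      wrSign (sgnW e) w * Equiv.Perm.sign (Equiv.mulLeft w.right : Equiv.Perm C2) ^ (2 ^ e) := by
  let _ : MulAction (W e) (Fin e → C2) :=
    MulAction.compHom (Fin e → C2) (iteratedWreathToPermHom C2 e)
  have h1 : iteratedWreathToPermHom C2 (e + 1) w = (Fin.succFunEquiv C2 e).symm.permCongr
      (RegularWreathProduct.toPerm (W e) C2 (Fin e → C2) w) := rfl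
  have h2 : RegularWreathProduct.toPerm (W e) C2 (Fin e → C2) w =
      (Equiv.prodCongrLeft (fun q : C2 => iteratedWreathToPermHom C2 e (w.left q))) *
        (Equiv.prodCongrRight (fun _ : Fin e → C2 => (Equiv.mulLeft w.right : Equiv.Perm C2))) := by
    ext ⟨l, q⟩ <;> rfl
  unfold sgnW
  rw [MonoidHom.comp_apply, h1, Equiv.Perm.sign_permCongr, h2, map_mul,
    Equiv.Perm.sign_prodCongrLeft, Equiv.Perm.sign_prodCongrRight, prod_C2,
    Finset.prod_const, Finset.card_univ]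
  congr 2
  simp [Fintype.card_pi]

/-- (W1) the sign of the permutation action of `W (e + 1) = W e ≀ᵣ C2` -/
theorem sgnW_succ (e : ℕ) (he : 1 ≤ e) (w : W (e + 1)) :
    sgnW (e + 1) w = wrSign (sgnW e) w := by
  rw [sgnW_succ_gen]
  obtain ⟨k, rfl⟩ : ∃ k, e = k + 1 := ⟨e - 1, by omega⟩
  rw [pow_succ, pow_mul]
  have : ∀ u : ℤˣ, (u ^ 2 ^ k) ^ 2 = 1 := by
    intro u
    rw [← pow_mul, mul_comm, pow_mul, Int.units_sq, one_pow]
  rw [this, mul_one]

theorem sgnW_zero (x : W 0) : sgnW 0 x = 1 := by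
  unfold sgnW
  rw [MonoidHom.comp_apply]
  have : iteratedWreathToPermHom C2 0 x = 1 := rfl
  rw [this, map_one]

theorem sgnW_one_eq (w : W 1) :
    sgnW 1 w = Equiv.Perm.sign (Equiv.mulLeft w.right : Equiv.Perm C2) := by
  have h := sgnW_succ_gen 0 w
  rw [pow_zero, pow_one] at h
  rw [h]
  have : wrSign (sgnW 0) w = 1 := by
    show sgnW 0 (w.left 1) * sgnW 0 (w.left gC2) = 1
    rw [sgnW_zero, sgnW_zero, one_mul]
  rw [this, one_mul]

/-- (W2a) -/
theorem sgnW_one_inj (w : W 1) (h : sgnW 1 w = 1) : w = 1 := by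
  rw [sgnW_one_eq] at h
  have hr : w.right = 1 := by
    rcases C2_cases w.right with h1 | h1
    · exact h1
    · rw [h1, sign_mulLeft_gC2] at h
      exact absurd h (by decide)
  apply RegularWreathProduct.ext
  · funext c
    exact Subsingleton.elim (α := PUnit) _ _
  · exact hr

/-- (W2b) -/
theorem sgnW_one_odd : ∃ u : W 1, sgnW 1 u = -1 := by
  let u : W 1 := (⟨1, gC2⟩ : W 0 ≀ᵣ C2)
  refine ⟨u, ?_⟩
  have h := sgnW_one_eq u
  rw [h]
  exact sign_mulLeft_gC2

end Cfsg.Agent.Helper33.AltSyl
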