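import Mathlib
import Cfsg.Agent.Helper44.AltSylDefs

set_option autoImplicit false

namespace Cfsg.Agent.Helper33.AltSyl

open Cfsg.Agent.Helper44.AltSyl
open scoped RegularWreathProduct

theorem card_C2 : Nat.card C2 = 2 := by
  rw [Nat.card_congr Multiplicative.toAdd, Nat.card_eq_fintype_card, ZMod.card]

/-- (W6) -/
theorem card_W (e : ℕ) : Nat.card (W e) = 2 ^ (2 ^ e - 1) := by
  rw [IteratedWreathProduct.card, card_C2, Nat.geomSum_eq (le_refl 2)]
  simp

/-- (M2) -/
theorem card_model (n : ℕ) : Nat.card (Model n) = 2 ^ (n - (bits n).card) := by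
  rw [Nat.card_pi]
  simp only [card_W]
  rw [Finset.prod_pow_eq_pow_sum]
  congr 1
  have h1 : ∑ i : ↥(bits n), (2 ^ (i : ℕ) - 1) = ∑ i ∈ bits n, (2 ^ i - 1) :=
    Finset.sum_coe_sort (bits n) (fun i => 2 ^ i - 1)
  rw [h1]
  have h2 : ∑ i ∈ bits n, (2 ^ i - 1) + (bits n).card = n := by
    rw [Finset.card_eq_sum_ones, ← Finset.sum_add_distrib]
    conv_rhs => rw [← sum_bits n]
    apply Finset.sum_congr rfl
    intro i _
    exact Nat.sub_add_cancel Nat.one_le_two_pow
  omega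

end Cfsg.Agent.Helper33.AltSyl
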