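import Cfsg.Agent.Helper57.BP.Lemmas

/-!
# (T1') of helper57's S4504: an exceptional character of the block of `θ` has no `P`-fixed points
and degree `f`
-/

set_option autoImplicit false
set_option linter.unusedSectionVars false
set_option linter.unusedVariables false
set_option linter.style.haveILetI false

namespace Cfsg.Agent.Helper33.BP

open Cfsg Cfsg.Agent.Helper16 Cfsg.Agent.Helper16.DefOne Cfsg.Agent.Helper82.DefOne
  Cfsg.Agent.Helper77.DefOne Cfsg.Agent.Helper57.BH Cfsg.Agent.Helper57.BP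
open scoped ComplexConjugate

universe u

variable {G : Type u} [Group G] [Fintype G] {p : ℕ} [Fact p.Prime] (P : Sylow p G)

/-- (T1') an exceptional character of the block of `θ` has no `P`-fixed points and degree `f` -/
theorem pSum_of_mem_Yθ (hP : Nat.card P = p)
    [((P : Subgroup G).subgroupOf (nor P)).Normal] (hmod : ModCount p P)
    {θ : IrrCharacter (cen P)} {ψ ψ₂ : IrrCharacter G}
    {φ₀ φ₂ : IrrCharacter (cen P)} {Xθ Yθ : Set (IrrCharacter G)} {εθ : IrrCharacter G → ℤ}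
    (hE : IsExcPair P θ ψ ψ₂ φ₀ φ₂ Xθ Yθ εθ) (hpf : 2 * (cen P).relIndex (nor P) + 1 = p)
    (ψ' : IrrCharacter G) (hψ' : ψ' ∈ Yθ) :
    pSum P (ψ' : G → ℂ) = 0 ∧ charDegree (ψ' : G → ℂ) = (cen P).relIndex (nor P) := by
  classical
  haveI : Fintype (P : Subgroup G) := Fintype.ofFinite _
  haveI : Finite (IrrCharacter (cen P)) := Cfsg.Agent.Helper79.irr_finite' (G := cen P)
  have hp : p.Prime := Fact.out
  have h1reg : ¬ p ∣ orderOf (1 : G) := by
    rw [orderOf_one]
    exact hp.not_dvd_one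
  have e1 := hE.Dθ.rel ψ' hψ' 1 h1reg
  have e2 := hE.Dθ.rel ψ hE.hψ 1 h1reg
  have e3 : (ψ' : G → ℂ) 1 = (ψ : G → ℂ) 1 := by
    have := e1.trans e2.symm
    simpa using this
  have hdeg' : charDegree (ψ' : G → ℂ) = (cen P).relIndex (nor P) := by
    rw [Helper79.irr_one, Helper79.irr_one] at e3
    have : charDegree (ψ' : G → ℂ) = charDegree (ψ : G → ℂ) := by exact_mod_cast e3
    rw [this, hE.hdeg]
  refine ⟨?_, hdeg'⟩
  obtain ⟨φ₀', h1, h2, hrow, hd, hsum⟩ :=
    exists_orbitSum_of_mem_Y P hP hmod θ hE.hθ hE.Dθ ψ' hψ' (by omega)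
  have hOfin : (MulAction.orbit (nor P) φ₀').Finite := Set.toFinite _
  rw [Helper81.BH.pSum_eq_sum]
  have key : ∀ x : (P : Subgroup G), (ψ' : G → ℂ) (x : G) =
      ∑ φ ∈ hOfin.toFinset, (φ : cen P → ℂ) ⟨(x : G), le_cen P hP x.2⟩ := by
    intro x
    have := hsum ⟨(x : G), le_cen P hP x.2⟩
    rw [finsum_mem_eq_finite_toFinset_sum _ hOfin] at this
    exact this
  simp_rw [key]
  rw [Finset.sum_comm]
  refine Finset.sum_eq_zero fun φ hφ => ?_
  obtain ⟨n, rfl⟩ := hOfin.mem_toFinset.mp hφ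
  exact Helper81.BH.sum_P_of_not_isCanon P hP _ (Helper48.BH.not_isCanon_smul P hP n φ₀' h2)

end Cfsg.Agent.Helper33.BP
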