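import Cfsg.Agent.Helper57.BP.Lemmas

/-!
# (T1'') of helper57's S4504: `∑_{x ∈ P} |ψ(x)|² = p f`
-/

set_option autoImplicit false
set_option linter.unusedSectionVars false
set_option linter.unusedVariables false
set_option linter.style.haveILetI false

namespace Cfsg.Agent.Helper33.BP

open Cfsg Cfsg.Agent.Helper16 Cfsg.Agent.Helper16.DefOne Cfsg.Agent.Helper82.DefOne
  Cfsg.Agent.Helper77.DefOne Cfsg.Agent.Helper57.BH Cfsg.Agent.Helper57.BP
open scoped ComplexConjugate

universe u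

variable {G : Type u} [Group G] [Fintype G] {p : ℕ} [Fact p.Prime] (P : Sylow p G)

/-- an element of `N` moving a non-canonical character to one with the same central character
on `P` centralizes `P` (the proof of `mem_cen_of_smul_eq`, which only uses the values on `P`) -/
theorem mem_cen_of_sameP_smul (hP : Nat.card P = p) (n : nor P) (φ : IrrCharacter (cen P))
    (hφ : ¬ IsCanon P φ) (h : SameP P φ (n • φ)) : (n : G) ∈ cen P := by
  haveI : Fintype (cen P) := Fintype.ofFinite _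
  have hp : p.Prime := Fact.out
  have h1ne : (φ : cen P → ℂ) 1 ≠ 0 := irr_one_ne_zero φ
  have hle := le_cen P hP
  -- elements of `P` are central in `cen P`
  have hcent : ∀ x : cen P, (x : G) ∈ (P : Subgroup G) → x ∈ Subgroup.center (cen P) := by
    intro x hx
    rw [Subgroup.mem_center_iff]
    intro g
    apply Subtype.ext
    have := Subgroup.mem_centralizer_iff.mp g.2 (x : G) hx
    simp only [Subgroup.coe_mul]
    exact this.symm
  -- multiplicativity of `φ / φ 1` on `P`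
  have hmul : ∀ x y : cen P, (x : G) ∈ (P : Subgroup G) →
      (φ : cen P → ℂ) (x * y) * (φ : cen P → ℂ) 1 = (φ : cen P → ℂ) x * (φ : cen P → ℂ) y := by
    intro x y hx
    obtain ⟨c, hc⟩ := irr_central_mul φ (hcent x hx)
    have e1 := hc y
    have e2 := hc 1
    rw [mul_one] at e2
    rw [e1, e2]; ring
  -- the kernel of `φ` on `P`
  let K : Subgroup G :=
    { carrier := {x | ∃ hx : x ∈ (P : Subgroup G),
        (φ : cen P → ℂ) ⟨x, hle hx⟩ = (φ : cen P → ℂ) 1}
      mul_mem' := by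
        rintro a b ⟨ha, ha'⟩ ⟨hb, hb'⟩
        refine ⟨Subgroup.mul_mem _ ha hb, ?_⟩
        have := hmul ⟨a, hle ha⟩ ⟨b, hle hb⟩ ha
        rw [ha', hb'] at this
        exact mul_right_cancel₀ h1ne this
      one_mem' := ⟨Subgroup.one_mem _, rfl⟩
      inv_mem' := by
        rintro a ⟨ha, ha'⟩
        refine ⟨Subgroup.inv_mem _ ha, ?_⟩
        have := hmul ⟨a, hle ha⟩ ⟨a⁻¹, hle (Subgroup.inv_mem _ ha)⟩ ha
        have e : (⟨a, hle ha⟩ : cen P) * ⟨a⁻¹, hle (Subgroup.inv_mem _ ha)⟩ = 1 := by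
          apply Subtype.ext; simp
        rw [e, ha'] at this
        exact (mul_left_cancel₀ h1ne this).symm }
  have hKP : K ≤ (P : Subgroup G) := fun x hx => hx.1
  have hKne : K ≠ (P : Subgroup G) := by
    intro hK
    apply hφ
    intro x hx
    have : (x : G) ∈ K := hK ▸ hx
    obtain ⟨_, h2⟩ := this
    exact h2
  have hKbot : K = ⊥ := by
    have hdvd : Nat.card K ∣ p := hP ▸ Subgroup.card_dvd_of_le hKP
    rcases (Nat.dvd_prime hp).mp hdvd with h1 | h1
    · exact Subgroup.eq_bot_of_card_eq K h1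
    · exact absurd (Subgroup.eq_of_le_of_card_ge hKP (by rw [h1]; exact hP.le)) hKne
  -- conclusion
  rw [Subgroup.mem_centralizer_iff]
  intro x hx
  have hxc : x ∈ cen P := hle hx
  have hy : (((normConj (cen P) n).symm ⟨x, hxc⟩ : cen P) : G) ∈ (P : Subgroup G) := by
    rw [coe_normConj_symm]
    have := Cfsg.Agent.Helper91.DefOneGRc.conj_mem_of_mem_nor P hP (n : G)⁻¹
      (Subgroup.inv_mem _ n.2) x hx
    simpa using this
  have e1 : (φ : cen P → ℂ) ((normConj (cen P) n).symm ⟨x, hxc⟩) = (φ : cen P → ℂ) ⟨x, hxc⟩ := by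
    have h0 := h ⟨x, hxc⟩ hx
    rw [smul_irr_apply, smul_irr_apply, map_one] at h0
    exact (mul_right_cancel₀ h1ne h0).symm
  -- `y * x⁻¹ ∈ K`
  have hxi : ((⟨x, hxc⟩ : cen P)⁻¹ : cen P).1 ∈ (P : Subgroup G) := by
    simpa using Subgroup.inv_mem _ hx
  have e2 := hmul ((normConj (cen P) n).symm ⟨x, hxc⟩) (⟨x, hxc⟩ : cen P)⁻¹ hy
  have e3 := hmul (⟨x, hxc⟩ : cen P) (⟨x, hxc⟩ : cen P)⁻¹ hx
  rw [mul_inv_cancel] at e3
  rw [e1, ← e3] at e2
  have e4 := mul_right_cancel₀ h1ne e2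
  have hmem : (((normConj (cen P) n).symm ⟨x, hxc⟩ * (⟨x, hxc⟩ : cen P)⁻¹ : cen P) : G) ∈ K := by
    refine ⟨Subgroup.mul_mem _ hy hxi, e4⟩
  rw [hKbot, Subgroup.mem_bot] at hmem
  have e5 : (n : G)⁻¹ * x * (n : G) * x⁻¹ = 1 := by
    simpa [coe_normConj_symm] using hmem
  have e6 : (n : G)⁻¹ * x * (n : G) = x := by
    rwa [mul_inv_eq_one] at e5
  calc x * (n : G) = (n : G) * ((n : G)⁻¹ * x * (n : G)) := by group
    _ = (n : G) * x := by rw [e6]

/-- two members of the orbit of a non-canonical character with the same central character on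
`P` are equal -/
theorem eq_of_sameP_of_mem_orbit (hP : Nat.card P = p) (φ₀ : IrrCharacter (cen P))
    (h2 : ¬ IsCanon P φ₀) {φ φ' : IrrCharacter (cen P)}
    (hφ : φ ∈ MulAction.orbit (nor P) φ₀) (hφ' : φ' ∈ MulAction.orbit (nor P) φ₀)
    (hs : SameP P φ φ') : φ = φ' := by
  obtain ⟨n, rfl⟩ := hφ
  obtain ⟨n', rfl⟩ := hφ'
  have hs' := sameP_smul P hP n⁻¹ hs
  have e1 : n⁻¹ • (fun m : nor P => m • φ₀) n = φ₀ := inv_smul_smul n φ₀
  have e2 : n⁻¹ • (fun m : nor P => m • φ₀) n' = (n⁻¹ * n') • φ₀ := (mul_smul n⁻¹ n' φ₀).symm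
  rw [e1, e2] at hs'
  have hc := mem_cen_of_sameP_smul P hP (n⁻¹ * n') φ₀ h2 hs'
  have e3 := smul_eq_of_mem_cen P (n⁻¹ * n') φ₀ hc
  show n • φ₀ = n' • φ₀
  calc n • φ₀ = n • ((n⁻¹ * n') • φ₀) := by rw [e3]
    _ = n' • φ₀ := by rw [smul_smul, mul_inv_cancel_left]

/-- (T1'') `∑_{x ∈ P} |ψ(x)|² = p f` -/
theorem pSum_normSq (hP : Nat.card P = p)
    [((P : Subgroup G).subgroupOf (nor P)).Normal] (hmod : ModCount p P)
    {θ : IrrCharacter (cen P)} {ψ ψ₂ : IrrCharacter G}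
    {φ₀ φ₂ : IrrCharacter (cen P)} {Xθ Yθ : Set (IrrCharacter G)} {εθ : IrrCharacter G → ℤ}
    (hE : IsExcPair P θ ψ ψ₂ φ₀ φ₂ Xθ Yθ εθ)
    {X Y : Set (IrrCharacter G)} {ε : IrrCharacter G → ℤ} {δ : ℤ}
    (hD : IsPslData P ψ ψ₂ X Y ε δ) :
    pSum P (mulConj (ψ : G → ℂ) (ψ : G → ℂ)) =
      (p : ℂ) * ((cen P).relIndex (nor P) : ℂ) := by
  classical
  haveI : Fintype (P : Subgroup G) := Fintype.ofFinite _
  haveI : Fintype (cen P) := Fintype.ofFinite _
  haveI : Finite (IrrCharacter (cen P)) := Cfsg.Agent.Helper79.irr_finite' (G := cen P)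
  have hle := le_cen P hP
  have hOfin : (MulAction.orbit (nor P) φ₀).Finite := Set.toFinite _
  have hcardO : hOfin.toFinset.card = (cen P).relIndex (nor P) := by
    rw [← card_orbit_of_not_isCanon P hP φ₀ hE.h2, ← Set.ncard_eq_toFinset_card _ hOfin]
    exact (Nat.card_coe_set_eq _).symm
  -- members of the orbit are linear
  have hOone : ∀ φ ∈ hOfin.toFinset, (φ : cen P → ℂ) 1 = 1 := by
    intro φ hφ
    have hφO := hOfin.mem_toFinset.mp hφ
    rw [Helper79.irr_one, charDegree_of_mem_orbit P φ₀ φ hφO, ← charDegree_can P hP φ₀, hE.h1,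
      hE.hdegθ, Nat.cast_one]
  rw [Helper81.BH.pSum_eq_sum]
  have key : ∀ x : (P : Subgroup G), mulConj (ψ : G → ℂ) (ψ : G → ℂ) (x : G) =
      ∑ φ ∈ hOfin.toFinset, ∑ φ' ∈ hOfin.toFinset,
        (φ : cen P → ℂ) ⟨(x : G), hle x.2⟩ * conj ((φ' : cen P → ℂ) ⟨(x : G), hle x.2⟩) := by
    intro x
    unfold mulConj
    have := hE.hsum ⟨(x : G), hle x.2⟩
    rw [finsum_mem_eq_finite_toFinset_sum _ hOfin] at this
    rw [show (ψ : G → ℂ) (x : G) = _ from this, map_sum, Finset.sum_mul_sum]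
  simp_rw [key]
  rw [Finset.sum_comm]
  have hterm : ∀ φ ∈ hOfin.toFinset,
      ∑ x : (P : Subgroup G), ∑ φ' ∈ hOfin.toFinset,
        (φ : cen P → ℂ) ⟨(x : G), hle x.2⟩ * conj ((φ' : cen P → ℂ) ⟨(x : G), hle x.2⟩) =
        (p : ℂ) := by
    intro φ hφ
    rw [Finset.sum_comm, Finset.sum_eq_single_of_mem φ hφ]
    · -- the diagonal term
      have hchar : IsCharacter (cen P) (φ : cen P → ℂ) := Helper79.irr_isCharacter φ
      rw [Finset.sum_congr rfl (g := fun _ => (1 : ℂ))]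
      · rw [Finset.sum_const, Finset.card_univ, ← Nat.card_eq_fintype_card,
          show Nat.card (P : Subgroup G) = p from hP, nsmul_eq_mul, mul_one]
      · intro x _
        exact Helper79.isCharacter_linear_mul_conj hchar (hOone φ hφ) _
    · -- the cross terms
      intro φ' hφ' hne
      have hns : ¬ SameP P φ φ' := by
        intro hs
        exact hne (eq_of_sameP_of_mem_orbit P hP φ₀ hE.h2 (hOfin.mem_toFinset.mp hφ)
          (hOfin.mem_toFinset.mp hφ') hs).symm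
      have h0 := finsum_mulConj_of_not_sameP P hP hns
      have hbij : ∑ᶠ x ∈ {x : cen P | (x : G) ∈ (P : Subgroup G)},
          (φ : cen P → ℂ) x * conj ((φ' : cen P → ℂ) x) =
          ∑ x : (P : Subgroup G),
            (φ : cen P → ℂ) ⟨(x : G), hle x.2⟩ * conj ((φ' : cen P → ℂ) ⟨(x : G), hle x.2⟩) := by
        rw [← finsum_eq_sum_of_fintype]
        rw [← finsum_set_coe_eq_finsum_mem (s := {x : cen P | (x : G) ∈ (P : Subgroup G)})]
        let e : {x : cen P | (x : G) ∈ (P : Subgroup G)} ≃ (P : Subgroup G) :=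
          { toFun := fun x => ⟨((x : cen P) : G), x.2⟩
            invFun := fun x => ⟨⟨(x : G), hle x.2⟩, x.2⟩
            left_inv := fun x => rfl
            right_inv := fun x => rfl }
        exact finsum_eq_of_bijective e e.bijective (fun x => rfl)
      rw [← hbij]
      exact h0
  rw [Finset.sum_congr rfl hterm, Finset.sum_const, hcardO, nsmul_eq_mul, mul_comm]

end Cfsg.Agent.Helper33.BP
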