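import Mathlib
import Cfsg.Prelude.Def_Blocks
import Cfsg.Agent.Helper74.CharBasic
import Cfsg.Agent.Helper15.IndFun
import Cfsg.Agent.Helper15.ConjChar
import Cfsg.Agent.S0176

set_option autoImplicit false

/-!
# (JB) of #4853 for S4469 (helper95): a nilpotent group with a faithful character of degree `n`
has a commutative subgroup of index dividing `n!`.   (helper33)
-/

namespace Cfsg.Agent.Helper33.BlichJB

open Cfsg

universe u

/-- the value of a monomial character `indFun H lam` at a commutator of two elements all of whose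
conjugates lie in `H` equals its degree. -/
theorem indFun_lin_comm {P : Type u} [Group P] [Fintype P] (H : Subgroup P) (lam : H →* ℂˣ)
    (x y : P) (hx : ∀ t : P, t⁻¹ * x * t ∈ H) (hy : ∀ t : P, t⁻¹ * y * t ∈ H) :
    indFun H (fun h => (lam h : ℂ)) (x * y * x⁻¹ * y⁻¹) = indFun H (fun h => (lam h : ℂ)) 1 := by
  unfold indFun
  congr 1
  apply Finset.sum_congr rfl
  intro t _
  have h1 : t⁻¹ * (x * y * x⁻¹ * y⁻¹) * t
      = (t⁻¹ * x * t) * (t⁻¹ * y * t) * (t⁻¹ * x * t)⁻¹ * (t⁻¹ * y * t)⁻¹ := by group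
  have hmem : t⁻¹ * (x * y * x⁻¹ * y⁻¹) * t ∈ H := by
    rw [h1]
    exact H.mul_mem (H.mul_mem (H.mul_mem (hx t) (hy t)) (H.inv_mem (hx t))) (H.inv_mem (hy t))
  have h2 : t⁻¹ * 1 * t = ((1 : H) : P) := by simp
  rw [Helper15.extendByZero_of_mem H _ hmem, h2, Helper15.extendByZero_coe]
  have h3 : (⟨t⁻¹ * (x * y * x⁻¹ * y⁻¹) * t, hmem⟩ : H)
      = (⟨_, hx t⟩ : H) * ⟨_, hy t⟩ * (⟨_, hx t⟩ : H)⁻¹ * (⟨_, hy t⟩ : H)⁻¹ := by
    apply Subtype.ext
    simp only [Subgroup.coe_mul, Subgroup.coe_inv]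
    exact h1
  rw [h3]
  simp only [map_mul, map_inv, map_one]
  congr 1
  rw [mul_comm (lam ⟨_, hx t⟩) (lam ⟨_, hy t⟩), mul_assoc, mul_assoc]
  simp

/-- elements of the kernel of the action on `P ⧸ H` have all conjugates in `H`. -/
theorem conj_mem_of_smul_eq {P : Type u} [Group P] (H : Subgroup P) (k t : P)
    (h : k • (t : P ⧸ H) = (t : P ⧸ H)) : t⁻¹ * k * t ∈ H := by
  have h1 : ((k * t : P) : P ⧸ H) = (t : P ⧸ H) := h
  rw [QuotientGroup.eq] at h1
  have h2 := H.inv_mem h1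
  have h3 : ((k * t)⁻¹ * t)⁻¹ = t⁻¹ * k * t := by group
  rwa [h3] at h2

/-- (JB) -/
theorem exists_comm_subgroup_index_dvd_factorial {P : Type u} [Group P] [Finite P]
    [Group.IsNilpotent P] (χ : P → ℂ) (hχ : IsCharacter P χ)
    (hfaith : ∀ g : P, χ g = χ 1 → g = 1) (n : ℕ) (hn : charDegree χ = n) :
    ∃ K : Subgroup P, (∀ x ∈ K, ∀ y ∈ K, x * y = y * x) ∧ K.index ∣ n.factorial := by
  classical
  let _ : Fintype P := Fintype.ofFinite P
  let _ : Fintype (IrrCharacter P) := Helper74.irrFintype P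
  -- multiplicities
  have hmult : ∀ ψ : IrrCharacter P, ∃ m : ℕ, classInner χ (ψ : P → ℂ) = m :=
    fun ψ => Helper74.isCharacter_inner_irr_nat hχ ψ
  choose a ha using hmult
  -- monomial data
  have hmono : ∀ ψ : IrrCharacter P, ∃ (H : Subgroup P) (lam : H →* ℂˣ),
      (ψ : P → ℂ) = indFun H (fun h => (lam h : ℂ)) := fun ψ => Cfsg.Agent.S0176.result _ ψ.2
  choose H lam hψ using hmono
  have hsum : χ = ∑ ψ : IrrCharacter P, (a ψ : ℂ) • (ψ : P → ℂ) := by
    have := Helper74.isCharacter_eq_sum_irr hχ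
    simpa only [ha] using this
  -- degrees
  have hdeg : ∀ ψ : IrrCharacter P, (ψ : P → ℂ) 1 = ((H ψ).index : ℂ) := by
    intro ψ
    rw [hψ ψ, Helper15.indFun_apply_one]
    simp
  have hχ1 : χ 1 = ((∑ ψ : IrrCharacter P, a ψ * (H ψ).index : ℕ) : ℂ) := by
    conv_lhs => rw [hsum]
    simp only [Finset.sum_apply, Pi.smul_apply, smul_eq_mul, hdeg]
    push_cast
    rfl
  have hn' : n = ∑ ψ : IrrCharacter P, a ψ * (H ψ).index := by
    rw [← hn]
    unfold charDegree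
    rw [hχ1, Complex.natCast_re, Nat.floor_natCast]
  -- the set acted on
  let S := {ψ : IrrCharacter P // a ψ ≠ 0}
  let Ω := Σ ψ : S, P ⧸ H ψ.1
  have hcardΩ : Nat.card Ω ≤ n := by
    rw [Nat.card_sigma, hn']
    have h1 : ∀ ψ : S, Nat.card (P ⧸ H ψ.1) = (H ψ.1).index := fun ψ => rfl
    simp only [h1]
    rw [← Finset.sum_subtype (Finset.univ.filter (fun ψ : IrrCharacter P => a ψ ≠ 0))
      (fun x => by simp) (fun ψ => (H ψ).index), Finset.sum_filter]
    apply Finset.sum_le_sum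
    intro ψ _
    split_ifs with h
    · exact Nat.le_mul_of_pos_left _ (Nat.pos_of_ne_zero h)
    · exact Nat.zero_le _
  let f : P →* Equiv.Perm Ω := MulAction.toPermHom P Ω
  refine ⟨f.ker, ?_, ?_⟩
  · intro x hx y hy
    have hfix : ∀ k ∈ f.ker, ∀ ψ : IrrCharacter P, a ψ ≠ 0 → ∀ t : P, t⁻¹ * k * t ∈ H ψ := by
      intro k hk ψ hψ0 t
      apply conj_mem_of_smul_eq
      have h1 : f k = 1 := hk
      have h2 : f k (⟨⟨ψ, hψ0⟩, (t : P ⧸ H ψ)⟩ : Ω) = ⟨⟨ψ, hψ0⟩, (t : P ⧸ H ψ)⟩ := by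
        rw [h1]; rfl
      have h3 : f k (⟨⟨ψ, hψ0⟩, (t : P ⧸ H ψ)⟩ : Ω) = ⟨⟨ψ, hψ0⟩, k • (t : P ⧸ H ψ)⟩ := rfl
      rw [h3] at h2
      have h4 := Sigma.mk.inj_iff.1 h2
      exact eq_of_heq h4.2
    have hc : χ (x * y * x⁻¹ * y⁻¹) = χ 1 := by
      rw [hsum]
      simp only [Finset.sum_apply, Pi.smul_apply, smul_eq_mul]
      apply Finset.sum_congr rfl
      intro ψ _
      by_cases h0 : a ψ = 0
      · simp [h0]
      · congr 1
        rw [hψ ψ]
        exact indFun_lin_comm (H ψ) (lam ψ) x y (hfix x hx ψ h0) (hfix y hy ψ h0)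
    have h1 := hfaith _ hc
    have h2 : x * y = (x * y * x⁻¹ * y⁻¹) * (y * x) := by group
    rw [h2, h1, one_mul]
  · rw [Subgroup.index_ker]
    have h1 : Nat.card f.range ∣ Nat.card (Equiv.Perm Ω) := Subgroup.card_subgroup_dvd_card _
    rw [Nat.card_perm] at h1
    exact h1.trans (Nat.factorial_dvd_factorial hcardΩ)

end Cfsg.Agent.Helper33.BlichJB
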