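import Mathlib
import Cfsg.Agent.Helper77.Blk.Defs

/-!
helper33 for helper77 (S3888, Blackburn): piece (REC) `conj_pow_rec` of `tools/helper77_blk/Skel.lean.txt`, verbatim.
-/

set_option autoImplicit false

universe u

namespace Cfsg.Agent.Helper33.Blk

open Subgroup Cfsg.Agent.Helper77.Blk

/-- (REC) `x: z ↦ z^α * y`, `y ↦ y * z0^γ`, `z0 ↦ z0`, all of `z, y, z0` commute, `y^p = 1`, `α ≡ 1 mod p`:
then `x^k : z ↦ z^(α^k) * y^k * z0^(γ*C(k,2))`.  (Use `y^(α^k) = y`.) -/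
theorem conj_pow_rec {G : Type u} [Group G] (x z y z0 : G) (α γ p : ℕ)
    (hz : x⁻¹ * z * x = z ^ α * y) (hy : x⁻¹ * y * x = y * z0 ^ γ) (hz0 : x⁻¹ * z0 * x = z0)
    (c1 : z * y = y * z) (c2 : z * z0 = z0 * z) (c3 : y * z0 = z0 * y)
    (hyp : y ^ p = 1) (hα : α % p = 1) (k : ℕ) :
    (x ^ k)⁻¹ * z * x ^ k = z ^ (α ^ k) * y ^ k * z0 ^ (γ * k.choose 2) := by
  have hφ : ∀ c : G, MulAut.conj x⁻¹ c = x⁻¹ * c * x := by
    intro c; rw [MulAut.conj_apply, inv_inv]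
  have Czy : Commute z y := c1
  have Czz0 : Commute z z0 := c2
  have Cyz0 : Commute y z0 := c3
  have hyα : ∀ k, y ^ (α ^ k) = y := by
    intro k
    have h1 : α ^ k % p = 1 := by
      rw [Nat.pow_mod, hα, one_pow, ← hα, Nat.mod_mod]
    have h2 : α ^ k = p * (α ^ k / p) + 1 := by
      conv_lhs => rw [← Nat.div_add_mod (α ^ k) p, h1]
    rw [h2, pow_succ, pow_mul, hyp, one_pow, one_mul]
  induction k with
  | zero => simp
  | succ k ih =>
    have e : (x ^ (k + 1))⁻¹ * z * x ^ (k + 1) = x⁻¹ * ((x ^ k)⁻¹ * z * x ^ k) * x := by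
      rw [pow_succ, mul_inv_rev]; simp only [mul_assoc]
    rw [e, ih, ← hφ, map_mul, map_mul, map_pow, map_pow, map_pow, hφ, hφ, hφ, hz, hy, hz0,
      (Czy.pow_left α).mul_pow, (Cyz0.pow_right γ).mul_pow, ← pow_mul, hyα k, ← pow_mul,
      Nat.choose_succ_succ' k 1, Nat.choose_one_right, mul_add, pow_add z0, pow_succ α, pow_succ' y]
    rw [mul_comm α (α ^ k)]
    simp only [mul_assoc]

end Cfsg.Agent.Helper33.Blk
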