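import Cfsg.Agent.Lib.Cores
import Cfsg.Agent.Helper49.SylowSubnormal
import Mathlib.GroupTheory.Transfer

set_option autoImplicit false

namespace Cfsg.Agent.Helper33

open Cfsg.Agent.Lib

theorem pCore_map_equiv_le {X Y : Type*} [Group X] [Group Y] (p : ℕ) (e : X ≃* Y) :
    (Cfsg.pCore p X).map e.toMonoidHom ≤ Cfsg.pCore p Y := by
  apply le_pCore
  · exact (Cfsg.pCore_normal p X).map _ e.surjective
  · exact (isPGroup_pCore p).map _

/-- `O_p` is invariant under isomorphisms. -/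
theorem pCore_map_equiv_eq {X Y : Type*} [Group X] [Group Y] (p : ℕ) (e : X ≃* Y) :
    (Cfsg.pCore p X).map e.toMonoidHom = Cfsg.pCore p Y := by
  apply le_antisymm (pCore_map_equiv_le p e)
  have h := Subgroup.map_mono (f := e.toMonoidHom) (pCore_map_equiv_le p e.symm)
  rw [Subgroup.map_map] at h
  have : e.toMonoidHom.comp e.symm.toMonoidHom = MonoidHom.id Y := by
    ext y; simp
  rwa [this, Subgroup.map_id] at h

/-- `C_X(O_p(X)) ≤ O_p(X)`. -/
def Constrained (p : ℕ) (X : Type*) [Group X] : Prop :=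
  Subgroup.centralizer ((Cfsg.pCore p X : Subgroup X) : Set X) ≤ Cfsg.pCore p X

theorem Constrained.of_equiv {p : ℕ} {X Y : Type*} [Group X] [Group Y] (e : X ≃* Y)
    (h : Constrained p X) : Constrained p Y := by
  intro y hy
  rw [← pCore_map_equiv_eq p e] at hy ⊢
  refine ⟨e.symm y, h ?_, by simp⟩
  rw [Subgroup.mem_centralizer_iff] at hy ⊢
  intro x hx
  have := hy (e x) ⟨x, hx, rfl⟩
  apply e.injective
  rw [map_mul, map_mul, MulEquiv.apply_symm_apply]
  exact this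

variable {G : Type*} [Group G]

theorem pCore_quotient_pCore_eq_bot [Finite G] (p : ℕ) [Fact p.Prime] :
    Cfsg.pCore p (G ⧸ Cfsg.pCore p G) = ⊥ := by
  rw [eq_bot_iff]
  obtain ⟨N, hN⟩ : ∃ N : Subgroup G,
    N = (Cfsg.pCore p (G ⧸ Cfsg.pCore p G)).comap (QuotientGroup.mk' (Cfsg.pCore p G)) := ⟨_, rfl⟩
  have hNn : N.Normal := hN ▸ Subgroup.Normal.comap (Cfsg.pCore_normal p _) _
  have hNp : IsPGroup p N := by
    rintro ⟨x, hx⟩
    rw [hN, Subgroup.mem_comap] at hx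
    obtain ⟨k, hk⟩ := (isPGroup_pCore (G := G ⧸ Cfsg.pCore p G) p) ⟨_, hx⟩
    have hk' : (QuotientGroup.mk' (Cfsg.pCore p G)) (x ^ p ^ k) = 1 := by
      rw [map_pow]
      exact congrArg Subtype.val hk
    rw [QuotientGroup.mk'_apply, QuotientGroup.eq_one_iff] at hk'
    obtain ⟨j, hj⟩ := (isPGroup_pCore (G := G) p) ⟨_, hk'⟩
    refine ⟨k + j, ?_⟩
    apply Subtype.ext
    have hj' : (x ^ p ^ k) ^ p ^ j = 1 := congrArg Subtype.val hj
    show x ^ p ^ (k + j) = 1
    rw [pow_add, pow_mul]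
    exact hj'
  have hle : N ≤ Cfsg.pCore p G := le_pCore hNn hNp
  intro y hy
  obtain ⟨x, rfl⟩ := QuotientGroup.mk'_surjective (Cfsg.pCore p G) y
  have hx : x ∈ N := by rw [hN]; exact hy
  rw [Subgroup.mem_bot, QuotientGroup.mk'_apply, QuotientGroup.eq_one_iff]
  exact hle hx

/-- If `O_{p'}(G) = 1` and `S ∩ C_G(O_p(G))` is normal in `G`, then `C_G(O_p(G)) ≤ O_p(G)`. -/
theorem centralizer_pCore_le_of_normal_inf {p : ℕ} [hp : Fact p.Prime] [Finite G] (S : Sylow p G)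
    (hK : Cfsg.pPrimeCore p G = ⊥)
    (hn : ((S : Subgroup G) ⊓ Subgroup.centralizer ((Cfsg.pCore p G : Subgroup G) : Set G)).Normal) :
    Subgroup.centralizer ((Cfsg.pCore p G : Subgroup G) : Set G) ≤ Cfsg.pCore p G := by
  obtain ⟨Q, hQ⟩ : ∃ Q : Subgroup G, Q = Cfsg.pCore p G := ⟨_, rfl⟩
  obtain ⟨C, hC⟩ : ∃ C : Subgroup G, C = Subgroup.centralizer (Q : Set G) := ⟨_, rfl⟩
  rw [← hQ] at hn ⊢
  rw [← hC] at hn ⊢
  have hQn : Q.Normal := hQ ▸ Cfsg.pCore_normal p G
  have hCn : C.Normal := hC ▸ Subgroup.normal_centralizer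
  have hPCQ : (S : Subgroup G) ⊓ C ≤ Q := hQ ▸ le_pCore hn (S.2.to_le inf_le_left)
  -- the Sylow subgroup of `C`
  have hPp : IsPGroup p (((S : Subgroup G) ⊓ C).subgroupOf C) :=
    (S.2.to_le inf_le_left).comap_subtype
  have hPidx : ¬ p ∣ (((S : Subgroup G) ⊓ C).subgroupOf C).index := by
    show ¬ p ∣ ((S : Subgroup G) ⊓ C).relIndex C
    rw [Subgroup.inf_relIndex_right]
    exact Cfsg.Agent.Helper49.not_dvd_relIndex_of_normal S C
  obtain ⟨P, hP⟩ : ∃ P : Sylow p ↥C, (P : Subgroup ↥C) = ((S : Subgroup G) ⊓ C).subgroupOf C :=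
    ⟨hPp.toSylow hPidx, rfl⟩
  have hcomm : ∀ x ∈ (P : Subgroup ↥C), ∀ c : ↥C, x * c = c * x := by
    intro x hx c
    rw [hP, Subgroup.mem_subgroupOf] at hx
    have hxQ : (x : G) ∈ Q := hPCQ hx
    have hc : (c : G) ∈ Subgroup.centralizer (Q : Set G) := hC ▸ c.2
    rw [Subgroup.mem_centralizer_iff] at hc
    apply Subtype.ext
    exact hc _ hxQ
  have hNC : Subgroup.normalizer ((P : Subgroup ↥C) : Set ↥C) ≤
      Subgroup.centralizer ((P : Subgroup ↥C) : Set ↥C) := by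
    intro c _
    rw [Subgroup.mem_centralizer_iff]
    intro x hx
    exact hcomm x hx c
  have hcompl := MonoidHom.ker_transferSylow_isComplement' P hNC
  obtain ⟨K', hK'⟩ : ∃ K' : Subgroup ↥C, K' = (MonoidHom.transferSylow P hNC).ker := ⟨_, rfl⟩
  rw [← hK'] at hcompl
  have hK'n : K'.Normal := hK' ▸ MonoidHom.normal_ker _
  have hquot : IsPGroup p (↥C ⧸ K') := by
    obtain ⟨k, hk⟩ := IsPGroup.iff_card.mp P.2
    apply IsPGroup.of_card (n := k)
    rw [← Subgroup.index_eq_card, hcompl.symm.index_eq_card]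
    exact hk
  have hres : Cfsg.pResidual p ↥C ≤ K' := pResidual_le_of_isPGroup_quotient K' hquot
  have hK'cop : (Nat.card K').Coprime p := by
    rw [← hcompl.index_eq_card]
    exact ((Nat.Prime.coprime_iff_not_dvd hp.out).mpr P.not_dvd_index).symm
  have hchar : (Cfsg.pResidual p ↥C).Characteristic := pResidual_characteristic p
  have hEn : ((Cfsg.pResidual p ↥C).map C.subtype).Normal := ConjAct.normal_of_characteristic_of_normal
  have hEcop : (Nat.card ((Cfsg.pResidual p ↥C).map C.subtype)).Coprime p := by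
    rw [Subgroup.card_map_of_injective C.subtype_injective]
    exact Nat.Coprime.coprime_dvd_left (Subgroup.card_dvd_of_le hres) hK'cop
  have hE : (Cfsg.pResidual p ↥C).map C.subtype ≤ Cfsg.pPrimeCore p G := le_pPrimeCore hEn hEcop
  rw [hK, le_bot_iff, Subgroup.map_eq_bot_iff_of_injective _ C.subtype_injective] at hE
  have hCp : IsPGroup p C := by
    intro x
    obtain ⟨k, hk⟩ := (isPGroup_quotient_pResidual (G := ↥C) p) (QuotientGroup.mk x)
    refine ⟨k, ?_⟩
    rw [← QuotientGroup.mk_pow, QuotientGroup.eq_one_iff, hE, Subgroup.mem_bot] at hk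
    exact hk
  exact hQ ▸ le_pCore hCn hCp

end Cfsg.Agent.Helper33
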