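import Cfsg.Agent.Helper33.SubTransport
import Cfsg.Agent.Helper33.ConstrainedLemmas

set_option autoImplicit false

universe u

namespace Cfsg.Agent.Helper33

variable {p : ℕ} {𝓦 : Set (∀ (Q : Type u) [Group Q], Subgroup Q)}

/-- Control of strong fusion (in the whole group) is invariant under isomorphism. -/
theorem familyControls_top_of_equiv (h𝓦 : ∀ W ∈ 𝓦, Cfsg.IsCharPFunctor.{u} p W) {X Y : Type u}
    [Group X] [Group Y] [Finite X] (φ : X ≃* Y)
    (h : Cfsg.FamilyControlsStrongFusionIn p (FamW 𝓦 X) ⊤) :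
    Cfsg.FamilyControlsStrongFusionIn p (FamW 𝓦 Y) ⊤ := by
  obtain ⟨T₀, -, hT₀p, hT₀idx, hT₀⟩ := h
  have hmem : ∀ x : X, φ x ∈ T₀.map φ.toMonoidHom ↔ x ∈ T₀ := by
    intro x
    constructor
    · rintro ⟨y, hy, hyx⟩
      have : y = x := φ.injective hyx
      rwa [← this]
    · intro hx
      exact ⟨x, hx, rfl⟩
  refine ⟨T₀.map φ.toMonoidHom, le_top, hT₀p.map _, ?_, ?_⟩
  · rw [Subgroup.relIndex_top_right] at hT₀idx ⊢
    have : (T₀.map φ.toMonoidHom).index = T₀.index := by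
      apply Subgroup.index_map_eq T₀ φ.surjective
      rw [(MonoidHom.ker_eq_bot_iff φ.toMonoidHom).mpr φ.injective]
      exact bot_le
    rw [this]
    exact hT₀idx
  · intro A x _ hA hxA
    have hA' : φ ⁻¹' A ⊆ (T₀ : Set X) := by
      intro a ha
      exact (hmem a).mp (hA ha)
    have hxA' : (fun a => φ.symm x * a * (φ.symm x)⁻¹) '' (φ ⁻¹' A) ⊆ (T₀ : Set X) := by
      rintro _ ⟨a, ha, rfl⟩
      apply (hmem _).mp
      rw [map_mul, map_mul, map_inv, MulEquiv.apply_symm_apply]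
      exact hxA ⟨φ a, ha, rfl⟩
    obtain ⟨n, c, hc0, hcstep, hcimg, hclast⟩ := hT₀ _ (φ.symm x) (Subgroup.mem_top _) hA' hxA'
    have hAH : ∀ a ∈ A, ∃ a' : X, a' ∈ φ ⁻¹' A ∧ φ a' = a := by
      intro a ha
      exact ⟨φ.symm a, by simpa using ha, by simp⟩
    refine ⟨n, fun i => φ (c i), ?_, ?_, ?_, ?_⟩
    · show φ (c 0) = 1
      rw [hc0, map_one]
    · intro i
      obtain ⟨_, ⟨W, hW, rfl⟩, hmemN⟩ := hcstep i
      refine ⟨_, ⟨W, hW, rfl⟩, ?_⟩
      have h2 := (Subgroup.mem_inf.mp hmemN).2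
      refine Subgroup.mem_inf.mpr ⟨Subgroup.mem_top _, ?_⟩
      show φ (c i.succ) * (φ (c i.castSucc))⁻¹ ∈
        Subgroup.normalizer ((Cfsg.inducedFunctor W (T₀.map φ.toMonoidHom) : Subgroup Y) : Set Y)
      rw [inducedFunctor_map_equiv (h𝓦 W hW) φ T₀ hT₀p]
      apply Subgroup.le_normalizer_map φ.toMonoidHom
      exact ⟨_, h2, by simp⟩
    · rintro i _ ⟨a, ha, rfl⟩
      obtain ⟨a', ha', rfl⟩ := hAH a ha
      have := hcimg i ⟨a', ha', rfl⟩
      have h3 := (hmem _).mpr this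
      rw [map_mul, map_mul, map_inv] at h3
      exact h3
    · intro a ha
      obtain ⟨a', ha', rfl⟩ := hAH a ha
      have := congrArg φ (hclast a' ha')
      rw [map_mul, map_mul, map_inv, map_mul, map_mul, map_inv, MulEquiv.apply_symm_apply] at this
      exact this

/-- The property "constrained groups have strong fusion controlled by the family" used for sections. -/
def CSFProp (p : ℕ) (𝓦 : Set (∀ (Q : Type u) [Group Q], Subgroup Q)) : ∀ (X : Type u) [Group X], Prop :=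
  fun X _ => Finite X → Constrained p X → Cfsg.FamilyControlsStrongFusionIn p (FamW 𝓦 X) ⊤

theorem isoInvariant_CSFProp (h𝓦 : ∀ W ∈ 𝓦, Cfsg.IsCharPFunctor.{u} p W) :
    IsoInvariant (CSFProp p 𝓦) := by
  intro X Y _ _ φ h hY hcon
  have : Finite X := Finite.of_equiv Y φ.symm.toEquiv
  exact familyControls_top_of_equiv h𝓦 φ (h this (hcon.of_equiv φ.symm))

end Cfsg.Agent.Helper33
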