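import Mathlib
import Cfsg.Prelude.Def_PLocal
import Cfsg.Prelude.Def_LocalEven
import Cfsg.Agent.Helper21.StabChain

set_option autoImplicit false
set_option linter.style.haveILetI false

open scoped commutatorElement

namespace Cfsg.Agent.Helper33

variable {G : Type*} [Group G]

/-! ### Iterated commutators -/

theorem iterCommutator_mono' {N N' : Subgroup G} (h : N ≤ N') (Z : Subgroup G) (n : ℕ) :
    Cfsg.iterCommutator N Z n ≤ Cfsg.iterCommutator N' Z n := by
  induction n with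
  | zero => exact h
  | succ n ih => exact Subgroup.commutator_mono ih le_rfl

/-- `Z` normalizes the iterated commutators `[N, Z; n]` if it normalizes `N`. -/
theorem le_normalizer_iterCommutator (N Z : Subgroup G)
    (hN : Z ≤ Subgroup.normalizer (N : Set G)) (n : ℕ) :
    Z ≤ Subgroup.normalizer ((Cfsg.iterCommutator N Z n : Subgroup G) : Set G) := by
  induction n with
  | zero => exact hN
  | succ n ih =>
    exact (le_inf ih Subgroup.le_normalizer).trans
      (Cfsg.Agent.Helper21.normalizer_le_normalizer_commutator _ _)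

theorem commutator_le_of_le_normalizer {H Z : Subgroup G}
    (h : Z ≤ Subgroup.normalizer (H : Set G)) : ⁅H, Z⁆ ≤ H := by
  rw [Subgroup.commutator_le]
  intro a ha z hz
  have h1 : z * a⁻¹ * z⁻¹ ∈ H := (Subgroup.mem_normalizer_iff.mp (h hz) a⁻¹).mp (H.inv_mem ha)
  have e : ⁅a, z⁆ = a * (z * a⁻¹ * z⁻¹) := by rw [commutatorElement_def]; group
  rw [e]
  exact H.mul_mem ha h1

theorem le_normalizer_of_commutator_le {H Z : Subgroup G} [Finite G] (h : ⁅H, Z⁆ ≤ H) :
    Z ≤ Subgroup.normalizer (H : Set G) := by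
  intro z hz
  have key : ∀ y ∈ Z, ∀ a ∈ H, y * a * y⁻¹ ∈ H := by
    intro y hy a ha
    have h1 : ⁅a⁻¹, y⁆ ∈ H := h (Subgroup.commutator_mem_commutator (H.inv_mem ha) hy)
    have e : y * a * y⁻¹ = a * ⁅a⁻¹, y⁆ := by rw [commutatorElement_def]; group
    rw [e]
    exact H.mul_mem ha h1
  rw [Subgroup.mem_normalizer_iff]
  intro a
  constructor
  · exact key z hz a
  · intro ha
    have := key z⁻¹ (Z.inv_mem hz) _ ha
    rw [inv_inv] at this
    have e : z⁻¹ * (z * a * z⁻¹) * z = a := by group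
    rwa [e] at this

theorem iterCommutator_succ_le (N Z : Subgroup G)
    (hN : Z ≤ Subgroup.normalizer (N : Set G)) (n : ℕ) :
    Cfsg.iterCommutator N Z (n + 1) ≤ Cfsg.iterCommutator N Z n :=
  commutator_le_of_le_normalizer (le_normalizer_iterCommutator N Z hN n)

theorem iterCommutator_antitone (N Z : Subgroup G)
    (hN : Z ≤ Subgroup.normalizer (N : Set G)) : Antitone (Cfsg.iterCommutator N Z) :=
  antitone_nat_of_succ_le (iterCommutator_succ_le N Z hN)

theorem iterCommutator_le_self (N Z : Subgroup G)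
    (hN : Z ≤ Subgroup.normalizer (N : Set G)) (n : ℕ) : Cfsg.iterCommutator N Z n ≤ N :=
  iterCommutator_antitone N Z hN (Nat.zero_le n)

theorem iterCommutator_add (N Z : Subgroup G) (m n : ℕ) :
    Cfsg.iterCommutator N Z (m + n) = Cfsg.iterCommutator (Cfsg.iterCommutator N Z m) Z n := by
  induction n with
  | zero => rfl
  | succ n ih =>
    show ⁅Cfsg.iterCommutator N Z (m + n), Z⁆ = ⁅Cfsg.iterCommutator (Cfsg.iterCommutator N Z m) Z n, Z⁆
    rw [ih]

/-- `[A ⊔ B, Z] ≤ [A, Z] ⊔ B` for `B` normal. -/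
theorem commutator_sup_le_of_normal (A B Z : Subgroup G) [hB : B.Normal] :
    ⁅A ⊔ B, Z⁆ ≤ ⁅A, Z⁆ ⊔ B := by
  rw [Subgroup.commutator_le]
  intro x hx z hz
  rw [← SetLike.mem_coe, Subgroup.mul_normal] at hx
  obtain ⟨a, ha, b, hb, rfl⟩ := hx
  have e : ⁅a * b, z⁆ = (a * ⁅b, z⁆ * a⁻¹) * ⁅a, z⁆ := by
    rw [commutatorElement_def, commutatorElement_def, commutatorElement_def]; group
  rw [e]
  have hbz : ⁅b, z⁆ ∈ B := by
    rw [commutatorElement_def]
    have := hB.conj_mem b⁻¹ (B.inv_mem hb) z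
    have h2 := B.mul_mem hb this
    have e2 : b * (z * b⁻¹ * z⁻¹) = b * z * b⁻¹ * z⁻¹ := by group
    rwa [e2] at h2
  have h1 : a * ⁅b, z⁆ * a⁻¹ ∈ B := hB.conj_mem _ hbz a
  have h2 : ⁅a, z⁆ ∈ ⁅A, Z⁆ := Subgroup.commutator_mem_commutator ha hz
  have h3 := Subgroup.mul_mem_sup h2 h1
  have h4 : a * ⁅b, z⁆ * a⁻¹ * ⁅a, z⁆ ∈ B ⊔ ⁅A, Z⁆ := Subgroup.mul_mem_sup h1 h2
  rwa [sup_comm] at h4

/-- `[Y ⊔ N, Z; n] ≤ Y ⊔ [N, Z; n]` for `Y` normal. -/
theorem iterCommutator_sup_le (Y N Z : Subgroup G) [hY : Y.Normal] (n : ℕ) :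
    Cfsg.iterCommutator (N ⊔ Y) Z n ≤ Cfsg.iterCommutator N Z n ⊔ Y := by
  induction n with
  | zero => exact le_rfl
  | succ n ih =>
    exact (Subgroup.commutator_mono ih le_rfl).trans (commutator_sup_le_of_normal _ _ _)

/-! ### Chief chains -/

/-- Placement of a chief factor in a descending normal chain on whose factors `Z` acts with degree
at most `n`. -/
theorem chief_degree_of_chain (Z : Subgroup G) (n : ℕ) (F : ℕ → Subgroup G) (e : ℕ)
    (hFn : ∀ c, (F c).Normal) (hFe : F e = ⊥)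
    (hF : ∀ c, Cfsg.iterCommutator (F c) Z n ≤ F (c + 1))
    (X Y : Subgroup G) (hXY : Cfsg.IsChiefFactor X Y) (hX : X ≤ F 0) :
    Cfsg.iterCommutator X Z n ≤ Y := by
  classical
  obtain ⟨hlt, hXn, hYn, hchief⟩ := hXY
  have hex : ∃ c, ¬ X ≤ Y ⊔ F c := ⟨e, by
    rw [hFe, sup_bot_eq]; exact not_le_of_gt hlt⟩
  obtain ⟨c₁, hc₁⟩ : ∃ c₁, c₁ = Nat.find hex := ⟨_, rfl⟩
  have hc₁not : ¬ X ≤ Y ⊔ F c₁ := hc₁ ▸ Nat.find_spec hex
  have hc₁0 : c₁ ≠ 0 := by
    rintro rfl
    exact hc₁not (hX.trans le_sup_right)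
  obtain ⟨c, rfl⟩ : ∃ c, c₁ = c + 1 := ⟨c₁ - 1, by omega⟩
  have hc : X ≤ Y ⊔ F c := by
    by_contra h
    have := Nat.find_min' hex h
    omega
  haveI := hYn
  haveI := hFn (c + 1)
  haveI := hFn c
  haveI := hXn
  have hinf : X ⊓ (Y ⊔ F (c + 1)) = Y := by
    have hn : (X ⊓ (Y ⊔ F (c + 1))).Normal := Subgroup.normal_inf_normal _ _
    rcases hchief _ hn (le_inf hlt.le le_sup_left) inf_le_left with h | h
    · exact h
    · exact absurd (h ▸ inf_le_right) hc₁not
  have hZX : Z ≤ Subgroup.normalizer (X : Set G) := by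
    rw [Subgroup.normalizer_eq_top_iff.mpr hXn]; exact le_top
  have h1 : Cfsg.iterCommutator X Z n ≤ X := iterCommutator_le_self X Z hZX n
  have h2 : Cfsg.iterCommutator X Z n ≤ Y ⊔ F (c + 1) := by
    calc Cfsg.iterCommutator X Z n ≤ Cfsg.iterCommutator (F c ⊔ Y) Z n :=
          iterCommutator_mono' (by rw [sup_comm]; exact hc) Z n
      _ ≤ Cfsg.iterCommutator (F c) Z n ⊔ Y := iterCommutator_sup_le Y (F c) Z n
      _ ≤ Y ⊔ F (c + 1) := by rw [sup_comm]; exact sup_le_sup_left (hF c) Y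
  exact hinf ▸ le_inf h1 h2

/-- A minimal normal subgroup above `A` inside `B`. -/
theorem exists_isChiefFactor_above [Finite G] (A B : Subgroup G) [hA : A.Normal] [hB : B.Normal]
    (hAB : A < B) : ∃ A' : Subgroup G, A' ≤ B ∧ Cfsg.IsChiefFactor A' A := by
  obtain ⟨𝒴, h𝒴⟩ : ∃ 𝒴 : Set (Subgroup G), 𝒴 = {Y | Y.Normal ∧ A < Y ∧ Y ≤ B} := ⟨_, rfl⟩
  have hne : 𝒴.Nonempty := ⟨B, by rw [h𝒴]; exact ⟨hB, hAB, le_rfl⟩⟩
  obtain ⟨Y, hY, hYmin⟩ := (Set.toFinite 𝒴).exists_minimal hne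
  rw [h𝒴] at hY
  refine ⟨Y, hY.2.2, hY.2.1, hY.1, hA, ?_⟩
  intro N hN hAN hNY
  by_cases h : N = A
  · exact Or.inl h
  · right
    have hN𝒴 : N ∈ 𝒴 := by
      rw [h𝒴]; exact ⟨hN, lt_of_le_of_ne hAN (Ne.symm h), hNY.trans hY.2.2⟩
    exact le_antisymm hNY (hYmin hN𝒴 hNY)

/-- A chief chain from `A` up to `B`, indexed by `ℕ` and constant from the index `e` on. -/
theorem exists_chief_chain [Finite G] (B : Subgroup G) [hB : B.Normal] :
    ∀ (d : ℕ) (A : Subgroup G), A.Normal → A ≤ B → Nat.card B - Nat.card A ≤ d →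
    ∃ (e : ℕ) (C : ℕ → Subgroup G), C 0 = A ∧ (∀ l, e ≤ l → C l = B) ∧ (∀ l, (C l).Normal) ∧
      (∀ l, l < e → Cfsg.IsChiefFactor (C (l + 1)) (C l)) ∧ (∀ l, C l ≤ B) := by
  intro d
  induction d with
  | zero =>
    intro A hA hAB hd
    have hAB' : A = B := by
      apply Subgroup.eq_of_le_of_card_ge hAB
      omega
    exact ⟨0, fun _ => B, hAB'.symm, fun _ _ => rfl, fun _ => hB, fun l hl => absurd hl (by omega),
      fun _ => le_rfl⟩
  | succ d ih =>
    intro A hA hAB hd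
    by_cases hAB' : A = B
    · exact ⟨0, fun _ => B, hAB'.symm, fun _ _ => rfl, fun _ => hB,
        fun l hl => absurd hl (by omega), fun _ => le_rfl⟩
    · have hlt : A < B := lt_of_le_of_ne hAB hAB'
      haveI := hA
      obtain ⟨A', hA'B, hch⟩ := exists_isChiefFactor_above A B hlt
      have hcard : Nat.card A < Nat.card A' := by
        by_contra hnot
        exact hch.1.ne (Subgroup.eq_of_le_of_card_ge hch.1.le (not_lt.mp hnot))
      have hcardB : Nat.card A' ≤ Nat.card B := Subgroup.card_le_of_le hA'B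
      obtain ⟨e', C', hC0, hCe, hCn, hCch, hCB⟩ := ih A' hch.2.1 hA'B (by omega)
      refine ⟨e' + 1, fun l => Nat.casesOn l A C', rfl, ?_, ?_, ?_, ?_⟩
      · intro l hl
        obtain ⟨l', rfl⟩ : ∃ l', l = l' + 1 := ⟨l - 1, by omega⟩
        exact hCe l' (by omega)
      · intro l
        cases l with
        | zero => exact hA
        | succ l => exact hCn l
      · intro l hl
        cases l with
        | zero => show Cfsg.IsChiefFactor (C' 0) A; rw [hC0]; exact hch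
        | succ l => exact hCch l (by omega)
      · intro l
        cases l with
        | zero => exact hAB
        | succ l => exact hCB l

end Cfsg.Agent.Helper33
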