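import Mathlib.GroupTheory.Sylow
import Mathlib.GroupTheory.Coset.Card
import Mathlib.GroupTheory.GroupAction.Quotient

set_option autoImplicit false

namespace Cfsg.Agent.Helper33

variable {G : Type*} [Group G]

/-- Vanishing of `H¹` by averaging: a 1-cocycle `f : G → A` (for the conjugation action on an abelian
normal subgroup `A`) that vanishes on a subgroup `T` of index prime to `#A` is a coboundary. -/
theorem exists_conj_of_cocycle [Finite G] (A T : Subgroup G) [hA : A.Normal]
    (hcomm : ∀ a ∈ A, ∀ b ∈ A, a * b = b * a) (hcop : (Nat.card A).Coprime T.index)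
    (f : G → G) (hfA : ∀ g, f g ∈ A) (hf : ∀ g h, f (g * h) = f g * (g * f h * g⁻¹))
    (hfT : ∀ t ∈ T, f t = 1) : ∃ z ∈ A, ∀ g, f g = z * (g * z⁻¹ * g⁻¹) := by
  classical
  let _ : CommGroup A :=
    { (inferInstance : Group A) with mul_comm := fun a b => Subtype.ext (hcomm a a.2 b b.2) }
  have : Fintype (G ⧸ T) := Fintype.ofFinite _
  let F : G → A := fun g => ⟨f g, hfA g⟩
  have hFconst : ∀ g : G, ∀ t ∈ T, F (g * t) = F g := by
    intro g t ht
    apply Subtype.ext
    show f (g * t) = f g
    rw [hf, hfT t ht]; group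
  have hFmul : ∀ g x : G, MulAut.conjNormal g (F x) = (F g)⁻¹ * F (g * x) := by
    intro g x
    apply Subtype.ext
    rw [MulAut.conjNormal_apply]
    show g * f x * g⁻¹ = (f g)⁻¹ * f (g * x)
    rw [hf]; group
  let c : A := ∏ q : G ⧸ T, F q.out
  have hperm : ∀ g : G, ∏ q : G ⧸ T, F (g * q.out) = c := by
    intro g
    have h1 : ∀ q : G ⧸ T, F (g * q.out) = F ((g • q).out) := by
      intro q
      have hq : ((g * q.out : G) : G ⧸ T) = g • q := by
        conv_rhs => rw [← QuotientGroup.out_eq' q]
        rfl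
      have h2 : (((g • q).out : G) : G ⧸ T) = ((g * q.out : G) : G ⧸ T) := by
        rw [QuotientGroup.out_eq', hq]
      rw [QuotientGroup.eq] at h2
      have := hFconst ((g • q).out) _ h2
      rw [← this]
      congr 1
      group
    rw [Finset.prod_congr rfl (fun q _ => h1 q)]
    exact Equiv.prod_comp (MulAction.toPerm g : Equiv.Perm (G ⧸ T)) (fun q => F q.out)
  have hkey : ∀ g : G, (F g) ^ T.index = c * (MulAut.conjNormal g c)⁻¹ := by
    intro g
    have h1 : MulAut.conjNormal g c = ∏ q : G ⧸ T, (F g)⁻¹ * F (g * q.out) := by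
      show MulAut.conjNormal g (∏ q : G ⧸ T, F q.out) = _
      rw [map_prod]
      exact Finset.prod_congr rfl (fun q _ => hFmul g q.out)
    rw [Finset.prod_mul_distrib, hperm g, Finset.prod_const, Finset.card_univ,
      ← Nat.card_eq_fintype_card, ← Subgroup.index_eq_card] at h1
    rw [h1, inv_pow]
    group
  let e := powCoprime hcop
  let z : A := e.symm c
  have hz : z ^ T.index = c := by
    have := e.apply_symm_apply c
    exact this
  refine ⟨z, z.2, ?_⟩
  intro g
  have h2 : (F g) ^ T.index = (z * (MulAut.conjNormal g z)⁻¹) ^ T.index := by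
    have h5 : (MulAut.conjNormal g z) ^ T.index = MulAut.conjNormal g c := by
      rw [← map_pow (MulAut.conjNormal g) z, hz]
    rw [hkey g, mul_pow, inv_pow, h5, hz]
  have h3 : F g = z * (MulAut.conjNormal g z)⁻¹ := e.injective h2
  have h4 := congrArg (fun a : A => (a : G)) h3
  simp only [Subgroup.coe_mul, Subgroup.coe_inv, MulAut.conjNormal_apply] at h4
  rw [show f g = ((F g : A) : G) from rfl, h4]
  group

end Cfsg.Agent.Helper33
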