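import Mathlib.GroupTheory.Commutator.Basic
import Mathlib.GroupTheory.Subgroup.Centralizer

set_option autoImplicit false

open scoped commutatorElement

namespace Cfsg.Agent.Helper33

variable {P : Type*} [Group P]

/-- If `N` is centralized by `closure S` and the commutators of the generators `S` with `K` lie in `N`,
then `⁅closure S, K⁆ ≤ N`. -/
theorem commutator_closure_le_of_central {S : Set P} {K N : Subgroup P}
    (hN : N ≤ Subgroup.centralizer ((Subgroup.closure S : Subgroup P) : Set P))
    (h : ∀ s ∈ S, ∀ k ∈ K, ⁅s, k⁆ ∈ N) : ⁅Subgroup.closure S, K⁆ ≤ N := by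
  rw [Subgroup.commutator_le]
  intro g hg
  induction hg using Subgroup.closure_induction with
  | mem s hs => exact h s hs
  | one => intro k _; rw [commutatorElement_one_left]; exact N.one_mem
  | mul a b ha hb iha ihb =>
    intro k hk
    rw [commutatorElement_mul_left_eq_conj_mul]
    have hb' := ihb k hk
    have hc : a * ⁅b, k⁆ * a⁻¹ = ⁅b, k⁆ := by
      have := (Subgroup.mem_centralizer_iff.mp (hN hb')) a ha
      rw [this, mul_inv_cancel_right]
    rw [hc]
    exact N.mul_mem hb' (iha k hk)
  | inv a ha iha =>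
    intro k hk
    rw [commutatorElement_inv_left]
    have ha' := iha k hk
    have hinv : ⁅k, a⁆ ∈ N := by rw [← commutatorElement_inv]; exact N.inv_mem ha'
    have hc : a⁻¹ * ⁅k, a⁆ * a = ⁅k, a⁆ := by
      have := (Subgroup.mem_centralizer_iff.mp (hN hinv)) a ha
      rw [mul_assoc, ← this, inv_mul_cancel_left]
    rw [hc]
    exact hinv

/-- Version for a join of two subgroups. -/
theorem commutator_sup_le_of_central {H₁ H₂ K N : Subgroup P}
    (hN : N ≤ Subgroup.centralizer ((H₁ ⊔ H₂ : Subgroup P) : Set P))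
    (h₁ : ⁅H₁, K⁆ ≤ N) (h₂ : ⁅H₂, K⁆ ≤ N) : ⁅H₁ ⊔ H₂, K⁆ ≤ N := by
  have e : H₁ ⊔ H₂ = Subgroup.closure ((H₁ : Set P) ∪ (H₂ : Set P)) := Subgroup.sup_eq_closure H₁ H₂
  rw [e] at hN ⊢
  apply commutator_closure_le_of_central hN
  rintro s (hs | hs) k hk
  · exact h₁ (Subgroup.commutator_mem_commutator hs hk)
  · exact h₂ (Subgroup.commutator_mem_commutator hs hk)

theorem centralizer_sup_eq (H K : Subgroup P) :
    Subgroup.centralizer ((H ⊔ K : Subgroup P) : Set P) =
      Subgroup.centralizer (H : Set P) ⊓ Subgroup.centralizer (K : Set P) := by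
  apply le_antisymm
  · exact le_inf (Subgroup.centralizer_le (by exact_mod_cast (le_sup_left : H ≤ H ⊔ K)))
      (Subgroup.centralizer_le (by exact_mod_cast (le_sup_right : K ≤ H ⊔ K)))
  · rw [Subgroup.le_centralizer_iff]
    apply sup_le
    · rw [Subgroup.le_centralizer_iff]; exact inf_le_left
    · rw [Subgroup.le_centralizer_iff]; exact inf_le_right

end Cfsg.Agent.Helper33
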