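import Cfsg.Agent.Helper33.WellPlaced
import Cfsg.Agent.Helper33.Alperin

set_option autoImplicit false

namespace Cfsg.Agent.Helper33

variable {G : Type*} [Group G]

local notation:max H "⟪" g "⟫" => Subgroup.map (MulEquiv.toMonoidHom (MulAut.conj g)) H

theorem map_conj_eq_self_of_mem {H : Subgroup G} {m : G} (hm : m ∈ H) : H⟪m⟫ = H := by
  have : m ∈ Subgroup.normalizer (H : Set G) := Subgroup.le_normalizer hm
  exact Subgroup.mem_normalizer_iff_map_conj_eq.mp this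

/-- Control of strong fusion in `H` can be read off at any Sylow `p`-subgroup `N'` of `H`
(left conjugation form). -/
theorem controlsStrongFusionIn_at {p : ℕ} [Fact p.Prime] [Finite G] {W : Subgroup G → Subgroup G}
    (hW : Cfsg.IsConjugacyFunctor p W) {H N' : Subgroup G}
    (hctl : Cfsg.ControlsStrongFusionIn p W H) (hN'H : N' ≤ H) (hN'p : IsPGroup p N')
    (hN'idx : ¬ p ∣ N'.relIndex H) (B : Set G) (y : G) (hy : y ∈ H) (hB : B ⊆ (N' : Set G))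
    (hyB : ∀ b ∈ B, y * b * y⁻¹ ∈ N') :
    ∃ n ∈ H ⊓ Subgroup.normalizer ((W N' : Subgroup G) : Set G), ∀ b ∈ B, n * b * n⁻¹ = y * b * y⁻¹ := by
  obtain ⟨T', hT'H, hT'p, hT'idx, hT'⟩ := hctl
  obtain ⟨m, hmH, hm⟩ := exists_conj_le_of_not_dvd_relIndex hN'H hN'p hN'idx hT'H hT'p
  have hle : T'⟪m⟫ ≤ N' := (map_conj_le_iff T' N' m).mpr hm
  have hidx' : ¬ p ∣ (T'⟪m⟫).relIndex H := by
    have := relIndex_map_conj T' H m
    rw [map_conj_eq_self_of_mem hmH] at this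
    rw [this]; exact hT'idx
  have heq : T'⟪m⟫ = N' := eq_of_le_of_not_dvd_relIndex hle hN'H hN'p hidx'
  have hWN' : W N' = (W T')⟪m⟫ := by rw [← heq]; exact functor_map_conj hW hT'p m
  -- transport the data to T'
  have hA : (fun b => m⁻¹ * b * m) '' B ⊆ (T' : Set G) := by
    rintro _ ⟨b, hb, rfl⟩
    have : b ∈ T'⟪m⟫ := by rw [heq]; exact hB hb
    exact (mem_map_conj_iff T' m b).mp this
  have hhA : (fun a => (m⁻¹ * y * m) * a * (m⁻¹ * y * m)⁻¹) '' ((fun b => m⁻¹ * b * m) '' B) ⊆ (T' : Set G) := by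
    rintro _ ⟨_, ⟨b, hb, rfl⟩, rfl⟩
    have : y * b * y⁻¹ ∈ T'⟪m⟫ := by rw [heq]; exact hyB b hb
    have h2 := (mem_map_conj_iff T' m _).mp this
    show (m⁻¹ * y * m) * (m⁻¹ * b * m) * (m⁻¹ * y * m)⁻¹ ∈ T'
    have e : (m⁻¹ * y * m) * (m⁻¹ * b * m) * (m⁻¹ * y * m)⁻¹ = m⁻¹ * (y * b * y⁻¹) * m := by group
    rw [e]; exact h2
  have hhH : m⁻¹ * y * m ∈ H := H.mul_mem (H.mul_mem (H.inv_mem hmH) hy) hmH
  obtain ⟨x', hx'mem, hx'⟩ := hT' _ (m⁻¹ * y * m) hhH hA hhA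
  have hx'H := (Subgroup.mem_inf.mp hx'mem).1
  have hx'N := (Subgroup.mem_inf.mp hx'mem).2
  refine ⟨m * x' * m⁻¹, Subgroup.mem_inf.mpr ⟨H.mul_mem (H.mul_mem hmH hx'H) (H.inv_mem hmH), ?_⟩, ?_⟩
  · rw [hWN', normalizer_map_conj]
    exact conj_mem_map_conj _ m hx'N
  · intro b hb
    have := hx' (m⁻¹ * b * m) ⟨b, hb, rfl⟩
    calc m * x' * m⁻¹ * b * (m * x' * m⁻¹)⁻¹ = m * (x' * (m⁻¹ * b * m) * x'⁻¹) * m⁻¹ := by group
      _ = m * ((m⁻¹ * y * m) * (m⁻¹ * b * m) * (m⁻¹ * y * m)⁻¹) * m⁻¹ := by rw [this]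
      _ = y * b * y⁻¹ := by group

/-- Right-conjugation factorisation form of the previous lemma. -/
theorem controlsStrongFusionIn_factor {p : ℕ} [Fact p.Prime] [Finite G] {W : Subgroup G → Subgroup G}
    (hW : Cfsg.IsConjugacyFunctor p W) {H N' : Subgroup G}
    (hctl : Cfsg.ControlsStrongFusionIn p W H) (hN'H : N' ≤ H) (hN'p : IsPGroup p N')
    (hN'idx : ¬ p ∣ N'.relIndex H) (B : Set G) (y : G) (hy : y ∈ H) (hB : B ⊆ (N' : Set G))
    (hyB : conjR y B ⊆ (N' : Set G)) :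
    ∃ c ∈ Subgroup.centralizer B, ∃ n ∈ H ⊓ Subgroup.normalizer ((W N' : Subgroup G) : Set G),
      y = c * n := by
  have hyB' : ∀ b ∈ B, y⁻¹ * b * y⁻¹⁻¹ ∈ N' := by
    intro b hb
    rw [inv_inv]
    exact hyB ⟨b, hb, rfl⟩
  obtain ⟨n, hn, hnb⟩ := controlsStrongFusionIn_at hW hctl hN'H hN'p hN'idx B y⁻¹ (H.inv_mem hy) hB hyB'
  refine ⟨y * n, ?_, n⁻¹, Subgroup.inv_mem _ hn, by group⟩
  rw [Subgroup.mem_centralizer_iff]
  intro b hb
  have := hnb b hb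
  rw [inv_inv] at this
  calc b * (y * n) = y * (y⁻¹ * b * y) * n := by group
    _ = y * (n * b * n⁻¹) * n := by rw [this]
    _ = y * n * b := by group

/-- The "controlled" predicate: `g = c n` with `c` centralizing `A` and `n` in a fixed subgroup `M`. -/
def Ctl (M : Subgroup G) (A : Set G) (g : G) : Prop :=
  ∃ c ∈ Subgroup.centralizer A, ∃ n ∈ M, g = c * n

theorem FChain.ctl {M : Subgroup G} {𝓕 : Set (Subgroup G)}
    (hstep : ∀ T ∈ 𝓕, ∀ x ∈ Subgroup.normalizer (T : Set G), ∀ B : Set G, B ⊆ (T : Set G) → Ctl M B x)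
    {A : Set G} {g : G} (h : FChain 𝓕 A g) : Ctl M A g := by
  induction h with
  | nil A => exact ⟨1, Subgroup.one_mem _, 1, Subgroup.one_mem _, by simp⟩
  | cons A T x g hT hx hAT _ ih =>
    obtain ⟨c, hc, n, hn, rfl⟩ := hstep T hT x hx A hAT
    obtain ⟨c', hc', n', hn', rfl⟩ := ih
    refine ⟨(c * n) * c' * (c * n)⁻¹ * c, ?_, n * n', M.mul_mem hn hn', by group⟩
    apply Subgroup.mul_mem _ _ hc
    rw [Subgroup.mem_centralizer_iff]
    intro a ha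
    have h1 : (c * n)⁻¹ * a * (c * n) ∈ conjR (c * n) A := ⟨a, ha, rfl⟩
    have h2 := Subgroup.mem_centralizer_iff.mp hc' _ h1
    calc a * ((c * n) * c' * (c * n)⁻¹) = (c * n) * (((c * n)⁻¹ * a * (c * n)) * c') * (c * n)⁻¹ := by group
      _ = (c * n) * (c' * ((c * n)⁻¹ * a * (c * n))) * (c * n)⁻¹ := by rw [h2]
      _ = _ := by group

end Cfsg.Agent.Helper33
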