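import Cfsg.Agent.Helper33.FusMisc
import Cfsg.Agent.Helper49.SylowSubnormal

set_option autoImplicit false

open scoped Pointwise

namespace Cfsg.Agent.Helper33

variable {G : Type*} [Group G]

/-- An element of order prime to `p` that centralizes the `p`-group `Q` and acts trivially on `U` modulo
`Q` centralizes `U`. -/
theorem commute_of_coprime_stab {p : ℕ} [Fact p.Prime] [Finite G] {Q U : Subgroup G}
    (hQp : IsPGroup p Q) {d : G} (hd : (orderOf d).Coprime p) (hdQ : ∀ q ∈ Q, Commute d q)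
    (hdU : ∀ u ∈ U, u⁻¹ * (d⁻¹ * u * d) ∈ Q) : ∀ u ∈ U, Commute d u := by
  intro u hu
  obtain ⟨q, hq⟩ : ∃ q, q = u⁻¹ * (d⁻¹ * u * d) := ⟨_, rfl⟩
  have hqQ : q ∈ Q := hq ▸ hdU u hu
  have hdq : Commute d q := hdQ q hqQ
  have hpow : ∀ k : ℕ, (d⁻¹) ^ k * u * d ^ k = u * q ^ k := by
    intro k
    induction k with
    | zero => simp
    | succ k ih =>
      have hdqk : Commute d (q ^ k) := hdq.pow_right k
      calc (d⁻¹) ^ (k + 1) * u * d ^ (k + 1)
          = d⁻¹ * ((d⁻¹) ^ k * u * d ^ k) * d := by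
            rw [pow_succ' d⁻¹ k, pow_succ d k]; group
        _ = d⁻¹ * (u * q ^ k) * d := by rw [ih]
        _ = (d⁻¹ * u * d) * (d⁻¹ * q ^ k * d) := by group
        _ = (u * q) * (q ^ k) := by
            have e1 : d⁻¹ * u * d = u * q := by rw [hq]; group
            have e2 : d⁻¹ * q ^ k * d = q ^ k := by
              rw [mul_assoc, ← hdqk.eq, ← mul_assoc, inv_mul_cancel, one_mul]
            rw [e1, e2]
        _ = u * q ^ (k + 1) := by rw [pow_succ' q k, mul_assoc]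
  have h1 := hpow (orderOf d)
  rw [inv_pow, pow_orderOf_eq_one, inv_one, one_mul, mul_one] at h1
  have hq1 : q ^ orderOf d = 1 := by
    have : u * q ^ orderOf d = u * 1 := by rw [mul_one]; exact h1.symm
    exact mul_left_cancel this
  have hqord : orderOf q ∣ orderOf d := orderOf_dvd_of_pow_eq_one hq1
  obtain ⟨j, hj⟩ := hQp ⟨q, hqQ⟩
  have hqord2 : orderOf q ∣ p ^ j := by
    apply orderOf_dvd_of_pow_eq_one
    have := congrArg Subtype.val hj
    simpa using this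
  have hone : orderOf q = 1 := by
    have hc : (orderOf d).Coprime (p ^ j) := Nat.Coprime.pow_right j hd
    exact Nat.eq_one_of_dvd_coprimes hc hqord hqord2
  have hq_one : q = 1 := orderOf_eq_one_iff.mp hone
  rw [hq_one] at hq
  have h2 : d⁻¹ * u * d = u := by
    have : u * (u⁻¹ * (d⁻¹ * u * d)) = u * 1 := by rw [← hq]
    rw [mul_one, mul_inv_cancel_left] at this
    exact this
  show d * u = u * d
  calc d * u = d * (d⁻¹ * u * d) := by rw [h2]
    _ = u * d := by group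

theorem conj_mem_centralizer_of_mem_normalizer {U : Subgroup G} {x c : G}
    (hx : x ∈ Subgroup.normalizer (U : Set G)) (hc : c ∈ Subgroup.centralizer (U : Set G)) :
    x * c * x⁻¹ ∈ Subgroup.centralizer (U : Set G) := by
  rw [Subgroup.mem_centralizer_iff] at hc ⊢
  intro u hu
  have hu' : x⁻¹ * u * x⁻¹⁻¹ ∈ U := (Subgroup.mem_normalizer_iff.mp (Subgroup.inv_mem _ hx) u).mp hu
  rw [inv_inv] at hu'
  have := hc _ hu'
  calc u * (x * c * x⁻¹) = x * ((x⁻¹ * u * x) * c) * x⁻¹ := by group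
    _ = x * (c * (x⁻¹ * u * x)) * x⁻¹ := by rw [this]
    _ = x * c * x⁻¹ * u := by group

/-- If elements of order prime to `p` centralize the normal `p`-subgroup `Q`, `U` is a tame subgroup of the
Sylow `p`-subgroup `S`, and `d ∈ N_G(U)` acts trivially on `U` modulo `Q`, then `d` acts on `U` as an
element of `S`. -/
theorem exists_sylow_conj_of_stab {p : ℕ} [hp : Fact p.Prime] [Finite G] (S : Sylow p G) (Q : Subgroup G)
    [Q.Normal] (hQp : IsPGroup p Q)
    (hcop : ∀ x : G, (orderOf x).Coprime p → x ∈ Subgroup.centralizer (Q : Set G))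
    (U : Subgroup G)
    (htame : ¬ p ∣ ((S : Subgroup G) ⊓ Subgroup.normalizer (U : Set G)).relIndex
      (Subgroup.normalizer (U : Set G)))
    (d : G) (hdN : d ∈ Subgroup.normalizer (U : Set G)) (hdU : ∀ u ∈ U, u⁻¹ * (d⁻¹ * u * d) ∈ Q) :
    ∃ s ∈ (S : Subgroup G), ∀ u ∈ U, d⁻¹ * u * d = s⁻¹ * u * s := by
  obtain ⟨f, hf⟩ : ∃ f : G →* G ⧸ Q, f = QuotientGroup.mk' Q := ⟨_, rfl⟩
  obtain ⟨N, hN⟩ : ∃ N : Subgroup G, N = Subgroup.normalizer (U : Set G) := ⟨_, rfl⟩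
  obtain ⟨E, hE⟩ : ∃ E : Subgroup G,
    E = (Subgroup.centralizer ((U.map f : Subgroup (G ⧸ Q)) : Set (G ⧸ Q))).comap f := ⟨_, rfl⟩
  obtain ⟨K₀, hK₀⟩ : ∃ K₀ : Subgroup G, K₀ = Subgroup.centralizer (U : Set G) := ⟨_, rfl⟩
  rw [← hN] at htame hdN
  have hfeq : ∀ a b : G, f a = f b ↔ a⁻¹ * b ∈ Q := by
    intro a b
    rw [hf]
    exact QuotientGroup.eq
  have hEmem : ∀ x, x ∈ E ↔ ∀ u ∈ U, u⁻¹ * (x⁻¹ * u * x) ∈ Q := by
    intro x
    rw [hE, Subgroup.mem_comap, Subgroup.mem_centralizer_iff]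
    constructor
    · intro h u hu
      have h1 := h (f u) ⟨u, hu, rfl⟩
      rw [← map_mul, ← map_mul, eq_comm, hfeq] at h1
      have e : (x * u)⁻¹ * (u * x) = u⁻¹ * (x⁻¹ * u * x) := by group
      rwa [e] at h1
    · rintro h _ ⟨u, hu, rfl⟩
      have h1 := h u hu
      have e : (x * u)⁻¹ * (u * x) = u⁻¹ * (x⁻¹ * u * x) := by group
      rw [← e, ← hfeq] at h1
      rw [← map_mul, ← map_mul, h1]
  have hK₀N : K₀ ≤ N := by
    rw [hK₀, hN]
    exact Subgroup.centralizer_le_normalizer _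
  have hK₀E : K₀ ≤ E := by
    intro x hx
    rw [hEmem]
    intro u hu
    rw [hK₀, Subgroup.mem_centralizer_iff] at hx
    have := hx u hu
    have e : u⁻¹ * (x⁻¹ * u * x) = 1 := by
      calc u⁻¹ * (x⁻¹ * u * x) = u⁻¹ * (x⁻¹ * (u * x)) := by group
        _ = u⁻¹ * (x⁻¹ * (x * u)) := by rw [this]
        _ = 1 := by group
    rw [e]; exact Q.one_mem
  obtain ⟨D, hD⟩ : ∃ D : Subgroup G, D = N ⊓ E := ⟨_, rfl⟩
  have hDN : D ≤ N := hD ▸ inf_le_left
  have hK₀D : K₀ ≤ D := hD ▸ le_inf hK₀N hK₀E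
  have hdD : d ∈ D := by
    rw [hD]
    exact Subgroup.mem_inf.mpr ⟨hdN, (hEmem d).mpr hdU⟩
  -- `D` is normal in `N`
  have hDconj : ∀ n ∈ N, ∀ x ∈ D, n * x * n⁻¹ ∈ D := by
    intro n hn x hx
    rw [hD] at hx ⊢
    obtain ⟨hxN, hxE⟩ := Subgroup.mem_inf.mp hx
    refine Subgroup.mem_inf.mpr ⟨N.mul_mem (N.mul_mem hn hxN) (N.inv_mem hn), ?_⟩
    rw [hE, Subgroup.mem_comap] at hxE ⊢
    rw [map_mul, map_mul, map_inv]
    refine conj_mem_centralizer_of_mem_normalizer (U := U.map f) ?_ hxE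
    apply Subgroup.le_normalizer_map f
    exact ⟨n, hN ▸ hn, rfl⟩
  have hnormal : (D.subgroupOf N).Normal := by
    constructor
    intro x hx n
    rw [Subgroup.mem_subgroupOf] at hx ⊢
    exact hDconj n n.2 x hx
  have hsylN : Cfsg.Agent.Helper49.IsSylowOf p ((S : Subgroup G) ⊓ N) N :=
    ⟨inf_le_right, S.2.to_le inf_le_left, htame⟩
  have hsylD := hsylN.inf_of_normal hDN hnormal
  obtain ⟨T₁, hT₁⟩ : ∃ T₁ : Subgroup G, T₁ = (S : Subgroup G) ⊓ N ⊓ D := ⟨_, rfl⟩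
  rw [← hT₁] at hsylD
  have hT₁S : T₁ ≤ (S : Subgroup G) := hT₁ ▸ inf_le_left.trans inf_le_left
  have hT₁N : T₁ ≤ N := hT₁ ▸ inf_le_left.trans inf_le_right
  -- the quotient `D / K₀` is a `p`-group
  have hK₀normal : (K₀.subgroupOf D).Normal := by
    constructor
    intro x hx n
    rw [Subgroup.mem_subgroupOf] at hx ⊢
    rw [hK₀] at hx ⊢
    have hnN : (n : G) ∈ Subgroup.normalizer (U : Set G) := hN ▸ hDN n.2
    exact conj_mem_centralizer_of_mem_normalizer hnN hx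
  have hquot : IsPGroup p (↥D ⧸ K₀.subgroupOf D) := by
    intro y
    induction y using QuotientGroup.induction_on with
    | H x =>
      obtain ⟨k, m, hm, hxm⟩ := Nat.exists_eq_pow_mul_and_not_dvd (orderOf_pos (x : G)).ne' p
        hp.out.ne_one
      refine ⟨k, ?_⟩
      rw [← QuotientGroup.mk_pow, QuotientGroup.eq_one_iff, Subgroup.mem_subgroupOf]
      obtain ⟨y, hy⟩ : ∃ y : G, y = (x : G) ^ (p ^ k) := ⟨_, rfl⟩
      have hyD : y ∈ D := hy ▸ D.pow_mem x.2 _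
      have hyord : orderOf y = m := by
        rw [hy, orderOf_pow_of_dvd (pow_ne_zero k hp.out.ne_zero) (hxm ▸ dvd_mul_right _ _), hxm,
          Nat.mul_div_cancel_left _ (pow_pos hp.out.pos k)]
      have hycop : (orderOf y).Coprime p := by
        rw [hyord]
        exact ((Nat.Prime.coprime_iff_not_dvd hp.out).mpr hm).symm
      have hyQ := hcop y hycop
      rw [Subgroup.mem_centralizer_iff] at hyQ
      have hyE : y ∈ E := (Subgroup.mem_inf.mp (hD ▸ hyD)).2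
      have := commute_of_coprime_stab (U := U) hQp hycop (fun q hq => (hyQ q hq).symm)
        ((hEmem y).mp hyE)
      show ((x ^ p ^ k : ↥D) : G) ∈ K₀
      rw [hK₀, Subgroup.mem_centralizer_iff, Subgroup.coe_pow, ← hy]
      intro u hu
      exact ((this u hu).eq).symm
  have hidxK₀ : ∃ k : ℕ, K₀.relIndex D = p ^ k := by
    obtain ⟨k, hk⟩ := IsPGroup.iff_card.mp hquot
    exact ⟨k, by rw [← hk, ← Subgroup.index_eq_card]; rfl⟩
  have hle : D ≤ K₀ ⊔ T₁ := by
    rw [← Subgroup.relIndex_eq_one]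
    obtain ⟨k, hk⟩ := hidxK₀
    have h1 : (K₀ ⊔ T₁).relIndex D ∣ p ^ k := hk ▸ Subgroup.relIndex_dvd_of_le_left D le_sup_left
    have h2 : (K₀ ⊔ T₁).relIndex D ∣ T₁.relIndex D := Subgroup.relIndex_dvd_of_le_left D le_sup_right
    obtain ⟨j, -, hj⟩ := (Nat.dvd_prime_pow hp.out).mp h1
    rcases Nat.eq_zero_or_pos j with hj0 | hjpos
    · rw [hj, hj0, pow_zero]
    · exfalso
      apply hsylD.2.2
      refine dvd_trans ?_ h2
      rw [hj]
      exact dvd_pow_self p hjpos.ne'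
  have hnorm : T₁ ≤ Subgroup.normalizer (K₀ : Set G) := by
    intro x hx
    have hxN : x ∈ Subgroup.normalizer (U : Set G) := hN ▸ hT₁N hx
    have hxinv : x⁻¹ ∈ Subgroup.normalizer (K₀ : Set G) := by
      apply mem_normalizer_of_conjR_subset
      rintro _ ⟨c, hc, rfl⟩
      show x⁻¹⁻¹ * c * x⁻¹ ∈ K₀
      rw [inv_inv, hK₀]
      exact conj_mem_centralizer_of_mem_normalizer hxN (hK₀ ▸ hc)
    have := Subgroup.inv_mem _ hxinv
    rwa [inv_inv] at this
  have hd' : d ∈ ((K₀ ⊔ T₁ : Subgroup G) : Set G) := hle hdD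
  rw [Subgroup.coe_mul_of_right_le_normalizer_left K₀ T₁ hnorm] at hd'
  obtain ⟨c', hc', s, hs, hcs⟩ := hd'
  have hcs' : d = c' * s := hcs.symm
  refine ⟨s, hT₁S hs, ?_⟩
  intro u hu
  rw [SetLike.mem_coe, hK₀, Subgroup.mem_centralizer_iff] at hc'
  have := hc' u hu
  rw [hcs']
  calc (c' * s)⁻¹ * u * (c' * s) = s⁻¹ * (c'⁻¹ * (u * c')) * s := by group
    _ = s⁻¹ * (c'⁻¹ * (c' * u)) * s := by rw [this]
    _ = s⁻¹ * u * s := by group

end Cfsg.Agent.Helper33
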