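import Cfsg.Agent.Helper4.D4Inv.Defs
import Cfsg.Agent.S1032

/-!
# (HA) the torus element `h₁₈(c) h₁₃(f c) h₁₂(f (f c))` of `³D₄(q)` (for helper4's S2183)
-/

set_option autoImplicit false

namespace Cfsg.Agent.Helper33.D4I

open Cfsg Cfsg.Lie Cfsg.Agent.Helper18 Cfsg.Agent.Helper4.D4Inv

variable {K : Type*} [Field K]

/-- conjugation of a root element by `h_p(c)`, `p` a fundamental root (S1032 in `GL`) -/
theorem hG_conj_xGL (i : ℕ) (hi : i < chevD4.rank) (s : ℕ) (hs : s < chevD4.nroots) (c : K)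
    (hc : c ≠ 0) (t : K) :
    Cfsg.Agent.Helper19.Twist.hG chevD4 K (chevD4.simple i) c * xGL chevD4 K s t *
        (Cfsg.Agent.Helper19.Twist.hG chevD4 K (chevD4.simple i) c)⁻¹ =
      xGL chevD4 K s (c ^ (chevD4.cartan i s) * t) := by
  have h := Cfsg.Agent.S1032.result (F := K) chevD4 hD4 i s hi hs c hc t
  rw [mul_inv_eq_iff_eq_mul]
  apply Units.ext
  simp only [Units.val_mul]
  rw [Cfsg.Agent.Helper19.Twist.hG, hWordGL_val chevD4 hD4,
    xGL_val chevD4 _ (triOK_of_mem chevD4 hD4), xGL_val chevD4 _ (triOK_of_mem chevD4 hD4)]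
  exact h

theorem simple_tab : chevD4.simple 0 = 18 ∧ chevD4.simple 2 = 13 ∧ chevD4.simple 3 = 12 := by
  decide +kernel

theorem cartan_tab :
    chevD4.cartan 0 18 = 2 ∧ chevD4.cartan 0 13 = 0 ∧ chevD4.cartan 0 12 = 0 ∧
    chevD4.cartan 2 18 = 0 ∧ chevD4.cartan 2 13 = 2 ∧ chevD4.cartan 2 12 = 0 ∧
    chevD4.cartan 3 18 = 0 ∧ chevD4.cartan 3 13 = 0 ∧ chevD4.cartan 3 12 = 2 := by
  decide +kernel

theorem conj3 {G : Type*} [Group G] (h1 h2 h3 x : G) :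
    (h1 * h2 * h3) * x * (h1 * h2 * h3)⁻¹ = h1 * (h2 * (h3 * x * h3⁻¹) * h2⁻¹) * h1⁻¹ := by
  group

/-- (HA) the torus element `h₁₈(c) h₁₃(f c) h₁₂(f (f c))` -/
theorem torus_A (q : ℕ) (f : K ≃+* K) (hf : ∀ t, f t = t ^ q) (c : K) (hc : c ≠ 0) :
    ∃ h ∈ twistedD4 K q, ∀ t : K,
      h * xGL chevD4 K 18 t * h⁻¹ = xGL chevD4 K 18 (c ^ 2 * t) ∧
      h * xGL chevD4 K 13 t * h⁻¹ = xGL chevD4 K 13 ((f c) ^ 2 * t) ∧
      h * xGL chevD4 K 12 t * h⁻¹ = xGL chevD4 K 12 ((f (f c)) ^ 2 * t) := by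
  have hfc : f c ≠ 0 := (map_ne_zero f).2 hc
  have hffc : f (f c) ≠ 0 := (map_ne_zero f).2 hfc
  have hr : (4 : ℕ) = chevD4.rank := by decide +kernel
  have hn : (24 : ℕ) = chevD4.nroots := by decide +kernel
  have H0 : ∀ (s : ℕ) (hs : s < 24) (a : K) (ha : a ≠ 0) (t : K),
      Cfsg.Agent.Helper19.Twist.hG chevD4 K 18 a * xGL chevD4 K s t *
        (Cfsg.Agent.Helper19.Twist.hG chevD4 K 18 a)⁻¹ =
      xGL chevD4 K s (a ^ (chevD4.cartan 0 s) * t) := by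
    intro s hs a ha t
    have := hG_conj_xGL (K := K) 0 (by rw [← hr]; norm_num) s (by rw [← hn]; exact hs) a ha t
    rw [simple_tab.1] at this
    exact this
  have H2 : ∀ (s : ℕ) (hs : s < 24) (a : K) (ha : a ≠ 0) (t : K),
      Cfsg.Agent.Helper19.Twist.hG chevD4 K 13 a * xGL chevD4 K s t *
        (Cfsg.Agent.Helper19.Twist.hG chevD4 K 13 a)⁻¹ =
      xGL chevD4 K s (a ^ (chevD4.cartan 2 s) * t) := by
    intro s hs a ha t
    have := hG_conj_xGL (K := K) 2 (by rw [← hr]; norm_num) s (by rw [← hn]; exact hs) a ha t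
    rw [simple_tab.2.1] at this
    exact this
  have H3 : ∀ (s : ℕ) (hs : s < 24) (a : K) (ha : a ≠ 0) (t : K),
      Cfsg.Agent.Helper19.Twist.hG chevD4 K 12 a * xGL chevD4 K s t *
        (Cfsg.Agent.Helper19.Twist.hG chevD4 K 12 a)⁻¹ =
      xGL chevD4 K s (a ^ (chevD4.cartan 3 s) * t) := by
    intro s hs a ha t
    have := hG_conj_xGL (K := K) 3 (by rw [← hr]; norm_num) s (by rw [← hn]; exact hs) a ha t
    rw [simple_tab.2.2] at this
    exact this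
  refine ⟨_, Cfsg.Agent.Helper19.Twist.hJD4_mem f hf c, fun t => ⟨?_, ?_, ?_⟩⟩
  · rw [conj3, H3 18 (by norm_num) _ hffc, H2 18 (by norm_num) _ hfc, H0 18 (by norm_num) _ hc,
      cartan_tab.1, cartan_tab.2.2.2.1, cartan_tab.2.2.2.2.2.2.1]
    congr 1
    simp only [zpow_zero, one_mul]
    rw [zpow_ofNat]
  · rw [conj3, H3 13 (by norm_num) _ hffc, H2 13 (by norm_num) _ hfc, H0 13 (by norm_num) _ hc,
      cartan_tab.2.1, cartan_tab.2.2.2.2.1, cartan_tab.2.2.2.2.2.2.2.1]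
    congr 1
    simp only [zpow_zero, one_mul]
    rw [zpow_ofNat]
  · rw [conj3, H3 12 (by norm_num) _ hffc, H2 12 (by norm_num) _ hfc, H0 12 (by norm_num) _ hc,
      cartan_tab.2.2.1, cartan_tab.2.2.2.2.2.1, cartan_tab.2.2.2.2.2.2.2.2]
    congr 1
    simp only [zpow_zero, one_mul]
    rw [zpow_ofNat]

end Cfsg.Agent.Helper33.D4I
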