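import Cfsg.Agent.Helper40.D4Tor.Defs

/-!
helper33 for helper40 (S2376, `³D₄(q)` torus): pieces (ENT-M), (ENT), (ENT-P), (ENT-E) of `tools/helper40_d4tor/Skel.lean.txt`,
verbatim.
-/

set_option autoImplicit false
set_option maxRecDepth 100000

namespace Cfsg.Agent.Helper33.D4Tor

open Cfsg Cfsg.Lie Cfsg.Agent.Helper18 Cfsg.Agent.Helper19.Twist Cfsg.Agent.Helper40.D4Tor

/-- (ENT-M) -/
theorem hT_mem {K : Type*} [Field K] (β t t' t'' : K) (hβ : β ≠ 0) (ht : t ≠ 0) (ht' : t' ≠ 0) (ht'' : t'' ≠ 0) :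
    hG chevD4 K 14 β * T t t' t'' ∈ chevD4.diagonalSubgroup K := by
  unfold T
  exact mul_mem (hG_mem chevD4 memD4 14 (by decide) _ hβ)
    (mul_mem (mul_mem (hG_mem chevD4 memD4 18 (by decide) _ ht) (hG_mem chevD4 memD4 13 (by decide) _ ht'))
      (hG_mem chevD4 memD4 12 (by decide) _ ht''))

/-- (ENT) as helper19's `psiD4_entry`. -/
theorem hT_entry {K : Type*} [Field K] (β t t' t'' : K) (hβ : β ≠ 0) (ht : t ≠ 0) (ht' : t' ≠ 0) (ht'' : t'' ≠ 0)
    (u : ℕ) (hu : u < 24) :
    ent (hG chevD4 K 14 β * T t t' t'') u =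
      β ^ pairing' chevD4 14 u * (t ^ pairing' chevD4 18 u * t' ^ pairing' chevD4 13 u * t'' ^ pairing' chevD4 12 u) := by
  have hu' : u < chevD4.nroots := hu
  have m14 := hG_mem (K := K) chevD4 memD4 14 (by decide) _ hβ
  have m18 := hG_mem (K := K) chevD4 memD4 18 (by decide) _ ht
  have m13 := hG_mem (K := K) chevD4 memD4 13 (by decide) _ ht'
  have m12 := hG_mem (K := K) chevD4 memD4 12 (by decide) _ ht''
  unfold ent T
  rw [rootEntry_mul chevD4 memD4 _ _ m14 (mul_mem (mul_mem m18 m13) m12),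
    rootEntry_mul chevD4 memD4 _ _ (mul_mem m18 m13) m12, rootEntry_mul chevD4 memD4 _ _ m18 m13,
    rootEntry_hG chevD4 memD4 14 u (by decide) hu' _ hβ, rootEntry_hG chevD4 memD4 18 u (by decide) hu' _ ht,
    rootEntry_hG chevD4 memD4 13 u (by decide) hu' _ ht', rootEntry_hG chevD4 memD4 12 u (by decide) hu' _ ht'']

theorem ent_one' {K : Type*} [Field K] (r : ℕ) : ent (1 : GL chevD4.Idx K) r = 1 := by
  unfold ent rootEntry
  split_ifs with h
  · rw [Units.val_one, Matrix.one_apply_eq]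
  · rfl

/-- (ENT-P) entries of powers and of `1`. -/
theorem ent_pow {K : Type*} [Field K] (k : GL chevD4.Idx K) (hk : k ∈ chevD4.diagonalSubgroup K) (m r : ℕ) :
    ent (k ^ m) r = ent k r ^ m := by
  induction m with
  | zero => rw [pow_zero, pow_zero, ent_one']
  | succ m ih =>
    rw [pow_succ, pow_succ, ← ih]
    unfold ent
    exact rootEntry_mul chevD4 memD4 _ _ (pow_mem hk m) hk r

/-- (ENT-E) an element of `H` all of whose entries at the roots are `1` is `1` (helper19's `diag_ext`). -/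
theorem eq_one_of_ent {K : Type*} [Field K] (k : GL chevD4.Idx K) (hk : k ∈ chevD4.diagonalSubgroup K)
    (h : ∀ r < 24, ent k r = 1) : k = 1 := by
  apply diag_ext chevD4 memD4 coordD4 coordOK_D4 k 1 hk (one_mem _)
  intro i hi
  have hlt : chevD4.simple i < 24 := simple_lt chevD4 (simpleOK_of_mem chevD4 memD4) i hi
  have h1 := h _ hlt
  have h2 := ent_one' (K := K) (chevD4.simple i)
  unfold ent at h1 h2
  rw [h1, h2]

end Cfsg.Agent.Helper33.D4Tor
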