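import Cfsg.Agent.Helper40.D4Tor.Defs

/-!
helper33 for helper40 (S2376, `³D₄(q)` torus): piece (SIG0) of `tools/helper40_d4tor/Skel.lean.txt`, verbatim.
-/

set_option autoImplicit false
set_option maxRecDepth 100000

namespace Cfsg.Agent.Helper33.D4Tor

open Cfsg Cfsg.Lie Cfsg.Agent.Helper18 Cfsg.Agent.Helper19.Twist Cfsg.Agent.Helper40.D4Tor

/-- (SIG0) `sigD4_xGL` (`pi1 9 = 9`, `pi1 14 = 14`, `eps1 9 = eps1 14 = 1`), `nG_eq`, additivity of `xGL`. -/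
theorem sig_g0 {K : Type*} [Field K] (f : K ≃+* K) (a b : K) (hb : b ≠ 0) (ha : f a = a + b⁻¹) (hb' : f b = -b) :
    sigD4 f (g0 a b) = g0 a b * nG chevD4 K 14 (-b) := by
  have e9 : Cfsg.Agent.S1081.pi1 9 = 9 := by decide
  have e14 : Cfsg.Agent.S1081.pi1 14 = 14 := by decide
  have s9 : Cfsg.Agent.S1081.eps1 9 = 1 := by decide
  have s14 : Cfsg.Agent.S1081.eps1 14 = 1 := by decide
  have n14 : chevD4.neg 14 = 9 := by decide
  unfold g0
  rw [map_mul, sigD4_xGL f 9 (by decide) a, sigD4_xGL f 14 (by decide) b, e9, e14, s9, s14, Int.cast_one, one_mul,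
    one_mul, ha, hb', nG_eq, n14]
  have h1 : xGL chevD4 K 14 b * xGL chevD4 K 14 (-b) = 1 := xGL_mul_neg chevD4 memD4 14 b
  have h2 : -(-b)⁻¹ = b⁻¹ := by rw [inv_neg, neg_neg]
  rw [h2, ← Cfsg.Agent.Helper19.Poinc.xGL_mul chevD4 memD4 9 (by decide) a b⁻¹]
  calc xGL chevD4 K 9 a * xGL chevD4 K 9 b⁻¹ * xGL chevD4 K 14 (-b)
      = xGL chevD4 K 9 a * (xGL chevD4 K 14 b * xGL chevD4 K 14 (-b)) * xGL chevD4 K 9 b⁻¹ * xGL chevD4 K 14 (-b) := by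
        rw [h1, mul_one]
    _ = _ := by simp only [mul_assoc]

end Cfsg.Agent.Helper33.D4Tor
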