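import Mathlib
import Cfsg.Agent.Helper42.DZDefs

set_option autoImplicit false
set_option linter.unusedSimpArgs false

/-!
# (W3) of #5421 for S4538 + S2440 (helper42): a character of the diagonal torus of `SL_n(F)`,
`n ≥ 3`, invariant under the adjacent Weyl reflections is trivial.   (helper33)
-/

namespace Cfsg.Agent.Helper33.DZ

open Matrix Cfsg Cfsg.Agent.Helper42.DZ

variable {n : ℕ} {F : Type*} [Field F]

/-- the matrix of `sd i j`. -/
theorem sd_val (i j : Fin n) (hij : i ≠ j) :
    (sd i j hij : SLn n F).1 = 1 + Matrix.single i j (1 : F) - Matrix.single j i (1 : F)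
      - Matrix.single i i (1 : F) - Matrix.single j j (1 : F) := by
  unfold sd
  simp only [Matrix.SpecialLinearGroup.coe_mul, xs_val, Matrix.transvection]
  have hA2 : Matrix.single i j (1 : F) * Matrix.single i j (1 : F) = 0 := by
    rw [Matrix.single_mul_single_of_ne]
    exact hij.symm
  have hAB : Matrix.single i j (1 : F) * Matrix.single j i (-1 : F) = Matrix.single i i (-1 : F) := by
    rw [Matrix.single_mul_single_same]; simp
  have hBA : Matrix.single j i (-1 : F) * Matrix.single i j (1 : F) = Matrix.single j j (-1 : F) := by
    rw [Matrix.single_mul_single_same]; simp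
  have hiiA : Matrix.single i i (-1 : F) * Matrix.single i j (1 : F) = Matrix.single i j (-1 : F) := by
    rw [Matrix.single_mul_single_same]; simp
  have hneg : ∀ a b : Fin n, Matrix.single a b (-1 : F) = - Matrix.single a b (1 : F) := by
    intro a b
    rw [← Matrix.single_neg]
  calc (1 + Matrix.single i j (1 : F)) * (1 + Matrix.single j i (-1 : F)) * (1 + Matrix.single i j (1 : F))
      = 1 + Matrix.single i j (1 : F) + Matrix.single j i (-1 : F)
        + Matrix.single i j (1 : F) * Matrix.single j i (-1 : F)
        + Matrix.single i j (1 : F) + Matrix.single i j (1 : F) * Matrix.single i j (1 : F)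
        + Matrix.single j i (-1 : F) * Matrix.single i j (1 : F)
        + Matrix.single i j (1 : F) * Matrix.single j i (-1 : F) * Matrix.single i j (1 : F) := by
        noncomm_ring
    _ = _ := by
        rw [hAB, hA2, hBA, hiiA, hneg, hneg, hneg, hneg]
        abel

/-- diagonal elements of `SL_n(F)`. -/
def dg (d : Fin n → F) (hd : ∏ k, d k = 1) : SLn n F :=
  ⟨Matrix.diagonal d, by rw [Matrix.det_diagonal]; exact hd⟩

theorem dg_val (d : Fin n → F) (hd : ∏ k, d k = 1) : (dg d hd).1 = Matrix.diagonal d := rfl

theorem dg_mem_TD (d : Fin n → F) (hd : ∏ k, d k = 1) : dg d hd ∈ TD n F := by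
  intro i j hij
  exact Matrix.diagonal_apply_ne _ hij

theorem dg_mul (d d' : Fin n → F) (hd : ∏ k, d k = 1) (hd' : ∏ k, d' k = 1) :
    dg d hd * dg d' hd' = dg (d * d') (by
      rw [show (∏ k, (d * d') k) = (∏ k, d k) * ∏ k, d' k from Finset.prod_mul_distrib, hd, hd',
        one_mul]) := by
  apply Subtype.ext
  show Matrix.diagonal d * Matrix.diagonal d' = Matrix.diagonal (d * d')
  rw [Matrix.diagonal_mul_diagonal]
  rfl

theorem dg_congr {d d' : Fin n → F} (h : d = d') (hd : ∏ k, d k = 1) :
    dg d hd = dg d' (h ▸ hd) := by
  subst h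
  rfl

theorem exists_eq_dg (t : SLn n F) (ht : t ∈ TD n F) :
    ∃ hd : ∏ k, t.1 k k = 1, t = dg (fun k => t.1 k k) hd := by
  have h1 : t.1 = Matrix.diagonal (fun k => t.1 k k) := by
    ext i j
    by_cases hij : i = j
    · subst hij
      rw [Matrix.diagonal_apply_eq]
    · rw [Matrix.diagonal_apply_ne _ hij]
      exact ht i j hij
  have hd : ∏ k, t.1 k k = 1 := by
    have h2 : t.1.det = 1 := t.2
    rw [h1, Matrix.det_diagonal] at h2
    exact h2
  exact ⟨hd, Subtype.ext h1⟩

theorem prod_comp_swap (d : Fin n → F) (i j : Fin n) (hd : ∏ k, d k = 1) :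
    ∏ k, (d ∘ Equiv.swap i j) k = 1 := by
  rw [← hd]
  exact Equiv.prod_comp (Equiv.swap i j) d

/-- conjugation by `sd i j` swaps the diagonal entries `i`, `j`. -/
theorem conj_sd_dg (i j : Fin n) (hij : i ≠ j) (d : Fin n → F) (hd : ∏ k, d k = 1) :
    (sd i j hij)⁻¹ * dg d hd * sd i j hij = dg (d ∘ Equiv.swap i j) (prod_comp_swap d i j hd) := by
  have h1 : dg d hd * sd i j hij = sd i j hij * dg (d ∘ Equiv.swap i j) (prod_comp_swap d i j hd) := by
    apply Subtype.ext
    show Matrix.diagonal d * (sd i j hij : SLn n F).1
      = (sd i j hij : SLn n F).1 * Matrix.diagonal (d ∘ Equiv.swap i j)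
    ext k l
    rw [Matrix.diagonal_mul, Matrix.mul_diagonal, sd_val]
    simp only [Matrix.add_apply, Matrix.sub_apply, Matrix.one_apply, Matrix.single_apply,
      Function.comp_apply]
    by_cases hki : k = i
    · subst hki
      by_cases hlk : l = k
      · subst hlk
        simp [hij, hij.symm]
      · by_cases hlj : l = j
        · subst hlj
          simp [hij, hij.symm, Equiv.swap_apply_right]
        · simp [hij, hij.symm, hlk, hlj, Ne.symm hlk, Ne.symm hlj]
    · by_cases hkj : k = j
      · subst hkj
        by_cases hli : l = i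
        · subst hli
          simp [hij, hij.symm, Equiv.swap_apply_left]
        · by_cases hlk : l = k
          · subst hlk
            simp [hij, hij.symm]
          · simp [hij, hij.symm, hlk, hli, Ne.symm hlk, Ne.symm hli]
      · by_cases hlk : l = k
        · subst hlk
          simp [hki, hkj, Ne.symm hki, Ne.symm hkj, Equiv.swap_apply_of_ne_of_ne hki hkj]
        · simp [hki, hkj, Ne.symm hki, Ne.symm hkj, hlk, Ne.symm hlk]
  rw [mul_assoc, h1, ← mul_assoc, inv_mul_cancel, one_mul]

/-- the diagonal function `a` at `p`, `a⁻¹` at `q`, `1` elsewhere. -/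
def ef (p q : Fin n) (a : F) : Fin n → F := fun m => if m = p then a else if m = q then a⁻¹ else 1

theorem prod_ef (p q : Fin n) (hpq : p ≠ q) (a : F) (ha : a ≠ 0) : ∏ k, ef p q a k = 1 := by
  have h1 : ∀ k, ef p q a k = (if k = p then a else 1) * (if k = q then a⁻¹ else 1) := by
    intro k
    unfold ef
    by_cases hkp : k = p
    · subst hkp
      simp [hpq]
    · by_cases hkq : k = q
      · subst hkq
        simp [hkp]
      · simp [hkp, hkq]
  rw [Finset.prod_congr rfl (fun k _ => h1 k), Finset.prod_mul_distrib,
    Finset.prod_ite_eq' Finset.univ p, Finset.prod_ite_eq' Finset.univ q]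
  simp [ha]

theorem ef_comp_swap (p q r : Fin n) (hpq : p ≠ q) (hpr : p ≠ r) (hqr : q ≠ r) (a : F) :
    ef p q a ∘ Equiv.swap q r = ef p r a := by
  funext m
  unfold ef
  simp only [Function.comp_apply]
  by_cases hmp : m = p
  · subst hmp
    rw [Equiv.swap_apply_of_ne_of_ne hpq hpr]
    simp
  · by_cases hmq : m = q
    · subst hmq
      rw [Equiv.swap_apply_left]
      simp [hmp, hqr, Ne.symm hpr, Ne.symm hqr]
    · by_cases hmr : m = r
      · subst hmr
        rw [Equiv.swap_apply_right]
        simp [hmp, hmq, Ne.symm hpq]
      · rw [Equiv.swap_apply_of_ne_of_ne hmq hmr]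
        simp [hmp, hmq, hmr]

theorem ef_mul (p q r : Fin n) (hpq : p ≠ q) (hpr : p ≠ r) (hqr : q ≠ r) (a : F) (ha : a ≠ 0) :
    ef p r a = ef p q a * ef q r a := by
  funext m
  unfold ef
  simp only [Pi.mul_apply]
  by_cases hmp : m = p
  · subst hmp
    simp [hpq, hpr]
  · by_cases hmq : m = q
    · subst hmq
      simp [hmp, hqr, ha]
    · by_cases hmr : m = r
      · subst hmr
        simp [hmp, hmq]
      · simp [hmp, hmq, hmr]

/-- (W3) for `n ≥ 3` a character of the diagonal torus invariant under the adjacent transpositions
is trivial -/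
theorem torus_char_trivial (hn : 3 ≤ n) (lam : SLn n F → ℂ)
    (h1 : lam 1 = 1) (hmul : ∀ s ∈ TD n F, ∀ t ∈ TD n F, lam (s * t) = lam s * lam t)
    (hinv : ∀ (i j : Fin n) (hij : j.val = i.val + 1) (hne : i ≠ j), ∀ t ∈ TD n F,
      lam ((sd i j hne)⁻¹ * t * sd i j hne) = lam t)
    (t : SLn n F) (ht : t ∈ TD n F) : lam t = 1 := by
  classical
  -- congruence
  have hcongr : ∀ (d d' : Fin n → F) (hd : ∏ k, d k = 1) (hd' : ∏ k, d' k = 1), d = d' →
      lam (dg d hd) = lam (dg d' hd') := by
    intro d d' hd hd' h
    subst h
    rfl
  -- multiplicativity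
  have hF1 : ∀ (d d' : Fin n → F) (hd : ∏ k, d k = 1) (hd' : ∏ k, d' k = 1)
      (hdd' : ∏ k, (d * d') k = 1),
      lam (dg (d * d') hdd') = lam (dg d hd) * lam (dg d' hd') := by
    intro d d' hd hd' hdd'
    rw [← hmul _ (dg_mem_TD d hd) _ (dg_mem_TD d' hd'), dg_mul]
  -- invariance
  have hF2 : ∀ (i j : Fin n) (hij : j.val = i.val + 1) (d : Fin n → F) (hd : ∏ k, d k = 1)
      (hd' : ∏ k, (d ∘ Equiv.swap i j) k = 1),
      lam (dg (d ∘ Equiv.swap i j) hd') = lam (dg d hd) := by
    intro i j hij d hd hd'
    have hne : i ≠ j := by
      intro h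
      rw [h] at hij
      omega
    rw [← hinv i j hij hne _ (dg_mem_TD d hd), conj_sd_dg]
  have hone : lam (dg (1 : Fin n → F) (by simp)) = 1 := by
    have : dg (1 : Fin n → F) (by simp) = 1 := by
      apply Subtype.ext
      show Matrix.diagonal (1 : Fin n → F) = 1
      exact Matrix.diagonal_one
    rw [this, h1]
  -- the basic elements have value one
  have hbasic : ∀ (q r : Fin n) (hqr : r.val = q.val + 1) (a : F) (ha : a ≠ 0)
      (hd : ∏ k, ef q r a k = 1), lam (dg (ef q r a) hd) = 1 := by
    intro q r hqr a ha hd
    have hqr' : q ≠ r := by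
      intro h
      rw [h] at hqr
      omega
    -- a third index
    obtain ⟨p, hpq, hpr⟩ : ∃ p : Fin n, p ≠ q ∧ p ≠ r := by
      by_cases h0 : q.val = 0
      · refine ⟨⟨2, by omega⟩, ?_, ?_⟩
        · intro h
          have := congrArg Fin.val h
          simp at this
          omega
        · intro h
          have := congrArg Fin.val h
          simp at this
          omega
      · refine ⟨⟨0, by omega⟩, ?_, ?_⟩
        · intro h
          have := congrArg Fin.val h
          simp at this
          omega
        · intro h
          have := congrArg Fin.val h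
          simp at this
          omega
    have hpq1 := prod_ef p q hpq a ha
    have hpr1 := prod_ef p r hpr a ha
    have e1 : lam (dg (ef p r a) hpr1) = lam (dg (ef p q a) hpq1) := by
      rw [← hF2 q r hqr (ef p q a) hpq1 (prod_comp_swap _ q r hpq1)]
      exact hcongr _ _ _ _ (ef_comp_swap p q r hpq hpr hqr' a).symm
    have e2 : lam (dg (ef p r a) hpr1) = lam (dg (ef p q a) hpq1) * lam (dg (ef q r a) hd) := by
      have hprod : ∏ k, (ef p q a * ef q r a) k = 1 := by
        rw [← ef_mul p q r hpq hpr hqr' a ha]
        exact hpr1
      rw [← hF1 _ _ hpq1 hd hprod]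
      exact hcongr _ _ _ _ (ef_mul p q r hpq hpr hqr' a ha)
    -- nonvanishing
    have hnz : lam (dg (ef p q a) hpq1) ≠ 0 := by
      intro h0
      have hinvprod := prod_ef p q hpq a⁻¹ (inv_ne_zero ha)
      have hmulone : ef p q a * ef p q a⁻¹ = 1 := by
        funext m
        unfold ef
        simp only [Pi.mul_apply, Pi.one_apply]
        by_cases hmp : m = p
        · simp [hmp, ha]
        · by_cases hmq : m = q
          · subst hmq
            simp [hmp, ha]
          · simp [hmp, hmq]
      have h3 := hF1 (ef p q a) (ef p q a⁻¹) hpq1 hinvprod (by rw [hmulone]; simp)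
      rw [hcongr _ _ _ (by simp) hmulone, hone, h0, zero_mul] at h3
      exact one_ne_zero h3
    rw [e1] at e2
    have h4 : lam (dg (ef p q a) hpq1) * 1 = lam (dg (ef p q a) hpq1) * lam (dg (ef q r a) hd) := by
      rw [mul_one]
      exact e2
    exact (mul_left_cancel₀ hnz h4).symm
  -- induction on the support
  have hind : ∀ (k : ℕ) (d : Fin n → F) (hd : ∏ m, d m = 1),
      (∀ m : Fin n, k ≤ m.val → d m = 1) → lam (dg d hd) = 1 := by
    intro k
    induction k with
    | zero =>
      intro d hd hsupp
      have : d = 1 := by
        funext m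
        exact hsupp m (Nat.zero_le _)
      rw [hcongr d 1 hd (by simp) this, hone]
    | succ k ih =>
      intro d hd hsupp
      by_cases hkn : k < n
      · -- the entry at `k`
        by_cases hk0 : k = 0
        · subst hk0
          apply ih d hd
          intro m _
          by_cases hm0 : m.val = 0
          · have h2 : ∏ m', d m' = d m := by
              apply Finset.prod_eq_single m
              · intro b _ hb
                apply hsupp b
                have : b.val ≠ m.val := fun h => hb (Fin.ext h)
                omega
              · intro h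
                exact absurd (Finset.mem_univ m) h
            rw [← h2, hd]
          · exact hsupp m (by omega)
        · let K : Fin n := ⟨k, hkn⟩
          let K' : Fin n := ⟨k - 1, by omega⟩
          have hKK' : K.val = K'.val + 1 := by
            show k = k - 1 + 1
            omega
          have hne : K' ≠ K := by
            intro h
            have := congrArg Fin.val h
            rw [hKK'] at this
            omega
          have ha : d K ≠ 0 := by
            intro h0
            have : ∏ m, d m = 0 := Finset.prod_eq_zero (Finset.mem_univ K) h0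
            rw [this] at hd
            exact zero_ne_one hd
          have hef := prod_ef K' K hne (d K) ha
          have hprod : ∏ m, (d * ef K' K (d K)) m = 1 := by
            rw [show (∏ m, (d * ef K' K (d K)) m) = (∏ m, d m) * ∏ m, ef K' K (d K) m from
              Finset.prod_mul_distrib, hd, hef, one_mul]
          have h5 := ih (d * ef K' K (d K)) hprod (by
            intro m hm
            show d m * ef K' K (d K) m = 1
            by_cases hmk : m.val = k
            · have hmK : m = K := Fin.ext hmk
              rw [hmK]
              unfold ef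
              simp [Ne.symm hne, ha]
            · have h6 : d m = 1 := hsupp m (by omega)
              have hmK : m ≠ K := fun h => hmk (congrArg Fin.val h)
              have hmK' : m ≠ K' := by
                intro h
                have := congrArg Fin.val h
                simp only [K'] at this
                omega
              unfold ef
              simp [h6, hmK, hmK'])
          rw [hF1 d _ hd hef hprod, hbasic K' K hKK' (d K) ha hef, mul_one] at h5
          exact h5
      · apply ih d hd
        intro m hm
        exfalso
        have := m.isLt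
        omega
  obtain ⟨hd, htd⟩ := exists_eq_dg t ht
  rw [htd]
  exact hind n _ hd (fun m hm => by
    exfalso
    have := m.isLt
    omega)

end Cfsg.Agent.Helper33.DZ
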