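import Mathlib
import Cfsg.Agent.Helper16.DefOne.Leaves
import Cfsg.Agent.Helper77.DefOneGalDefs

/-!
# Defect-one engine, Galois part: (GAL-5a) `can_sig`, (GAL-5b) `isCanon_sig_iff`, (GAL-6) `sig_smul`

Pieces of board post #5795 (helper77, S4507).
-/

set_option autoImplicit false

namespace Cfsg.Agent.Helper33.DefOne

open Cfsg Cfsg.Agent.Helper16 Cfsg.Agent.Helper16.DefOne Cfsg.Agent.Helper82.DefOne
  Cfsg.Agent.Helper77.DefOne

universe u

variable {G : Type u} [Group G] [Fintype G] {p : ℕ} [Fact p.Prime] (P : Sylow p G)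

/-- (GAL-5b) Galois conjugation preserves (and reflects) being canonical. -/
theorem isCanon_sig_iff (σ : ℂ ≃+* ℂ) (φ : IrrCharacter (cen P)) :
    IsCanon P (sig σ φ) ↔ IsCanon P φ := by
  unfold IsCanon
  constructor
  · intro h x hx
    have := h x hx
    rw [sig_apply, sig_apply] at this
    exact σ.injective this
  · intro h x hx
    rw [sig_apply, sig_apply, h x hx]

/-- (GAL-5a), primed: with the fixing property of `σ` on canonical characters as a hypothesis. -/
theorem can_sig' (hP : Nat.card P = p) (σ : ℂ ≃+* ℂ)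
    (hfix : ∀ θ : IrrCharacter (cen P), IsCanon P θ → ∀ c : cen P,
      σ ((θ : cen P → ℂ) c) = (θ : cen P → ℂ) c)
    (φ : IrrCharacter (cen P)) : can P (sig σ φ) = can P φ := by
  refine canon_ext P hP _ _ (isCanon_can P hP _) (isCanon_can P hP _) ?_
  intro x hx
  rw [← can_apply_regular P hP (sig σ φ) x hx, sig_apply, can_apply_regular P hP φ x hx]
  exact hfix (can P φ) (isCanon_can P hP φ) x

/-- (GAL-6) Galois conjugation commutes with the action of `N`. -/
theorem sig_smul (σ : ℂ ≃+* ℂ) (n : nor P) (φ : IrrCharacter (cen P)) :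
    sig σ (n • φ) = n • sig σ φ := by
  apply Subtype.ext
  funext c
  rw [sig_apply, smul_irr_apply, smul_irr_apply, sig_apply]

end Cfsg.Agent.Helper33.DefOne
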