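import Mathlib
import Cfsg.Agent.Helper16.DefOne.Leaves
import Cfsg.Agent.Helper77.DefOneGalDefs
import Cfsg.Agent.Helper70.DefOneXG
import Cfsg.Agent.Helper76.PConjugate
import Cfsg.Agent.Helper16.CentralDefect
import Cfsg.Agent.Helper16.Osima
import Cfsg.Agent.Helper33.DefOneGAL5

/-!
# Defect-one engine, Galois part: (GAL-4) `sigma_canon_apply` and the unprimed (GAL-5a) `can_sig`

Pieces of board post #5795 (helper77, S4507).
-/

set_option autoImplicit false

namespace Cfsg.Agent.Helper33.DefOne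

open Cfsg Cfsg.Agent.Helper16 Cfsg.Agent.Helper16.DefOne Cfsg.Agent.Helper82.DefOne
  Cfsg.Agent.Helper77.DefOne

universe u

variable {G : Type u} [Group G] [Fintype G] {p : ℕ} [Fact p.Prime] (P : Sylow p G)

/-- (GAL-4) an automorphism of `ℂ` fixing the `|G|/p`-th roots of unity fixes the values of the
canonical characters of `C_G(P)`. -/
theorem sigma_canon_apply (hP : Nat.card P = p) (σ : ℂ ≃+* ℂ)
    (hσ : ∀ μ : ℂ, μ ^ (Nat.card G / p) = 1 → σ μ = μ) (θ : IrrCharacter (cen P))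
    (hθ : IsCanon P θ) (c : cen P) : σ ((θ : cen P → ℂ) c) = (θ : cen P → ℂ) c := by
  classical
  have hp : p.Prime := Fact.out
  haveI : Fintype (cen P) := Fintype.ofFinite _
  obtain ⟨z, y, -, -, hzy, ⟨k, hzk⟩, hyreg⟩ :=
    Helper70.DefOneXG.exists_pPart_decomp (G := ↥(cen P)) (p := p) c
  -- `z ∈ P`
  have hzP : (z : G) ∈ (P : Subgroup G) := by
    have h1 : (z : G) ^ p ^ k = 1 := by
      have := congrArg (fun w : cen P => (w : G)) hzk
      simpa using this
    exact Helper70.DefOneXG.mem_sylow_of_pow P h1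
      (Subgroup.centralizer_le_normalizer _ z.2)
  -- `z` is central in `cen P`
  have hzc : z ∈ Subgroup.center ↥(cen P) :=
    subgroupOf_cen_le_center P hP (Subgroup.mem_subgroupOf.mpr hzP)
  obtain ⟨a, ha⟩ := Helper16.irr_central_mul θ hzc
  have ha1 : a = 1 := by
    have h1 := ha 1
    rw [mul_one, hθ z hzP] at h1
    have hne := Helper16.irr_one_ne_zero θ
    have : (a - 1) * (θ : cen P → ℂ) 1 = 0 := by rw [sub_mul, one_mul, ← h1, sub_self]
    rcases mul_eq_zero.mp this with h | h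
    · exact sub_eq_zero.mp h
    · exact absurd h hne
  have hcy : (θ : cen P → ℂ) c = (θ : cen P → ℂ) y := by
    rw [← hzy, ha y, ha1, one_mul]
  rw [hcy]
  -- `y ^ (|G| / p) = 1`
  have hpG : p ∣ Nat.card G := by
    rw [← hP]
    exact Subgroup.card_subgroup_dvd_card (P : Subgroup G)
  have hyN : y ^ (Nat.card G / p) = 1 := by
    have h1 : orderOf y ∣ Nat.card G := by
      have h2 : orderOf y ∣ Nat.card (cen P) := orderOf_dvd_natCard y
      exact h2.trans (Subgroup.card_subgroup_dvd_card _)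
    have h3 : orderOf y ∣ p * (Nat.card G / p) := by
      rw [Nat.mul_div_cancel' hpG]; exact h1
    have hcop : Nat.Coprime (orderOf y) p :=
      ((Nat.Prime.coprime_iff_not_dvd hp).2 hyreg).symm
    exact orderOf_dvd_iff_pow_eq_one.mp (hcop.dvd_of_dvd_mul_left h3)
  have hNpos : 0 < Nat.card G / p :=
    Nat.div_pos (Nat.le_of_dvd Nat.card_pos hpG) hp.pos
  have hθchar : IsCharacter (cen P) (θ : cen P → ℂ) := by
    obtain ⟨n, ρ, -, h⟩ := θ.2
    exact ⟨n, ρ, h⟩
  have hζ : IsPrimitiveRoot (Complex.exp (2 * Real.pi * Complex.I / ((Nat.card G / p : ℕ) : ℂ)))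
      (Nat.card G / p) := Complex.isPrimitiveRoot_exp _ hNpos.ne'
  exact Helper76.ringEquiv_character_eq_of_pow_eq_one σ (Nat.card G / p) hNpos _ hζ
    (hσ _ hζ.pow_eq_one) (θ : cen P → ℂ) hθchar y hyN

/-- (GAL-5a) `can` is invariant under Galois conjugation by automorphisms fixing the
`|G|/p`-th roots of unity. -/
theorem can_sig (hP : Nat.card P = p) (σ : ℂ ≃+* ℂ)
    (hσ : ∀ μ : ℂ, μ ^ (Nat.card G / p) = 1 → σ μ = μ) (φ : IrrCharacter (cen P)) :
    can P (sig σ φ) = can P φ :=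
  can_sig' P hP σ (fun θ hθ c => sigma_canon_apply P hP σ hσ θ hθ c) φ

end Cfsg.Agent.Helper33.DefOne
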