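import Cfsg.Agent.Helper61.DihDefs

/-!
# (FR1) the group algebra form of the strongly regular condition (for helper61's S3616)
-/

set_option autoImplicit false

namespace Cfsg.Agent.Helper33.Dih

open DihedralGroup Finset Cfsg.Agent.Helper61.Dih

theorem ind_coeff {D : Type*} [DecidableEq D] (S : Finset D) (d : D) :
    (ind S : MonoidAlgebra ℤ D).coeff d = if d ∈ S then 1 else 0 := by
  unfold ind
  rw [MonoidAlgebra.coeff_sum, Finsupp.finsetSum_apply]
  simp only [MonoidAlgebra.coeff_single, Finsupp.single_apply]
  rw [Finset.sum_ite_eq']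

theorem ind_mul_ind_coeff {D : Type*} [Group D] [DecidableEq D] (S S' : Finset D) (d : D) :
    (ind S * ind S' : MonoidAlgebra ℤ D).coeff d =
      ((S.filter (fun c => c⁻¹ * d ∈ S')).card : ℤ) := by
  unfold ind
  rw [Finset.sum_mul]
  simp only [Finset.mul_sum, MonoidAlgebra.single_mul_single, mul_one]
  rw [MonoidAlgebra.coeff_sum, Finsupp.finsetSum_apply]
  simp only [MonoidAlgebra.coeff_sum, Finsupp.finsetSum_apply]
  rw [Finset.card_filter]
  push_cast
  apply Finset.sum_congr rfl
  intro c _
  simp only [MonoidAlgebra.coeff_single, Finsupp.single_apply]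
  have h : ∀ c' : D, (c * c' = d) ↔ (c' = c⁻¹ * d) := by
    intro c'
    constructor
    · intro h; rw [← h]; group
    · intro h; rw [h]; group
  simp only [h, Finset.sum_ite_eq']

variable {e : ℕ} [NeZero e]

/-- (FR1) the group algebra form of the strongly regular condition -/
theorem ind_mul_ind {T : Finset (DihedralGroup e)} {k lam mu : ℕ} (h : IsSrgSet T k lam mu) :
    (ind T * ind T : MonoidAlgebra ℤ (DihedralGroup e)) =
        ((k : ℤ) - mu) • (1 : MonoidAlgebra ℤ (DihedralGroup e)) + ((lam : ℤ) - mu) • ind T
          + (mu : ℤ) • ind (univ : Finset (DihedralGroup e)) ∧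
      (ind T * ind (univ : Finset (DihedralGroup e)) : MonoidAlgebra ℤ (DihedralGroup e)) =
        (k : ℤ) • ind (univ : Finset (DihedralGroup e)) := by
  constructor
  · apply MonoidAlgebra.ext
    ext d
    rw [ind_mul_ind_coeff]
    simp only [MonoidAlgebra.coeff_add, Finsupp.add_apply, MonoidAlgebra.coeff_smul,
      Finsupp.smul_apply, smul_eq_mul, ind_coeff, Finset.mem_univ,
      if_true, mul_one, MonoidAlgebra.one_def, MonoidAlgebra.coeff_single, Finsupp.single_apply]
    by_cases hd : d = 1
    · subst hd
      rw [if_pos rfl, if_neg h.one_notMem]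
      have : T.filter (fun c => c⁻¹ * 1 ∈ T) = T := by
        apply Finset.filter_true_of_mem
        intro c hc
        rw [mul_one]
        exact h.inv_mem c hc
      rw [this, h.card_eq]
      ring
    · rw [if_neg (fun h' => hd h'.symm), h.count d hd]
      by_cases hdT : d ∈ T
      · rw [if_pos hdT, if_pos hdT]; ring
      · rw [if_neg hdT, if_neg hdT]; ring
  · apply MonoidAlgebra.ext
    ext d
    rw [ind_mul_ind_coeff]
    simp only [MonoidAlgebra.coeff_smul, Finsupp.smul_apply, smul_eq_mul, ind_coeff,
      Finset.mem_univ, if_true, mul_one]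
    rw [Finset.filter_true_of_mem (fun _ _ => trivial), h.card_eq]

end Cfsg.Agent.Helper33.Dih
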