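import Mathlib
import Cfsg.Agent.Helper96.E7.Data

set_option autoImplicit false
set_option linter.style.haveILetI false
set_option linter.unusedSimpArgs false

namespace Cfsg.Agent.Helper33.E7C

open scoped commutatorElement
open FreeGroup (of)
open Cfsg.Agent.Helper96.E7

/-- the Coxeter group `W(E_7)` -/
abbrev W : Type := CoxeterMatrix.E₇.Group

/-- its Coxeter system -/
noncomputable abbrev cs : CoxeterSystem CoxeterMatrix.E₇ W := CoxeterMatrix.E₇.toCoxeterSystem

section abstract
variable {G : Type*} [Group G]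

theorem braid_of_pow_three {a b : G} (ha : a * a = 1) (hb : b * b = 1) (h : (a * b) ^ 3 = 1) :
    a * b * a = b * a * b := by
  have ha' : a⁻¹ = a := inv_eq_of_mul_eq_one_left ha
  have hb' : b⁻¹ = b := inv_eq_of_mul_eq_one_left hb
  have h1 : a * b * a * (b * a * b) = 1 := by
    rw [← h, pow_succ, pow_two]; simp only [mul_assoc]
  have h2 := eq_inv_of_mul_eq_one_left h1
  rw [h2, mul_inv_rev, mul_inv_rev, ha', hb', mul_assoc]

theorem comm_of_pow_two {a b : G} (ha : a * a = 1) (hb : b * b = 1) (h : (a * b) ^ 2 = 1) :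
    a * b = b * a := by
  have ha' : a⁻¹ = a := inv_eq_of_mul_eq_one_left ha
  have hb' : b⁻¹ = b := inv_eq_of_mul_eq_one_left hb
  rw [pow_two] at h
  have h2 := eq_inv_of_mul_eq_one_left h
  rw [h2, mul_inv_rev, ha', hb']

theorem sq_of_comm {a b c : G} (hc : ∀ x, c * x = x * c) (ha : a * a = c) (hb : b * b = c)
    (hcc : c * c = 1) (hab : a * b = c * (b * a)) : (a * b) ^ 2 = c := by
  calc (a * b) ^ 2 = (a * b) * (a * b) := pow_two _
    _ = c * (b * a) * (a * b) := by nth_rewrite 1 [hab]; rfl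
    _ = c * (b * (a * a) * b) := by simp only [mul_assoc]
    _ = c * (b * c * b) := by rw [ha]
    _ = c * (c * (b * b)) := by rw [← hc b, mul_assoc]
    _ = c := by rw [hb, hcc, mul_one]

theorem cube_of_braid {a b c : G} (hc : ∀ x, c * x = x * c) (ha : a * a = c) (hb : b * b = c)
    (hcc : c * c = 1) (hab : a * b * a = b * a * b) : (a * b) ^ 3 = c := by
  calc (a * b) ^ 3 = (a * b * a) * (b * a * b) := by
        rw [pow_succ, pow_two]; simp only [mul_assoc]
    _ = (a * b * a) * (a * b * a) := by rw [← hab]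
    _ = a * b * (a * a) * b * a := by simp only [mul_assoc]
    _ = a * b * c * b * a := by rw [ha]
    _ = c * (a * (b * b) * a) := by
        rw [mul_assoc a b c, ← hc b, ← mul_assoc a c b, ← hc a]; simp only [mul_assoc]
    _ = c * (a * c * a) := by rw [hb]
    _ = c * (c * (a * a)) := by rw [← hc a, mul_assoc]
    _ = c := by rw [ha, hcc, mul_one]

end abstract


/-- a group with a homomorphism with finite kernel into a finite group is finite -/
theorem finite_of_finite_ker {A B : Type*} [Group A] [Group B] [Finite B] (f : A →* B)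
    (hk : Finite f.ker) : Finite A := by
  have e := QuotientGroup.quotientKerEquivRange f
  haveI : Finite (A ⧸ f.ker) := Finite.of_equiv _ e.symm.toEquiv
  have h := Subgroup.card_eq_card_quotient_mul_card_subgroup f.ker
  have h1 : 0 < Nat.card (A ⧸ f.ker) := Nat.card_pos
  have h2 : 0 < Nat.card f.ker := Nat.card_pos
  have h3 : Nat.card A ≠ 0 := by rw [h]; exact (Nat.mul_pos h1 h2).ne'
  exact Nat.finite_of_card_ne_zero h3

/-- (K) -/
theorem ker_eq_of_relators' {Γ : Type*} [Group Γ] (g : Fin 7 → Γ)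
    (hgen : Subgroup.closure (Set.range g) = ⊤) (τ : Γ →* W) (hτ : ∀ i, τ (g i) = cs.simple i)
    (Z : Subgroup Γ) [Z.Normal] (hZ : Z ≤ τ.ker) (hrel : ∀ i j, (g i * g j) ^ cm i j ∈ Z) :
    τ.ker = Z := by
  apply le_antisymm _ hZ
  have hlift : CoxeterMatrix.E₇.IsLiftable (fun i => (QuotientGroup.mk (g i) : Γ ⧸ Z)) := by
    intro i j
    rw [cm_eq, ← QuotientGroup.mk_mul, ← QuotientGroup.mk_pow, QuotientGroup.eq_one_iff]
    exact hrel i j
  let σ : W →* Γ ⧸ Z := cs.lift ⟨_, hlift⟩
  let τ' : Γ ⧸ Z →* W := QuotientGroup.lift Z τ hZ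
  have hσ : ∀ i, σ (cs.simple i) = QuotientGroup.mk (g i) := fun i => cs.lift_apply_simple hlift i
  have hgen' : Subgroup.closure (Set.range fun i => (QuotientGroup.mk (g i) : Γ ⧸ Z)) = ⊤ := by
    have : (Set.range fun i => (QuotientGroup.mk (g i) : Γ ⧸ Z)) =
        (QuotientGroup.mk' Z) '' (Set.range g) := by
      rw [← Set.range_comp]; rfl
    rw [this, ← MonoidHom.map_closure, hgen, ← MonoidHom.range_eq_map,
      MonoidHom.range_eq_top.mpr (QuotientGroup.mk'_surjective Z)]
  have hid : σ.comp τ' = MonoidHom.id _ := by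
    apply MonoidHom.eq_of_eqOn_dense hgen'
    rintro _ ⟨i, rfl⟩
    simp only [MonoidHom.comp_apply, MonoidHom.id_apply, τ', QuotientGroup.lift_mk, hτ, hσ]
  intro x hx
  rw [MonoidHom.mem_ker] at hx
  have h1 : τ' (QuotientGroup.mk x) = 1 := by simp only [τ', QuotientGroup.lift_mk, hx]
  have h2 := DFunLike.congr_fun hid (QuotientGroup.mk x)
  simp only [MonoidHom.comp_apply, MonoidHom.id_apply, h1, map_one] at h2
  exact (QuotientGroup.eq_one_iff x).mp h2.symm


/-- relators of the double cover: `g i ^ 2 = g 0 ^ 2`, `g 0 ^ 4 = 1`, braid relations for adjacent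
nodes, `g i g j = g 0 ^ 2 g j g i` for non-adjacent nodes -/
def dRels : Set (FreeGroup (Fin 7)) :=
  {r | ∃ i, r = of i * of i * (of 0 * of 0)⁻¹} ∪
  {r | r = of 0 * of 0 * (of 0 * of 0)} ∪
  {r | ∃ i j, cm i j = 3 ∧ r = of i * of j * of i * (of j * of i * of j)⁻¹} ∪
  {r | ∃ i j, cm i j = 2 ∧ r = of i * of j * (of 0 * of 0 * (of j * of i))⁻¹}

/-- the candidate double cover of `W(E_7)` -/
abbrev Gam2 : Type := PresentedGroup dRels

/-- the generators -/
def gg (i : Fin 7) : Gam2 := PresentedGroup.of i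

/-- the central involution -/
def cc : Gam2 := gg 0 * gg 0

theorem gg_sq (i : Fin 7) : gg i * gg i = cc := by
  have h : (of i * of i * (of 0 * of 0)⁻¹ : FreeGroup (Fin 7)) ∈ dRels :=
    Or.inl (Or.inl (Or.inl ⟨i, rfl⟩))
  have := PresentedGroup.one_of_mem h
  rw [map_mul, map_inv, mul_inv_eq_one, map_mul, map_mul] at this
  exact this

theorem cc_sq : cc * cc = 1 := by
  have h : (of 0 * of 0 * (of 0 * of 0) : FreeGroup (Fin 7)) ∈ dRels :=
    Or.inl (Or.inl (Or.inr rfl))
  have := PresentedGroup.one_of_mem h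
  rw [map_mul, map_mul] at this
  exact this

theorem gg_braid {i j : Fin 7} (h : cm i j = 3) : gg i * gg j * gg i = gg j * gg i * gg j := by
  have hm : (of i * of j * of i * (of j * of i * of j)⁻¹ : FreeGroup (Fin 7)) ∈ dRels :=
    Or.inl (Or.inr ⟨i, j, h, rfl⟩)
  have := PresentedGroup.one_of_mem hm
  rw [map_mul, map_inv, mul_inv_eq_one] at this
  simp only [map_mul] at this
  exact this

theorem gg_comm {i j : Fin 7} (h : cm i j = 2) : gg i * gg j = cc * (gg j * gg i) := by
  have hm : (of i * of j * (of 0 * of 0 * (of j * of i))⁻¹ : FreeGroup (Fin 7)) ∈ dRels :=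
    Or.inr ⟨i, j, h, rfl⟩
  have := PresentedGroup.one_of_mem hm
  rw [map_mul, map_inv, mul_inv_eq_one] at this
  simp only [map_mul] at this
  exact this

theorem cc_comm (x : Gam2) : cc * x = x * cc := by
  have hx : x ∈ Subgroup.closure (Set.range (PresentedGroup.of : Fin 7 → Gam2)) := by
    rw [PresentedGroup.closure_range_of]; trivial
  induction hx using Subgroup.closure_induction with
  | mem y hy =>
    obtain ⟨j, rfl⟩ := hy
    change cc * gg j = gg j * cc
    rw [← gg_sq j, mul_assoc]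
  | one => simp
  | mul a b _ _ ha hb => rw [← mul_assoc, ha, mul_assoc, hb, ← mul_assoc]
  | inv a _ ha =>
    exact (Commute.inv_right (show Commute cc a from ha)).eq


/-- the map to `R` -/
noncomputable def rho {R : Type*} [Group R] (L : Fin 7 → R) (ε : R)
    (hsq : ∀ i, L i * L i = ε) (hε2 : ε * ε = 1)
    (hb : ∀ i j, cm i j = 3 → L i * L j * L i = L j * L i * L j)
    (hc : ∀ i j, cm i j = 2 → L i * L j = ε * (L j * L i)) : Gam2 →* R :=
  PresentedGroup.toGroup (f := L) (by
    rintro r (((⟨i, rfl⟩ | rfl) | ⟨i, j, h, rfl⟩) | ⟨i, j, h, rfl⟩)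
    · simp only [map_mul, map_inv, FreeGroup.lift_apply_of]
      rw [hsq, hsq, mul_inv_cancel]
    · simp only [map_mul, FreeGroup.lift_apply_of]
      rw [hsq, hε2]
    · simp only [map_mul, map_inv, FreeGroup.lift_apply_of]
      rw [hb i j h, mul_inv_cancel]
    · simp only [map_mul, map_inv, FreeGroup.lift_apply_of]
      rw [hsq 0, ← hc i j h, mul_inv_cancel])

theorem rho_gg {R : Type*} [Group R] (L : Fin 7 → R) (ε : R)
    (hsq : ∀ i, L i * L i = ε) (hε2 : ε * ε = 1)
    (hb : ∀ i j, cm i j = 3 → L i * L j * L i = L j * L i * L j)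
    (hc : ∀ i j, cm i j = 2 → L i * L j = ε * (L j * L i)) (i : Fin 7) :
    rho L ε hsq hε2 hb hc (gg i) = L i :=
  PresentedGroup.toGroup.of _

theorem simple_sq (i : Fin 7) : cs.simple i * cs.simple i = 1 := cs.simple_mul_simple_self i

theorem simple_braid {i j : Fin 7} (h : cm i j = 3) :
    cs.simple i * cs.simple j * cs.simple i = cs.simple j * cs.simple i * cs.simple j := by
  apply braid_of_pow_three (simple_sq i) (simple_sq j)
  have := cs.simple_mul_simple_pow i j
  rwa [cm_eq, h] at this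

theorem simple_comm {i j : Fin 7} (h : cm i j = 2) :
    cs.simple i * cs.simple j = cs.simple j * cs.simple i := by
  apply comm_of_pow_two (simple_sq i) (simple_sq j)
  have := cs.simple_mul_simple_pow i j
  rwa [cm_eq, h] at this

/-- the map to `W(E_7)` -/
noncomputable def tau2 : Gam2 →* W :=
  PresentedGroup.toGroup (f := fun i => cs.simple i) (by
    rintro r (((⟨i, rfl⟩ | rfl) | ⟨i, j, h, rfl⟩) | ⟨i, j, h, rfl⟩)
    · simp only [map_mul, map_inv, FreeGroup.lift_apply_of]
      rw [simple_sq, simple_sq, mul_inv_cancel]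
    · simp only [map_mul, FreeGroup.lift_apply_of]
      rw [simple_sq, one_mul]
    · simp only [map_mul, map_inv, FreeGroup.lift_apply_of]
      rw [simple_braid h, mul_inv_cancel]
    · simp only [map_mul, map_inv, FreeGroup.lift_apply_of]
      rw [simple_sq 0, one_mul, simple_comm h, mul_inv_cancel])

theorem tau2_gg (i : Fin 7) : tau2 (gg i) = cs.simple i := PresentedGroup.toGroup.of _

theorem tau2_cc : tau2 cc = 1 := by
  unfold cc
  rw [map_mul, tau2_gg, simple_sq]

theorem cm_cases (i j : Fin 7) : (i = j ∧ cm i j = 1) ∨ cm i j = 3 ∨ cm i j = 2 := by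
  unfold cm
  by_cases h : i = j
  · left; exact ⟨h, if_pos h⟩
  · right
    rw [if_neg h]
    split_ifs
    · left; rfl
    · right; rfl

/-- the central subgroup `{1, c}` -/
def ZZ : Subgroup Gam2 := Subgroup.zpowers cc

instance : ZZ.Normal := by
  constructor
  intro n hn g
  obtain ⟨k, rfl⟩ := Subgroup.mem_zpowers_iff.mp hn
  have : g * cc ^ k * g⁻¹ = cc ^ k := by
    have h : Commute cc g := cc_comm g
    rw [(h.zpow_left k).symm.eq, mul_inv_cancel_right]
  rw [this]
  exact Subgroup.zpow_mem_zpowers cc k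

theorem gg_rel (i j : Fin 7) : (gg i * gg j) ^ cm i j ∈ ZZ := by
  have hmem : cc ∈ ZZ := Subgroup.mem_zpowers cc
  rcases cm_cases i j with ⟨rfl, h⟩ | h | h
  · rw [h, pow_one, gg_sq]; exact hmem
  · rw [h, cube_of_braid cc_comm (gg_sq i) (gg_sq j) cc_sq (gg_braid h)]; exact hmem
  · rw [h, sq_of_comm cc_comm (gg_sq i) (gg_sq j) cc_sq (gg_comm h)]; exact hmem

theorem gg_closure : Subgroup.closure (Set.range gg) = ⊤ := PresentedGroup.closure_range_of _

theorem ZZ_le_ker : ZZ ≤ tau2.ker := by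
  unfold ZZ
  rw [Subgroup.zpowers_le]
  exact tau2_cc

theorem ker_tau2 : tau2.ker = ZZ :=
  ker_eq_of_relators' gg gg_closure tau2 tau2_gg ZZ ZZ_le_ker gg_rel

theorem mem_ZZ_iff (x : Gam2) : x ∈ ZZ ↔ x = 1 ∨ x = cc := by
  constructor
  · intro hx
    obtain ⟨k, rfl⟩ := Subgroup.mem_zpowers_iff.mp hx
    rcases Int.even_or_odd' k with ⟨m, rfl | rfl⟩
    · left
      rw [zpow_mul, zpow_two, cc_sq, one_zpow]
    · right
      rw [zpow_add, zpow_mul, zpow_two, cc_sq, one_zpow, one_mul, zpow_one]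
  · rintro (rfl | rfl)
    · exact one_mem _
    · exact Subgroup.mem_zpowers cc


theorem comm_eq_of_mul_eq {G : Type*} [Group G] {a b c : G} (h : a * b = c * (b * a)) :
    ⁅a, b⁆ = c := by
  rw [commutatorElement_def, h]; group

/-- `c = ⁅g 0 g 4, g 0 g 1⁆` -/
theorem cc_eq_commutator : ⁅gg 0 * gg 4, gg 0 * gg 1⁆ = cc := by
  apply comm_eq_of_mul_eq
  have h40 : gg 4 * gg 0 = cc * (gg 0 * gg 4) := gg_comm (by decide)
  have h10 : gg 1 * gg 0 = cc * (gg 0 * gg 1) := gg_comm (by decide)
  have h14 : gg 1 * gg 4 = cc * (gg 4 * gg 1) := gg_comm (by decide)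
  have e1 : gg 0 * gg 4 * (gg 0 * gg 1) = cc * (gg 0 * gg 0 * gg 4 * gg 1) := by
    calc gg 0 * gg 4 * (gg 0 * gg 1) = gg 0 * (gg 4 * gg 0) * gg 1 := by simp only [mul_assoc]
      _ = gg 0 * (cc * (gg 0 * gg 4)) * gg 1 := by rw [h40]
      _ = cc * (gg 0 * gg 0 * gg 4 * gg 1) := by
        rw [← mul_assoc (gg 0) cc, ← cc_comm (gg 0)]; simp only [mul_assoc]
  have e2 : gg 0 * gg 1 * (gg 0 * gg 4) = gg 0 * gg 0 * gg 4 * gg 1 := by
    calc gg 0 * gg 1 * (gg 0 * gg 4) = gg 0 * (gg 1 * gg 0) * gg 4 := by simp only [mul_assoc]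
      _ = gg 0 * (cc * (gg 0 * gg 1)) * gg 4 := by rw [h10]
      _ = cc * (gg 0 * gg 0 * (gg 1 * gg 4)) := by
        rw [← mul_assoc (gg 0) cc, ← cc_comm (gg 0)]; simp only [mul_assoc]
      _ = cc * (gg 0 * gg 0 * (cc * (gg 4 * gg 1))) := by rw [h14]
      _ = cc * cc * (gg 0 * gg 0 * gg 4 * gg 1) := by
        rw [← mul_assoc (gg 0 * gg 0) cc, ← cc_comm (gg 0 * gg 0)]; simp only [mul_assoc]
      _ = gg 0 * gg 0 * gg 4 * gg 1 := by rw [cc_sq, one_mul]
  rw [e1, e2]

theorem tau2_surjective : Function.Surjective tau2 := by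
  rw [← MonoidHom.range_eq_top, eq_top_iff, ← cs.subgroup_closure_range_simple,
    Subgroup.closure_le]
  rintro _ ⟨i, rfl⟩
  exact ⟨gg i, tau2_gg i⟩

/-- the even subgroup of `W(E_7)` -/
noncomputable abbrev Wp : Subgroup W := cs.lengthParity.ker

theorem zmod2_cases (a : ZMod 2) : a = 0 ∨ a = 1 := by
  revert a; decide

theorem lengthParity_surjective : Function.Surjective cs.lengthParity := by
  intro x
  rcases zmod2_cases (Multiplicative.toAdd x) with h | h
  · refine ⟨1, ?_⟩
    rw [map_one]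
    apply Multiplicative.toAdd.injective
    rw [h]; rfl
  · refine ⟨cs.simple 0, ?_⟩
    rw [cs.lengthParity_simple]
    apply Multiplicative.toAdd.injective
    rw [h]; rfl

theorem card_mult_zmod2 : Nat.card (Multiplicative (ZMod 2)) = 2 := by
  rw [Nat.card_congr Multiplicative.toAdd, Nat.card_eq_fintype_card, ZMod.card]

theorem card_Wp : Nat.card W = Nat.card Wp * 2 := by
  have h := Subgroup.card_eq_card_quotient_mul_card_subgroup Wp
  have e := QuotientGroup.quotientKerEquivOfSurjective cs.lengthParity lengthParity_surjective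
  have h2 : Nat.card (W ⧸ Wp) = 2 := by
    rw [Nat.card_congr e.toEquiv]
    exact card_mult_zmod2
  rw [h, h2, mul_comm]

theorem commutator_le_Wp : commutator W ≤ Wp :=
  Abelianization.commutator_subset_ker cs.lengthParity

theorem ofAdd_one_mul_self : (Multiplicative.ofAdd (1 : ZMod 2)) * Multiplicative.ofAdd 1 = 1 := by
  rw [← ofAdd_add, (by decide : (1 + 1 : ZMod 2) = 0), ofAdd_zero]

theorem simple_mul_simple_mem_Wp (i j : Fin 7) : cs.simple i * cs.simple j ∈ Wp := by
  rw [MonoidHom.mem_ker, map_mul, cs.lengthParity_simple, cs.lengthParity_simple]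
  exact ofAdd_one_mul_self

end Cfsg.Agent.Helper33.E7C
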