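import Mathlib
import Cfsg.Agent.Helper96.E7.Data
import Cfsg.Agent.Helper33.E7CBase

set_option autoImplicit false
set_option linter.style.haveILetI false
set_option linter.unusedSimpArgs false

namespace Cfsg.Agent.Helper33.E7C

open scoped commutatorElement
open FreeGroup (of)
open Cfsg.Agent.Helper96.E7

/-- abstract construction of the cover from a central extension `τ : Γ → W` with kernel
`{1, c}`, a subgroup `W⁺ ≤ W` mapped bijectively to `G`, and `c` a commutator of lifts of
elements of `W⁺`. -/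
theorem abstract_cover {Γ V G : Type} [Group Γ] [Group V] [Group G]
    (τ : Γ →* V) (hτ : Function.Surjective τ) (c : Γ) (hc1 : c ≠ 1)
    (hker : ∀ x : Γ, x ∈ τ.ker ↔ x = 1 ∨ x = c) (hcc : ∀ x : Γ, c * x = x * c)
    (Vp : Subgroup V) (π : V →* G) (hπs : ∀ g : G, ∃ w ∈ Vp, π w = g)
    (hπ1 : ∀ w ∈ Vp, π w = 1 → w = 1)
    (a b : Γ) (ha : τ a ∈ Vp) (hb : τ b ∈ Vp) (hab : ⁅a, b⁆ = c) :
    ∃ (E : Subgroup Γ) (p : E →* G),
      Function.Surjective p ∧ p.ker ≤ Subgroup.center E ∧ p.ker ≤ commutator E ∧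
        Nat.card p.ker = 2 := by
  refine ⟨Vp.comap τ, π.comp (τ.comp (Vp.comap τ).subtype), ?_, ?_, ?_, ?_⟩
  · intro g
    obtain ⟨w, hw, rfl⟩ := hπs g
    obtain ⟨γ, hγ⟩ := hτ w
    refine ⟨⟨γ, ?_⟩, ?_⟩
    · rw [Subgroup.mem_comap, hγ]; exact hw
    · simp only [MonoidHom.comp_apply, Subgroup.subtype_apply, hγ]
  all_goals
    have hk : ∀ e : (Vp.comap τ : Subgroup Γ),
        e ∈ (π.comp (τ.comp (Vp.comap τ).subtype)).ker ↔ (e : Γ) = 1 ∨ (e : Γ) = c := by
      intro e
      rw [← hker, MonoidHom.mem_ker, MonoidHom.mem_ker]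
      simp only [MonoidHom.comp_apply, Subgroup.subtype_apply]
      constructor
      · intro h
        exact hπ1 _ (Subgroup.mem_comap.mp e.2) h
      · intro h
        rw [h, map_one]
  · intro e he
    rw [Subgroup.mem_center_iff]
    intro x
    apply Subtype.ext
    rcases (hk e).mp he with h | h
    · simp only [Subgroup.coe_mul, h, mul_one, one_mul]
    · simp only [Subgroup.coe_mul, h]
      exact (hcc x.1).symm
  · intro e he
    rcases (hk e).mp he with h | h
    · have : e = 1 := Subtype.ext h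
      rw [this]; exact one_mem _
    · have ha' : a ∈ Vp.comap τ := Subgroup.mem_comap.mpr ha
      have hb' : b ∈ Vp.comap τ := Subgroup.mem_comap.mpr hb
      have : e = ⁅(⟨a, ha'⟩ : (Vp.comap τ : Subgroup Γ)), ⟨b, hb'⟩⁆ := by
        apply Subtype.ext
        rw [h, ← hab]
        simp only [commutatorElement_def, Subgroup.coe_mul, Subgroup.coe_inv]
      rw [this, commutator_def]
      exact Subgroup.commutator_mem_commutator (Subgroup.mem_top _) (Subgroup.mem_top _)
  · have hcE : c ∈ Vp.comap τ := by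
      rw [Subgroup.mem_comap]
      have : c ∈ τ.ker := (hker c).mpr (Or.inr rfl)
      rw [MonoidHom.mem_ker.mp this]; exact one_mem _
    rw [Nat.card_eq_two_iff]
    refine ⟨⟨1, one_mem _⟩, ⟨⟨c, hcE⟩, (hk _).mpr (Or.inr rfl)⟩, ?_, ?_⟩
    · intro h
      have := congrArg (fun z : (π.comp (τ.comp (Vp.comap τ).subtype)).ker => ((z : _) : Γ)) h
      exact hc1 this.symm
    · ext z
      simp only [Set.mem_insert_iff, Set.mem_singleton_iff, Set.mem_univ, iff_true]
      rcases (hk z.1).mp z.2 with h | h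
      · left; exact Subtype.ext (Subtype.ext h)
      · right; exact Subtype.ext (Subtype.ext h)

/-- `c ≠ 1` in `Γ₂`, from the representation -/
theorem cc_ne_one {R : Type*} [Group R] (L : Fin 7 → R) (ε : R) (hε : ε ≠ 1)
    (hsq : ∀ i, L i * L i = ε) (hε2 : ε * ε = 1)
    (hb : ∀ i j, cm i j = 3 → L i * L j * L i = L j * L i * L j)
    (hc : ∀ i j, cm i j = 2 → L i * L j = ε * (L j * L i)) : cc ≠ 1 := by
  intro h
  have := congrArg (rho L ε hsq hε2 hb hc) h
  unfold cc at this
  rw [map_mul, rho_gg, hsq, map_one] at this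
  exact hε this

theorem tau2_ker_iff (x : Gam2) : x ∈ tau2.ker ↔ x = 1 ∨ x = cc := by
  rw [ker_tau2, mem_ZZ_iff]

theorem tau2_a_mem : tau2 (gg 0 * gg 4) ∈ Wp := by
  rw [map_mul, tau2_gg, tau2_gg]; exact simple_mul_simple_mem_Wp 0 4

theorem tau2_b_mem : tau2 (gg 0 * gg 1) ∈ Wp := by
  rw [map_mul, tau2_gg, tau2_gg]; exact simple_mul_simple_mem_Wp 0 1

/-- the projection `W → G` and its properties -/
theorem exists_proj [Finite W] {G : Type} [Group G] [Finite G]
    (hperf : commutator G = ⊤)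
    (d : Fin 7 → G) (hd : ∀ i j, (d i * d j) ^ cm i j = 1)
    (hgen : Subgroup.closure (Set.range d) = ⊤)
    (hcard : Nat.card W = 2 * Nat.card G) :
    ∃ π : W →* G, (∀ g : G, ∃ w ∈ Wp, π w = g) ∧ (∀ w ∈ Wp, π w = 1 → w = 1) := by
  have hlift : CoxeterMatrix.E₇.IsLiftable d := by
    intro i j
    rw [cm_eq]; exact hd i j
  let π : W →* G := cs.lift ⟨d, hlift⟩
  have hπ : ∀ i, π (cs.simple i) = d i := fun i => cs.lift_apply_simple hlift i
  have hπsurj : Function.Surjective π := by
    rw [← MonoidHom.range_eq_top, eq_top_iff, ← hgen, Subgroup.closure_le]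
    rintro _ ⟨i, rfl⟩
    exact ⟨cs.simple i, hπ i⟩
  have hWpG : Nat.card Wp = Nat.card G := by
    have := card_Wp
    rw [hcard] at this
    omega
  let πp : Wp →* G := π.comp Wp.subtype
  have hπpsurj : Function.Surjective πp := by
    intro g
    have hg : g ∈ (commutator W).map π := by
      rw [commutator_def, Subgroup.map_commutator, Subgroup.map_top_of_surjective π hπsurj,
        ← commutator_def, hperf]
      trivial
    obtain ⟨w, hw, rfl⟩ := hg
    exact ⟨⟨w, commutator_le_Wp hw⟩, rfl⟩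
  have hπpinj : Function.Injective πp :=
    (Function.Surjective.bijective_of_nat_card_le hπpsurj hWpG.le).1
  refine ⟨π, ?_, ?_⟩
  · intro g
    obtain ⟨w, hw⟩ := hπpsurj g
    exact ⟨w.1, w.2, hw⟩
  · intro w hw h
    have : πp ⟨w, hw⟩ = πp 1 := by rw [map_one]; exact h
    exact congrArg Subtype.val (hπpinj this)

/-- (C) existence of a non-split double cover -/
theorem exists_double_cover [Finite W] {G : Type} [Group G] [Finite G]
    (hperf : commutator G = ⊤)
    (d : Fin 7 → G) (hd : ∀ i j, (d i * d j) ^ cm i j = 1)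
    (hgen : Subgroup.closure (Set.range d) = ⊤)
    (hcard : Nat.card W = 2 * Nat.card G)
    {R : Type*} [Group R] (L : Fin 7 → R) (ε : R) (hε : ε ≠ 1)
    (hsq : ∀ i, L i * L i = ε) (hε2 : ε * ε = 1)
    (hb : ∀ i j, cm i j = 3 → L i * L j * L i = L j * L i * L j)
    (hc : ∀ i j, cm i j = 2 → L i * L j = ε * (L j * L i)) :
    ∃ (E : Type) (_ : Group E) (_ : Finite E) (p : E →* G),
      Function.Surjective p ∧ p.ker ≤ Subgroup.center E ∧ p.ker ≤ commutator E ∧
        Nat.card p.ker = 2 := by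
  obtain ⟨π, hπs, hπ1⟩ := exists_proj hperf d hd hgen hcard
  obtain ⟨E, p, hpsurj, hcenter, hcomm, hcard2⟩ :=
    abstract_cover tau2 tau2_surjective cc (cc_ne_one L ε hε hsq hε2 hb hc) tau2_ker_iff
      cc_comm Wp π hπs hπ1 (gg 0 * gg 4) (gg 0 * gg 1) tau2_a_mem tau2_b_mem cc_eq_commutator
  have hfinker : Finite p.ker := Nat.finite_of_card_ne_zero (by rw [hcard2]; norm_num)
  have hfinE : Finite E := finite_of_finite_ker p hfinker
  exact ⟨E, inferInstance, hfinE, p, hpsurj, hcenter, hcomm, hcard2⟩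

end Cfsg.Agent.Helper33.E7C
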