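import Mathlib.GroupTheory.Sylow
import Mathlib.GroupTheory.Nilpotent
import Mathlib.Algebra.Group.End

set_option autoImplicit false

namespace Cfsg.Agent.Helper33

variable {G : Type*} [Group G]

/-- Right conjugation of a set: `A ↦ g⁻¹ A g`. -/
def conjR (g : G) (A : Set G) : Set G := (fun a => g⁻¹ * a * g) '' A

theorem mem_conjR {g y : G} {A : Set G} : y ∈ conjR g A ↔ g * y * g⁻¹ ∈ A := by
  constructor
  · rintro ⟨a, ha, rfl⟩
    simpa [mul_assoc] using ha
  · intro h
    exact ⟨g * y * g⁻¹, h, by simp [mul_assoc]⟩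

theorem conjR_one (A : Set G) : conjR 1 A = A := by
  ext y; simp [mem_conjR]

theorem conjR_mul (g h : G) (A : Set G) : conjR (g * h) A = conjR h (conjR g A) := by
  ext y
  simp only [mem_conjR]
  rw [show g * h * y * (g * h)⁻¹ = g * (h * y * h⁻¹) * g⁻¹ by group]

theorem conjR_mono {g : G} {A B : Set G} (h : A ⊆ B) : conjR g A ⊆ conjR g B :=
  Set.image_mono h

theorem conjR_inv_conjR (g : G) (A : Set G) : conjR g⁻¹ (conjR g A) = A := by
  rw [← conjR_mul, mul_inv_cancel, conjR_one]

theorem conjR_conjR_inv (g : G) (A : Set G) : conjR g (conjR g⁻¹ A) = A := by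
  rw [← conjR_mul, inv_mul_cancel, conjR_one]

theorem conjR_def (g : G) (A : Set G) : conjR g A = (fun a => g⁻¹ * a * g) '' A := rfl

theorem coe_map_conj_inv (T : Subgroup G) (g : G) :
    ((T.map (MulAut.conj g⁻¹).toMonoidHom : Subgroup G) : Set G) = conjR g (T : Set G) := by
  ext y
  simp [conjR]

theorem conjR_coe_eq_of_mem_normalizer {T : Subgroup G} {x : G}
    (hx : x ∈ Subgroup.normalizer (T : Set G)) : conjR x (T : Set G) = (T : Set G) := by
  ext y
  rw [mem_conjR]
  exact ((Subgroup.mem_normalizer_iff.mp hx) y).symm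

/-- Chains of conjugations inside normalizers of members of `𝓕` (right conjugation). -/
inductive FChain (𝓕 : Set (Subgroup G)) : Set G → G → Prop
  | nil (A : Set G) : FChain 𝓕 A 1
  | cons (A : Set G) (T : Subgroup G) (x g : G) : T ∈ 𝓕 → x ∈ Subgroup.normalizer (T : Set G) →
      A ⊆ (T : Set G) → FChain 𝓕 (conjR x A) g → FChain 𝓕 A (x * g)

variable {𝓕 : Set (Subgroup G)}

theorem FChain.mono {A B : Set G} {g : G} (h : FChain 𝓕 B g) (hAB : A ⊆ B) : FChain 𝓕 A g := by
  induction h generalizing A with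
  | nil B => exact FChain.nil A
  | cons B T x g hT hx hBT _ ih =>
    exact FChain.cons A T x g hT hx (hAB.trans hBT) (ih (conjR_mono hAB))

theorem FChain.single {A : Set G} {T : Subgroup G} {x : G} (hT : T ∈ 𝓕)
    (hx : x ∈ Subgroup.normalizer (T : Set G)) (hAT : A ⊆ (T : Set G)) : FChain 𝓕 A x := by
  have := FChain.cons A T x 1 hT hx hAT (FChain.nil _)
  rwa [mul_one] at this

theorem FChain.append {A : Set G} {g h : G} (h1 : FChain 𝓕 A g) (h2 : FChain 𝓕 (conjR g A) h) :
    FChain 𝓕 A (g * h) := by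
  induction h1 with
  | nil A => rwa [one_mul, ← conjR_one A]
  | cons A T x g hT hx hAT _ ih =>
    rw [mul_assoc]
    refine FChain.cons A T x (g * h) hT hx hAT (ih ?_)
    rwa [← conjR_mul]

theorem FChain.inv {A : Set G} {g : G} (h : FChain 𝓕 A g) : FChain 𝓕 (conjR g A) g⁻¹ := by
  induction h with
  | nil A => rw [inv_one]; exact FChain.nil _
  | cons A T x g hT hx hAT _ ih =>
    rw [mul_inv_rev, conjR_mul]
    refine FChain.append ih ?_
    rw [conjR_inv_conjR]
    refine FChain.single hT (Subgroup.inv_mem _ hx) ?_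
    calc conjR x A ⊆ conjR x (T : Set G) := conjR_mono hAT
      _ = T := conjR_coe_eq_of_mem_normalizer hx

end Cfsg.Agent.Helper33
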