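import Cfsg.Agent.Helper33.FChain
import Cfsg.Prelude.Def_ConjugacyFunctors

set_option autoImplicit false

namespace Cfsg.Agent.Helper33

variable {G : Type*} [Group G] {𝓕 : Set (Subgroup G)}

/-- The data required by `Cfsg.IsConjugationFamily` for one pair `(A, g)`. -/
def FamData (𝓕 : Set (Subgroup G)) (A : Set G) (g : G) : Prop :=
  ∃ (n : ℕ) (T : Fin n → Subgroup G) (x : Fin n → G), (List.ofFn x).prod = g ∧
      (∀ i, T i ∈ 𝓕) ∧ (∀ i, x i ∈ Subgroup.normalizer ((T i : Subgroup G) : Set G)) ∧
      (∀ h : 0 < n, A ⊆ T ⟨0, h⟩) ∧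
      ∀ (i : Fin n) (h : i.val + 1 < n),
        (fun a => (((List.ofFn x).take (i.val + 1)).prod)⁻¹ * a * ((List.ofFn x).take (i.val + 1)).prod) '' A ⊆
          T ⟨i.val + 1, h⟩

theorem FChain.famData {A : Set G} {g : G} (h : FChain 𝓕 A g) : FamData 𝓕 A g := by
  induction h with
  | nil A =>
    refine ⟨0, Fin.elim0, Fin.elim0, by simp, fun i => i.elim0, fun i => i.elim0, ?_, fun i => i.elim0⟩
    intro h; exact absurd h (lt_irrefl 0)
  | cons A T x g hT hx hAT _ ih =>
    obtain ⟨n, T', x', hprod, hT', hx', h0, hstep⟩ := ih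
    refine ⟨n + 1, Fin.cons T T', Fin.cons x x', ?_, ?_, ?_, ?_, ?_⟩
    · rw [List.ofFn_succ]
      simp [hprod]
    · intro i
      refine Fin.cases ?_ (fun j => ?_) i
      · simpa using hT
      · simpa using hT' j
    · intro i
      refine Fin.cases ?_ (fun j => ?_) i
      · simpa using hx
      · simpa using hx' j
    · intro _
      have : (Fin.cons T T' : Fin (n + 1) → Subgroup G) ⟨0, Nat.succ_pos n⟩ = T := rfl
      rw [this]; exact hAT
    · rintro ⟨i, hi⟩ h
      have hlist : List.ofFn (Fin.cons x x' : Fin (n + 1) → G) = x :: List.ofFn x' := by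
        rw [List.ofFn_succ]; simp
      simp only [hlist, List.take_succ_cons, List.prod_cons]
      have hin : i < n := by simpa using h
      have hT'' : (Fin.cons T T' : Fin (n + 1) → Subgroup G) ⟨i + 1, h⟩ = T' ⟨i, hin⟩ := rfl
      rw [hT'']
      rintro _ ⟨a, ha, rfl⟩
      cases i with
      | zero =>
        simp only [List.take_zero, List.prod_nil, mul_one]
        exact h0 hin ⟨a, ha, rfl⟩
      | succ j =>
        have hj : j < n := Nat.lt_of_succ_lt hin
        have := hstep ⟨j, hj⟩ hin
        apply this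
        refine ⟨x⁻¹ * a * x, ⟨a, ha, rfl⟩, ?_⟩
        simp only
        group

end Cfsg.Agent.Helper33
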