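import Cfsg.Agent.Helper33.Control
import Mathlib.Data.Fintype.Lattice

set_option autoImplicit false
set_option linter.style.haveILetI false

namespace Cfsg.Agent.Helper33

variable {G : Type*} [Group G]

/-- `N_G(Q)` controls strong fusion in `P` with respect to `G` (factorisation form, left conjugation). -/
def FN (P Q : Subgroup G) : Prop :=
  ∀ A : Subgroup G, A ≤ P → ∀ g : G, A.map (MulAut.conj g).toMonoidHom ≤ P →
    ∃ h ∈ Subgroup.normalizer (Q : Set G), ∃ c ∈ Subgroup.centralizer (A : Set G), g = h * c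

theorem map_conj_eq_of_mem_normalizer {H : Subgroup G} {g : G}
    (hg : g ∈ Subgroup.normalizer (H : Set G)) : H.map (MulAut.conj g).toMonoidHom = H :=
  Subgroup.mem_normalizer_iff_map_conj_eq.mp hg

theorem FN.bot (P : Subgroup G) : FN P ⊥ := by
  intro A _ g _
  refine ⟨g, ?_, 1, Subgroup.one_mem _, by simp⟩
  rw [Subgroup.mem_normalizer_iff]
  intro x
  simp [Subgroup.mem_bot]

theorem FN.le_normalizer {P Q : Subgroup G} (h : FN P Q) (hQP : Q ≤ P) :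
    P ≤ Subgroup.normalizer (Q : Set G) := by
  intro x hx
  have hxP : P.map (MulAut.conj x).toMonoidHom ≤ P := by
    rw [map_conj_le_iff]
    intro y hy
    exact P.mul_mem (P.mul_mem hx hy) (P.inv_mem hx)
  obtain ⟨n, hn, c, hc, rfl⟩ := h P le_rfl x hxP
  apply Subgroup.mul_mem _ hn
  apply Subgroup.centralizer_le_normalizer
  exact Subgroup.centralizer_le hQP hc

theorem FN.sup {P Q₁ Q₂ : Subgroup G} (h₁ : FN P Q₁) (h₂ : FN P Q₂) (hQ₁ : Q₁ ≤ P) :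
    FN P (Q₁ ⊔ Q₂) := by
  intro A hA g hg
  obtain ⟨n₁, hn₁, c₁, hc₁, rfl⟩ := h₁ A hA g hg
  have hA1 : (A ⊔ Q₁).map (MulAut.conj n₁).toMonoidHom ≤ P := by
    rw [Subgroup.map_sup]
    apply sup_le
    · rw [map_conj_le_iff]
      intro a ha
      have := (map_conj_le_iff A P (n₁ * c₁)).mp hg a ha
      have hca : c₁ * a * c₁⁻¹ = a := by
        have := Subgroup.mem_centralizer_iff.mp hc₁ a ha
        rw [← this]; group
      have e : n₁ * c₁ * a * (n₁ * c₁)⁻¹ = n₁ * (c₁ * a * c₁⁻¹) * n₁⁻¹ := by group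
      rwa [e, hca] at this
    · rw [map_conj_eq_of_mem_normalizer hn₁]
      exact hQ₁
  obtain ⟨n₂, hn₂, c₂, hc₂, rfl⟩ := h₂ (A ⊔ Q₁) (sup_le hA hQ₁) n₁ hA1
  have hc₂Q : c₂ ∈ Subgroup.normalizer (Q₁ : Set G) :=
    Subgroup.centralizer_le_normalizer _ (Subgroup.centralizer_le (le_sup_right : Q₁ ≤ A ⊔ Q₁) hc₂)
  have hn₂Q : n₂ ∈ Subgroup.normalizer (Q₁ : Set G) := by
    have := Subgroup.mul_mem _ hn₁ (Subgroup.inv_mem _ hc₂Q)
    have e : n₂ * c₂ * c₂⁻¹ = n₂ := by group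
    rwa [e] at this
  refine ⟨n₂, ?_, c₂ * c₁, ?_, by group⟩
  · exact Subgroup.normalizer_inf_normalizer_le_normalizer_sup _ _ (Subgroup.mem_inf.mpr ⟨hn₂Q, hn₂⟩)
  · exact Subgroup.mul_mem _ (Subgroup.centralizer_le (le_sup_left : A ≤ A ⊔ Q₁) hc₂) hc₁

/-- There is a largest subgroup `Q₀ ≤ P` whose normalizer controls strong fusion in `P`. -/
theorem exists_FN_max [Finite G] (P : Subgroup G) :
    ∃ Q₀ : Subgroup G, Q₀ ≤ P ∧ FN P Q₀ ∧ ∀ Q : Subgroup G, Q ≤ P → FN P Q → Q ≤ Q₀ := by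
  haveI : Nonempty {Q : Subgroup G // Q ≤ P ∧ FN P Q} := ⟨⟨⊥, bot_le, FN.bot P⟩⟩
  obtain ⟨⟨Q₀, hQ₀P, hQ₀⟩, hmax⟩ :=
    Finite.exists_max (fun Q : {Q : Subgroup G // Q ≤ P ∧ FN P Q} => Nat.card (Q : Subgroup G))
  refine ⟨Q₀, hQ₀P, hQ₀, ?_⟩
  intro Q hQP hQ
  have hsup : FN P (Q₀ ⊔ Q) := hQ₀.sup hQ hQ₀P
  have hle := hmax ⟨Q₀ ⊔ Q, sup_le hQ₀P hQP, hsup⟩
  have heq : Q₀ = Q₀ ⊔ Q := Subgroup.eq_of_le_of_card_ge le_sup_left hle
  rw [heq]
  exact le_sup_right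

/-- Composition: control inside `N_G(Q₀)` suffices. -/
theorem FN.comp {P Q₀ U : Subgroup G} (h₀ : FN P Q₀)
    (hU : ∀ A : Subgroup G, A ≤ P → ∀ n ∈ Subgroup.normalizer (Q₀ : Set G),
      A.map (MulAut.conj n).toMonoidHom ≤ P →
      ∃ h ∈ Subgroup.normalizer (U : Set G), ∃ c ∈ Subgroup.centralizer (A : Set G), n = h * c) :
    FN P U := by
  intro A hA g hg
  obtain ⟨n, hn, c, hc, rfl⟩ := h₀ A hA g hg
  have hnA : A.map (MulAut.conj n).toMonoidHom ≤ P := by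
    rw [map_conj_le_iff]
    intro a ha
    have := (map_conj_le_iff A P (n * c)).mp hg a ha
    have hca : c * a * c⁻¹ = a := by
      have := Subgroup.mem_centralizer_iff.mp hc a ha
      rw [← this]; group
    have e : n * c * a * (n * c)⁻¹ = n * (c * a * c⁻¹) * n⁻¹ := by group
    rwa [e, hca] at this
  obtain ⟨h, hh, c', hc', rfl⟩ := hU A hA n hn hnA
  exact ⟨h, hh, c' * c, Subgroup.mul_mem _ hc' hc, by group⟩

end Cfsg.Agent.Helper33
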