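import Cfsg.Agent.Helper46.QdOver
import Cfsg.Agent.Helper97.QdGraph
import Cfsg.Prelude.Def_PLocal

/-!
# `SL₂(p)`-free automizers give `Qd(p)`-free groups (helper33, for S1953)
-/

set_option autoImplicit false
set_option linter.style.haveILetI false

namespace Cfsg.Agent.Helper33

open Cfsg.Agent.Helper46

/-- In `Qd(F)` the translation subgroup is self-centralizing. -/
theorem centralizer_qdTr_le (F : Type*) [Field F] :
    Subgroup.centralizer ((qdTr F : Subgroup ↥(Cfsg.qdOver F)) : Set ↥(Cfsg.qdOver F)) ≤ qdTr F := by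
  intro x hx
  rw [Subgroup.mem_centralizer_iff] at hx
  obtain ⟨l0, l1, l2⟩ := entF_last x
  have key : ∀ v : Fin 2 → F, entF x 0 0 * v 0 + entF x 0 1 * v 1 = v 0 ∧
      entF x 1 0 * v 0 + entF x 1 1 * v 1 = v 1 := by
    intro v
    have h := hx _ (qdTrans_mem v)
    have e0 := congrArg (fun g => entF g 0 2) h
    have e1 := congrArg (fun g => entF g 1 2) h
    simp only [entF_mul, entF_qdTrans] at e0 e1
    simp [l2] at e0 e1
    constructor
    · linear_combination -e0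
    · linear_combination -e1
  have k1 := key ![1, 0]
  have k2 := key ![0, 1]
  simp at k1 k2
  rw [mem_qdTr]
  exact ⟨k1.1, k2.1, k1.2, k2.2⟩

section core

variable {Γ E S : Type*} [Group Γ] [Finite Γ] [Group E] [Group S] {p : ℕ} [Fact p.Prime]

/-- Frattini step: if `Γ` maps onto `E`, and `E` maps onto `S` with a self-centralizing `p`-group as kernel, then
some `p`-subgroup `T` of `Γ` has its normalizer mapping onto `S` and its centralizer mapping to `1`. -/
theorem frattini_section_core (π : Γ →* E) (hπ : Function.Surjective π) (φ : E →* S)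
    (hφ : Function.Surjective φ) (hW : IsPGroup p ↥φ.ker)
    (hC : Subgroup.centralizer ((φ.ker : Subgroup E) : Set E) ≤ φ.ker) :
    ∃ T : Subgroup Γ, IsPGroup p ↥T ∧
      (∀ τ : S, ∃ n ∈ Subgroup.normalizer (T : Set Γ), φ (π n) = τ) ∧
      (∀ g ∈ Subgroup.centralizer (T : Set Γ), φ (π g) = 1) := by
  obtain ⟨W, hWdef⟩ : ∃ W : Subgroup E, W = φ.ker := ⟨_, rfl⟩
  obtain ⟨V, hVdef⟩ : ∃ V : Subgroup Γ, V = W.comap π := ⟨_, rfl⟩
  have hWn : W.Normal := by rw [hWdef]; infer_instance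
  haveI : V.Normal := by rw [hVdef]; exact hWn.comap π
  obtain ⟨P⟩ : Nonempty (Sylow p ↥V) := inferInstance
  have hfrat := Sylow.normalizer_sup_eq_top P
  refine ⟨(P : Subgroup ↥V).map V.subtype, P.isPGroup'.map _, ?_, ?_⟩
  · intro τ
    obtain ⟨σ, hσ⟩ := hφ τ
    obtain ⟨g, hg⟩ := hπ σ
    have hgmem : g ∈ Subgroup.normalizer (((P : Subgroup ↥V).map V.subtype : Subgroup Γ) : Set Γ) ⊔ V := by
      rw [hfrat]; exact Subgroup.mem_top _
    rw [← SetLike.mem_coe, Subgroup.mul_normal] at hgmem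
    obtain ⟨n, hn, v, hv, hmul⟩ := hgmem
    refine ⟨n, hn, ?_⟩
    have hv1 : φ (π v) = 1 := by
      have : v ∈ W.comap π := hVdef ▸ hv
      have : π v ∈ φ.ker := hWdef ▸ this
      exact this
    have hmul' : n * v = g := hmul
    have : φ (π g) = φ (π n) := by
      rw [← hmul', map_mul, map_mul, hv1, mul_one]
    rw [← this, hg, hσ]
  · intro g hg
    have hgc : π g ∈ Subgroup.centralizer ((φ.ker : Subgroup E) : Set E) := by
      rw [Subgroup.mem_centralizer_iff]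
      intro v hv
      have hvW : v ∈ W := hWdef ▸ hv
      have hWp : IsPGroup p ↥W := hWdef ▸ hW
      have hle : V ≤ W.comap π := hVdef.le
      let ρ : ↥V →* ↥W := (π.subgroupComap W).comp (Subgroup.inclusion hle)
      have hsurjV : Function.Surjective ρ := by
        intro w
        obtain ⟨x, hx⟩ := π.subgroupComap_surjective_of_surjective W hπ w
        refine ⟨⟨x.1, hVdef ▸ x.2⟩, ?_⟩
        rw [← hx]
        rfl
      have hQtop : (⊤ : Subgroup ↥W) = ((P.mapSurjective hsurjV : Sylow p ↥W) : Subgroup ↥W) :=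
        (P.mapSurjective hsurjV).is_maximal' (hWp.to_subgroup ⊤) le_top
      obtain ⟨t', ht'P, ht'⟩ : ∃ t' ∈ (P : Subgroup ↥V), ρ t' = ⟨v, hvW⟩ := by
        have : (⟨v, hvW⟩ : ↥W) ∈ (⊤ : Subgroup ↥W) := Subgroup.mem_top _
        rw [hQtop, Sylow.coe_mapSurjective] at this
        exact this
      have hπt : π (t' : Γ) = v := congrArg Subtype.val ht'
      have htT : (t' : Γ) ∈ (P : Subgroup ↥V).map V.subtype := ⟨t', ht'P, rfl⟩
      have hcomm := (Subgroup.mem_centralizer_iff.1 hg) (t' : Γ) htT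
      have := congrArg π hcomm
      rw [map_mul, map_mul, hπt] at this
      exact this
    exact hC hgc

end core

/-- Extension of a homomorphism to a product with a normalized subgroup on which it is trivial. -/
theorem exists_hom_sup_of_normalizes {A' G S : Type*} [Group A'] [Group G] [Group S] (ι : A' →* G)
    (B : Subgroup G) (hN : ∀ a : A', ι a ∈ Subgroup.normalizer (B : Set G)) (ψ : A' →* S)
    (hψ : ∀ a : A', ι a ∈ B → ψ a = 1) :
    ∃ Ψ : ↥(ι.range ⊔ B) →* S, (∀ (a : A') (h : ι a ∈ ι.range ⊔ B), Ψ ⟨ι a, h⟩ = ψ a) ∧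
      ∀ x : ↥(ι.range ⊔ B), (x : G) ∈ B → Ψ x = 1 := by
  have hle : ι.range ≤ Subgroup.normalizer (B : Set G) := by
    rintro _ ⟨a, rfl⟩
    exact hN a
  have hdec : ∀ x : ↥(ι.range ⊔ B), ∃ a : A', ∃ b ∈ B, (x : G) = ι a * b := by
    intro x
    have hx : (x : G) ∈ ((ι.range ⊔ B : Subgroup G) : Set G) := x.2
    rw [Subgroup.coe_mul_of_left_le_normalizer_right _ _ hle] at hx
    obtain ⟨_, ⟨a, rfl⟩, b, hb, hab⟩ := hx
    exact ⟨a, b, hb, hab.symm⟩
  have hwd : ∀ (a a' : A') (b b' : G), b ∈ B → b' ∈ B → ι a * b = ι a' * b' → ψ a = ψ a' := by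
    intro a a' b b' hb hb' h
    have h1 : ι (a'⁻¹ * a) = b' * b⁻¹ := by
      rw [map_mul, map_inv]
      calc (ι a')⁻¹ * ι a = (ι a')⁻¹ * (ι a * b) * b⁻¹ := by group
        _ = (ι a')⁻¹ * (ι a' * b') * b⁻¹ := by rw [h]
        _ = b' * b⁻¹ := by group
    have h2 := hψ (a'⁻¹ * a) (h1 ▸ B.mul_mem hb' (B.inv_mem hb))
    rw [map_mul, map_inv] at h2
    calc ψ a = ψ a' * ((ψ a')⁻¹ * ψ a) := by group
      _ = ψ a' := by rw [h2, mul_one]
  choose fa fb hfb hfab using hdec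
  have hconj : ∀ (a : A') (b : G), b ∈ B → (ι a)⁻¹ * b * ι a ∈ B := by
    intro a b hb
    have := (Subgroup.mem_normalizer_iff.mp (Subgroup.inv_mem _ (hN a)) b).mp hb
    simpa using this
  refine ⟨MonoidHom.mk' (fun x => ψ (fa x)) ?_, ?_, ?_⟩
  · intro x y
    rw [← map_mul]
    apply hwd (fa (x * y)) (fa x * fa y) (fb (x * y)) ((ι (fa y))⁻¹ * fb x * ι (fa y) * fb y)
      (hfb _) (B.mul_mem (hconj _ _ (hfb x)) (hfb y))
    rw [← hfab, Subgroup.coe_mul, hfab x, hfab y, map_mul]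
    group
  · intro a h
    show ψ (fa ⟨ι a, h⟩) = ψ a
    apply hwd _ _ (fb ⟨ι a, h⟩) 1 (hfb _) B.one_mem
    rw [← hfab, mul_one]
  · intro x hx
    show ψ (fa x) = 1
    apply hψ
    have : ι (fa x) = (x : G) * (fb x)⁻¹ := by rw [hfab x]; group
    rw [this]
    exact B.mul_mem hx (B.inv_mem (hfb x))

end Cfsg.Agent.Helper33

namespace Cfsg.Agent.Helper33

open Cfsg.Agent.Helper46

theorem normalizer_le_normalizer_centralizer_h33 {G : Type*} [Group G] (U : Subgroup G) :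
    Subgroup.normalizer (U : Set G) ≤
      Subgroup.normalizer ((Subgroup.centralizer (U : Set G) : Subgroup G) : Set G) := by
  intro x hx
  rw [Subgroup.mem_normalizer_iff] at hx ⊢
  intro c
  rw [Subgroup.mem_centralizer_iff, Subgroup.mem_centralizer_iff]
  constructor
  · intro hc u hu
    have hu' : x⁻¹ * u * x ∈ U := by
      rw [hx]
      have e : x * (x⁻¹ * u * x) * x⁻¹ = u := by group
      rwa [e]
    have := hc _ hu'
    have e1 : u * (x * c * x⁻¹) = x * (x⁻¹ * u * x * c) * x⁻¹ := by group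
    have e2 : x * c * x⁻¹ * u = x * (c * (x⁻¹ * u * x)) * x⁻¹ := by group
    rw [e1, e2, this]
  · intro hc u hu
    have hu' : x * u * x⁻¹ ∈ U := (hx u).mp hu
    have := hc _ hu'
    have e1 : u * c = x⁻¹ * (x * u * x⁻¹ * (x * c * x⁻¹)) * x := by group
    have e2 : c * u = x⁻¹ * (x * c * x⁻¹ * (x * u * x⁻¹)) * x := by group
    rw [e1, e2, this]

/-- If no automizer `N_G(Q)/C_G(Q)` of a `p`-subgroup has a section `SL₂(p)`, then `G` is `Qd(p)`-free. -/
theorem not_involves_qd_of_aut_free {G : Type*} [Group G] [Finite G] {p : ℕ} [Fact p.Prime]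
    (hfree : ∀ Q : Subgroup G, IsPGroup p ↥Q → ¬ ∃ (H K : Subgroup G) (_ : (K.subgroupOf H).Normal),
      Subgroup.centralizer (Q : Set G) ≤ K ∧ K ≤ H ∧ H ≤ Subgroup.normalizer (Q : Set G) ∧
      Nonempty ((↥H ⧸ K.subgroupOf H) ≃* Matrix.SpecialLinearGroup (Fin 2) (ZMod p))) :
    ¬ Cfsg.Involves ↥(Cfsg.qd p) G := by
  rintro ⟨K, R, hn, ⟨e⟩⟩
  let c : ↥(Cfsg.qd p) ≃* ↥(Cfsg.qdOver (ZMod p)) :=
    MulEquiv.subgroupCongr Cfsg.Agent.Helper97.QdGraph.qd_eq_qdOver
  let π : ↥K →* ↥(Cfsg.qdOver (ZMod p)) :=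
    c.toMonoidHom.comp (e.toMonoidHom.comp (QuotientGroup.mk' (R.subgroupOf K)))
  have hπ : Function.Surjective π :=
    c.surjective.comp (e.surjective.comp (QuotientGroup.mk'_surjective _))
  have hW : IsPGroup p ↥(qdBlock (F := ZMod p)).ker := isPGroup_qdTr (F := ZMod p) (p := p)
  obtain ⟨T, hTp, hTn, hTc⟩ := frattini_section_core π hπ (qdBlock (F := ZMod p)) qdBlock_surjective hW
    (centralizer_qdTr_le (ZMod p))
  obtain ⟨TG, hTG⟩ : ∃ TG : Subgroup G, TG = T.map K.subtype := ⟨_, rfl⟩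
  have hTGp : IsPGroup p ↥TG := hTG ▸ hTp.map _
  apply hfree TG hTGp
  obtain ⟨NΓ, hNΓ⟩ : ∃ NΓ : Subgroup ↥K, NΓ = Subgroup.normalizer (T : Set ↥K) := ⟨_, rfl⟩
  let ι : ↥NΓ →* G := K.subtype.comp NΓ.subtype
  have hιN : ∀ a : ↥NΓ, ι a ∈ Subgroup.normalizer (TG : Set G) := by
    intro a
    rw [hTG]
    exact Subgroup.le_normalizer_map K.subtype ⟨(a : ↥K), hNΓ ▸ a.2, rfl⟩
  let ψ : ↥NΓ →* Matrix.SpecialLinearGroup (Fin 2) (ZMod p) :=
    ((qdBlock (F := ZMod p)).comp π).comp NΓ.subtype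
  have hψ : ∀ a : ↥NΓ, ι a ∈ Subgroup.centralizer (TG : Set G) → ψ a = 1 := by
    intro a ha
    apply hTc
    rw [Subgroup.mem_centralizer_iff]
    intro t ht
    have := (Subgroup.mem_centralizer_iff.1 ha) (t : G) (hTG ▸ ⟨t, ht, rfl⟩)
    exact Subtype.ext this
  obtain ⟨Ψ, hΨ1, hΨ2⟩ := exists_hom_sup_of_normalizes ι (Subgroup.centralizer (TG : Set G))
    (fun a => normalizer_le_normalizer_centralizer_h33 TG (hιN a)) ψ hψ
  obtain ⟨H, hH⟩ : ∃ H : Subgroup G, H = ι.range ⊔ Subgroup.centralizer (TG : Set G) := ⟨_, rfl⟩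
  subst hH
  have hker : (Ψ.ker.map (ι.range ⊔ Subgroup.centralizer (TG : Set G)).subtype).subgroupOf
      (ι.range ⊔ Subgroup.centralizer (TG : Set G)) = Ψ.ker := by
    rw [Subgroup.subgroupOf]
    exact Subgroup.comap_map_eq_self_of_injective (Subgroup.subtype_injective _) _
  have hn' : ((Ψ.ker.map (ι.range ⊔ Subgroup.centralizer (TG : Set G)).subtype).subgroupOf
      (ι.range ⊔ Subgroup.centralizer (TG : Set G))).Normal := by
    rw [hker]; infer_instance
  have hΨs : Function.Surjective Ψ := by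
    intro τ
    obtain ⟨n, hn1, hτ⟩ := hTn τ
    have hmem : ι ⟨n, hNΓ ▸ hn1⟩ ∈ ι.range ⊔ Subgroup.centralizer (TG : Set G) :=
      (le_sup_left : ι.range ≤ _) ⟨_, rfl⟩
    refine ⟨⟨ι ⟨n, hNΓ ▸ hn1⟩, hmem⟩, ?_⟩
    rw [hΨ1]
    exact hτ
  refine ⟨ι.range ⊔ Subgroup.centralizer (TG : Set G),
    Ψ.ker.map (ι.range ⊔ Subgroup.centralizer (TG : Set G)).subtype, hn', ?_, ?_, ?_, ⟨?_⟩⟩
  · intro x hx
    exact ⟨⟨x, (le_sup_right : Subgroup.centralizer (TG : Set G) ≤ _) hx⟩, hΨ2 _ hx, rfl⟩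
  · exact Subgroup.map_subtype_le _
  · apply sup_le
    · rintro _ ⟨a, rfl⟩
      exact hιN a
    · exact Subgroup.centralizer_le_normalizer _
  · exact (QuotientGroup.quotientMulEquivOfEq hker).trans (QuotientGroup.quotientKerEquivOfSurjective Ψ hΨs)

end Cfsg.Agent.Helper33
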