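import Cfsg.Agent.Helper33.FusMisc
import Cfsg.Agent.Helper49.SylowSubnormal

set_option autoImplicit false

open scoped Pointwise

namespace Cfsg.Agent.Helper33

variable {G : Type*} [Group G]

/-- A fusion form of the Frattini argument: if `g` conjugates the subgroup `A₀ ≤ S` into `S` and `N` is
normal, then `g = c * n` with `c ∈ N` conjugating `A₀` into `S` and `n` normalizing `S ∩ N`. -/
theorem exists_frattini_fusion {p : ℕ} [Fact p.Prime] [Finite G] (S : Sylow p G) (N : Subgroup G)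
    [N.Normal] (A₀ : Subgroup G) (hA : A₀ ≤ (S : Subgroup G)) (g : G)
    (hg : conjR g (A₀ : Set G) ⊆ (S : Subgroup G)) :
    ∃ c ∈ N, c⁻¹ * g ∈ Subgroup.normalizer (((S : Subgroup G) ⊓ N : Subgroup G) : Set G) ∧
      conjR c (A₀ : Set G) ⊆ (S : Subgroup G) := by
  obtain ⟨P, hP⟩ : ∃ P : Subgroup G, P = (S : Subgroup G) ⊓ N := ⟨_, rfl⟩
  obtain ⟨S', hS'⟩ : ∃ S' : Subgroup G, S' = (S : Subgroup G).map (MulAut.conj g).toMonoidHom := ⟨_, rfl⟩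
  obtain ⟨P', hP'⟩ : ∃ P' : Subgroup G, P' = P.map (MulAut.conj g).toMonoidHom := ⟨_, rfl⟩
  obtain ⟨X, hX⟩ : ∃ X : Subgroup G, X = N ⊔ A₀ := ⟨_, rfl⟩
  obtain ⟨T, hT⟩ : ∃ T : Subgroup G, T = (S : Subgroup G) ⊓ X := ⟨_, rfl⟩
  have hS'p : IsPGroup p S' := hS' ▸ S.2.map _
  have hAS' : A₀ ≤ S' := by
    intro a ha
    rw [hS', mem_map_conj_iff]
    exact hg ⟨a, ha, rfl⟩
  have hP'S' : P' ≤ S' := by
    rw [hP', hS', hP]
    exact Subgroup.map_mono inf_le_left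
  have hP'N : P' ≤ N := by
    rw [hP', hP]
    rintro _ ⟨x, hx, rfl⟩
    show (MulAut.conj g) x ∈ N
    rw [MulAut.conj_apply]
    exact ‹N.Normal›.conj_mem x (Subgroup.mem_inf.mp hx).2 g
  have hRp : IsPGroup p ↥(P' ⊔ A₀) := hS'p.to_le (sup_le hP'S' hAS')
  have hRX : P' ⊔ A₀ ≤ X := hX ▸ sup_le_sup_right hP'N A₀
  have hAT : A₀ ≤ T := hT ▸ le_inf hA (hX ▸ le_sup_right)
  have hNX : N ≤ X := hX ▸ le_sup_left
  have hTX : T ≤ X := hT ▸ inf_le_right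
  have hTN : T ⊔ N = X := by
    apply le_antisymm (sup_le hTX hNX)
    rw [hX]
    exact sup_le le_sup_right (hAT.trans le_sup_left)
  have hidx : ¬ p ∣ T.relIndex X := by
    rw [← hTN, relIndex_sup_normal, ← Subgroup.inf_relIndex_right]
    have e : T ⊓ N = (S : Subgroup G) ⊓ N := by
      rw [hT, inf_assoc, inf_eq_right.mpr hNX]
    rw [e, Subgroup.inf_relIndex_right]
    exact Cfsg.Agent.Helper49.not_dvd_relIndex_of_normal S N
  have hTp : IsPGroup p T := S.2.to_le (hT ▸ inf_le_left)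
  obtain ⟨y, hy, hyR⟩ := exists_conj_le_of_not_dvd_relIndex hTX hTp hidx hRX hRp
  have hy' : y ∈ ((N ⊔ A₀ : Subgroup G) : Set G) := hX ▸ hy
  rw [Subgroup.normal_mul] at hy'
  obtain ⟨n₁, hn₁, a, ha, rfl⟩ := hy'
  have hn₁R : ∀ r ∈ P' ⊔ A₀, n₁ * r * n₁⁻¹ ∈ T := by
    intro r hr
    have ha' : a ∈ P' ⊔ A₀ := (le_sup_right : A₀ ≤ P' ⊔ A₀) ha
    have hr' : a⁻¹ * r * a ∈ P' ⊔ A₀ :=
      Subgroup.mul_mem _ (Subgroup.mul_mem _ (Subgroup.inv_mem _ ha') hr) ha'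
    have := hyR _ hr'
    have e : n₁ * a * (a⁻¹ * r * a) * (n₁ * a)⁻¹ = n₁ * r * n₁⁻¹ := by group
    rwa [e] at this
  have hTS : T ≤ (S : Subgroup G) := hT ▸ inf_le_left
  refine ⟨n₁⁻¹, N.inv_mem hn₁, ?_, ?_⟩
  · rw [inv_inv, ← hP]
    have h1 : (n₁ * g)⁻¹ ∈ Subgroup.normalizer (P : Set G) := by
      apply mem_normalizer_of_conjR_subset
      rintro _ ⟨x, hx, rfl⟩
      have hx' : g * x * g⁻¹ ∈ P' := by
        rw [hP']
        exact conj_mem_map_conj P g hx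
      have h2 := hn₁R _ ((le_sup_left : P' ≤ P' ⊔ A₀) hx')
      have e : (n₁ * g)⁻¹⁻¹ * x * (n₁ * g)⁻¹ = n₁ * (g * x * g⁻¹) * n₁⁻¹ := by group
      show (n₁ * g)⁻¹⁻¹ * x * (n₁ * g)⁻¹ ∈ P
      rw [e, hP]
      exact Subgroup.mem_inf.mpr ⟨hTS h2, ‹N.Normal›.conj_mem _ (hP'N hx') n₁⟩
    have := Subgroup.inv_mem _ h1
    rwa [inv_inv] at this
  · rintro _ ⟨a', ha', rfl⟩
    have := hn₁R a' ((le_sup_right : A₀ ≤ P' ⊔ A₀) ha')
    show n₁⁻¹⁻¹ * a' * n₁⁻¹ ∈ (S : Subgroup G)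
    rw [inv_inv]
    exact hTS this

end Cfsg.Agent.Helper33
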