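import Cfsg.Agent.Helper33.ListChain
import Cfsg.Agent.Helper33.FrattiniFusion

set_option autoImplicit false

namespace Cfsg.Agent.Helper33

variable {G : Type*} [Group G]

local notation:max H "⟪" g "⟫" => Subgroup.map (MulEquiv.toMonoidHom (MulAut.conj g)) H

/-- Steps of the two-functor chains: elements of `L` normalizing `W Q` or centralizing `V Q`. -/
def K2 (W V : Subgroup G → Subgroup G) (L Q : Subgroup G) : Set G :=
  {b | b ∈ L ⊓ Subgroup.normalizer ((W Q : Subgroup G) : Set G) ∨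
    b ∈ L ⊓ Subgroup.centralizer ((V Q : Subgroup G) : Set G)}

theorem K2_inv {W V : Subgroup G → Subgroup G} {L Q : Subgroup G} :
    ∀ z ∈ K2 W V L Q, z⁻¹ ∈ K2 W V L Q := by
  rintro z (hz | hz)
  · exact Or.inl (Subgroup.inv_mem _ hz)
  · exact Or.inr (Subgroup.inv_mem _ hz)

/-- `W` with `V` controls strong fusion in `L` with respect to `Q` (reachability form). -/
def Ctl2 (W V : Subgroup G → Subgroup G) (L Q : Subgroup G) : Prop :=
  ∀ (X : Set G) (a : G), X ⊆ (Q : Set G) → a ∈ L → conjR a X ⊆ (Q : Set G) →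
    Reach (K2 W V L Q) (Q : Set G) X a

theorem centralizer_map_conj (H : Subgroup G) (g : G) :
    Subgroup.centralizer ((H⟪g⟫ : Subgroup G) : Set G) = (Subgroup.centralizer (H : Set G))⟪g⟫ := by
  ext x
  rw [mem_map_conj_iff, Subgroup.mem_centralizer_iff, Subgroup.mem_centralizer_iff]
  constructor
  · intro h y hy
    have := h (g * y * g⁻¹) (conj_mem_map_conj H g hy)
    have e1 : y * (g⁻¹ * x * g) = g⁻¹ * (g * y * g⁻¹ * x) * g := by group
    have e2 : g⁻¹ * x * g * y = g⁻¹ * (x * (g * y * g⁻¹)) * g := by group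
    rw [e1, e2, this]
  · intro h y hy
    have hy' := (mem_map_conj_iff H g y).mp hy
    have := h _ hy'
    have e1 : y * x = g * (g⁻¹ * y * g * (g⁻¹ * x * g)) * g⁻¹ := by group
    have e2 : x * y = g * (g⁻¹ * x * g * (g⁻¹ * y * g)) * g⁻¹ := by group
    rw [e1, e2, this]

theorem ctl2_at {p : ℕ} [Fact p.Prime] [Finite G] {W V : Subgroup G → Subgroup G}
    (hW : Cfsg.IsConjugacyFunctor p W) (hV : Cfsg.IsConjugacyFunctor p V) {L Q Q' : Subgroup G}
    (h : Ctl2 W V L Q) (hQL : Q ≤ L) (hQp : IsPGroup p Q) (hQidx : ¬ p ∣ Q.relIndex L)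
    (hQ'L : Q' ≤ L) (hQ'p : IsPGroup p Q') (hQ'idx : ¬ p ∣ Q'.relIndex L) : Ctl2 W V L Q' := by
  obtain ⟨m, hmL, hm⟩ := exists_conj_le_of_not_dvd_relIndex hQ'L hQ'p hQ'idx hQL hQp
  have hle : Q⟪m⟫ ≤ Q' := (map_conj_le_iff Q Q' m).mpr hm
  have hidx' : ¬ p ∣ (Q⟪m⟫).relIndex L := by
    have := relIndex_map_conj Q L m
    rw [map_conj_eq_self_of_mem hmL] at this
    rw [this]; exact hQidx
  have heq : Q⟪m⟫ = Q' := eq_of_le_of_not_dvd_relIndex hle hQ'L hQ'p hidx'
  have hcoe : (Q' : Set G) = conjR m⁻¹ (Q : Set G) := by rw [← heq, coe_map_conj]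
  intro X a hX haL haX
  have hX0 : conjR m X ⊆ (Q : Set G) := by
    have := conjR_mono (g := m) hX
    rwa [hcoe, conjR_conjR_inv] at this
  have ha0 : m⁻¹ * a * m ∈ L := L.mul_mem (L.mul_mem (L.inv_mem hmL) haL) hmL
  have haX0 : conjR (m⁻¹ * a * m) (conjR m X) ⊆ (Q : Set G) := by
    have := conjR_mono (g := m) haX
    rw [hcoe, conjR_conjR_inv, ← conjR_mul] at this
    rw [← conjR_mul]
    have e : m * (m⁻¹ * a * m) = a * m := by group
    rwa [e]
  have hr := (h _ _ hX0 ha0 haX0).conj m⁻¹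
  rw [conjR_inv_conjR, ← hcoe] at hr
  have e : m⁻¹⁻¹ * (m⁻¹ * a * m) * m⁻¹ = a := by group
  rw [e] at hr
  refine hr.mono_K ?_
  rintro _ ⟨z, hz, rfl⟩
  have hWQ' : W Q' = (W Q)⟪m⟫ := by rw [← heq]; exact functor_map_conj hW hQp m
  have hVQ' : V Q' = (V Q)⟪m⟫ := by rw [← heq]; exact functor_map_conj hV hQp m
  have hin : ∀ {z : G}, z ∈ L → m⁻¹⁻¹ * z * m⁻¹ ∈ L := fun {z} hz =>
    L.mul_mem (L.mul_mem (by rw [inv_inv]; exact hmL) hz) (L.inv_mem hmL)
  rcases hz with hz | hz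
  · refine Or.inl (Subgroup.mem_inf.mpr ⟨hin (Subgroup.mem_inf.mp hz).1, ?_⟩)
    rw [hWQ', normalizer_map_conj, inv_inv]
    exact conj_mem_map_conj _ m (Subgroup.mem_inf.mp hz).2
  · refine Or.inr (Subgroup.mem_inf.mpr ⟨hin (Subgroup.mem_inf.mp hz).1, ?_⟩)
    rw [hVQ', centralizer_map_conj, inv_inv]
    exact conj_mem_map_conj _ m (Subgroup.mem_inf.mp hz).2

/-- Every conjugate of `N` inside `S` contains the centre of `S`. -/
def GoodIn (S N : Subgroup G) : Prop :=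
  ∀ g : G, N⟪g⟫ ≤ S → S ⊓ Subgroup.centralizer (S : Set G) ≤ N⟪g⟫

theorem GoodIn.conj {S N : Subgroup G} (h : GoodIn S N) (x : G) : GoodIn S (N⟪x⟫) := by
  intro g hg
  rw [map_conj_map_conj] at hg ⊢
  exact h _ hg

theorem GoodIn.mono {S N N' : Subgroup G} (h : GoodIn S N) (hNN' : N ≤ N') : GoodIn S N' := by
  intro g hg
  exact (h g ((Subgroup.map_mono hNN').trans hg)).trans (Subgroup.map_mono hNN')

theorem GoodIn.center_le {S N : Subgroup G} (h : GoodIn S N) (hN : N ≤ S) :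
    S ⊓ Subgroup.centralizer (S : Set G) ≤ N := by
  have := h 1 (by rw [map_conj_one]; exact hN)
  rwa [map_conj_one] at this

/-- Relative Sylow intersection: if `K` has index prime to `p` in `L` and `M ≤ L` is normalized by
`L`, then `K ⊓ M` has index prime to `p` in `M`. -/
theorem not_dvd_relIndex_inf_of_le_normalizer {p : ℕ} [Fact p.Prime] [Finite G] {K L M : Subgroup G}
    (hK : IsPGroup p K) (hidx : ¬ p ∣ K.relIndex L) (hML : M ≤ L)
    (hLM : L ≤ Subgroup.normalizer (M : Set G)) : ¬ p ∣ (K ⊓ M).relIndex M := by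
  have hK' : IsPGroup p (K.subgroupOf L) := hK.comap_subtype
  have : (M.subgroupOf L).Normal := (Subgroup.normal_subgroupOf_iff_le_normalizer hML).mpr hLM
  have := Cfsg.Agent.Helper49.not_dvd_relIndex_of_normal (hK'.toSylow hidx) (M.subgroupOf L)
  have h0 : ((hK'.toSylow hidx : Sylow p L) : Subgroup L) = K.subgroupOf L := rfl
  rw [h0, Subgroup.relIndex_subgroupOf hML] at this
  rwa [Subgroup.inf_relIndex_right]

end Cfsg.Agent.Helper33
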