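import Cfsg.Agent.Helper33.FNBasic
import Cfsg.Agent.Helper33.AlperinAbove
import Cfsg.Agent.Helper33.TwoFunctor
import Cfsg.Agent.Helper33.QdFreeOfAut

/-!
# Lifting control of strong fusion through a central `p`-subgroup (helper33, for S1953)
-/

set_option autoImplicit false
set_option linter.style.haveILetI false

namespace Cfsg.Agent.Helper33

variable {X : Type*} [Group X]

/-- If `Γ/K` is a `p`-group and `R` is a Sylow `p`-subgroup of `Γ`, then `Γ = K R`. -/
theorem exists_mul_of_quotient_pgroup [Finite X] {p : ℕ} [Fact p.Prime]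
    {Γ K R : Subgroup X} (hKΓ : K ≤ Γ) (hRΓ : R ≤ Γ) (hΓK : Γ ≤ Subgroup.normalizer (K : Set X))
    (hpow : ∀ y ∈ Γ, ∃ k : ℕ, y ^ (p ^ k) ∈ K) (hRp : IsPGroup p ↥R) (hidx : ¬ p ∣ R.relIndex Γ) :
    ∀ y ∈ Γ, ∃ c ∈ K, ∃ s ∈ R, y = c * s := by
  haveI hKn : (K.subgroupOf Γ).Normal := (Subgroup.normal_subgroupOf_iff_le_normalizer hKΓ).mpr hΓK
  have hR' : IsPGroup p ↥(R.subgroupOf Γ) := hRp.comap_subtype
  let R' : Sylow p ↥Γ := hR'.toSylow hidx
  have hR'coe : (R' : Subgroup ↥Γ) = R.subgroupOf Γ := rfl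
  have hQ : IsPGroup p (↥Γ ⧸ K.subgroupOf Γ) := by
    intro q
    induction q using QuotientGroup.induction_on with
    | H y =>
      obtain ⟨k, hk⟩ := hpow y y.2
      refine ⟨k, ?_⟩
      rw [← QuotientGroup.mk_pow, QuotientGroup.eq_one_iff, Subgroup.mem_subgroupOf]
      simpa using hk
  have hsurj : Function.Surjective (QuotientGroup.mk' (K.subgroupOf Γ)) := QuotientGroup.mk'_surjective _
  have htop : (⊤ : Subgroup (↥Γ ⧸ K.subgroupOf Γ)) =
      ((R'.mapSurjective hsurj : Sylow p (↥Γ ⧸ K.subgroupOf Γ)) : Subgroup (↥Γ ⧸ K.subgroupOf Γ)) :=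
    (R'.mapSurjective hsurj).is_maximal' (hQ.to_subgroup ⊤) le_top
  intro y hy
  have hmem : QuotientGroup.mk' (K.subgroupOf Γ) ⟨y, hy⟩ ∈ (⊤ : Subgroup (↥Γ ⧸ K.subgroupOf Γ)) :=
    Subgroup.mem_top _
  rw [htop, Sylow.coe_mapSurjective] at hmem
  obtain ⟨s, hs, hsy⟩ := hmem
  have hs' : (s : X) ∈ R := by
    have : s ∈ R.subgroupOf Γ := hR'coe ▸ hs
    exact Subgroup.mem_subgroupOf.mp this
  have hk : s⁻¹ * ⟨y, hy⟩ ∈ K.subgroupOf Γ := by
    rw [← QuotientGroup.eq]
    exact hsy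
  have hk' : (s : X)⁻¹ * y ∈ K := by
    have := Subgroup.mem_subgroupOf.mp hk
    simpa using this
  have hsN : (s : X) ∈ Subgroup.normalizer (K : Set X) := hΓK s.2
  refine ⟨(s : X) * ((s : X)⁻¹ * y) * (s : X)⁻¹, ?_, (s : X), hs', by group⟩
  exact (Subgroup.mem_normalizer_iff.mp hsN _).mp hk'

theorem normal_of_le_center_h33 {Z : Subgroup X} (hZc : Z ≤ Subgroup.center X) : Z.Normal := by
  constructor
  intro z hz g
  have := Subgroup.mem_center_iff.mp (hZc hz) g
  have e : g * z * g⁻¹ = z := by rw [this]; group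
  rw [e]; exact hz

/-- Powers of an element acting trivially modulo a central subgroup. -/
theorem pow_conj_of_central {y t z : X} (hz : ∀ g : X, g * z = z * g) (h : y * t * y⁻¹ = z * t) (n : ℕ) :
    y ^ n * t * (y ^ n)⁻¹ = z ^ n * t := by
  induction n with
  | zero => simp
  | succ n ih =>
    calc y ^ (n + 1) * t * (y ^ (n + 1))⁻¹ = y * (y ^ n * t * (y ^ n)⁻¹) * y⁻¹ := by
          rw [pow_succ']; group
      _ = y * (z ^ n * t) * y⁻¹ := by rw [ih]
      _ = (y * z ^ n * y⁻¹) * (y * t * y⁻¹) := by group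
      _ = z ^ n * (z * t) := by
          rw [h]
          have : y * z ^ n * y⁻¹ = z ^ n := by
            have hc : Commute y z := hz y
            have := (hc.pow_right n).eq
            rw [this]; group
          rw [this]
      _ = z ^ (n + 1) * t := by rw [pow_succ]; group

/-- **Lifting control through a central `p`-subgroup.** -/
theorem ctl_of_central_quotient_ctl [Finite X] {p : ℕ} [Fact p.Prime]
    (S : Sylow p X) (Z M : Subgroup X) (hZc : Z ≤ Subgroup.center X) (hZS : Z ≤ (S : Subgroup X))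
    (hSM : (S : Subgroup X) ≤ M)
    (hstar : ∀ T : Subgroup X, T ≤ (S : Subgroup X) → Z ≤ T → ∀ x ∈ Subgroup.normalizer (T : Set X),
       ∃ h ∈ M, ∀ t ∈ T, ∃ z ∈ Z, x * t * x⁻¹ = h * t * h⁻¹ * z) :
    ∀ B : Subgroup X, B ≤ (S : Subgroup X) → ∀ c : X, B.map (MulAut.conj c).toMonoidHom ≤ (S : Subgroup X) →
      ∃ h ∈ M, ∃ c' ∈ Subgroup.centralizer (B : Set X), c = h * c' := by
  haveI hZn : Z.Normal := normal_of_le_center_h33 hZc
  have hZcomm : ∀ z ∈ Z, ∀ g : X, g * z = z * g := fun z hz g => Subgroup.mem_center_iff.mp (hZc hz) g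
  have hZp : IsPGroup p ↥Z := S.2.to_le hZS
  obtain ⟨m, hm⟩ := hZp.exists_card_eq
  -- the local step
  have hstep : ∀ T ∈ tameAbove p (S : Subgroup X) Z, ∀ x ∈ Subgroup.normalizer (T : Set X),
      ∀ B : Set X, B ⊆ (T : Set X) → Ctl M B x := by
    rintro T ⟨hTS, hZT, htame⟩ x hx B hBT
    obtain ⟨h, hhM, hh⟩ := hstar T hTS hZT x hx
    -- `h` normalizes `T`
    have hhT : h ∈ Subgroup.normalizer (T : Set X) := by
      have h1 : h⁻¹ ∈ Subgroup.normalizer (T : Set X) := by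
        apply mem_normalizer_of_conjR_subset
        rintro _ ⟨t, ht, rfl⟩
        obtain ⟨z, hz, hxz⟩ := hh t ht
        have hxt : x * t * x⁻¹ ∈ T := (Subgroup.mem_normalizer_iff.mp hx t).mp ht
        have e : h⁻¹⁻¹ * t * h⁻¹ = x * t * x⁻¹ * z⁻¹ := by rw [hxz]; group
        show h⁻¹⁻¹ * t * h⁻¹ ∈ T
        rw [e]
        exact T.mul_mem hxt (T.inv_mem (hZT hz))
      have := Subgroup.inv_mem _ h1
      rwa [inv_inv] at this
    -- the subgroup `Γ` of elements of `N(T)` acting trivially on `T/Z`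
    obtain ⟨Γ, hΓ⟩ : ∃ Γ : Subgroup X, Γ = Subgroup.normalizer (T : Set X) ⊓
        (Subgroup.centralizer ((T.map (QuotientGroup.mk' Z) : Subgroup (X ⧸ Z)) : Set (X ⧸ Z))).comap
          (QuotientGroup.mk' Z) := ⟨_, rfl⟩
    have hmemΓ : ∀ y : X, y ∈ Γ ↔ y ∈ Subgroup.normalizer (T : Set X) ∧
        ∀ t ∈ T, y * t * y⁻¹ * t⁻¹ ∈ Z := by
      intro y
      rw [hΓ, Subgroup.mem_inf, Subgroup.mem_comap, Subgroup.mem_centralizer_iff]
      apply and_congr Iff.rfl
      constructor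
      · intro hy t ht
        have := hy _ (Subgroup.mem_map_of_mem _ ht)
        rw [← QuotientGroup.eq_one_iff, QuotientGroup.mk_mul, QuotientGroup.mk_mul, QuotientGroup.mk_mul,
          QuotientGroup.mk_inv, QuotientGroup.mk_inv]
        have this' : (QuotientGroup.mk t : X ⧸ Z) * QuotientGroup.mk y = QuotientGroup.mk y * QuotientGroup.mk t :=
          this
        rw [← this']
        group
      · rintro hy _ ⟨t, ht, rfl⟩
        have := hy t ht
        rw [← QuotientGroup.eq_one_iff, QuotientGroup.mk_mul, QuotientGroup.mk_mul, QuotientGroup.mk_mul,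
          QuotientGroup.mk_inv, QuotientGroup.mk_inv] at this
        show (QuotientGroup.mk t : X ⧸ Z) * QuotientGroup.mk y = QuotientGroup.mk y * QuotientGroup.mk t
        calc (QuotientGroup.mk t : X ⧸ Z) * QuotientGroup.mk y
            = ((QuotientGroup.mk y : X ⧸ Z) * QuotientGroup.mk t * (QuotientGroup.mk y)⁻¹ *
                (QuotientGroup.mk t)⁻¹)⁻¹ * (QuotientGroup.mk y * QuotientGroup.mk t) := by group
          _ = QuotientGroup.mk y * QuotientGroup.mk t := by rw [this, inv_one, one_mul]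
    have hΓN : Γ ≤ Subgroup.normalizer (T : Set X) := hΓ ▸ inf_le_left
    have hKΓ : Subgroup.centralizer (T : Set X) ≤ Γ := by
      intro c hc
      rw [hmemΓ]
      refine ⟨Subgroup.centralizer_le_normalizer _ hc, ?_⟩
      intro t ht
      have := Subgroup.mem_centralizer_iff.mp hc t ht
      have e : c * t * c⁻¹ * t⁻¹ = 1 := by rw [← this]; group
      rw [e]; exact Z.one_mem
    have hΓK : Γ ≤ Subgroup.normalizer ((Subgroup.centralizer (T : Set X) : Subgroup X) : Set X) :=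
      hΓN.trans (normalizer_le_normalizer_centralizer_h33 T)
    have hpow : ∀ y ∈ Γ, ∃ k : ℕ, y ^ (p ^ k) ∈ Subgroup.centralizer (T : Set X) := by
      intro y hy
      refine ⟨m, ?_⟩
      rw [Subgroup.mem_centralizer_iff]
      intro t ht
      have hz := ((hmemΓ y).mp hy).2 t ht
      have h1 : y * t * y⁻¹ = (y * t * y⁻¹ * t⁻¹) * t := by group
      have h2 := pow_conj_of_central (hZcomm _ hz) h1 (p ^ m)
      have h3 : (y * t * y⁻¹ * t⁻¹) ^ (p ^ m) = 1 := by
        have := pow_card_eq_one' (G := ↥Z) (x := ⟨_, hz⟩)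
        rw [hm] at this
        have := congrArg Subtype.val this
        simpa using this
      rw [h3, one_mul] at h2
      calc t * y ^ (p ^ m) = (y ^ (p ^ m) * t * (y ^ (p ^ m))⁻¹) * y ^ (p ^ m) := by rw [h2]
        _ = y ^ (p ^ m) * t := by group
    have hNΓ : Subgroup.normalizer (T : Set X) ≤ Subgroup.normalizer (Γ : Set X) := by
      intro n hn
      rw [Subgroup.mem_normalizer_iff]
      have key : ∀ n ∈ Subgroup.normalizer (T : Set X), ∀ y ∈ Γ, n * y * n⁻¹ ∈ Γ := by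
        intro n hn y hy
        rw [hmemΓ] at hy ⊢
        refine ⟨Subgroup.mul_mem _ (Subgroup.mul_mem _ hn hy.1) (Subgroup.inv_mem _ hn), ?_⟩
        intro t ht
        have ht' : n⁻¹ * t * n ∈ T := by
          have := (Subgroup.mem_normalizer_iff.mp (Subgroup.inv_mem _ hn) t).mp ht
          simpa using this
        have := hy.2 _ ht'
        have e : n * y * n⁻¹ * t * (n * y * n⁻¹)⁻¹ * t⁻¹ =
            n * (y * (n⁻¹ * t * n) * y⁻¹ * (n⁻¹ * t * n)⁻¹) * n⁻¹ := by group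
        rw [e]
        exact hZn.conj_mem _ this n
      intro y
      constructor
      · exact key n hn y
      · intro hy
        have := key n⁻¹ (Subgroup.inv_mem _ hn) _ hy
        have e : n⁻¹ * (n * y * n⁻¹) * n⁻¹⁻¹ = y := by group
        rwa [e] at this
    have hidx : ¬ p ∣ ((S : Subgroup X) ⊓ Γ).relIndex Γ := by
      have := not_dvd_relIndex_inf_of_le_normalizer (K := (S : Subgroup X) ⊓ Subgroup.normalizer (T : Set X))
        (L := Subgroup.normalizer (T : Set X)) (M := Γ) (S.2.to_le inf_le_left) htame hΓN hNΓ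
      have e : (S : Subgroup X) ⊓ Subgroup.normalizer (T : Set X) ⊓ Γ = (S : Subgroup X) ⊓ Γ := by
        rw [inf_assoc, inf_eq_right.mpr hΓN]
      rwa [e] at this
    -- `y = x h⁻¹` lies in `Γ`
    have hyΓ : x * h⁻¹ ∈ Γ := by
      rw [hmemΓ]
      refine ⟨Subgroup.mul_mem _ hx (Subgroup.inv_mem _ hhT), ?_⟩
      intro t ht
      have ht' : h⁻¹ * t * h ∈ T := by
        have := (Subgroup.mem_normalizer_iff.mp (Subgroup.inv_mem _ hhT) t).mp ht
        simpa using this
      obtain ⟨z, hz, hxz⟩ := hh _ ht'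
      have e : x * h⁻¹ * t * (x * h⁻¹)⁻¹ * t⁻¹ = (x * (h⁻¹ * t * h) * x⁻¹) * t⁻¹ := by group
      rw [e, hxz]
      have e2 : h * (h⁻¹ * t * h) * h⁻¹ * z * t⁻¹ = t * z * t⁻¹ := by group
      rw [e2]
      exact hZn.conj_mem _ hz t
    obtain ⟨c₁, hc₁, s, hs, hys⟩ := exists_mul_of_quotient_pgroup hKΓ inf_le_right hΓK hpow
      (S.2.to_le inf_le_left) hidx _ hyΓ
    refine ⟨c₁, Subgroup.centralizer_le hBT hc₁, s * h, M.mul_mem (hSM (Subgroup.mem_inf.mp hs).1) hhM, ?_⟩
    calc x = (x * h⁻¹) * h := by group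
      _ = c₁ * s * h := by rw [hys]
      _ = c₁ * (s * h) := by group
  -- the global statement
  intro B hB c hc
  have hT₀S : B ⊔ Z ≤ (S : Subgroup X) := sup_le hB hZS
  have hg : conjR c⁻¹ ((B ⊔ Z : Subgroup X) : Set X) ⊆ (S : Subgroup X) := by
    rintro _ ⟨a, ha, rfl⟩
    have h1 : (B ⊔ Z).map (MulAut.conj c).toMonoidHom ≤ (S : Subgroup X) := by
      rw [Subgroup.map_sup]
      apply sup_le hc
      rw [map_conj_eq_of_mem_normalizer (by rw [Subgroup.normalizer_eq_top]; exact Subgroup.mem_top c)]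
      exact hZS
    have := (map_conj_le_iff _ _ c).mp h1 a ha
    show c⁻¹⁻¹ * a * c⁻¹ ∈ (S : Subgroup X)
    rwa [inv_inv]
  have hchain := fchain_tameAbove S Z (B ⊔ Z) hT₀S le_sup_right c⁻¹ hg
  obtain ⟨c₁, hc₁, n, hn, hcn⟩ := FChain.ctl hstep hchain
  refine ⟨n⁻¹, M.inv_mem hn, c₁⁻¹, ?_, ?_⟩
  · exact Subgroup.inv_mem _ (Subgroup.centralizer_le (le_sup_left : B ≤ B ⊔ Z) hc₁)
  · calc c = (c⁻¹)⁻¹ := by group
      _ = (c₁ * n)⁻¹ := by rw [hcn]
      _ = n⁻¹ * c₁⁻¹ := by group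

end Cfsg.Agent.Helper33
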