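import Cfsg.Agent.Helper33.FNCentralLift
import Cfsg.Agent.S3081
import Cfsg.Agent.Lib.ZJ8
import Cfsg.Agent.Helper37.InvolvesQuotient

/-!
# Control of strong fusion above a central `p`-subgroup in a `Qd(p)`-free group (helper33, for S1953)
-/

set_option autoImplicit false
set_option linter.style.haveILetI false

namespace Cfsg.Agent.Helper33

/-- In a `Qd(p)`-free group `X` (`p` odd) with Sylow `p`-subgroup `S` and central `p`-subgroup `Z`, the preimage
`U` of `Z(J(S/Z))` is a subgroup with `Z ≤ U ≤ S`, normal in `S`, strictly larger than `Z` unless `S = Z`, whose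
normalizer controls strong fusion in `S`. -/
theorem exists_ctl_above_central {X : Type*} [Group X] [Finite X] {p : ℕ} [Fact p.Prime] (hp : p ≠ 2)
    (hqd : ¬ Cfsg.Involves ↥(Cfsg.qd p) X) (S : Sylow p X) (Z : Subgroup X)
    (hZc : Z ≤ Subgroup.center X) (hZS : Z ≤ (S : Subgroup X)) :
    ∃ U : Subgroup X, Z ≤ U ∧ U ≤ (S : Subgroup X) ∧ (S : Subgroup X) ≤ Subgroup.normalizer (U : Set X) ∧
      ((S : Subgroup X) ≠ Z → U ≠ Z) ∧
      ∀ B : Subgroup X, B ≤ (S : Subgroup X) → ∀ c : X,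
        B.map (MulAut.conj c).toMonoidHom ≤ (S : Subgroup X) →
        ∃ h ∈ Subgroup.normalizer (U : Set X), ∃ c' ∈ Subgroup.centralizer (B : Set X), c = h * c' := by
  haveI hZn : Z.Normal := normal_of_le_center_h33 hZc
  obtain ⟨π, hπdef⟩ : ∃ π : X →* X ⧸ Z, π = QuotientGroup.mk' Z := ⟨_, rfl⟩
  have hπ : Function.Surjective π := hπdef ▸ QuotientGroup.mk'_surjective Z
  have hker : π.ker = Z := hπdef ▸ QuotientGroup.ker_mk' Z
  obtain ⟨Sb, hSb⟩ : ∃ Sb : Sylow p (X ⧸ Z), (Sb : Subgroup (X ⧸ Z)) = (S : Subgroup X).map π :=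
    ⟨S.mapSurjective hπ, Sylow.coe_mapSurjective _ _⟩
  have hqd' : ¬ Cfsg.Involves ↥(Cfsg.qd p) (X ⧸ Z) :=
    fun h => hqd (Cfsg.Agent.Helper37.involves_of_involves_quotient Z h)
  have h3081 := (Cfsg.Agent.S3081.result hp Sb (Sb : Subgroup (X ⧸ Z)) ⟨le_rfl, fun x _ g hg => hg⟩ hqd').1
  obtain ⟨Ub, hUb⟩ : ∃ Ub : Subgroup (X ⧸ Z), Ub = Cfsg.centerThompsonAOf (Sb : Subgroup (X ⧸ Z)) :=
    ⟨_, rfl⟩
  rw [← hUb] at h3081
  have hUbS : Ub ≤ (Sb : Subgroup (X ⧸ Z)) := hUb ▸ Cfsg.Agent.Lib.ZJ.centerThompsonAOf_le _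
  have hSbN : (Sb : Subgroup (X ⧸ Z)) ≤ Subgroup.normalizer (Ub : Set (X ⧸ Z)) :=
    hUb ▸ Subgroup.le_normalizer.trans (Cfsg.Agent.Lib.ZJ.normalizer_le_normalizer_centerThompsonAOf _)
  have hNcomap : ∀ h : X, π h ∈ Subgroup.normalizer (Ub : Set (X ⧸ Z)) →
      h ∈ Subgroup.normalizer ((Ub.comap π : Subgroup X) : Set X) := by
    intro h hh
    exact Subgroup.le_normalizer_comap π (Subgroup.mem_comap.mpr hh)
  have hZU : Z ≤ Ub.comap π := by
    intro z hz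
    rw [Subgroup.mem_comap]
    have : π z = 1 := by
      have : z ∈ π.ker := hker.symm ▸ hz
      exact this
    rw [this]; exact Ub.one_mem
  have hUS : Ub.comap π ≤ (S : Subgroup X) := by
    intro u hu
    have h1 : π u ∈ (S : Subgroup X).map π := hSb ▸ hUbS (Subgroup.mem_comap.mp hu)
    obtain ⟨s, hs, hsu⟩ := h1
    have h2 : s⁻¹ * u ∈ π.ker := by
      rw [MonoidHom.mem_ker, map_mul, map_inv, hsu]; group
    rw [hker] at h2
    have : u = s * (s⁻¹ * u) := by group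
    rw [this]
    exact Subgroup.mul_mem _ hs (hZS h2)
  have hSN : (S : Subgroup X) ≤ Subgroup.normalizer ((Ub.comap π : Subgroup X) : Set X) := by
    intro s hs
    apply hNcomap
    apply hSbN
    rw [hSb]
    exact Subgroup.mem_map_of_mem _ hs
  refine ⟨Ub.comap π, hZU, hUS, hSN, ?_, ?_⟩
  · intro hne hU
    have hSb1 : (Sb : Subgroup (X ⧸ Z)) ≠ ⊥ := by
      intro hbot
      apply hne
      apply le_antisymm _ hZS
      intro s hs
      have : π s ∈ (Sb : Subgroup (X ⧸ Z)) := by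
        rw [hSb]; exact Subgroup.mem_map_of_mem _ hs
      rw [hbot, Subgroup.mem_bot] at this
      have : s ∈ π.ker := this
      rwa [hker] at this
    have hUb1 : Ub ≠ ⊥ := hUb ▸ Cfsg.Agent.Lib.ZJ.centerThompsonAOf_ne_bot Sb.2 hSb1
    apply hUb1
    rw [← Subgroup.map_comap_eq_self_of_surjective hπ Ub, hU]
    exact (Subgroup.map_eq_bot_iff _).mpr hker.ge
  · apply ctl_of_central_quotient_ctl S Z _ hZc hZS hSN
    intro T hTS _ x hx
    have hA : π '' (T : Set X) ⊆ ((Sb : Subgroup (X ⧸ Z)) : Set (X ⧸ Z)) := by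
      rintro _ ⟨t, ht, rfl⟩
      show π t ∈ (Sb : Subgroup (X ⧸ Z))
      rw [hSb]
      exact Subgroup.mem_map_of_mem _ (hTS ht)
    have hgA : (fun a => π x * a * (π x)⁻¹) '' (π '' (T : Set X)) ⊆
        ((Sb : Subgroup (X ⧸ Z)) : Set (X ⧸ Z)) := by
      rintro _ ⟨_, ⟨t, ht, rfl⟩, rfl⟩
      show π x * π t * (π x)⁻¹ ∈ (Sb : Subgroup (X ⧸ Z))
      rw [hSb, ← map_inv, ← map_mul, ← map_mul]
      exact Subgroup.mem_map_of_mem _ (hTS ((Subgroup.mem_normalizer_iff.mp hx t).mp ht))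
    obtain ⟨xb, hxb, hxba⟩ := (h3081 _ hA).2 (π x) hgA
    obtain ⟨h, rfl⟩ := hπ xb
    refine ⟨h, hNcomap h hxb, ?_⟩
    intro t ht
    have h1 := hxba (π t) ⟨t, ht, rfl⟩
    have h2 : (h * t * h⁻¹)⁻¹ * (x * t * x⁻¹) ∈ π.ker := by
      rw [MonoidHom.mem_ker, map_mul, map_inv]
      simp only [map_mul, map_inv]
      rw [h1]; group
    rw [hker] at h2
    exact ⟨_, h2, by group⟩

end Cfsg.Agent.Helper33
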