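import Cfsg.Agent.Helper33.FNRelLift
import Cfsg.Agent.Helper33.FNCentralZJ
import Cfsg.Agent.S5299

/-!
# The largest subgroup whose normalizer controls strong fusion is centric (helper33, for S1953)
-/

set_option autoImplicit false
set_option linter.style.haveILetI false

namespace Cfsg.Agent.Helper33

theorem involves_of_involves_subgroup_h33 {G : Type*} [Group G] (M : Subgroup G) {Q : Type*} [Group Q]
    (h : Cfsg.Involves Q ↥M) : Cfsg.Involves Q G := by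
  obtain ⟨K', R', hn, ⟨e⟩⟩ := h
  have := hn
  exact Cfsg.Agent.S5299.involves_of_inj_surj (M.subtype.comp K'.subtype)
    (M.subtype_injective.comp K'.subtype_injective)
    (e.toMonoidHom.comp (QuotientGroup.mk' (R'.subgroupOf K')))
    (e.surjective.comp (QuotientGroup.mk'_surjective _))

theorem FN_max_centric {G : Type*} [Group G] [Finite G] {p : ℕ} [Fact p.Prime] (hp : p ≠ 2)
    (hqd : ¬ Cfsg.Involves ↥(Cfsg.qd p) G) (P : Sylow p G) (Q₀ : Subgroup G)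
    (hQ₀P : Q₀ ≤ (P : Subgroup G)) (hFN : FN (P : Subgroup G) Q₀)
    (hmax : ∀ Q : Subgroup G, Q ≤ (P : Subgroup G) → FN (P : Subgroup G) Q → Q ≤ Q₀) :
    (P : Subgroup G) ⊓ Subgroup.centralizer (Q₀ : Set G) ≤ Q₀ := by
  obtain ⟨N₀, hN₀⟩ : ∃ N₀ : Subgroup G, N₀ = Subgroup.normalizer (Q₀ : Set G) := ⟨_, rfl⟩
  obtain ⟨C, hC⟩ : ∃ C : Subgroup G, C = Subgroup.centralizer (Q₀ : Set G) := ⟨_, rfl⟩
  rw [← hC]
  have hCN : C ≤ N₀ := by rw [hC, hN₀]; exact Subgroup.centralizer_le_normalizer _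
  have hNC : N₀ ≤ Subgroup.normalizer (C : Set G) := by
    rw [hC, hN₀]; exact normalizer_le_normalizer_centralizer_h33 Q₀
  have hPN : (P : Subgroup G) ≤ N₀ := hN₀ ▸ hFN.le_normalizer hQ₀P
  -- the Sylow subgroup of `C`
  have hidxN : ¬ p ∣ (P : Subgroup G).relIndex N₀ := by
    intro hd
    apply P.not_dvd_index
    rw [← Subgroup.relIndex_mul_index hPN]
    exact dvd_mul_of_dvd_left hd _
  have hidxC : ¬ p ∣ ((P : Subgroup G).subgroupOf C).index := by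
    have := not_dvd_relIndex_inf_of_le_normalizer (K := (P : Subgroup G)) (L := N₀) (M := C) P.2 hidxN hCN hNC
    rwa [Subgroup.inf_relIndex_right] at this
  have hSXp : IsPGroup p ↥((P : Subgroup G).subgroupOf C) := P.2.comap_subtype
  obtain ⟨SX, hSX⟩ : ∃ SX : Sylow p ↥C, (SX : Subgroup ↥C) = (P : Subgroup G).subgroupOf C :=
    ⟨hSXp.toSylow hidxC, rfl⟩
  have hmemSX : ∀ x : ↥C, x ∈ (SX : Subgroup ↥C) ↔ (x : G) ∈ (P : Subgroup G) := by
    intro x; rw [hSX, Subgroup.mem_subgroupOf]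
  obtain ⟨ZX, hZX⟩ : ∃ ZX : Subgroup ↥C, ZX = Q₀.subgroupOf C := ⟨_, rfl⟩
  have hmemZX : ∀ x : ↥C, x ∈ ZX ↔ (x : G) ∈ Q₀ := by
    intro x; rw [hZX, Subgroup.mem_subgroupOf]
  have hZXc : ZX ≤ Subgroup.center ↥C := by
    intro z hz
    rw [Subgroup.mem_center_iff]
    intro c
    apply Subtype.ext
    have hc : (c : G) ∈ Subgroup.centralizer (Q₀ : Set G) := hC ▸ c.2
    have := Subgroup.mem_centralizer_iff.mp hc (z : G) ((hmemZX z).mp hz)
    simpa using this.symm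
  have hZXS : ZX ≤ (SX : Subgroup ↥C) := by
    intro z hz
    exact (hmemSX z).mpr (hQ₀P ((hmemZX z).mp hz))
  have hqdX : ¬ Cfsg.Involves ↥(Cfsg.qd p) ↥C := fun h => hqd (involves_of_involves_subgroup_h33 C h)
  obtain ⟨UX, hZU, hUS, hSU, hne, hctl⟩ := exists_ctl_above_central hp hqdX SX ZX hZXc hZXS
  obtain ⟨V, hVdef⟩ : ∃ V : Subgroup G, V = UX.map C.subtype := ⟨_, rfl⟩
  have hV : V ≤ (P : Subgroup G) ⊓ C := by
    rw [hVdef]
    rintro _ ⟨u, hu, rfl⟩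
    exact Subgroup.mem_inf.mpr ⟨(hmemSX u).mp (hUS hu), u.2⟩
  have hVn : (P : Subgroup G) ⊓ C ≤ Subgroup.normalizer (V : Set G) := by
    intro x hx
    have hxC := (Subgroup.mem_inf.mp hx).2
    have h1 : (⟨x, hxC⟩ : ↥C) ∈ Subgroup.normalizer (UX : Set ↥C) :=
      hSU ((hmemSX _).mpr (Subgroup.mem_inf.mp hx).1)
    rw [hVdef]
    exact Subgroup.le_normalizer_map C.subtype ⟨⟨x, hxC⟩, h1, rfl⟩
  have hctrl : ∀ A : Subgroup G, A ≤ (P : Subgroup G) ⊓ C → ∀ n ∈ C,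
      A.map (MulAut.conj n).toMonoidHom ≤ (P : Subgroup G) →
      ∃ h ∈ C ⊓ Subgroup.normalizer (V : Set G), ∃ c ∈ C ⊓ Subgroup.centralizer (A : Set G), n = h * c := by
    intro A hA n hn hnA
    have hB : A.subgroupOf C ≤ (SX : Subgroup ↥C) := by
      intro b hb
      exact (hmemSX b).mpr (Subgroup.mem_inf.mp (hA (Subgroup.mem_subgroupOf.mp hb))).1
    have hcB : (A.subgroupOf C).map (MulAut.conj (⟨n, hn⟩ : ↥C)).toMonoidHom ≤ (SX : Subgroup ↥C) := by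
      rw [map_conj_le_iff]
      intro b hb
      rw [hmemSX]
      exact (map_conj_le_iff A _ n).mp hnA (b : G) (Subgroup.mem_subgroupOf.mp hb)
    obtain ⟨h, hh, c, hc, hnhc⟩ := hctl _ hB ⟨n, hn⟩ hcB
    refine ⟨(h : G), Subgroup.mem_inf.mpr ⟨h.2, ?_⟩, (c : G), Subgroup.mem_inf.mpr ⟨c.2, ?_⟩,
      congrArg Subtype.val hnhc⟩
    · rw [hVdef]
      exact Subgroup.le_normalizer_map C.subtype ⟨h, hh, rfl⟩
    · rw [Subgroup.mem_centralizer_iff]
      intro a ha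
      have haC : a ∈ C := (Subgroup.mem_inf.mp (hA ha)).2
      have := Subgroup.mem_centralizer_iff.mp hc ⟨a, haC⟩ (Subgroup.mem_subgroupOf.mpr ha)
      exact congrArg Subtype.val this
  obtain ⟨W, hVW, hWPC, hWctl⟩ := exists_lift_control_rel N₀ C hCN hNC P hPN V hV hVn hctrl
  have hFNW : FN (P : Subgroup G) W := hFN.comp (fun A hA n hn hnA => hWctl A hA n (hN₀ ▸ hn) hnA)
  have hWQ : W ≤ Q₀ := hmax W (hWPC.trans inf_le_left) hFNW
  have hUZ : UX = ZX := by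
    apply le_antisymm _ hZU
    intro u hu
    rw [hmemZX]
    apply hWQ
    apply hVW
    rw [hVdef]
    exact ⟨u, hu, rfl⟩
  have hSZ : (SX : Subgroup ↥C) = ZX := by
    by_contra hcon
    exact hne hcon hUZ
  intro d hd
  have hdC := (Subgroup.mem_inf.mp hd).2
  have h1 : (⟨d, hdC⟩ : ↥C) ∈ (SX : Subgroup ↥C) := (hmemSX _).mpr (Subgroup.mem_inf.mp hd).1
  rw [hSZ] at h1
  exact (hmemZX _).mp h1

end Cfsg.Agent.Helper33
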