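import Cfsg.Agent.Helper33.FNBasic
import Cfsg.Agent.Helper33.SylowSub
import Cfsg.Agent.Helper33.QdFreeOfAut

/-!
# A subgroup whose normalizer controls strong fusion lies in every centric radical subgroup
(helper33, for S1953)
-/

set_option autoImplicit false
set_option linter.style.haveILetI false

open scoped Pointwise

namespace Cfsg.Agent.Helper33

variable {G : Type*} [Group G]

/-- Second isomorphism theorem for relative indices, normalizer form. -/
theorem relIndex_sup_of_le_normalizer {H T : Subgroup G} (h : H ≤ Subgroup.normalizer (T : Set G)) :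
    T.relIndex (H ⊔ T) = T.relIndex H := by
  obtain ⟨N, hN⟩ : ∃ N : Subgroup G, N = Subgroup.normalizer (T : Set G) := ⟨_, rfl⟩
  rw [← hN] at h
  have hTN : T ≤ N := hN ▸ Subgroup.le_normalizer
  haveI : (T.subgroupOf N).Normal := (Subgroup.normal_subgroupOf_iff_le_normalizer hTN).mpr hN.le
  have h1 := Subgroup.relIndex_sup_right (H := H.subgroupOf N) (K := T.subgroupOf N)
  rw [← Subgroup.subgroupOf_sup h hTN, Subgroup.relIndex_subgroupOf (sup_le h hTN),
    Subgroup.relIndex_subgroupOf h] at h1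
  exact h1

/-- A subgroup `Q₀ ≤ P` whose normalizer controls strong fusion in `P` is contained in every centric radical
subgroup `R` of `P`. -/
theorem FN_le_of_centric_radical [Finite G] {p : ℕ} [hp : Fact p.Prime] (P : Sylow p G) (Q₀ R : Subgroup G)
    (hQ₀P : Q₀ ≤ (P : Subgroup G)) (hFN : FN (P : Subgroup G) Q₀) (hRP : R ≤ (P : Subgroup G))
    (hRcen : ∃ R' : Sylow p ↥(Subgroup.centralizer (R : Set G)),
      (R' : Subgroup ↥(Subgroup.centralizer (R : Set G))).map (Subgroup.centralizer (R : Set G)).subtype =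
        R ⊓ Subgroup.centralizer (R : Set G))
    (hRrad : ∀ X : Subgroup G, X ≤ Subgroup.normalizer (R : Set G) →
      (∀ n ∈ Subgroup.normalizer (R : Set G), X.map (MulAut.conj n).toMonoidHom = X) →
      R ⊔ Subgroup.centralizer (R : Set G) ≤ X →
      (∃ k : ℕ, (R ⊔ Subgroup.centralizer (R : Set G)).relIndex X = p ^ k) →
      X = R ⊔ Subgroup.centralizer (R : Set G)) :
    Q₀ ≤ R := by
  -- `C_P(R) ≤ R`
  have hPC : (P : Subgroup G) ⊓ Subgroup.centralizer (R : Set G) ≤ R := by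
    obtain ⟨R', hR'⟩ := hRcen
    have hle : (R' : Subgroup ↥(Subgroup.centralizer (R : Set G))) ≤
        ((P : Subgroup G) ⊓ Subgroup.centralizer (R : Set G)).subgroupOf (Subgroup.centralizer (R : Set G)) := by
      intro x hx
      rw [Subgroup.mem_subgroupOf]
      have : (x : G) ∈ R ⊓ Subgroup.centralizer (R : Set G) := hR' ▸ Subgroup.mem_map_of_mem _ hx
      exact Subgroup.mem_inf.mpr ⟨hRP (Subgroup.mem_inf.mp this).1, x.2⟩
    have hpg : IsPGroup p ↥(((P : Subgroup G) ⊓ Subgroup.centralizer (R : Set G)).subgroupOf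
        (Subgroup.centralizer (R : Set G))) :=
      (P.2.to_le inf_le_left).comap_subtype
    have heq := R'.is_maximal' hpg hle
    intro c hc
    have hcC := (Subgroup.mem_inf.mp hc).2
    have h1 : (⟨c, hcC⟩ : ↥(Subgroup.centralizer (R : Set G))) ∈
        ((P : Subgroup G) ⊓ Subgroup.centralizer (R : Set G)).subgroupOf (Subgroup.centralizer (R : Set G)) :=
      Subgroup.mem_subgroupOf.mpr hc
    rw [heq] at h1
    have h2 : c ∈ (R' : Subgroup ↥(Subgroup.centralizer (R : Set G))).map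
        (Subgroup.centralizer (R : Set G)).subtype := ⟨⟨c, hcC⟩, h1, rfl⟩
    rw [hR'] at h2
    exact (Subgroup.mem_inf.mp h2).1
  obtain ⟨NR, hNR⟩ : ∃ NR : Subgroup G, NR = Subgroup.normalizer (R : Set G) := ⟨_, rfl⟩
  obtain ⟨CR, hCR⟩ : ∃ CR : Subgroup G, CR = Subgroup.centralizer (R : Set G) := ⟨_, rfl⟩
  rw [← hNR, ← hCR] at hRrad
  rw [← hCR] at hPC
  have hCN : CR ≤ NR := by rw [hCR, hNR]; exact Subgroup.centralizer_le_normalizer _
  have hRN : R ≤ NR := hNR ▸ Subgroup.le_normalizer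
  have hNC : NR ≤ Subgroup.normalizer (CR : Set G) := by
    rw [hCR, hNR]; exact normalizer_le_normalizer_centralizer_h33 R
  have hPN₀ : (P : Subgroup G) ≤ Subgroup.normalizer (Q₀ : Set G) := hFN.le_normalizer hQ₀P
  -- `Y₀ = N_{Q₀}(R)`
  obtain ⟨Y₀, hY₀⟩ : ∃ Y₀ : Subgroup G, Y₀ = Q₀ ⊓ NR := ⟨_, rfl⟩
  have hY₀Q : Y₀ ≤ Q₀ := hY₀ ▸ inf_le_left
  have hY₀N : Y₀ ≤ NR := hY₀ ▸ inf_le_right
  obtain ⟨T, hT⟩ : ∃ T : Subgroup G, T = R ⊔ CR := ⟨_, rfl⟩
  rw [← hT] at hRrad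
  have hTN : T ≤ NR := hT ▸ sup_le hRN hCN
  have hNT : NR ≤ Subgroup.normalizer (T : Set G) := by
    rw [hT]
    exact (le_inf (hNR ▸ le_rfl) hNC).trans (Subgroup.normalizer_inf_normalizer_le_normalizer_sup _ _)
  obtain ⟨X, hX⟩ : ∃ X : Subgroup G, X = Y₀ ⊔ T := ⟨_, rfl⟩
  have hXN : X ≤ NR := hX ▸ sup_le hY₀N hTN
  have hXle : ∀ n ∈ NR, X.map (MulAut.conj n).toMonoidHom ≤ X := by
    intro n hn
    rw [hX, Subgroup.map_sup]
    apply sup_le
    · rw [map_conj_le_iff]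
      intro y hy
      have hnR : R.map (MulAut.conj n).toMonoidHom ≤ (P : Subgroup G) := by
        rw [map_conj_eq_of_mem_normalizer (hNR ▸ hn)]; exact hRP
      obtain ⟨h, hh, c, hc, rfl⟩ := hFN R hRP n hnR
      have hcC : c ∈ CR := hCR ▸ hc
      have hhN : h ∈ NR := by
        have := NR.mul_mem hn (NR.inv_mem (hCN hcC))
        have e : h * c * c⁻¹ = h := by group
        rwa [e] at this
      have hyN : y ∈ NR := hY₀N hy
      have hc' : c * y * c⁻¹ * y⁻¹ ∈ CR := by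
        have h1 : y * c⁻¹ * y⁻¹ ∈ CR :=
          (Subgroup.mem_normalizer_iff.mp (hNC hyN) _).mp (CR.inv_mem hcC)
        have := CR.mul_mem hcC h1
        have e : c * (y * c⁻¹ * y⁻¹) = c * y * c⁻¹ * y⁻¹ := by group
        rwa [e] at this
      have h1 : h * (c * y * c⁻¹ * y⁻¹) * h⁻¹ ∈ CR := (Subgroup.mem_normalizer_iff.mp (hNC hhN) _).mp hc'
      have h2 : h * y * h⁻¹ ∈ Y₀ := by
        rw [hY₀]
        refine Subgroup.mem_inf.mpr ⟨(Subgroup.mem_normalizer_iff.mp hh _).mp (hY₀Q hy), ?_⟩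
        exact NR.mul_mem (NR.mul_mem hhN hyN) (NR.inv_mem hhN)
      have e : h * c * y * (h * c)⁻¹ = (h * (c * y * c⁻¹ * y⁻¹) * h⁻¹) * (h * y * h⁻¹) := by group
      rw [e]
      exact Subgroup.mul_mem _ ((le_sup_right : T ≤ Y₀ ⊔ T) (hT ▸ (le_sup_right : CR ≤ R ⊔ CR) h1))
        ((le_sup_left : Y₀ ≤ Y₀ ⊔ T) h2)
    · rw [map_conj_eq_of_mem_normalizer (hNT hn)]
      exact le_sup_right
  have hXinv : ∀ n ∈ NR, X.map (MulAut.conj n).toMonoidHom = X := by
    intro n hn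
    apply le_antisymm (hXle n hn)
    have h1 := Subgroup.map_mono (f := (MulAut.conj n).toMonoidHom) (hXle n⁻¹ (NR.inv_mem hn))
    rw [map_conj_map_conj, mul_inv_cancel, map_conj_one] at h1
    exact h1
  have hY₀p : IsPGroup p ↥Y₀ := P.2.to_le (hY₀Q.trans hQ₀P)
  have hidx : ∃ k : ℕ, T.relIndex X = p ^ k := by
    rw [hX, relIndex_sup_of_le_normalizer (hY₀N.trans hNT)]
    obtain ⟨a, ha⟩ := hY₀p.exists_card_eq
    have h1 : T.relIndex Y₀ ∣ p ^ a := ha ▸ Subgroup.index_dvd_card (T.subgroupOf Y₀)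
    obtain ⟨j, _, hj⟩ := (Nat.dvd_prime_pow hp.out).mp h1
    exact ⟨j, hj⟩
  have hXT : X = T := hRrad X hXN hXinv (hX ▸ le_sup_right) hidx
  have hY₀T : Y₀ ≤ T := hXT ▸ (hX ▸ le_sup_left)
  -- `Y₀ ≤ R`
  have hY₀R : Y₀ ≤ R := by
    intro y hy
    have hy' : y ∈ ((R ⊔ CR : Subgroup G) : Set G) := hT ▸ hY₀T hy
    rw [Subgroup.coe_mul_of_left_le_normalizer_right R CR (hRN.trans hNC)] at hy'
    obtain ⟨r, hr, c, hc, rfl⟩ := hy'
    have hcP : c ∈ (P : Subgroup G) := by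
      have := (P : Subgroup G).mul_mem ((P : Subgroup G).inv_mem (hRP hr)) (hQ₀P (hY₀Q hy))
      have e : r⁻¹ * (r * c) = c := by group
      rwa [e] at this
    exact R.mul_mem hr (hPC (Subgroup.mem_inf.mpr ⟨hcP, hc⟩))
  -- normalizers grow
  by_contra hcon
  have hne : R ≠ Q₀ ⊔ R := by
    intro h
    apply hcon
    rw [h]
    exact le_sup_left
  have hTp : IsPGroup p ↥(Q₀ ⊔ R) := P.2.to_le (sup_le hQ₀P hRP)
  obtain ⟨x, hxT, hxN, hxR⟩ := exists_mem_normalizer_not_mem hTp le_sup_right hne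
  have hx' : x ∈ ((Q₀ ⊔ R : Subgroup G) : Set G) := hxT
  rw [Subgroup.coe_mul_of_right_le_normalizer_left Q₀ R (hRP.trans hPN₀)] at hx'
  obtain ⟨q, hq, r, hr, rfl⟩ := hx'
  apply hxR
  have hqN : q ∈ NR := by
    have := NR.mul_mem (hNR ▸ hxN) (NR.inv_mem (hRN hr))
    have e : q * r * r⁻¹ = q := by group
    rwa [e] at this
  exact R.mul_mem (hY₀R (hY₀ ▸ Subgroup.mem_inf.mpr ⟨hq, hqN⟩)) hr

end Cfsg.Agent.Helper33
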