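import Cfsg.Agent.Helper33.FNBasic
import Cfsg.Agent.Helper33.TwoFunctor
import Cfsg.Agent.Helper33.QdFreeOfAut
import Mathlib.GroupTheory.Transfer

/-!
# The largest subgroup whose normalizer controls strong fusion is radical (helper33, for S1953)
-/

set_option autoImplicit false
set_option linter.style.haveILetI false

open scoped Pointwise

namespace Cfsg.Agent.Helper33

variable {G : Type*} [Group G]

/-- A `p`-subgroup `B` normalizing a `p'`-subgroup `L` has index prime to `p` in `L B`. -/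
theorem not_dvd_relIndex_sup_of_coprime [Finite G] {p : ℕ} [hp : Fact p.Prime] {L B : Subgroup G}
    (hL : (Nat.card L).Coprime p) (hB : IsPGroup p ↥B) (hBL : B ≤ Subgroup.normalizer (L : Set G)) :
    ¬ p ∣ B.relIndex (L ⊔ B) := by
  intro hd
  obtain ⟨b, hb⟩ := hB.exists_card_eq
  have hsurj : Function.Surjective (fun x : ↥L × ↥B => (⟨(x.1 : G) * (x.2 : G),
      Subgroup.mul_mem _ ((le_sup_left : L ≤ L ⊔ B) x.1.2) ((le_sup_right : B ≤ L ⊔ B) x.2.2)⟩ : ↥(L ⊔ B))) := by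
    intro y
    have hy : (y : G) ∈ ((L ⊔ B : Subgroup G) : Set G) := y.2
    rw [Subgroup.coe_mul_of_right_le_normalizer_left L B hBL] at hy
    obtain ⟨l, hl, b', hb', hlb⟩ := hy
    exact ⟨(⟨l, hl⟩, ⟨b', hb'⟩), Subtype.ext hlb⟩
  have hle : Nat.card ↥(L ⊔ B) ≤ Nat.card L * Nat.card B := by
    have := Nat.card_le_card_of_surjective _ hsurj
    rwa [Nat.card_prod] at this
  have hcard : Nat.card B * B.relIndex (L ⊔ B) = Nat.card ↥(L ⊔ B) := by
    rw [← Subgroup.relIndex_bot_left, ← Subgroup.relIndex_bot_left (H := L ⊔ B)]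
    exact Subgroup.relIndex_mul_relIndex _ _ _ bot_le le_sup_right
  have h1 : p ^ (b + 1) ∣ Nat.card ↥(L ⊔ B) := by
    rw [← hcard, hb, pow_succ]
    exact Nat.mul_dvd_mul_left _ hd
  have h2 : Nat.card L ∣ Nat.card ↥(L ⊔ B) := Subgroup.card_dvd_of_le le_sup_left
  have h3 : Nat.card L * p ^ (b + 1) ∣ Nat.card ↥(L ⊔ B) :=
    Nat.Coprime.mul_dvd_of_dvd_of_dvd (Nat.Coprime.pow_right _ hL) h2 h1
  have h4 : Nat.card L * p ^ (b + 1) ≤ Nat.card L * p ^ b := by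
    have := Nat.le_of_dvd Nat.card_pos h3
    rw [hb] at hle
    exact this.trans hle
  have hLpos : 0 < Nat.card L := Nat.card_pos
  have h5 : p ^ (b + 1) ≤ p ^ b := Nat.le_of_mul_le_mul_left h4 hLpos
  have h6 : p ^ b < p ^ (b + 1) := Nat.pow_lt_pow_right hp.out.one_lt (Nat.lt_succ_self b)
  omega

/-- Coprime fusion: if `k ∈ K` (a `p'`-group normalized by the `p`-group `B`) moves `B` only modulo
`L ≤ K`, then `k` is, modulo `L`, in the centralizer of `B`. -/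
theorem exists_mem_centralizer_of_comm_mem [Finite G] {p : ℕ} [hp : Fact p.Prime] {K L B : Subgroup G}
    (hLK : L ≤ K) (hK : (Nat.card K).Coprime p) (hB : IsPGroup p ↥B)
    (hBK : B ≤ Subgroup.normalizer (K : Set G)) (hBL : B ≤ Subgroup.normalizer (L : Set G))
    {k : G} (hk : k ∈ K) (hkB : ∀ b ∈ B, k * b * k⁻¹ * b⁻¹ ∈ L) :
    ∃ u ∈ L, u⁻¹ * k ∈ Subgroup.centralizer (B : Set G) := by
  have hLcop : (Nat.card L).Coprime p := Nat.Coprime.coprime_dvd_left (Subgroup.card_dvd_of_le hLK) hK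
  have hidx := not_dvd_relIndex_sup_of_coprime hLcop hB hBL
  have hB'le : B.map (MulAut.conj k).toMonoidHom ≤ L ⊔ B := by
    rw [map_conj_le_iff]
    intro b hb
    have e : k * b * k⁻¹ = (k * b * k⁻¹ * b⁻¹) * b := by group
    rw [e]
    exact Subgroup.mul_mem _ ((le_sup_left : L ≤ L ⊔ B) (hkB b hb)) ((le_sup_right : B ≤ L ⊔ B) hb)
  obtain ⟨y, hy, hyB⟩ := exists_conj_le_of_not_dvd_relIndex (le_sup_right : B ≤ L ⊔ B) hB hidx hB'le
    (hB.map _)
  have hy' : y ∈ ((B ⊔ L : Subgroup G) : Set G) := by rw [sup_comm]; exact hy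
  rw [Subgroup.coe_mul_of_left_le_normalizer_right B L hBL] at hy'
  obtain ⟨b₀, hb₀, l, hl, rfl⟩ := hy'
  have hKB : ∀ x ∈ K, x ∈ B → x = 1 := by
    intro x hxK hxB
    obtain ⟨j, hj⟩ := hB ⟨x, hxB⟩
    have hj' : x ^ (p ^ j) = 1 := by simpa using congrArg Subtype.val hj
    have h1 : orderOf x ∣ p ^ j := orderOf_dvd_of_pow_eq_one hj'
    have h2 : orderOf x ∣ Nat.card K := by
      have := orderOf_dvd_natCard (⟨x, hxK⟩ : ↥K)
      rwa [Subgroup.orderOf_mk] at this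
    have h3 : orderOf x ∣ 1 := by
      have := Nat.dvd_gcd h2 h1
      rwa [Nat.Coprime.pow_right j hK] at this
    exact orderOf_eq_one_iff.mp (Nat.dvd_one.mp h3)
  refine ⟨l⁻¹, L.inv_mem hl, ?_⟩
  rw [inv_inv, Subgroup.mem_centralizer_iff]
  intro b hb
  have h1 : b₀ * l * (k * b * k⁻¹) * (b₀ * l)⁻¹ ∈ B := hyB _ (conj_mem_map_conj B k hb)
  have h2 : (l * k) * b * (l * k)⁻¹ ∈ B := by
    have := B.mul_mem (B.mul_mem (B.inv_mem hb₀) h1) hb₀
    have e : b₀⁻¹ * (b₀ * l * (k * b * k⁻¹) * (b₀ * l)⁻¹) * b₀ = (l * k) * b * (l * k)⁻¹ := by group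
    rwa [e] at this
  have hwK : l * k ∈ K := K.mul_mem (hLK hl) hk
  have h3 : (l * k) * b * (l * k)⁻¹ * b⁻¹ ∈ K := by
    have hbK : b * (l * k)⁻¹ * b⁻¹ ∈ K :=
      (Subgroup.mem_normalizer_iff.mp (hBK hb) _).mp (K.inv_mem hwK)
    have := K.mul_mem hwK hbK
    have e : l * k * (b * (l * k)⁻¹ * b⁻¹) = (l * k) * b * (l * k)⁻¹ * b⁻¹ := by group
    rwa [e] at this
  have h4 := hKB _ h3 (B.mul_mem h2 (B.inv_mem hb))
  calc b * (l * k) = ((l * k) * b * (l * k)⁻¹ * b⁻¹)⁻¹ * ((l * k) * b) := by group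
    _ = l * k * b := by rw [h4, inv_one, one_mul]

/-- A subgroup `C` with a central Sylow `p`-subgroup `Z` has a `p`-complement `K`, normalized by `N_G(C)`,
with `C = K Z`. -/
theorem exists_pcomplement_of_central_sylow [Finite G] {p : ℕ} [hp : Fact p.Prime] {C Z : Subgroup G}
    (hZp : IsPGroup p ↥Z) (hidx : ¬ p ∣ Z.relIndex C)
    (hcen : C ≤ Subgroup.centralizer (Z : Set G)) :
    ∃ K : Subgroup G, K ≤ C ∧ (Nat.card K).Coprime p ∧
      Subgroup.normalizer (C : Set G) ≤ Subgroup.normalizer (K : Set G) ∧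
      ∀ c ∈ C, ∃ k ∈ K, ∃ z ∈ Z, c = k * z := by
  have hZ'p : IsPGroup p ↥(Z.subgroupOf C) := hZp.comap_subtype
  obtain ⟨S, hS⟩ : ∃ S : Sylow p ↥C, (S : Subgroup ↥C) = Z.subgroupOf C := ⟨hZ'p.toSylow hidx, rfl⟩
  have hmemS : ∀ x : ↥C, x ∈ (S : Subgroup ↥C) ↔ (x : G) ∈ Z := by
    intro x; rw [hS, Subgroup.mem_subgroupOf]
  have hNC : Subgroup.normalizer ((S : Subgroup ↥C) : Set ↥C) ≤
      Subgroup.centralizer ((S : Subgroup ↥C) : Set ↥C) := by
    intro c _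
    rw [Subgroup.mem_centralizer_iff]
    intro x hx
    apply Subtype.ext
    exact Subgroup.mem_centralizer_iff.mp (hcen c.2) (x : G) ((hmemS x).mp hx)
  have hcompl := MonoidHom.ker_transferSylow_isComplement' S hNC
  obtain ⟨K', hK'⟩ : ∃ K' : Subgroup ↥C, K' = (MonoidHom.transferSylow S hNC).ker := ⟨_, rfl⟩
  rw [← hK'] at hcompl
  haveI hK'n : K'.Normal := hK' ▸ MonoidHom.normal_ker _
  have hK'cop : (Nat.card K').Coprime p := by
    rw [← hcompl.index_eq_card]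
    exact ((Nat.Prime.coprime_iff_not_dvd hp.out).mpr S.not_dvd_index).symm
  obtain ⟨a, ha⟩ := IsPGroup.iff_card.mp S.2
  have hqcard : Nat.card (↥C ⧸ K') = p ^ a := by
    rw [← Subgroup.index_eq_card, hcompl.symm.index_eq_card]
    exact ha
  have hchar : ∀ c : ↥C, c ^ Nat.card K' = 1 → c ∈ K' := by
    intro c hc
    rw [← QuotientGroup.eq_one_iff]
    have h1 : (QuotientGroup.mk c : ↥C ⧸ K') ^ Nat.card K' = 1 := by
      rw [← QuotientGroup.mk_pow, hc]; rfl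
    have h2 : (QuotientGroup.mk c : ↥C ⧸ K') ^ (p ^ a) = 1 := by
      rw [← hqcard]; exact pow_card_eq_one'
    have h3 : orderOf (QuotientGroup.mk c : ↥C ⧸ K') ∣ 1 := by
      have := Nat.dvd_gcd (orderOf_dvd_of_pow_eq_one h1) (orderOf_dvd_of_pow_eq_one h2)
      rwa [Nat.Coprime.pow_right a hK'cop] at this
    exact orderOf_eq_one_iff.mp (Nat.dvd_one.mp h3)
  refine ⟨K'.map C.subtype, Subgroup.map_subtype_le _, ?_, ?_, ?_⟩
  · rw [Subgroup.card_map_of_injective C.subtype_injective]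
    exact hK'cop
  · have key : ∀ n ∈ Subgroup.normalizer (C : Set G), ∀ k ∈ K'.map C.subtype,
        n * k * n⁻¹ ∈ K'.map C.subtype := by
      rintro n hn _ ⟨k', hk', rfl⟩
      have hkC : n * (k' : G) * n⁻¹ ∈ C := (Subgroup.mem_normalizer_iff.mp hn _).mp k'.2
      refine ⟨⟨n * (k' : G) * n⁻¹, hkC⟩, ?_, rfl⟩
      apply hchar
      apply Subtype.ext
      have h1 : (⟨k', hk'⟩ : ↥K') ^ Nat.card K' = 1 := pow_card_eq_one'
      have h2 : (k' : G) ^ Nat.card K' = 1 := by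
        have h3 : (k' : ↥C) ^ Nat.card K' = 1 := by
          have := congrArg Subtype.val h1
          simpa only [Subgroup.coe_pow, Subgroup.coe_one] using this
        have := congrArg Subtype.val h3
        simpa only [Subgroup.coe_pow, Subgroup.coe_one] using this
      show (n * (k' : G) * n⁻¹) ^ Nat.card K' = 1
      rw [conj_pow, h2]; group
    intro n hn
    apply mem_normalizer_of_conjR_subset
    rintro _ ⟨k, hk, rfl⟩
    have := key n⁻¹ (Subgroup.inv_mem _ hn) k hk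
    rwa [inv_inv] at this
  · intro c hc
    have h1 : (⟨c, hc⟩ : ↥C) ∈ ((K' ⊔ (S : Subgroup ↥C) : Subgroup ↥C) : Set ↥C) := by
      rw [hcompl.sup_eq_top]; exact Subgroup.mem_top _
    rw [Subgroup.normal_mul] at h1
    obtain ⟨k, hk, z, hz, hkz⟩ := h1
    exact ⟨(k : G), ⟨k, hk, rfl⟩, (z : G), (hmemS z).mp hz, (congrArg Subtype.val hkz).symm⟩

/-- **Radical.** If `Q₀` is the largest subgroup of `P` whose normalizer controls strong fusion in `P`, and
`C_P(Q₀) ≤ Q₀`, then `N_G(Q₀)/Q₀C_G(Q₀)` has no nontrivial normal `p`-subgroup. -/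
theorem FN_max_radical [Finite G] {p : ℕ} [hp : Fact p.Prime] (P : Sylow p G) (Q₀ : Subgroup G)
    (hQ₀P : Q₀ ≤ (P : Subgroup G)) (hFN : FN (P : Subgroup G) Q₀)
    (hmax : ∀ Q : Subgroup G, Q ≤ (P : Subgroup G) → FN (P : Subgroup G) Q → Q ≤ Q₀)
    (hcen : (P : Subgroup G) ⊓ Subgroup.centralizer (Q₀ : Set G) ≤ Q₀)
    (X : Subgroup G) (hXN : X ≤ Subgroup.normalizer (Q₀ : Set G))
    (hXinv : ∀ n ∈ Subgroup.normalizer (Q₀ : Set G), X.map (MulAut.conj n).toMonoidHom = X)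
    (hle : Q₀ ⊔ Subgroup.centralizer (Q₀ : Set G) ≤ X)
    (hidx : ∃ k : ℕ, (Q₀ ⊔ Subgroup.centralizer (Q₀ : Set G)).relIndex X = p ^ k) :
    X = Q₀ ⊔ Subgroup.centralizer (Q₀ : Set G) := by
  obtain ⟨N₀, hN₀⟩ : ∃ N₀ : Subgroup G, N₀ = Subgroup.normalizer (Q₀ : Set G) := ⟨_, rfl⟩
  obtain ⟨C, hC⟩ : ∃ C : Subgroup G, C = Subgroup.centralizer (Q₀ : Set G) := ⟨_, rfl⟩
  rw [← hC] at hcen hle hidx ⊢
  rw [← hN₀] at hXN hXinv
  have hCN : C ≤ N₀ := by rw [hC, hN₀]; exact Subgroup.centralizer_le_normalizer _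
  have hNC : N₀ ≤ Subgroup.normalizer (C : Set G) := by
    rw [hC, hN₀]; exact normalizer_le_normalizer_centralizer_h33 Q₀
  have hPN : (P : Subgroup G) ≤ N₀ := hN₀ ▸ hFN.le_normalizer hQ₀P
  have hNX : N₀ ≤ Subgroup.normalizer (X : Set G) := fun n hn =>
    Subgroup.mem_normalizer_iff_map_conj_eq.mpr (hXinv n hn)
  have hidxN : ¬ p ∣ (P : Subgroup G).relIndex N₀ := by
    intro hd
    apply P.not_dvd_index
    rw [← Subgroup.relIndex_mul_index hPN]
    exact dvd_mul_of_dvd_left hd _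
  -- the `p`-complement of `C`
  have hZidx : ¬ p ∣ ((P : Subgroup G) ⊓ C).relIndex C :=
    not_dvd_relIndex_inf_of_le_normalizer (K := (P : Subgroup G)) (L := N₀) (M := C) P.2 hidxN hCN hNC
  have hZcen : C ≤ Subgroup.centralizer (((P : Subgroup G) ⊓ C : Subgroup G) : Set G) :=
    hC.le.trans (Subgroup.centralizer_le hcen)
  obtain ⟨K, hKC, hKcop, hKN, hKdec⟩ :=
    exists_pcomplement_of_central_sylow (P.2.to_le inf_le_left) hZidx hZcen
  have hNK : N₀ ≤ Subgroup.normalizer (K : Set G) := hNC.trans hKN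
  -- `Q₁ = P ∩ X`
  obtain ⟨Q₁, hQ₁⟩ : ∃ Q₁ : Subgroup G, Q₁ = (P : Subgroup G) ⊓ X := ⟨_, rfl⟩
  have hQ₁P : Q₁ ≤ (P : Subgroup G) := hQ₁ ▸ inf_le_left
  have hQ₁X : Q₁ ≤ X := hQ₁ ▸ inf_le_right
  have hQ₀Q₁ : Q₀ ≤ Q₁ := hQ₁ ▸ le_inf hQ₀P (le_sup_left.trans hle)
  have hQ₁p : IsPGroup p ↥Q₁ := P.2.to_le hQ₁P
  have hQ₁idx : ¬ p ∣ Q₁.relIndex X := by
    rw [hQ₁]
    exact not_dvd_relIndex_inf_of_le_normalizer (K := (P : Subgroup G)) (L := N₀) (M := X) P.2 hidxN hXN hNX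
  have hPQ₁ : (P : Subgroup G) ≤ Subgroup.normalizer (Q₁ : Set G) := by
    rw [hQ₁]
    exact (le_inf Subgroup.le_normalizer (hPN.trans hNX)).trans Subgroup.inf_normalizer_le_normalizer_inf
  have hQ₁NC : Q₁ ≤ Subgroup.normalizer (C : Set G) := (hQ₁P.trans hPN).trans hNC
  -- `X = C Q₁`
  have hXeq : X = C ⊔ Q₁ := by
    apply le_antisymm _ (sup_le (le_sup_right.trans hle) hQ₁X)
    have hY1 : Q₀ ⊔ C ≤ C ⊔ Q₁ := sup_le (hQ₀Q₁.trans le_sup_right) le_sup_left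
    obtain ⟨k, hk⟩ := hidx
    have h1 : (C ⊔ Q₁).relIndex X ∣ p ^ k := hk ▸ Subgroup.relIndex_dvd_of_le_left X hY1
    obtain ⟨j, _, hj⟩ := (Nat.dvd_prime_pow hp.out).mp h1
    have h2 : (C ⊔ Q₁).relIndex X ∣ Q₁.relIndex X := Subgroup.relIndex_dvd_of_le_left X le_sup_right
    rcases Nat.eq_zero_or_pos j with h0 | hpos
    · rw [h0, pow_zero] at hj
      exact Subgroup.relIndex_eq_one.mp hj
    · exfalso
      apply hQ₁idx
      refine dvd_trans ?_ h2
      rw [hj]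
      exact dvd_pow_self p (by omega)
  obtain ⟨M, hM⟩ : ∃ M : Subgroup G, M = N₀ ⊓ Subgroup.normalizer (Q₁ : Set G) := ⟨_, rfl⟩
  have hPM : (P : Subgroup G) ≤ M := hM ▸ le_inf hPN hPQ₁
  have hMN : M ≤ N₀ := hM ▸ inf_le_left
  have hFN₁ : FN (P : Subgroup G) Q₁ := by
    apply hFN.comp
    intro A hA n hn hnA
    rw [← hN₀] at hn
    -- Frattini
    have hQ₁n : Q₁.map (MulAut.conj n).toMonoidHom ≤ X := by
      rw [← hXinv n hn]
      exact Subgroup.map_mono hQ₁X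
    obtain ⟨y, hyX, hy⟩ := exists_conj_le_of_not_dvd_relIndex hQ₁X hQ₁p hQ₁idx hQ₁n (hQ₁p.map _)
    have hmN : y * n ∈ N₀ := N₀.mul_mem (hXN hyX) hn
    have hmQ : y * n ∈ Subgroup.normalizer (Q₁ : Set G) := by
      have h1 : (y * n)⁻¹ ∈ Subgroup.normalizer (Q₁ : Set G) := by
        apply mem_normalizer_of_conjR_subset
        rintro _ ⟨q, hq, rfl⟩
        have := hy _ (conj_mem_map_conj Q₁ n hq)
        have e : (y * n)⁻¹⁻¹ * q * (y * n)⁻¹ = y * (n * q * n⁻¹) * y⁻¹ := by group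
        show (y * n)⁻¹⁻¹ * q * (y * n)⁻¹ ∈ Q₁
        rw [e]; exact this
      have := Subgroup.inv_mem _ h1
      rwa [inv_inv] at this
    have hmM : y * n ∈ M := hM ▸ Subgroup.mem_inf.mpr ⟨hmN, hmQ⟩
    -- decompose `y⁻¹`
    have hy' : y⁻¹ ∈ ((C ⊔ Q₁ : Subgroup G) : Set G) := hXeq ▸ X.inv_mem hyX
    rw [Subgroup.coe_mul_of_right_le_normalizer_left C Q₁ hQ₁NC] at hy'
    obtain ⟨c, hc, q, hq, hcq⟩ := hy'
    obtain ⟨k, hk, z, hz, rfl⟩ := hKdec c hc
    have hzM : z ∈ M := hPM (Subgroup.mem_inf.mp hz).1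
    have hqM : q ∈ M := hPM (hQ₁P hq)
    obtain ⟨m', hm'⟩ : ∃ m' : G, m' = z * q * (y * n) := ⟨_, rfl⟩
    have hm'M : m' ∈ M := hm' ▸ M.mul_mem (M.mul_mem hzM hqM) hmM
    have hnkm : n = k * m' := by
      have hcq' : k * z * q = y⁻¹ := hcq
      calc n = y⁻¹ * (y * n) := by group
        _ = k * z * q * (y * n) := by rw [hcq']
        _ = k * m' := by rw [hm']; group
    -- coprime fusion
    obtain ⟨B, hB⟩ : ∃ B : Subgroup G, B = A.map (MulAut.conj m').toMonoidHom := ⟨_, rfl⟩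
    have hBM : B ≤ M := by
      rw [hB, map_conj_le_iff]
      intro a ha
      exact M.mul_mem (M.mul_mem hm'M (hPM (hA ha))) (M.inv_mem hm'M)
    have hBp : IsPGroup p ↥B := hB ▸ (P.2.to_le hA).map _
    have hBK : B ≤ Subgroup.normalizer (K : Set G) := hBM.trans (hMN.trans hNK)
    have hBL : B ≤ Subgroup.normalizer ((K ⊓ M : Subgroup G) : Set G) :=
      (le_inf hBK (hBM.trans Subgroup.le_normalizer)).trans Subgroup.inf_normalizer_le_normalizer_inf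
    have hkB : ∀ b ∈ B, k * b * k⁻¹ * b⁻¹ ∈ K ⊓ M := by
      intro b hb
      have hb' := hb
      rw [hB] at hb'
      obtain ⟨a, ha, rfl⟩ := hb'
      have h1 : n * a * n⁻¹ ∈ (P : Subgroup G) := (map_conj_le_iff A _ n).mp hnA a ha
      have e1 : k * ((MulAut.conj m').toMonoidHom a) * k⁻¹ = n * a * n⁻¹ := by
        rw [hnkm]
        simp only [MulEquiv.coe_toMonoidHom, MulAut.conj_apply]
        group
      refine Subgroup.mem_inf.mpr ⟨?_, ?_⟩
      · have hbK : (MulAut.conj m').toMonoidHom a * k⁻¹ * ((MulAut.conj m').toMonoidHom a)⁻¹ ∈ K :=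
          (Subgroup.mem_normalizer_iff.mp (hBK hb) _).mp (K.inv_mem hk)
        have := K.mul_mem hk hbK
        have e : k * ((MulAut.conj m').toMonoidHom a * k⁻¹ * ((MulAut.conj m').toMonoidHom a)⁻¹) =
            k * (MulAut.conj m').toMonoidHom a * k⁻¹ * ((MulAut.conj m').toMonoidHom a)⁻¹ := by group
        rwa [e] at this
      · rw [e1]
        exact M.mul_mem (hPM h1) (M.inv_mem (hBM hb))
    obtain ⟨u, hu, huk⟩ := exists_mem_centralizer_of_comm_mem (inf_le_left : K ⊓ M ≤ K) hKcop hBp hBK hBL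
      hk hkB
    refine ⟨u * m', ?_, m'⁻¹ * (u⁻¹ * k) * m', ?_, ?_⟩
    · have : u * m' ∈ M := M.mul_mem (Subgroup.mem_inf.mp hu).2 hm'M
      rw [hM] at this
      exact (Subgroup.mem_inf.mp this).2
    · rw [Subgroup.mem_centralizer_iff]
      intro a ha
      have hb : m' * a * m'⁻¹ ∈ B := hB ▸ conj_mem_map_conj A m' ha
      have := Subgroup.mem_centralizer_iff.mp huk _ hb
      calc a * (m'⁻¹ * (u⁻¹ * k) * m') = m'⁻¹ * ((m' * a * m'⁻¹) * (u⁻¹ * k)) * m' := by group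
        _ = m'⁻¹ * ((u⁻¹ * k) * (m' * a * m'⁻¹)) * m' := by rw [this]
        _ = m'⁻¹ * (u⁻¹ * k) * m' * a := by group
    · rw [hnkm]; group
  have hQ₁Q₀ : Q₁ ≤ Q₀ := hmax Q₁ hQ₁P hFN₁
  rw [hXeq]
  apply le_antisymm
  · exact sup_le le_sup_right (hQ₁Q₀.trans le_sup_left)
  · exact sup_le (hQ₀Q₁.trans le_sup_right) le_sup_left

end Cfsg.Agent.Helper33
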