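import Cfsg.Agent.Helper33.FNCentric
import Cfsg.Agent.Helper33.FNRadical
import Cfsg.Agent.Helper33.FNMinimal

/-!
# The least centric radical subgroup controls strong fusion (helper33, for S1953)
-/

set_option autoImplicit false
set_option linter.style.haveILetI false

namespace Cfsg.Agent.Helper33

variable {G : Type*} [Group G]

/-- If `N_G(Q₀)` controls strong fusion in `P` and `C_P(Q₀) ≤ Q₀ ≤ P`, then `Z(Q₀)` is a Sylow `p`-subgroup of
`C_G(Q₀)`. -/
theorem exists_sylow_centralizer_of_FN [Finite G] {p : ℕ} [Fact p.Prime] (P : Sylow p G) (Q₀ : Subgroup G)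
    (hQ₀P : Q₀ ≤ (P : Subgroup G)) (hFN : FN (P : Subgroup G) Q₀)
    (hcen : (P : Subgroup G) ⊓ Subgroup.centralizer (Q₀ : Set G) ≤ Q₀) :
    ∃ R : Sylow p ↥(Subgroup.centralizer (Q₀ : Set G)),
      (R : Subgroup ↥(Subgroup.centralizer (Q₀ : Set G))).map (Subgroup.centralizer (Q₀ : Set G)).subtype =
        Q₀ ⊓ Subgroup.centralizer (Q₀ : Set G) := by
  have hCN : Subgroup.centralizer (Q₀ : Set G) ≤ Subgroup.normalizer (Q₀ : Set G) :=
    Subgroup.centralizer_le_normalizer _
  have hNC := normalizer_le_normalizer_centralizer_h33 Q₀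
  have hPN : (P : Subgroup G) ≤ Subgroup.normalizer (Q₀ : Set G) := hFN.le_normalizer hQ₀P
  have hidxN : ¬ p ∣ (P : Subgroup G).relIndex (Subgroup.normalizer (Q₀ : Set G)) := by
    intro hd
    apply P.not_dvd_index
    rw [← Subgroup.relIndex_mul_index hPN]
    exact dvd_mul_of_dvd_left hd _
  have hidxC : ¬ p ∣ ((P : Subgroup G).subgroupOf (Subgroup.centralizer (Q₀ : Set G))).index := by
    have := not_dvd_relIndex_inf_of_le_normalizer (K := (P : Subgroup G))
      (L := Subgroup.normalizer (Q₀ : Set G)) (M := Subgroup.centralizer (Q₀ : Set G)) P.2 hidxN hCN hNC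
    rwa [Subgroup.inf_relIndex_right] at this
  have hSXp : IsPGroup p ↥((P : Subgroup G).subgroupOf (Subgroup.centralizer (Q₀ : Set G))) :=
    P.2.comap_subtype
  refine ⟨hSXp.toSylow hidxC, ?_⟩
  show ((P : Subgroup G).subgroupOf (Subgroup.centralizer (Q₀ : Set G))).map
    (Subgroup.centralizer (Q₀ : Set G)).subtype = _
  rw [Subgroup.subgroupOf_map_subtype]
  apply le_antisymm
  · exact le_inf hcen inf_le_right
  · exact inf_le_inf_right _ hQ₀P

end Cfsg.Agent.Helper33
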