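import Cfsg.Agent.Helper33.FNBasic
import Cfsg.Agent.S1954

/-!
# Lifting control of strong fusion from a normal subgroup of a subgroup (helper33, for S1953)

A relative form of S1954: `C ⊴ N₀ ≤ G`.
-/

set_option autoImplicit false
set_option linter.style.haveILetI false

namespace Cfsg.Agent.Helper33

theorem exists_lift_control_rel {G : Type*} [Group G] [Finite G] {p : ℕ} [Fact p.Prime]
    (N₀ C : Subgroup G) (hCN : C ≤ N₀) (hNC : N₀ ≤ Subgroup.normalizer (C : Set G))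
    (P : Sylow p G) (hPN : (P : Subgroup G) ≤ N₀) (V : Subgroup G) (hV : V ≤ (P : Subgroup G) ⊓ C)
    (hVn : (P : Subgroup G) ⊓ C ≤ Subgroup.normalizer (V : Set G))
    (hctrl : ∀ A : Subgroup G, A ≤ (P : Subgroup G) ⊓ C → ∀ n ∈ C,
      A.map (MulAut.conj n).toMonoidHom ≤ (P : Subgroup G) →
      ∃ h ∈ C ⊓ Subgroup.normalizer (V : Set G), ∃ c ∈ C ⊓ Subgroup.centralizer (A : Set G), n = h * c) :
    ∃ W : Subgroup G, V ≤ W ∧ W ≤ (P : Subgroup G) ⊓ C ∧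
      ∀ A : Subgroup G, A ≤ (P : Subgroup G) → ∀ n ∈ N₀, A.map (MulAut.conj n).toMonoidHom ≤ (P : Subgroup G) →
        ∃ h ∈ Subgroup.normalizer (W : Set G), ∃ c ∈ Subgroup.centralizer (A : Set G), n = h * c := by
  haveI hCn : (C.subgroupOf N₀).Normal := (Subgroup.normal_subgroupOf_iff_le_normalizer hCN).mpr hNC
  obtain ⟨P', hP'⟩ : ∃ P' : Sylow p ↥N₀, (P' : Subgroup ↥N₀) = (P : Subgroup G).subgroupOf N₀ :=
    ⟨P.subtype hPN, Sylow.coe_subtype _ _⟩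
  obtain ⟨V', hV'⟩ : ∃ V' : Subgroup ↥N₀, V' = V.subgroupOf N₀ := ⟨_, rfl⟩
  have hmemP' : ∀ x : ↥N₀, x ∈ (P' : Subgroup ↥N₀) ↔ (x : G) ∈ (P : Subgroup G) := by
    intro x; rw [hP', Subgroup.mem_subgroupOf]
  have hmemV' : ∀ x : ↥N₀, x ∈ V' ↔ (x : G) ∈ V := by
    intro x; rw [hV', Subgroup.mem_subgroupOf]
  have hV'le : V' ≤ (P' : Subgroup ↥N₀) ⊓ C.subgroupOf N₀ := by
    intro v hv
    have := hV ((hmemV' v).mp hv)
    exact Subgroup.mem_inf.mpr ⟨(hmemP' v).mpr (Subgroup.mem_inf.mp this).1,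
      Subgroup.mem_subgroupOf.mpr (Subgroup.mem_inf.mp this).2⟩
  have hNV' : ∀ x : ↥N₀, (x : G) ∈ Subgroup.normalizer (V : Set G) →
      x ∈ Subgroup.normalizer (V' : Set ↥N₀) := by
    intro x hx
    rw [hV']
    exact Subgroup.le_normalizer_comap N₀.subtype (Subgroup.mem_comap.mpr hx)
  have hV'n : ∀ x ∈ (P' : Subgroup ↥N₀) ⊓ C.subgroupOf N₀, V'.map (MulAut.conj x).toMonoidHom = V' := by
    intro x hx
    apply map_conj_eq_of_mem_normalizer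
    apply hNV'
    apply hVn
    exact Subgroup.mem_inf.mpr ⟨(hmemP' x).mp (Subgroup.mem_inf.mp hx).1,
      Subgroup.mem_subgroupOf.mp (Subgroup.mem_inf.mp hx).2⟩
  have hctrl' : ∀ A' : Subgroup ↥N₀, A' ≤ (P' : Subgroup ↥N₀) ⊓ C.subgroupOf N₀ → ∀ n ∈ C.subgroupOf N₀,
      A'.map (MulAut.conj n).toMonoidHom ≤ (P' : Subgroup ↥N₀) ⊓ C.subgroupOf N₀ →
      ∃ h ∈ C.subgroupOf N₀ ⊓ Subgroup.normalizer (V' : Set ↥N₀),
        ∃ c ∈ C.subgroupOf N₀ ⊓ Subgroup.centralizer (A' : Set ↥N₀), n = h * c := by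
    intro A' hA' n hn hnA'
    have hA : A'.map N₀.subtype ≤ (P : Subgroup G) ⊓ C := by
      rintro _ ⟨a, ha, rfl⟩
      have := hA' ha
      exact Subgroup.mem_inf.mpr ⟨(hmemP' a).mp (Subgroup.mem_inf.mp this).1,
        Subgroup.mem_subgroupOf.mp (Subgroup.mem_inf.mp this).2⟩
    have hnC : (n : G) ∈ C := Subgroup.mem_subgroupOf.mp hn
    have hnA : (A'.map N₀.subtype).map (MulAut.conj (n : G)).toMonoidHom ≤ (P : Subgroup G) := by
      rw [map_conj_le_iff]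
      rintro _ ⟨a, ha, rfl⟩
      have := (map_conj_le_iff A' _ n).mp hnA' a ha
      exact (hmemP' _).mp (Subgroup.mem_inf.mp this).1
    obtain ⟨h, hh, c, hc, hnhc⟩ := hctrl _ hA (n : G) hnC hnA
    have hhC := (Subgroup.mem_inf.mp hh).1
    have hcC := (Subgroup.mem_inf.mp hc).1
    refine ⟨⟨h, hCN hhC⟩, Subgroup.mem_inf.mpr ⟨Subgroup.mem_subgroupOf.mpr hhC,
      hNV' _ (Subgroup.mem_inf.mp hh).2⟩, ⟨c, hCN hcC⟩, Subgroup.mem_inf.mpr
      ⟨Subgroup.mem_subgroupOf.mpr hcC, ?_⟩, Subtype.ext hnhc⟩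
    rw [Subgroup.mem_centralizer_iff]
    intro a ha
    apply Subtype.ext
    exact Subgroup.mem_centralizer_iff.mp (Subgroup.mem_inf.mp hc).2 (a : G) ⟨a, ha, rfl⟩
  obtain ⟨W', hW'⟩ : ∃ W' : Subgroup ↥N₀, W' = Subgroup.closure
      (⋃ x ∈ Subgroup.normalizer ((((P' : Subgroup ↥N₀) ⊓ C.subgroupOf N₀ : Subgroup ↥N₀)) : Set ↥N₀),
        ((V'.map (MulAut.conj x).toMonoidHom : Subgroup ↥N₀) : Set ↥N₀)) := ⟨_, rfl⟩
  have hmain := Cfsg.Agent.S1954.result (C.subgroupOf N₀) P' V' hV'le hV'n hctrl' W' hW'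
  have hVW' : V' ≤ W' := by
    intro v hv
    rw [hW']
    apply Subgroup.subset_closure
    refine Set.mem_iUnion₂.mpr ⟨1, Subgroup.one_mem _, ?_⟩
    rw [map_conj_one]
    exact hv
  have hW'le : W' ≤ (P' : Subgroup ↥N₀) ⊓ C.subgroupOf N₀ := by
    rw [hW', Subgroup.closure_le]
    intro y hy
    obtain ⟨x, hx, hyx⟩ := Set.mem_iUnion₂.mp hy
    have h1 : V'.map (MulAut.conj x).toMonoidHom ≤
        ((P' : Subgroup ↥N₀) ⊓ C.subgroupOf N₀).map (MulAut.conj x).toMonoidHom :=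
      Subgroup.map_mono hV'le
    rw [map_conj_eq_of_mem_normalizer hx] at h1
    exact h1 hyx
  refine ⟨W'.map N₀.subtype, ?_, ?_, ?_⟩
  · intro v hv
    have hvN : v ∈ N₀ := hPN (Subgroup.mem_inf.mp (hV hv)).1
    exact ⟨⟨v, hvN⟩, hVW' ((hmemV' _).mpr hv), rfl⟩
  · rintro _ ⟨w, hw, rfl⟩
    have := hW'le hw
    exact Subgroup.mem_inf.mpr ⟨(hmemP' w).mp (Subgroup.mem_inf.mp this).1,
      Subgroup.mem_subgroupOf.mp (Subgroup.mem_inf.mp this).2⟩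
  · intro A hA n hn hnA
    have hA' : A.subgroupOf N₀ ≤ (P' : Subgroup ↥N₀) := by
      intro a ha
      exact (hmemP' a).mpr (hA (Subgroup.mem_subgroupOf.mp ha))
    have hnA' : (A.subgroupOf N₀).map (MulAut.conj (⟨n, hn⟩ : ↥N₀)).toMonoidHom ≤ (P' : Subgroup ↥N₀) := by
      rw [map_conj_le_iff]
      intro a ha
      rw [hmemP']
      exact (map_conj_le_iff A _ n).mp hnA (a : G) (Subgroup.mem_subgroupOf.mp ha)
    obtain ⟨h, hh, c, hc, hnhc⟩ := hmain _ hA' ⟨n, hn⟩ hnA'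
    refine ⟨(h : G), Subgroup.le_normalizer_map N₀.subtype ⟨h, hh, rfl⟩, (c : G), ?_, ?_⟩
    · rw [Subgroup.mem_centralizer_iff]
      intro a ha
      have haN : a ∈ N₀ := hPN (hA ha)
      have := Subgroup.mem_centralizer_iff.mp hc ⟨a, haN⟩ (Subgroup.mem_subgroupOf.mpr ha)
      exact congrArg Subtype.val this
    · exact congrArg Subtype.val hnhc

end Cfsg.Agent.Helper33
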