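import Cfsg.Agent.Helper33.TransferLG

set_option autoImplicit false

open scoped commutatorElement

namespace Cfsg.Agent.Helper33

variable {G : Type*} [Group G]

local notation:max H "⟪" g "⟫" => Subgroup.map (MulEquiv.toMonoidHom (MulAut.conj g)) H

/-- Generic reduction: to show `S ∩ G' ≤ K` (for `K ≤ S`... any subgroup) it suffices to control the one-step
commutators `a (y⁻¹ a y)⁻¹` for `a` in a nontrivial member `T` of a tame family and `y ∈ N(T)`. -/
theorem focal_le_of_family {p : ℕ} [Fact p.Prime] [Finite G] (S : Sylow p G) (𝓕 : Set (Subgroup G))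
    (h𝓕 : ∀ U ∈ 𝓕, U ≤ (S : Subgroup G))
    (h : ∀ T : Subgroup G, T ≤ (S : Subgroup G) → ∃ U ∈ 𝓕,
      (∃ g : G, T⟪g⟫ = U) ∧
      ¬ p ∣ ((S : Subgroup G) ⊓ Subgroup.normalizer ((U : Subgroup G) : Set G)).relIndex
        (Subgroup.normalizer ((U : Subgroup G) : Set G)))
    (K : Subgroup G)
    (hstep : ∀ T ∈ 𝓕, T ≠ ⊥ → ∀ y ∈ Subgroup.normalizer (T : Set G), ∀ a ∈ T,
      a * (y⁻¹ * a * y)⁻¹ ∈ K) :
    (S : Subgroup G) ⊓ commutator G ≤ K := by
  rw [inf_comm, Subgroup.commutator_inf_eq_focalSubgroup S, Subgroup.focalSubgroup_def,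
    Subgroup.closure_le]
  rintro g ⟨hgS, x, hxS, u, rfl⟩
  by_cases hx1 : x = 1
  · subst hx1; simp
  · have hconj : u * x * u⁻¹ ∈ (S : Subgroup G) := by
      have h1 : x⁻¹ * ⁅x, u⁆ ∈ (S : Subgroup G) := Subgroup.mul_mem _ (Subgroup.inv_mem _ hxS) hgS
      have h2 : (x⁻¹ * ⁅x, u⁆)⁻¹ ∈ (S : Subgroup G) := Subgroup.inv_mem _ h1
      have e : (x⁻¹ * ⁅x, u⁆)⁻¹ = u * x * u⁻¹ := by
        rw [commutatorElement_def]; group
      rwa [e] at h2
    have hcl : Subgroup.closure ({x} : Set G) ≤ (S : Subgroup G) := by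
      rw [Subgroup.closure_le]
      intro y hy
      rw [Set.mem_singleton_iff] at hy
      subst hy
      exact hxS
    have hg : conjR u⁻¹ ((Subgroup.closure ({x} : Set G) : Subgroup G) : Set G) ⊆ (S : Subgroup G) := by
      rw [← coe_map_conj_inv, MonoidHom.map_closure]
      have : Subgroup.closure ((MulAut.conj u⁻¹⁻¹).toMonoidHom '' ({x} : Set G)) ≤ (S : Subgroup G) := by
        rw [Subgroup.closure_le]
        rintro _ ⟨a, ha, rfl⟩
        rw [Set.mem_singleton_iff] at ha
        subst ha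
        have e : (MulAut.conj u⁻¹⁻¹).toMonoidHom a = u * a * u⁻¹ := by simp [MulAut.conj_apply]
        rw [e]
        exact hconj
      exact_mod_cast this
    have hch := fchain_of_tame_aux S 𝓕 h𝓕 h _ (Subgroup.closure ({x} : Set G)) hcl rfl u⁻¹ hg
    have := hch.telescope hstep x (Subgroup.subset_closure rfl) hx1
    rw [inv_inv] at this
    have e : ⁅x, u⁆ = x * (u * x * u⁻¹)⁻¹ := by rw [commutatorElement_def]; group
    rw [SetLike.mem_coe, e]; exact this

theorem controlsTransfer_of_local {p : ℕ} {W : Subgroup G → Subgroup G}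
    (hW : Cfsg.IsConjugacyFunctor p W) [Fact p.Prime] [Finite G] (S : Sylow p G)
    (hloc : ∀ T : Subgroup G, T ≠ ⊥ → Cfsg.IsWellPlaced p W (S : Subgroup G) T →
      Cfsg.ControlsTransferIn p W (Subgroup.normalizer ((T : Subgroup G) : Set G))) :
    Cfsg.ControlsTransferIn p W ⊤ := by
  refine ⟨(S : Subgroup G), le_top, S.2, ?_, ?_⟩
  · rw [Subgroup.relIndex_top_right]; exact S.not_dvd_index
  · rw [top_inf_eq]
    apply le_antisymm
    · apply le_inf inf_le_left
      have hfam : ∀ T : Subgroup G, T ≤ (S : Subgroup G) →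
          ∃ U ∈ {T : Subgroup G | Cfsg.IsWellPlaced p W (S : Subgroup G) T},
            (∃ g : G, T⟪g⟫ = U) ∧
            ¬ p ∣ ((S : Subgroup G) ⊓ Subgroup.normalizer ((U : Subgroup G) : Set G)).relIndex
              (Subgroup.normalizer ((U : Subgroup G) : Set G)) := by
        intro T hT
        obtain ⟨g, hg⟩ := exists_wellPlaced_conj hW S hT
        exact ⟨_, hg, ⟨g, rfl⟩, hg.2 0⟩
      have key := focal_le_of_family S _ (fun U hU => hU.1) hfam
        ((S : Subgroup G) ⊓ ⁅Subgroup.normalizer ((W (S : Subgroup G) : Subgroup G) : Set G),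
          Subgroup.normalizer ((W (S : Subgroup G) : Subgroup G) : Set G)⁆) ?_
      · exact le_trans key inf_le_right
      · intro T hT hT0 y hy a ha
        apply transfer_wellPlaced_le hW S hloc hT hT0
        have hyi : y⁻¹ ∈ Subgroup.normalizer (T : Set G) := Subgroup.inv_mem _ hy
        have hconj : y⁻¹ * a * y ∈ T := by
          have := (Subgroup.mem_normalizer_iff.mp hyi a).mp ha
          simpa using this
        refine ⟨⟨hT.1 (T.mul_mem ha (T.inv_mem hconj)),
          Subgroup.le_normalizer (T.mul_mem ha (T.inv_mem hconj))⟩, ?_⟩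
        have e : a * (y⁻¹ * a * y)⁻¹ = ⁅a, y⁻¹⁆ := by rw [commutatorElement_def]; group
        rw [e]
        exact Subgroup.commutator_mem_commutator (Subgroup.le_normalizer ha) hyi
    · exact inf_le_inf_left _ (Subgroup.commutator_mono le_top le_top)

end Cfsg.Agent.Helper33
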