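import Cfsg.Agent.Helper33.AlperinBounded
import Cfsg.Agent.Helper33.TransferLG2

set_option autoImplicit false

open scoped commutatorElement

namespace Cfsg.Agent.Helper33

variable {G : Type*} [Group G]

local notation:max H "⟪" g "⟫" => Subgroup.map (MulEquiv.toMonoidHom (MulAut.conj g)) H

/-- Control of transfer by a set of functors in `H` can be read off at any Sylow `p`-subgroup of `H`. -/
theorem familyControlsTransferIn_at {p : ℕ} [Fact p.Prime] [Finite G]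
    {𝓦 : Set (Subgroup G → Subgroup G)} (h𝓦 : ∀ W ∈ 𝓦, Cfsg.IsConjugacyFunctor p W)
    {H N' : Subgroup G}
    (hctl : Cfsg.FamilyControlsTransferIn p 𝓦 H) (hN'H : N' ≤ H) (hN'p : IsPGroup p N')
    (hN'idx : ¬ p ∣ N'.relIndex H) :
    N' ⊓ ⁅H, H⁆ = ⨆ W ∈ 𝓦, N' ⊓ ⁅H ⊓ Subgroup.normalizer ((W N' : Subgroup G) : Set G),
      H ⊓ Subgroup.normalizer ((W N' : Subgroup G) : Set G)⁆ := by
  obtain ⟨T', hT'H, hT'p, hT'idx, hT'⟩ := hctl
  obtain ⟨m, hmH, hm⟩ := exists_conj_le_of_not_dvd_relIndex hN'H hN'p hN'idx hT'H hT'p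
  have hle : T'⟪m⟫ ≤ N' := (map_conj_le_iff T' N' m).mpr hm
  have hHm : H⟪m⟫ = H := map_conj_eq_self_of_mem hmH
  have hidx' : ¬ p ∣ (T'⟪m⟫).relIndex H := by
    have := relIndex_map_conj T' H m
    rw [hHm] at this
    rw [this]; exact hT'idx
  have heq : T'⟪m⟫ = N' := eq_of_le_of_not_dvd_relIndex hle hN'H hN'p hidx'
  have h1 := congrArg (fun K : Subgroup G => K⟪m⟫) hT'
  rw [map_conj_inf, Subgroup.map_commutator, hHm, heq, Subgroup.map_iSup] at h1
  rw [h1]
  apply iSup_congr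
  intro W
  rw [Subgroup.map_iSup]
  apply iSup_congr
  intro hWmem
  have hWN' : W N' = (W T')⟪m⟫ := by rw [← heq]; exact functor_map_conj (h𝓦 W hWmem) hT'p m
  rw [map_conj_inf, Subgroup.map_commutator, map_conj_inf, hHm, heq, ← normalizer_map_conj, ← hWN']


section

variable {p : ℕ} [Fact p.Prime] [Finite G] {𝓦 : Set (Subgroup G → Subgroup G)}
  (h𝓦 : ∀ W ∈ 𝓦, Cfsg.IsConjugacyFunctor p W) (S : Sylow p G)

include h𝓦

theorem tame_transfer_le
    (hloc : ∀ T : Subgroup G, T ≤ (S : Subgroup G) → T ≠ ⊥ →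
      ¬ p ∣ ((S : Subgroup G) ⊓ Subgroup.normalizer ((T : Subgroup G) : Set G)).relIndex
        (Subgroup.normalizer ((T : Subgroup G) : Set G)) →
      Cfsg.FamilyControlsTransferIn p 𝓦 (Subgroup.normalizer ((T : Subgroup G) : Set G))) :
    ∀ (d : ℕ) (T : Subgroup G), T ≤ (S : Subgroup G) → T ≠ ⊥ →
      ¬ p ∣ ((S : Subgroup G) ⊓ Subgroup.normalizer ((T : Subgroup G) : Set G)).relIndex
        (Subgroup.normalizer ((T : Subgroup G) : Set G)) →
      Nat.card (S : Subgroup G) - Nat.card ((S : Subgroup G) ⊓ Subgroup.normalizer (T : Set G) : Subgroup G) = d →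
      ((S : Subgroup G) ⊓ Subgroup.normalizer (T : Set G)) ⊓
        ⁅Subgroup.normalizer (T : Set G), Subgroup.normalizer (T : Set G)⁆ ≤
      ⨆ W ∈ 𝓦, (S : Subgroup G) ⊓ ⁅Subgroup.normalizer ((W (S : Subgroup G) : Subgroup G) : Set G),
        Subgroup.normalizer ((W (S : Subgroup G) : Subgroup G) : Set G)⁆ := by
  intro d
  induction d using Nat.strong_induction_on with
  | _ d ih =>
  intro T hTS hT0 htame hd
  have hKW : ∀ W ∈ 𝓦, (S : Subgroup G) ⊓ ⁅Subgroup.normalizer ((W (S : Subgroup G) : Subgroup G) : Set G),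
        Subgroup.normalizer ((W (S : Subgroup G) : Subgroup G) : Set G)⁆ ≤
      ⨆ W ∈ 𝓦, (S : Subgroup G) ⊓ ⁅Subgroup.normalizer ((W (S : Subgroup G) : Subgroup G) : Set G),
        Subgroup.normalizer ((W (S : Subgroup G) : Subgroup G) : Set G)⁆ := by
    intro W hW
    exact le_iSup₂_of_le W hW le_rfl
  obtain ⟨K, hK⟩ : ∃ K : Subgroup G, K = ⨆ W ∈ 𝓦, (S : Subgroup G) ⊓
      ⁅Subgroup.normalizer ((W (S : Subgroup G) : Subgroup G) : Set G),
        Subgroup.normalizer ((W (S : Subgroup G) : Subgroup G) : Set G)⁆ := ⟨_, rfl⟩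
  rw [← hK] at ih hKW ⊢
  obtain ⟨N₁, hN₁⟩ : ∃ N₁ : Subgroup G, N₁ = (S : Subgroup G) ⊓ Subgroup.normalizer (T : Set G) := ⟨_, rfl⟩
  rw [← hN₁] at htame hd ⊢
  have hN₁S' : N₁ ≤ (S : Subgroup G) := hN₁ ▸ inf_le_left
  have hN₁N : N₁ ≤ Subgroup.normalizer (T : Set G) := hN₁ ▸ inf_le_right
  have hN₁p : IsPGroup p N₁ := S.2.to_le hN₁S'
  have hTN₁ : T ≤ N₁ := hN₁ ▸ le_inf hTS Subgroup.le_normalizer
  have hN₁0 : N₁ ≠ ⊥ := fun h => hT0 (le_bot_iff.mp (h ▸ hTN₁))
  rw [familyControlsTransferIn_at h𝓦 (hloc T hTS hT0 (hN₁ ▸ htame)) hN₁N hN₁p htame]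
  refine iSup₂_le ?_
  intro W hW
  have hWf := h𝓦 W hW
  by_cases hN₁S : N₁ = S
  · rw [hN₁S]
    refine le_trans ?_ (hKW W hW)
    exact inf_le_inf_left _ (Subgroup.commutator_mono inf_le_right inf_le_right)
  · -- V = W N₁
    obtain ⟨V, hV⟩ : ∃ V : Subgroup G, V = W N₁ := ⟨_, rfl⟩
    rw [← hV]
    have hVN₁ : V ≤ N₁ := hV ▸ functor_le hWf hN₁p
    have hVS : V ≤ (S : Subgroup G) := le_trans hVN₁ hN₁S'
    have hV0 : V ≠ ⊥ := hV ▸ (hWf N₁ hN₁p).2.1 hN₁0
    have hNN : Subgroup.normalizer (N₁ : Set G) ≤ Subgroup.normalizer (V : Set G) :=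
      hV ▸ normalizer_le_normalizer_functor hWf hN₁p
    obtain ⟨N₂, hN₂⟩ : ∃ N₂ : Subgroup G, N₂ = (S : Subgroup G) ⊓ Subgroup.normalizer (V : Set G) := ⟨_, rfl⟩
    have hN₂S' : N₂ ≤ (S : Subgroup G) := hN₂ ▸ inf_le_left
    have hN₂N : N₂ ≤ Subgroup.normalizer (V : Set G) := hN₂ ▸ inf_le_right
    have hN₁N₂ : N₁ ≤ N₂ :=
      hN₂ ▸ le_inf hN₁S' (le_trans Subgroup.le_normalizer hNN)
    have hlt : N₁ < N₂ := by
      obtain ⟨x, hxS, hxN, hxT⟩ := exists_mem_normalizer_not_mem S.2 hN₁S' hN₁S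
      refine lt_of_le_of_ne hN₁N₂ (fun hh => hxT ?_)
      rw [hh, hN₂]
      exact ⟨hxS, hNN hxN⟩
    have hcard := card_lt_card_of_lt' hlt
    have hN₂S : Nat.card N₂ ≤ Nat.card (S : Subgroup G) := Subgroup.card_le_of_le hN₂S'
    -- tame conjugate of V
    obtain ⟨c, hcS, hctame⟩ := exists_tame_conj S V (S.2.to_le hVS)
    obtain ⟨h, hhV, hhS⟩ := exists_conj_tame' S hctame c rfl
    rw [← hN₂] at hhS
    set V' := V⟪c⟫ with hV'
    have hV'0 : V' ≠ ⊥ := by
      intro hh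
      apply hV0
      rw [hV', Subgroup.map_eq_bot_iff_of_injective _ (MulAut.conj c).injective] at hh
      exact hh
    have hN₂h : N₂⟪h⟫ ≤ (S : Subgroup G) ⊓ Subgroup.normalizer (V' : Set G) := by
      refine le_inf hhS ?_
      rw [← hhV, normalizer_map_conj]
      exact Subgroup.map_mono hN₂N
    have hcardh : Nat.card N₂ ≤ Nat.card ((S : Subgroup G) ⊓ Subgroup.normalizer (V' : Set G) : Subgroup G) := by
      rw [Nat.card_congr (N₂.equivMapOfInjective (MulAut.conj h).toMonoidHom (MulAut.conj h).injective).toEquiv]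
      exact Subgroup.card_le_of_le hN₂h
    have hV'S : Nat.card ((S : Subgroup G) ⊓ Subgroup.normalizer (V' : Set G) : Subgroup G) ≤
        Nat.card (S : Subgroup G) := Subgroup.card_le_of_le inf_le_left
    have ihV' := ih _ (by omega) V' hcS hV'0 hctame rfl
    -- members of the bounded tame family satisfy the induction hypothesis
    have hstep : ∀ U ∈ tameFamily p (S : Subgroup G) (Nat.card N₁ + 1), U ≠ ⊥ →
        ∀ y ∈ Subgroup.normalizer (U : Set G), ∀ a ∈ U, a * (y⁻¹ * a * y)⁻¹ ∈ K := by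
      intro U hU hU0 y hy a ha
      have hUle : U ≤ (S : Subgroup G) ⊓ Subgroup.normalizer (U : Set G) := le_inf hU.1 Subgroup.le_normalizer
      have hc1 : Nat.card U ≤ Nat.card ((S : Subgroup G) ⊓ Subgroup.normalizer (U : Set G) : Subgroup G) :=
        Subgroup.card_le_of_le hUle
      have hc2 : Nat.card ((S : Subgroup G) ⊓ Subgroup.normalizer (U : Set G) : Subgroup G) ≤
          Nat.card (S : Subgroup G) := Subgroup.card_le_of_le inf_le_left
      have hc3 := hU.2.1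
      apply ih _ (by omega) U hU.1 hU0 hU.2.2 rfl
      have hyi : y⁻¹ ∈ Subgroup.normalizer (U : Set G) := Subgroup.inv_mem _ hy
      have hconj : y⁻¹ * a * y ∈ U := by
        have := (Subgroup.mem_normalizer_iff.mp hyi a).mp ha
        simpa using this
      refine ⟨hUle (U.mul_mem ha (U.inv_mem hconj)), ?_⟩
      have e : a * (y⁻¹ * a * y)⁻¹ = ⁅a, y⁻¹⁆ := by rw [commutatorElement_def]; group
      rw [e]
      exact Subgroup.commutator_mem_commutator (Subgroup.le_normalizer ha) hyi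
    -- now the element-wise argument
    intro x hx
    have hxN₂ : x ∈ N₂ := hN₁N₂ (Subgroup.mem_inf.mp hx).1
    have hxc : x ∈ ⁅Subgroup.normalizer (V : Set G), Subgroup.normalizer (V : Set G)⁆ :=
      Subgroup.commutator_mono inf_le_right inf_le_right (Subgroup.mem_inf.mp hx).2
    have h1 : h * x * h⁻¹ ∈ K := by
      apply ihV'
      refine ⟨hN₂h (conj_mem_map_conj N₂ h hxN₂), ?_⟩
      rw [← hhV, normalizer_map_conj, ← Subgroup.map_commutator]
      exact conj_mem_map_conj _ h hxc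
    by_cases hx1 : x = 1
    · rw [hx1]; exact K.one_mem
    · have hg : conjR h⁻¹ (N₂ : Set G) ⊆ (S : Subgroup G) := by
        rw [← coe_map_conj]; exact_mod_cast hhS
      have hch := fchain_tameFamily S (Nat.card N₁ + 1) N₂ hN₂S' (by omega) h⁻¹ hg
      have h2 := hch.telescope hstep x hxN₂ hx1
      rw [inv_inv] at h2
      have := K.mul_mem h2 h1
      have e : x * (h * x * h⁻¹)⁻¹ * (h * x * h⁻¹) = x := by group
      rwa [e] at this

end

end Cfsg.Agent.Helper33
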