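import Cfsg.Agent.Helper33.RChain
import Cfsg.Agent.Helper33.TransferFamily

set_option autoImplicit false

namespace Cfsg.Agent.Helper33

variable {G : Type*} [Group G]

local notation:max H "⟪" g "⟫" => Subgroup.map (MulEquiv.toMonoidHom (MulAut.conj g)) H

/-- The set of elements of `H` normalizing `W N'` for some `W ∈ 𝓦`. -/
def KW (𝓦 : Set (Subgroup G → Subgroup G)) (H N' : Subgroup G) : Set G :=
  {z | ∃ W ∈ 𝓦, z ∈ H ⊓ Subgroup.normalizer ((W N' : Subgroup G) : Set G)}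

theorem KW_inv {𝓦 : Set (Subgroup G → Subgroup G)} {H N' : Subgroup G} :
    ∀ z ∈ KW 𝓦 H N', z⁻¹ ∈ KW 𝓦 H N' := by
  rintro z ⟨W, hW, hz⟩
  exact ⟨W, hW, Subgroup.inv_mem _ hz⟩

/-- Control of strong fusion by a set of functors in `H` can be read off at any Sylow `p`-subgroup of `H`. -/
theorem familyControlsStrongFusionIn_at {p : ℕ} [Fact p.Prime] [Finite G]
    {𝓦 : Set (Subgroup G → Subgroup G)} (h𝓦 : ∀ W ∈ 𝓦, Cfsg.IsConjugacyFunctor p W)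
    {H N' : Subgroup G}
    (hctl : Cfsg.FamilyControlsStrongFusionIn p 𝓦 H) (hN'H : N' ≤ H) (hN'p : IsPGroup p N')
    (hN'idx : ¬ p ∣ N'.relIndex H) (B : Set G) (y : G) (hy : y ∈ H) (hB : B ⊆ (N' : Set G))
    (hyB : ∀ b ∈ B, y * b * y⁻¹ ∈ N') :
    ∃ (n : ℕ) (c : Fin (n + 1) → G), c 0 = 1 ∧
      (∀ i : Fin n, c i.succ * (c i.castSucc)⁻¹ ∈ KW 𝓦 H N') ∧
      (∀ i : Fin (n + 1), ∀ b ∈ B, c i * b * (c i)⁻¹ ∈ N') ∧
      ∀ b ∈ B, c (Fin.last n) * b * (c (Fin.last n))⁻¹ = y * b * y⁻¹ := by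
  obtain ⟨T', hT'H, hT'p, hT'idx, hT'⟩ := hctl
  obtain ⟨m, hmH, hm⟩ := exists_conj_le_of_not_dvd_relIndex hN'H hN'p hN'idx hT'H hT'p
  have hle : T'⟪m⟫ ≤ N' := (map_conj_le_iff T' N' m).mpr hm
  have hidx' : ¬ p ∣ (T'⟪m⟫).relIndex H := by
    have := relIndex_map_conj T' H m
    rw [map_conj_eq_self_of_mem hmH] at this
    rw [this]; exact hT'idx
  have heq : T'⟪m⟫ = N' := eq_of_le_of_not_dvd_relIndex hle hN'H hN'p hidx'
  have hA : (fun b => m⁻¹ * b * m) '' B ⊆ (T' : Set G) := by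
    rintro _ ⟨b, hb, rfl⟩
    have : b ∈ T'⟪m⟫ := by rw [heq]; exact hB hb
    exact (mem_map_conj_iff T' m b).mp this
  have hhA : (fun a => (m⁻¹ * y * m) * a * (m⁻¹ * y * m)⁻¹) '' ((fun b => m⁻¹ * b * m) '' B) ⊆ (T' : Set G) := by
    rintro _ ⟨_, ⟨b, hb, rfl⟩, rfl⟩
    have : y * b * y⁻¹ ∈ T'⟪m⟫ := by rw [heq]; exact hyB b hb
    have h2 := (mem_map_conj_iff T' m _).mp this
    show (m⁻¹ * y * m) * (m⁻¹ * b * m) * (m⁻¹ * y * m)⁻¹ ∈ T'
    have e : (m⁻¹ * y * m) * (m⁻¹ * b * m) * (m⁻¹ * y * m)⁻¹ = m⁻¹ * (y * b * y⁻¹) * m := by group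
    rw [e]; exact h2
  have hhH : m⁻¹ * y * m ∈ H := H.mul_mem (H.mul_mem (H.inv_mem hmH) hy) hmH
  obtain ⟨n, c, hc0, hcstep, hcimg, hclast⟩ := hT' _ (m⁻¹ * y * m) hhH hA hhA
  refine ⟨n, fun i => m * c i * m⁻¹, ?_, ?_, ?_, ?_⟩
  · show m * c 0 * m⁻¹ = 1
    rw [hc0]; group
  · intro i
    obtain ⟨W, hW, hmem⟩ := hcstep i
    have hWN' : W N' = (W T')⟪m⟫ := by rw [← heq]; exact functor_map_conj (h𝓦 W hW) hT'p m
    refine ⟨W, hW, ?_⟩
    have e : m * c i.succ * m⁻¹ * (m * c i.castSucc * m⁻¹)⁻¹ =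
        m * (c i.succ * (c i.castSucc)⁻¹) * m⁻¹ := by group
    show m * c i.succ * m⁻¹ * (m * c i.castSucc * m⁻¹)⁻¹ ∈ _
    rw [e]
    refine Subgroup.mem_inf.mpr
      ⟨H.mul_mem (H.mul_mem hmH (Subgroup.mem_inf.mp hmem).1) (H.inv_mem hmH), ?_⟩
    rw [hWN', normalizer_map_conj]
    exact conj_mem_map_conj _ m (Subgroup.mem_inf.mp hmem).2
  · intro i b hb
    have h1 : c i * (m⁻¹ * b * m) * (c i)⁻¹ ∈ T' := hcimg i ⟨_, ⟨b, hb, rfl⟩, rfl⟩
    have h2 := conj_mem_map_conj T' m h1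
    rw [heq] at h2
    have e : m * c i * m⁻¹ * b * (m * c i * m⁻¹)⁻¹ = m * (c i * (m⁻¹ * b * m) * (c i)⁻¹) * m⁻¹ := by
      group
    show m * c i * m⁻¹ * b * (m * c i * m⁻¹)⁻¹ ∈ N'
    rw [e]; exact h2
  · intro b hb
    have := hclast (m⁻¹ * b * m) ⟨b, hb, rfl⟩
    calc m * c (Fin.last n) * m⁻¹ * b * (m * c (Fin.last n) * m⁻¹)⁻¹
        = m * (c (Fin.last n) * (m⁻¹ * b * m) * (c (Fin.last n))⁻¹) * m⁻¹ := by group
      _ = m * ((m⁻¹ * y * m) * (m⁻¹ * b * m) * (m⁻¹ * y * m)⁻¹) * m⁻¹ := by rw [this]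
      _ = y * b * y⁻¹ := by group

/-- A chain in the form of the definitions (left conjugation, `Fin`-indexed) gives an `RChain`. -/
theorem rchain_of_chain {K D : Set G} (hK : ∀ z ∈ K, z⁻¹ ∈ K) :
    ∀ (n : ℕ) (B : Set G) (c : Fin (n + 1) → G), c 0 = 1 →
      (∀ i : Fin n, c i.succ * (c i.castSucc)⁻¹ ∈ K) →
      (∀ i : Fin (n + 1), ∀ b ∈ B, c i * b * (c i)⁻¹ ∈ D) →
      RChain K D B (c (Fin.last n))⁻¹ := by
  intro n
  induction n with
  | zero =>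
    intro B c hc0 _ _
    have : c (Fin.last 0) = 1 := hc0
    rw [this, inv_one]
    exact RChain.nil B
  | succ n ih =>
    intro B c hc0 hstep himg
    obtain ⟨z, hz⟩ : ∃ z, z = c (Fin.succ 0) := ⟨_, rfl⟩
    have hzK : z ∈ K := by
      have := hstep 0
      rw [Fin.castSucc_zero, hc0, inv_one, mul_one] at this
      rw [hz]; exact this
    have hzB : conjR z⁻¹ B ⊆ D := by
      rintro _ ⟨b, hb, rfl⟩
      show z⁻¹⁻¹ * b * z⁻¹ ∈ D
      rw [inv_inv, hz]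
      exact himg _ b hb
    have key := ih (conjR z⁻¹ B) (fun i => c i.succ * z⁻¹) (by rw [hz]; group) ?_ ?_
    · have h2 := RChain.cons B z⁻¹ _ (hK z hzK) hzB key
      have e : z⁻¹ * (c (Fin.last n).succ * z⁻¹)⁻¹ = (c (Fin.last (n + 1)))⁻¹ := by
        rw [Fin.succ_last]; group
      rwa [e] at h2
    · intro i
      have := hstep i.succ
      rw [← Fin.succ_castSucc] at this
      have e : c i.succ.succ * z⁻¹ * (c i.castSucc.succ * z⁻¹)⁻¹ =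
          c i.succ.succ * (c i.castSucc.succ)⁻¹ := by group
      show c i.succ.succ * z⁻¹ * (c i.castSucc.succ * z⁻¹)⁻¹ ∈ K
      rw [e]; exact this
    · rintro i _ ⟨b, hb, rfl⟩
      have e : c i.succ * z⁻¹ * (z⁻¹⁻¹ * b * z⁻¹) * (c i.succ * z⁻¹)⁻¹ =
          c i.succ * b * (c i.succ)⁻¹ := by group
      show c i.succ * z⁻¹ * (z⁻¹⁻¹ * b * z⁻¹) * (c i.succ * z⁻¹)⁻¹ ∈ D
      rw [e]; exact himg _ b hb

/-- An `RChain` gives a chain in the form of the definitions. -/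
theorem chain_of_rchain {K D : Set G} {A : Set G} {g : G} (h : RChain K D A g)
    (hK : ∀ z ∈ K, z⁻¹ ∈ K) (hA : A ⊆ D) :
    ∃ (n : ℕ) (c : Fin (n + 1) → G), c 0 = 1 ∧
      (∀ i : Fin n, c i.succ * (c i.castSucc)⁻¹ ∈ K) ∧
      (∀ i : Fin (n + 1), ∀ a ∈ A, c i * a * (c i)⁻¹ ∈ D) ∧
      c (Fin.last n) = g⁻¹ := by
  induction h with
  | nil A =>
    refine ⟨0, fun _ => 1, rfl, fun i => i.elim0, ?_, by simp⟩
    intro i a ha
    simpa using hA ha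
  | cons A z g hz hzA _ ih =>
    obtain ⟨n, c, hc0, hstep, himg, hlast⟩ := ih hzA
    refine ⟨n + 1, Fin.cons 1 (fun i => c i * z⁻¹), rfl, ?_, ?_, ?_⟩
    · intro i
      refine Fin.cases ?_ (fun j => ?_) i
      · rw [Fin.castSucc_zero, Fin.cons_succ, Fin.cons_zero, hc0]
        simpa using hK z hz
      · rw [Fin.cons_succ, ← Fin.succ_castSucc, Fin.cons_succ]
        have e : c j.succ * z⁻¹ * (c j.castSucc * z⁻¹)⁻¹ = c j.succ * (c j.castSucc)⁻¹ := by group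
        rw [e]; exact hstep j
    · intro i a ha
      refine Fin.cases ?_ (fun j => ?_) i
      · rw [Fin.cons_zero]; simpa using hA ha
      · rw [Fin.cons_succ]
        have e : c j * z⁻¹ * a * (c j * z⁻¹)⁻¹ = c j * (z⁻¹ * a * z) * (c j)⁻¹ := by group
        rw [e]
        exact himg j _ ⟨a, ha, rfl⟩
    · rw [← Fin.succ_last, Fin.cons_succ, hlast]; group

theorem reach_of_fchain {K D : Set G} {𝓕 : Set (Subgroup G)}
    (hstep : ∀ T ∈ 𝓕, ∀ x ∈ Subgroup.normalizer (T : Set G), ∀ B : Set G, B ⊆ (T : Set G) →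
      Reach K D B x)
    {A : Set G} {g : G} (h : FChain 𝓕 A g) : Reach K D A g := by
  induction h with
  | nil A => exact Reach.refl A
  | cons A T x g hT hx hAT _ ih => exact (hstep T hT x hx A hAT).trans ih

theorem RChain.lift {K₁ D₁ K D : Set G}
    (hstep : ∀ z ∈ K₁, ∀ B : Set G, B ⊆ D₁ → conjR z B ⊆ D₁ → Reach K D B z)
    {A : Set G} {g : G} (h : RChain K₁ D₁ A g) (hA : A ⊆ D₁) : Reach K D A g := by
  induction h with
  | nil A => exact Reach.refl A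
  | cons A z g hz hzA _ ih => exact (hstep z hz A hA hzA).trans (ih hzA)

end Cfsg.Agent.Helper33
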