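import Cfsg.Agent.Helper33.FamilyFusion

set_option autoImplicit false

namespace Cfsg.Agent.Helper33

variable {G : Type*} [Group G]

local notation:max H "⟪" g "⟫" => Subgroup.map (MulEquiv.toMonoidHom (MulAut.conj g)) H

section

variable {p : ℕ} [Fact p.Prime] [Finite G] {𝓦 : Set (Subgroup G → Subgroup G)}
  (h𝓦 : ∀ W ∈ 𝓦, Cfsg.IsConjugacyFunctor p W) (S : Sylow p G)

include h𝓦

theorem tame_fusion_reach
    (hloc : ∀ T : Subgroup G, T ≤ (S : Subgroup G) → T ≠ ⊥ →
      ¬ p ∣ ((S : Subgroup G) ⊓ Subgroup.normalizer ((T : Subgroup G) : Set G)).relIndex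
        (Subgroup.normalizer ((T : Subgroup G) : Set G)) →
      Cfsg.FamilyControlsStrongFusionIn p 𝓦 (Subgroup.normalizer ((T : Subgroup G) : Set G))) :
    ∀ (d : ℕ) (T : Subgroup G), T ≤ (S : Subgroup G) → T ≠ ⊥ →
      ¬ p ∣ ((S : Subgroup G) ⊓ Subgroup.normalizer ((T : Subgroup G) : Set G)).relIndex
        (Subgroup.normalizer ((T : Subgroup G) : Set G)) →
      Nat.card (S : Subgroup G) - Nat.card ((S : Subgroup G) ⊓ Subgroup.normalizer (T : Set G) : Subgroup G) = d →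
      ∀ (B : Set G) (y : G),
        B ⊆ (((S : Subgroup G) ⊓ Subgroup.normalizer (T : Set G) : Subgroup G) : Set G) →
        y ∈ Subgroup.normalizer (T : Set G) →
        conjR y B ⊆ (((S : Subgroup G) ⊓ Subgroup.normalizer (T : Set G) : Subgroup G) : Set G) →
        Reach (KW 𝓦 ⊤ (S : Subgroup G)) ((S : Subgroup G) : Set G) B y := by
  intro d
  induction d using Nat.strong_induction_on with
  | _ d ih =>
  intro T hTS hT0 htame hd B y hB hy hyB
  obtain ⟨N₁, hN₁⟩ : ∃ N₁ : Subgroup G, N₁ = (S : Subgroup G) ⊓ Subgroup.normalizer (T : Set G) := ⟨_, rfl⟩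
  rw [← hN₁] at htame hd hB hyB
  have hN₁S' : N₁ ≤ (S : Subgroup G) := hN₁ ▸ inf_le_left
  have hN₁N : N₁ ≤ Subgroup.normalizer (T : Set G) := hN₁ ▸ inf_le_right
  have hN₁p : IsPGroup p N₁ := S.2.to_le hN₁S'
  have hTN₁ : T ≤ N₁ := hN₁ ▸ le_inf hTS Subgroup.le_normalizer
  have hN₁0 : N₁ ≠ ⊥ := fun h => hT0 (le_bot_iff.mp (h ▸ hTN₁))
  have hN₁pos : 0 < Nat.card N₁ := Nat.card_pos
  have hyB' : ∀ b ∈ B, y⁻¹ * b * y⁻¹⁻¹ ∈ N₁ := by
    intro b hb
    rw [inv_inv]
    exact hyB ⟨b, hb, rfl⟩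
  obtain ⟨n, c, hc0, hcstep, hcimg, hclast⟩ :=
    familyControlsStrongFusionIn_at h𝓦 (hloc T hTS hT0 (hN₁ ▸ htame)) hN₁N hN₁p htame B y⁻¹
      (Subgroup.inv_mem _ hy) hB hyB'
  have hrc := rchain_of_chain KW_inv n B c hc0 hcstep hcimg
  have key : ∀ z ∈ KW 𝓦 (Subgroup.normalizer (T : Set G)) N₁, ∀ B' : Set G, B' ⊆ (N₁ : Set G) →
      conjR z B' ⊆ (N₁ : Set G) →
      Reach (KW 𝓦 ⊤ (S : Subgroup G)) ((S : Subgroup G) : Set G) B' z := by
    rintro z ⟨W, hW, hz⟩ B' hB' hzB'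
    have hWf := h𝓦 W hW
    have hzNW := (Subgroup.mem_inf.mp hz).2
    by_cases hN₁S : N₁ = S
    · apply Reach.of_rchain
      apply RChain.single
      · refine ⟨W, hW, Subgroup.mem_inf.mpr ⟨Subgroup.mem_top _, ?_⟩⟩
        rw [← hN₁S]; exact hzNW
      · exact hzB'.trans (by exact_mod_cast hN₁S')
    · obtain ⟨V, hV⟩ : ∃ V : Subgroup G, V = W N₁ := ⟨_, rfl⟩
      rw [← hV] at hzNW
      have hVN₁ : V ≤ N₁ := hV ▸ functor_le hWf hN₁p
      have hVS : V ≤ (S : Subgroup G) := le_trans hVN₁ hN₁S'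
      have hV0 : V ≠ ⊥ := hV ▸ (hWf N₁ hN₁p).2.1 hN₁0
      have hNN : Subgroup.normalizer (N₁ : Set G) ≤ Subgroup.normalizer (V : Set G) :=
        hV ▸ normalizer_le_normalizer_functor hWf hN₁p
      obtain ⟨N₂, hN₂⟩ : ∃ N₂ : Subgroup G, N₂ = (S : Subgroup G) ⊓ Subgroup.normalizer (V : Set G) := ⟨_, rfl⟩
      have hN₂S' : N₂ ≤ (S : Subgroup G) := hN₂ ▸ inf_le_left
      have hN₂N : N₂ ≤ Subgroup.normalizer (V : Set G) := hN₂ ▸ inf_le_right
      have hN₁N₂ : N₁ ≤ N₂ :=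
        hN₂ ▸ le_inf hN₁S' (le_trans Subgroup.le_normalizer hNN)
      have hlt : N₁ < N₂ := by
        obtain ⟨x, hxS, hxN, hxT⟩ := exists_mem_normalizer_not_mem S.2 hN₁S' hN₁S
        refine lt_of_le_of_ne hN₁N₂ (fun hh => hxT ?_)
        rw [hh, hN₂]
        exact ⟨hxS, hNN hxN⟩
      have hcard := card_lt_card_of_lt' hlt
      have hN₂S : Nat.card N₂ ≤ Nat.card (S : Subgroup G) := Subgroup.card_le_of_le hN₂S'
      -- tame conjugate of V
      obtain ⟨c₀, hcS, hctame⟩ := exists_tame_conj S V (S.2.to_le hVS)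
      obtain ⟨h, hhV, hhS⟩ := exists_conj_tame' S hctame c₀ rfl
      rw [← hN₂] at hhS
      obtain ⟨V', hV'⟩ : ∃ V' : Subgroup G, V' = V⟪c₀⟫ := ⟨_, rfl⟩
      rw [← hV'] at hcS hctame hhV
      have hV'0 : V' ≠ ⊥ := by
        intro hh
        apply hV0
        rw [hV', Subgroup.map_eq_bot_iff_of_injective _ (MulAut.conj c₀).injective] at hh
        exact hh
      have hN₂h : N₂⟪h⟫ ≤ (S : Subgroup G) ⊓ Subgroup.normalizer (V' : Set G) := by
        refine le_inf hhS ?_
        rw [← hhV, normalizer_map_conj]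
        exact Subgroup.map_mono hN₂N
      have hcardh : Nat.card N₂ ≤ Nat.card ((S : Subgroup G) ⊓ Subgroup.normalizer (V' : Set G) : Subgroup G) := by
        rw [Nat.card_congr (N₂.equivMapOfInjective (MulAut.conj h).toMonoidHom (MulAut.conj h).injective).toEquiv]
        exact Subgroup.card_le_of_le hN₂h
      have hV'S : Nat.card ((S : Subgroup G) ⊓ Subgroup.normalizer (V' : Set G) : Subgroup G) ≤
          Nat.card (S : Subgroup G) := Subgroup.card_le_of_le inf_le_left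
      have ihV' := ih _ (by omega) V' hcS hV'0 hctame rfl
      -- members of the bounded tame family satisfy the induction hypothesis
      have hstep : ∀ U ∈ tameFamily p (S : Subgroup G) (Nat.card N₁ + 1),
          ∀ x ∈ Subgroup.normalizer (U : Set G), ∀ B : Set G, B ⊆ (U : Set G) →
          Reach (KW 𝓦 ⊤ (S : Subgroup G)) ((S : Subgroup G) : Set G) B x := by
        intro U hU x hx B₀ hB₀
        have hUle : U ≤ (S : Subgroup G) ⊓ Subgroup.normalizer (U : Set G) := le_inf hU.1 Subgroup.le_normalizer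
        have hc1 : Nat.card U ≤ Nat.card ((S : Subgroup G) ⊓ Subgroup.normalizer (U : Set G) : Subgroup G) :=
          Subgroup.card_le_of_le hUle
        have hc2 : Nat.card ((S : Subgroup G) ⊓ Subgroup.normalizer (U : Set G) : Subgroup G) ≤
            Nat.card (S : Subgroup G) := Subgroup.card_le_of_le inf_le_left
        have hc3 := hU.2.1
        have hU0 : U ≠ ⊥ := by
          intro hh
          rw [hh, Subgroup.card_bot] at hc3
          omega
        apply ih _ (by omega) U hU.1 hU0 hU.2.2 rfl B₀ x (hB₀.trans (by exact_mod_cast hUle)) hx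
        calc conjR x B₀ ⊆ conjR x (U : Set G) := conjR_mono hB₀
          _ = U := conjR_coe_eq_of_mem_normalizer hx
          _ ⊆ _ := by exact_mod_cast hUle
      have hg : conjR h⁻¹ (N₂ : Set G) ⊆ (S : Subgroup G) := by
        rw [← coe_map_conj]; exact_mod_cast hhS
      have hch := fchain_tameFamily S (Nat.card N₁ + 1) N₂ hN₂S' (by omega) h⁻¹ hg
      have hRk : Reach (KW 𝓦 ⊤ (S : Subgroup G)) ((S : Subgroup G) : Set G) (N₂ : Set G) h⁻¹ :=
        reach_of_fchain hstep hch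
      have hB'N₂ : B' ⊆ (N₂ : Set G) := hB'.trans (by exact_mod_cast hN₁N₂)
      have hzB'N₂ : conjR z B' ⊆ (N₂ : Set G) := hzB'.trans (by exact_mod_cast hN₁N₂)
      have hN₂h' : conjR h⁻¹ (N₂ : Set G) ⊆
          (((S : Subgroup G) ⊓ Subgroup.normalizer (V' : Set G) : Subgroup G) : Set G) := by
        rw [← coe_map_conj]; exact_mod_cast hN₂h
      have R1 := hRk.mono hB'N₂
      have hz' : h * z * h⁻¹ ∈ Subgroup.normalizer (V' : Set G) := by
        rw [← hhV, normalizer_map_conj]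
        exact conj_mem_map_conj _ h hzNW
      have e1 : h⁻¹ * (h * z * h⁻¹) = z * h⁻¹ := by group
      have R2 := ihV' (conjR h⁻¹ B') (h * z * h⁻¹) ((conjR_mono hB'N₂).trans hN₂h') hz' (by
        rw [← conjR_mul, e1, conjR_mul]
        exact (conjR_mono hzB'N₂).trans hN₂h')
      have R3 := (hRk.mono hzB'N₂).symm KW_inv (hzB'N₂.trans (by exact_mod_cast hN₂S'))
      have R12 := R1.trans R2
      rw [e1] at R12
      have R123 := R12.trans (by rw [conjR_mul]; exact R3)
      have e2 : z * h⁻¹ * h⁻¹⁻¹ = z := by group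
      rwa [e2] at R123
  have hreach := hrc.lift key hB
  refine hreach.congr ?_
  intro b hb
  have := hclast b hb
  rw [inv_inv] at this ⊢
  exact this

end

end Cfsg.Agent.Helper33
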