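import Cfsg.Agent.Helper33.FamilyFusion2

set_option autoImplicit false

namespace Cfsg.Agent.Helper33

variable {G : Type*} [Group G]

local notation:max H "⟪" g "⟫" => Subgroup.map (MulEquiv.toMonoidHom (MulAut.conj g)) H

theorem familyControlsStrongFusion_of_local {p : ℕ} [Fact p.Prime] [Finite G]
    {𝓦 : Set (Subgroup G → Subgroup G)}
    (h𝓦 : ∀ W ∈ 𝓦, Cfsg.IsConjugacyFunctor p W) (S : Sylow p G)
    (hloc : ∀ T : Subgroup G, T ≤ (S : Subgroup G) → T ≠ ⊥ →
      ¬ p ∣ ((S : Subgroup G) ⊓ Subgroup.normalizer ((T : Subgroup G) : Set G)).relIndex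
        (Subgroup.normalizer ((T : Subgroup G) : Set G)) →
      Cfsg.FamilyControlsStrongFusionIn p 𝓦 (Subgroup.normalizer ((T : Subgroup G) : Set G))) :
    Cfsg.FamilyControlsStrongFusionIn p 𝓦 ⊤ := by
  refine ⟨S, le_top, S.2, ?_, ?_⟩
  · rw [Subgroup.relIndex_top_right]; exact S.not_dvd_index
  · intro A h _ hA hhA
    by_cases hA1 : A ⊆ {1}
    · refine ⟨0, fun _ => 1, rfl, fun i => i.elim0, ?_, ?_⟩
      · rintro i _ ⟨a, ha, rfl⟩
        simpa using hA ha
      · intro a ha
        have := hA1 ha
        rw [Set.mem_singleton_iff] at this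
        subst this
        simp
    · have hcl : Subgroup.closure A ≤ (S : Subgroup G) := (Subgroup.closure_le _).mpr hA
      have hg : conjR h⁻¹ ((Subgroup.closure A : Subgroup G) : Set G) ⊆ (S : Subgroup G) := by
        rw [← coe_map_conj, MonoidHom.map_closure]
        have : Subgroup.closure ((MulAut.conj h).toMonoidHom '' A) ≤ (S : Subgroup G) := by
          rw [Subgroup.closure_le]
          rintro _ ⟨a, ha, rfl⟩
          apply hhA
          exact ⟨a, ha, by simp [MulAut.conj_apply]⟩
        exact_mod_cast this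
      have hcard : 2 ≤ Nat.card (Subgroup.closure A) := by
        by_contra hlt
        apply hA1
        have h1 : Nat.card (Subgroup.closure A) = 1 := by
          have : 0 < Nat.card (Subgroup.closure A) := Nat.card_pos
          omega
        have hbot : Subgroup.closure A = ⊥ := Subgroup.card_eq_one.mp h1
        intro a ha
        have : a ∈ Subgroup.closure A := Subgroup.subset_closure ha
        rw [hbot, Subgroup.mem_bot] at this
        exact this
      have hch := fchain_tameFamily S 2 (Subgroup.closure A) hcl hcard h⁻¹ hg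
      have hstep : ∀ U ∈ tameFamily p (S : Subgroup G) 2,
          ∀ x ∈ Subgroup.normalizer (U : Set G), ∀ B : Set G, B ⊆ (U : Set G) →
          Reach (KW 𝓦 ⊤ (S : Subgroup G)) ((S : Subgroup G) : Set G) B x := by
        intro U hU x hx B₀ hB₀
        have hUle : U ≤ (S : Subgroup G) ⊓ Subgroup.normalizer (U : Set G) := le_inf hU.1 Subgroup.le_normalizer
        have hc3 := hU.2.1
        have hU0 : U ≠ ⊥ := by
          intro hh
          rw [hh, Subgroup.card_bot] at hc3
          omega
        apply tame_fusion_reach h𝓦 S hloc _ U hU.1 hU0 hU.2.2 rfl B₀ x (hB₀.trans (by exact_mod_cast hUle)) hx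
        calc conjR x B₀ ⊆ conjR x (U : Set G) := conjR_mono hB₀
          _ = U := conjR_coe_eq_of_mem_normalizer hx
          _ ⊆ _ := by exact_mod_cast hUle
      have hR := (reach_of_fchain hstep hch).mono (Subgroup.subset_closure : A ⊆ _)
      obtain ⟨g', hrc, hag⟩ := hR
      obtain ⟨n, c, hc0, hcstep, hcimg, hclast⟩ := chain_of_rchain hrc KW_inv hA
      refine ⟨n, c, hc0, hcstep, ?_, ?_⟩
      · rintro i _ ⟨a, ha, rfl⟩
        exact hcimg i a ha
      · intro a ha
        rw [hclast]
        have := hag a ha
        rw [inv_inv] at this ⊢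
        exact this

end Cfsg.Agent.Helper33
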