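import Mathlib
import Cfsg.Prelude.Def_Solvable
import Cfsg.Agent.Helper52.PerfectCore

/-!
# Three small group-theoretic pieces for S4118 (helper95 WANTED #4019)  -- helper33

* `exists_complement_in_normalizer` (SZ): Schur-Zassenhaus inside `N_G(H)`.
* `normal_of_centralizes` (NH).
* `exists_min_noncentralized` (MIN).
-/

set_option autoImplicit false
set_option linter.style.haveILetI false
set_option linter.unusedVariables false

namespace Cfsg.Agent.Helper33.FrobPieces

open Subgroup

/-- (SZ) -/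
theorem exists_complement_in_normalizer {G : Type*} [Group G] [Finite G] (H : Subgroup G)
    (hHall : (Nat.card H).Coprime (H.subgroupOf (normalizer (H : Set G))).index) :
    ∃ Q : Subgroup G, Q ≤ normalizer (H : Set G) ∧ (Nat.card Q).Coprime (Nat.card H) ∧
      H ⊔ Q = normalizer (H : Set G) := by
  classical
  obtain ⟨N, hN⟩ : ∃ N : Subgroup G, N = normalizer (H : Set G) := ⟨_, rfl⟩
  rw [← hN] at hHall ⊢
  have hHN : H ≤ N := by rw [hN]; exact le_normalizer
  haveI hnorm : (H.subgroupOf N).Normal := by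
    rw [hN]; exact Subgroup.normal_in_normalizer
  have hcard : Nat.card (H.subgroupOf N) = Nat.card H :=
    Nat.card_congr (Subgroup.subgroupOfEquivOfLe hHN).toEquiv
  have hcop : (Nat.card (H.subgroupOf N)).Coprime (H.subgroupOf N).index := by
    rw [hcard]; exact hHall
  obtain ⟨K, hK⟩ := Subgroup.exists_right_complement'_of_coprime hcop
  refine ⟨K.map N.subtype, Subgroup.map_subtype_le _, ?_, ?_⟩
  · have h1 : Nat.card (K.map N.subtype) = Nat.card K :=
      Nat.card_congr (K.equivMapOfInjective N.subtype N.subtype_injective).symm.toEquiv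
    have h2 : Nat.card K = (H.subgroupOf N).index := hK.symm.index_eq_card.symm
    rw [h1, h2]
    exact hHall.symm
  · have h3 : H.subgroupOf N ⊔ K = ⊤ := hK.sup_eq_top
    have h4 : (H.subgroupOf N ⊔ K).map N.subtype = (⊤ : Subgroup N).map N.subtype := by rw [h3]
    rw [Subgroup.map_sup, ← MonoidHom.range_eq_map, Subgroup.range_subtype,
      Subgroup.subgroupOf_map_subtype, inf_of_le_left hHN] at h4
    exact h4

theorem pow_card_eq_one_of_mem {G : Type*} [Group G] [Finite G] {H : Subgroup G} {h : G}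
    (hh : h ∈ H) : h ^ Nat.card H = 1 := by
  have h' := pow_card_eq_one' (G := ↥H) (x := ⟨h, hh⟩)
  have h'' := congrArg Subtype.val h'
  rw [Subgroup.coe_pow, Subgroup.coe_one] at h''
  exact h''

/-- (NH) -/
theorem normal_of_centralizes {G : Type*} [Group G] [Finite G] (H O : Subgroup G) [O.Normal]
    (hcop : (Nat.card O).Coprime (Nat.card H)) (hn : (O ⊔ H).Normal)
    (hc : H ≤ centralizer (O : Set G)) : H.Normal := by
  classical
  refine ⟨fun h hh g => ?_⟩
  have h1 : g * h * g⁻¹ ∈ O ⊔ H := hn.conj_mem h (mem_sup_right hh) g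
  obtain ⟨o, ho, k, hk, hok⟩ := Subgroup.mem_sup_of_normal_left.1 h1
  have hcomm : Commute o k := by
    have := (Subgroup.mem_centralizer_iff.1 (hc hk)) o ho
    exact this
  -- `(g h g⁻¹)^|H| = 1`
  have hpow : (g * h * g⁻¹) ^ Nat.card H = 1 := by
    rw [conj_pow]
    have : h ^ Nat.card H = 1 := pow_card_eq_one_of_mem hh
    rw [this, mul_one, mul_inv_cancel]
  have hk1 : k ^ Nat.card H = 1 := pow_card_eq_one_of_mem hk
  have ho1 : o ^ Nat.card H = 1 := by
    rw [← hok, hcomm.mul_pow, hk1, mul_one] at hpow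
    exact hpow
  have ho2 : o ^ Nat.card O = 1 := pow_card_eq_one_of_mem ho
  have ho : o = 1 := by
    have hd1 : orderOf o ∣ Nat.card H := orderOf_dvd_of_pow_eq_one ho1
    have hd2 : orderOf o ∣ Nat.card O := orderOf_dvd_of_pow_eq_one ho2
    have : orderOf o ∣ 1 := by
      have := Nat.dvd_gcd hd2 hd1
      rwa [hcop.gcd_eq_one] at this
    exact orderOf_eq_one_iff.1 (Nat.dvd_one.1 this)
  rw [← hok, ho, one_mul]
  exact hk

/-- (MIN) -/
theorem exists_min_noncentralized {G : Type*} [Group G] [Finite G] (H O : Subgroup G) [O.Normal]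
    (hsol : Group.IsSolvable O) (hnc : ¬ H ≤ centralizer (O : Set G)) :
    ∃ A : Subgroup G, A.Normal ∧ A ≤ O ∧ ¬ H ≤ centralizer (A : Set G) ∧
      H ≤ centralizer ((⁅A, A⁆ : Subgroup G) : Set G) := by
  classical
  -- the set of candidates
  let S : Set (Subgroup G) := {A | A.Normal ∧ A ≤ O ∧ ¬ H ≤ centralizer (A : Set G)}
  have hS : S.Nonempty := ⟨O, inferInstance, le_rfl, hnc⟩
  have hfin : S.Finite := Set.toFinite S
  obtain ⟨A, hAS, hAmin⟩ := hfin.exists_minimal hS
  obtain ⟨hAn, hAO, hAnc⟩ := hAS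
  refine ⟨A, hAn, hAO, hAnc, ?_⟩
  by_contra hcon
  haveI := hAn
  have hDn : (⁅A, A⁆ : Subgroup G).Normal := Subgroup.commutator_normal A A
  have hDA : ⁅A, A⁆ ≤ A := Subgroup.commutator_le_self A
  have hDS : ⁅A, A⁆ ∈ S := ⟨hDn, hDA.trans hAO, hcon⟩
  have hAD : A ≤ ⁅A, A⁆ := hAmin hDS hDA
  have hperf : ⁅A, A⁆ = A := le_antisymm hDA hAD
  have htop : _root_.commutator ↥A = ⊤ :=
    Cfsg.Agent.Helper52.PerfectCore.commutator_eq_top_of_perfect A hperf
  haveI hAsol : Group.IsSolvable ↥A :=
    Group.isSolvable_of_isSolvable_injective (Subgroup.inclusion_injective hAO)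
  have hA1 : A ≠ ⊥ := by
    rintro rfl
    apply hAnc
    intro h _
    rw [Subgroup.mem_centralizer_iff]
    intro x hx
    have : x = 1 := by simpa using hx
    rw [this, one_mul, mul_one]
  haveI : Nontrivial ↥A := (Subgroup.nontrivial_iff_ne_bot A).2 hA1
  exact (Group.IsSolvable.commutator_lt_top_of_nontrivial ↥A).ne htop

end Cfsg.Agent.Helper33.FrobPieces
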