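import Cfsg.Agent.Helper33.FusReach

set_option autoImplicit false

namespace Cfsg.Agent.Helper33

variable {G G' : Type*} [Group G] [Group G']

theorem image_conjR (f : G →* G') (z : G) (B : Set G) : f '' conjR z B = conjR (f z) (f '' B) := by
  ext y
  constructor
  · rintro ⟨_, ⟨b, hb, rfl⟩, rfl⟩
    exact ⟨f b, ⟨b, hb, rfl⟩, by simp⟩
  · rintro ⟨_, ⟨b, hb, rfl⟩, rfl⟩
    exact ⟨z⁻¹ * b * z, ⟨b, hb, rfl⟩, by simp⟩

/-- Lifting a chain along a homomorphism, provided single steps lift to reachable conjugations. -/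
theorem RChain.lift_surj (f : G →* G') {K D : Set G} {K' D' : Set G'}
    (hstep : ∀ z' ∈ K', ∀ B : Set G, B ⊆ D → conjR z' (f '' B) ⊆ D' →
      ∃ z, f z = z' ∧ Reach K D B z)
    {B' : Set G'} {x' : G'} (h : RChain K' D' B' x') :
    ∀ B : Set G, B ⊆ D → f '' B = B' → ∃ x, f x = x' ∧ Reach K D B x := by
  induction h with
  | nil B' =>
    intro B _ _
    exact ⟨1, map_one f, Reach.refl B⟩
  | cons B' z' x' hz hzB _ ih =>
    intro B hB hfB
    subst hfB
    obtain ⟨z, hfz, hR⟩ := hstep z' hz B hB hzB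
    have hB1 : conjR z B ⊆ D := hR.conjR_subset hB
    obtain ⟨x, hfx, hRx⟩ := ih (conjR z B) hB1 (by rw [image_conjR, hfz])
    exact ⟨z * x, by rw [map_mul, hfz, hfx], hR.trans hRx⟩

theorem mem_normalizer_of_conjR_subset [Finite G] {U : Subgroup G} {y : G}
    (h : conjR y (U : Set G) ⊆ U) : y ∈ Subgroup.normalizer (U : Set G) := by
  apply mem_normalizer_of_conjR_eq
  apply Set.eq_of_subset_of_ncard_le h ?_ (Set.toFinite _)
  rw [conjR_def, Set.ncard_image_of_injective]
  intro a b hab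
  simpa using hab

/-- The subgroup of elements conjugated into `S` by `g` (right conjugation). -/
theorem conjR_closure_subset {S : Subgroup G} {A : Set G} {g : G}
    (hgA : conjR g A ⊆ (S : Set G)) :
    conjR g ((Subgroup.closure A : Subgroup G) : Set G) ⊆ (S : Set G) := by
  have h1 : Subgroup.closure A ≤ S.comap (MulAut.conj g⁻¹).toMonoidHom := by
    rw [Subgroup.closure_le]
    intro a ha
    show (MulAut.conj g⁻¹) a ∈ S
    rw [MulAut.conj_apply, inv_inv]
    exact hgA ⟨a, ha, rfl⟩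
  rintro _ ⟨a, ha, rfl⟩
  have := h1 ha
  have h2 : (MulAut.conj g⁻¹) a ∈ S := this
  rw [MulAut.conj_apply, inv_inv] at h2
  exact h2

/-- Second isomorphism theorem for indices. -/
theorem relIndex_sup_normal [Finite G] (T N : Subgroup G) [N.Normal] :
    T.relIndex (T ⊔ N) = T.relIndex N := by
  have h1 : Nat.card N * N.relIndex (T ⊔ N) = Nat.card ↥(T ⊔ N) := by
    rw [← Subgroup.relIndex_bot_left, ← Subgroup.relIndex_bot_left (H := T ⊔ N)]
    exact Subgroup.relIndex_mul_relIndex _ _ _ bot_le le_sup_right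
  have h2 : Nat.card T * T.relIndex (T ⊔ N) = Nat.card ↥(T ⊔ N) := by
    rw [← Subgroup.relIndex_bot_left, ← Subgroup.relIndex_bot_left (H := T ⊔ N)]
    exact Subgroup.relIndex_mul_relIndex _ _ _ bot_le le_sup_left
  have h3 : N.relIndex (T ⊔ N) = N.relIndex T := Subgroup.relIndex_sup_right T N
  have h4 : Nat.card ↥(T ⊓ N) * N.relIndex T = Nat.card T := by
    rw [← Subgroup.inf_relIndex_left, ← Subgroup.relIndex_bot_left, ← Subgroup.relIndex_bot_left (H := T)]
    exact Subgroup.relIndex_mul_relIndex _ _ _ bot_le inf_le_left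
  have h5 : Nat.card ↥(T ⊓ N) * T.relIndex N = Nat.card N := by
    rw [← Subgroup.inf_relIndex_right, ← Subgroup.relIndex_bot_left, ← Subgroup.relIndex_bot_left (H := N)]
    exact Subgroup.relIndex_mul_relIndex _ _ _ bot_le inf_le_right
  have hpos1 : 0 < Nat.card ↥(T ⊓ N) := Nat.card_pos
  have hpos2 : 0 < N.relIndex T := by
    rcases Nat.eq_zero_or_pos (N.relIndex T) with h | h
    · rw [h, mul_zero] at h4
      have : 0 < Nat.card T := Nat.card_pos
      omega
    · exact h
  have e1 : Nat.card ↥(T ⊓ N) * N.relIndex T * T.relIndex (T ⊔ N) =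
      Nat.card ↥(T ⊓ N) * N.relIndex T * T.relIndex N := by
    calc Nat.card ↥(T ⊓ N) * N.relIndex T * T.relIndex (T ⊔ N)
        = Nat.card T * T.relIndex (T ⊔ N) := by rw [h4]
      _ = Nat.card N * N.relIndex (T ⊔ N) := by rw [h2, h1]
      _ = (Nat.card ↥(T ⊓ N) * T.relIndex N) * N.relIndex T := by rw [h5, h3]
      _ = Nat.card ↥(T ⊓ N) * N.relIndex T * T.relIndex N := by ring
  exact Nat.eq_of_mul_eq_mul_left (Nat.mul_pos hpos1 hpos2) e1

end Cfsg.Agent.Helper33
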