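import Cfsg.Agent.Helper33.InducedFunctor

set_option autoImplicit false

universe u

namespace Cfsg.Agent.Helper33

variable {p : ℕ} {W : ∀ (Q : Type u) [Group Q], Subgroup Q}

/-- The induced functor commutes with homomorphisms that are injective on the given finite
`p`-subgroup. -/
theorem inducedFunctor_map_of_injOn (hW : Cfsg.IsCharPFunctor.{u} p W) {X Y : Type u} [Group X]
    [Group Y] (f : X →* Y) (P : Subgroup X) [Finite P] (hP : IsPGroup p P)
    (hf : Set.InjOn f (P : Set X)) :
    Cfsg.inducedFunctor W (P.map f) = (Cfsg.inducedFunctor W P).map f := by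
  unfold Cfsg.inducedFunctor
  have hg : Function.Bijective (f.subgroupMap P) := by
    refine ⟨?_, f.subgroupMap_surjective P⟩
    intro a b hab
    apply Subtype.ext
    apply hf a.2 b.2
    exact congrArg Subtype.val hab
  have h1 := hW.2 ↥P ↥(P.map f) hP (MulEquiv.ofBijective (f.subgroupMap P) hg)
  rw [← h1, Subgroup.map_map, Subgroup.map_map]
  congr 1

theorem inducedFunctor_map_of_injective (hW : Cfsg.IsCharPFunctor.{u} p W) {X Y : Type u} [Group X]
    [Group Y] (f : X →* Y) (hf : Function.Injective f) (P : Subgroup X) [Finite P]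
    (hP : IsPGroup p P) :
    Cfsg.inducedFunctor W (P.map f) = (Cfsg.inducedFunctor W P).map f :=
  inducedFunctor_map_of_injOn hW f P hP hf.injOn

end Cfsg.Agent.Helper33
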