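import Cfsg.Agent.Helper33.FamilyFusion3
import Cfsg.Agent.Helper33.InducedMap

set_option autoImplicit false

universe u

namespace Cfsg.Agent.Helper33

/-- The family of conjugacy functors on `X` induced by a set of functors on groups. -/
def FamW (𝓦 : Set (∀ (Q : Type u) [Group Q], Subgroup Q)) (X : Type u) [Group X] :
    Set (Subgroup X → Subgroup X) :=
  (fun W => Cfsg.inducedFunctor (G := X) W) '' 𝓦

theorem famW_isConjugacyFunctor {p : ℕ} {𝓦 : Set (∀ (Q : Type u) [Group Q], Subgroup Q)}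
    (h𝓦 : ∀ W ∈ 𝓦, Cfsg.IsCharPFunctor.{u} p W) (X : Type u) [Group X] [Finite X] :
    ∀ W' ∈ FamW 𝓦 X, Cfsg.IsConjugacyFunctor p W' := by
  rintro _ ⟨W, hW, rfl⟩
  exact isConjugacyFunctor_inducedFunctor (h𝓦 W hW) X

section

variable {G : Type*} [Group G]

theorem KW_mono {𝓦 : Set (Subgroup G → Subgroup G)} {H H' N' : Subgroup G} (h : H ≤ H') :
    KW 𝓦 H N' ⊆ KW 𝓦 H' N' := by
  rintro z ⟨W, hW, hz⟩
  exact ⟨W, hW, Subgroup.mem_inf.mpr ⟨h (Subgroup.mem_inf.mp hz).1, (Subgroup.mem_inf.mp hz).2⟩⟩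

theorem RChain.mono_K {K K' D : Set G} (hK : K ⊆ K') {A : Set G} {g : G} (h : RChain K D A g) :
    RChain K' D A g := by
  induction h with
  | nil A => exact RChain.nil A
  | cons A z g hz hzA _ ih => exact RChain.cons A z g (hK hz) hzA ih

theorem Reach.mono_K {K K' D : Set G} (hK : K ⊆ K') {A : Set G} {g : G} (h : Reach K D A g) :
    Reach K' D A g := by
  obtain ⟨g', hch, hag⟩ := h
  exact ⟨g', hch.mono_K hK, hag⟩

/-- Control of strong fusion in `H`, read at a Sylow `p`-subgroup `S` of `H`, in terms of `Reach`. -/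
theorem reach_of_ctlIn {p : ℕ} [Fact p.Prime] [Finite G] {𝓦 : Set (Subgroup G → Subgroup G)}
    (h𝓦 : ∀ W ∈ 𝓦, Cfsg.IsConjugacyFunctor p W) {H S : Subgroup G}
    (hctl : Cfsg.FamilyControlsStrongFusionIn p 𝓦 H) (hSH : S ≤ H) (hSp : IsPGroup p S)
    (hSidx : ¬ p ∣ S.relIndex H) {A : Set G} {g : G} (hg : g ∈ H) (hA : A ⊆ (S : Set G))
    (hgA : conjR g A ⊆ (S : Set G)) : Reach (KW 𝓦 H S) (S : Set G) A g := by
  have hgA' : ∀ b ∈ A, g⁻¹ * b * g⁻¹⁻¹ ∈ S := by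
    intro b hb
    rw [inv_inv]
    exact hgA ⟨b, hb, rfl⟩
  obtain ⟨n, c, hc0, hcstep, hcimg, hclast⟩ :=
    familyControlsStrongFusionIn_at h𝓦 hctl hSH hSp hSidx A g⁻¹ (Subgroup.inv_mem _ hg) hA hgA'
  have hrc := rchain_of_chain KW_inv n A c hc0 hcstep hcimg
  refine ⟨_, hrc, ?_⟩
  intro a ha
  have := hclast a ha
  rw [inv_inv] at this ⊢
  exact this

/-- Conversely, reachability of all conjugations between subsets of a Sylow `p`-subgroup gives control of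
strong fusion. -/
theorem ctl_of_reach {p : ℕ} {𝓦 : Set (Subgroup G → Subgroup G)} {S : Subgroup G}
    (hSp : IsPGroup p S) (hSidx : ¬ p ∣ S.index)
    (h : ∀ (A : Set G) (g : G), A ⊆ (S : Set G) → conjR g A ⊆ (S : Set G) →
      Reach (KW 𝓦 ⊤ S) (S : Set G) A g) :
    Cfsg.FamilyControlsStrongFusionIn p 𝓦 ⊤ := by
  refine ⟨S, le_top, hSp, ?_, ?_⟩
  · rw [Subgroup.relIndex_top_right]; exact hSidx
  · intro A x _ hA hxA
    have hxA' : conjR x⁻¹ A ⊆ (S : Set G) := by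
      rintro _ ⟨a, ha, rfl⟩
      rw [inv_inv]
      exact hxA ⟨a, ha, rfl⟩
    obtain ⟨g', hrc, hag⟩ := h A x⁻¹ hA hxA'
    obtain ⟨n, c, hc0, hcstep, hcimg, hclast⟩ := chain_of_rchain hrc KW_inv hA
    refine ⟨n, c, hc0, hcstep, ?_, ?_⟩
    · rintro i _ ⟨a, ha, rfl⟩
      exact hcimg i a ha
    · intro a ha
      rw [hclast]
      have := hag a ha
      rw [inv_inv] at this ⊢
      exact this

end

end Cfsg.Agent.Helper33
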