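import Cfsg.Agent.Helper18.InvOdd.G2D

/-!
# Helper33: piece (J) of helper18's S4279 farm (batch C): the rank-one homomorphisms
`SL₂(F) → G₂(F)` of the roots `b` and `2a+b` are injective.
-/

set_option autoImplicit false

namespace Cfsg.Agent.Helper33.G2Inv

open Cfsg Cfsg.Lie Cfsg.Agent.Helper18 Cfsg.Agent.Helper18.G2Odd Cfsg.Agent.Helper40.SL2Hom

variable {F : Type*} [Field F]

theorem pairing_6_7 : pairing' chevG2 6 7 = -1 := by decide

theorem pairing_9_7 : pairing' chevG2 9 7 = 1 := by decide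

/-- the kernel of `phiR r` is trivial for `r = 6, 9` -/
theorem phiR_eq_one (r : ℕ) (hr : r = 6 ∨ r = 9) (hr12 : r < 12)
    (A : Matrix.SpecialLinearGroup (Fin 2) F) (hA : phiR (F := F) r hr12 A = 1) : A = 1 := by
  have hpos : 6 ≤ r ∧ r < 12 := by rcases hr with rfl | rfl <;> decide
  have hdet : A 0 0 * A 1 1 - A 0 1 * A 1 0 = 1 := by
    have := A.2
    rwa [Matrix.det_fin_two] at this
  have hval : phi (X (F := F) r) (X (11 - r)) (A 0 0) (A 0 1) (A 1 0) (A 1 1) = 1 := hA
  unfold phi at hval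
  by_cases hc : A 1 0 = 0
  · rw [if_pos hc] at hval
    -- `X r (a b) * hh r a = 1`
    have ha0 : A 0 0 ≠ 0 := by
      intro h0
      rw [h0, hc, zero_mul, mul_zero, sub_zero] at hdet
      exact zero_ne_one hdet
    have hH : hh r (A 0 0) ∈ chevG2.diagonalSubgroup F := hh_mem_diagonal r hr12 _ ha0
    have hXeq : X r (A 0 0 * A 0 1) = (hh r (A 0 0))⁻¹ := eq_inv_of_mul_eq_one_left hval
    have hXbot : X r (A 0 0 * A 0 1) ∈ chevG2.posUnipotent F ⊓ chevG2.diagonalSubgroup F := by
      refine Subgroup.mem_inf.mpr ⟨X_mem_pos r hpos _, ?_⟩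
      rw [hXeq]
      exact Subgroup.inv_mem _ hH
    rw [(Cfsg.Agent.S1036.result chevG2 hG2).2, Subgroup.mem_bot] at hXbot
    have hab : A 0 0 * A 0 1 = 0 := by
      apply X_injective r hr12
      rw [hXbot, X_zero]
    have hb : A 0 1 = 0 := by
      rcases mul_eq_zero.mp hab with h | h
      · exact absurd h ha0
      · exact h
    have hh1 : hh r (A 0 0) = 1 := by
      rw [hXbot] at hXeq
      exact inv_eq_one.mp hXeq.symm
    have hconj := hh_conj r 7 hr12 (by decide) (A 0 0) (1 : F) ha0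
    rw [hh1, one_mul, inv_one, mul_one] at hconj
    have hpow : A 0 0 ^ pairing' chevG2 r 7 * 1 = 1 := (X_injective 7 (by decide) _ _ hconj).symm
    rw [mul_one] at hpow
    have ha1 : A 0 0 = 1 := by
      rcases hr with rfl | rfl
      · rw [pairing_6_7, zpow_neg_one] at hpow
        exact inv_eq_one.mp hpow
      · rw [pairing_9_7, zpow_one] at hpow
        exact hpow
    have hd1 : A 1 1 = 1 := by
      rw [ha1, hb, one_mul, zero_mul, sub_zero] at hdet
      exact hdet
    apply Subtype.ext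
    ext i j
    fin_cases i <;> fin_cases j
    · exact ha1
    · exact hb
    · exact hc
    · exact hd1
  · exfalso
    rw [if_neg hc] at hval
    -- `nn r ∈ B ⊓ N = H`
    have hc' : -(A 1 0)⁻¹ ≠ 0 := neg_ne_zero.mpr (inv_ne_zero hc)
    have hH : hh r (-(A 1 0)⁻¹) ∈ chevG2.borelSubgroup F :=
      (le_sup_right : chevG2.diagonalSubgroup F ≤ chevG2.borelSubgroup F)
        (hh_mem_diagonal r hr12 _ hc')
    have hU : ∀ t : F, X r t ∈ chevG2.borelSubgroup F := fun t =>
      (le_sup_left : chevG2.posUnipotent F ≤ chevG2.borelSubgroup F) (X_mem_pos r hpos t)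
    have hval' : X r (A 0 0 / A 1 0) * hh r (-(A 1 0)⁻¹) * nn r * X r (A 1 1 / A 1 0) = 1 := hval
    have hnn : nn (F := F) r = (X r (A 0 0 / A 1 0) * hh r (-(A 1 0)⁻¹))⁻¹ * (X r (A 1 1 / A 1 0))⁻¹ := by
      have h1 : X r (A 0 0 / A 1 0) * hh r (-(A 1 0)⁻¹) * nn r = (X r (A 1 1 / A 1 0))⁻¹ :=
        eq_inv_of_mul_eq_one_left hval'
      rw [← h1]
      group
    have hB : nn (F := F) r ∈ chevG2.borelSubgroup F := by
      rw [hnn]
      exact Subgroup.mul_mem _ (Subgroup.inv_mem _ (Subgroup.mul_mem _ (hU _) hH))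
        (Subgroup.inv_mem _ (hU _))
    have hBN : nn (F := F) r ∈ chevG2.borelSubgroup F ⊓ chevG2.monomialSubgroup F :=
      Subgroup.mem_inf.mpr ⟨hB, nn_mem_monomial r hr12⟩
    rw [(Cfsg.Agent.S1040.result chevG2 hG2).2] at hBN
    exact nn_not_mem_diagonal r hr12 hBN

/-- (J) the rank-one homomorphisms of the roots `b` and `2a+b` are injective. -/
theorem phiR_injective (r : ℕ) (hr : r = 6 ∨ r = 9) :
    Function.Injective (phiR (F := F) r (by rcases hr with rfl | rfl <;> decide)) := by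
  rw [injective_iff_map_eq_one]
  intro A hA
  exact phiR_eq_one r hr _ A hA

end Cfsg.Agent.Helper33.G2Inv
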