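import Mathlib
import Cfsg.Prelude.Def_Solvable
import Cfsg.Prelude.Def_CaseTheorems

/-!
helper33 (hedge) for helper42 (S4385, Goldschmidt's dihedral lemma): piece (GEN) `exists_conj_gen_inf` of
`tools/helper42_gd/Skel.lean.txt`, verbatim.  Generalises helper20's `SimsD` (CONJD) from odd primes to odd `n`.
-/

set_option autoImplicit false

universe u

namespace Cfsg.Agent.Helper33.GD

open Pointwise Cfsg

theorem GEN_r_pow {n : ℕ} (j : ZMod n) (k : ℕ) :
    (DihedralGroup.r j) ^ k = DihedralGroup.r ((k : ZMod n) * j) := by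
  induction k with
  | zero => rw [pow_zero, Nat.cast_zero, zero_mul, DihedralGroup.one_def]
  | succ k ih =>
    rw [pow_succ, ih, DihedralGroup.r_mul_r]
    congr 1
    push_cast
    ring

theorem GEN_eq_top {n : ℕ} [NeZero n] (K : Subgroup (DihedralGroup n)) (i j : ZMod n)
    (hj : IsUnit j) (hs : DihedralGroup.sr i ∈ K) (hr : DihedralGroup.r j ∈ K) : K = ⊤ := by
  have hrot : ∀ k : ZMod n, DihedralGroup.r k ∈ K := by
    intro k
    have h1 : (DihedralGroup.r j) ^ (k * j⁻¹).val ∈ K := K.pow_mem hr _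
    rw [GEN_r_pow, ZMod.natCast_zmod_val, mul_assoc, ZMod.inv_mul_of_unit j hj, mul_one] at h1
    exact h1
  rw [eq_top_iff]
  intro g _
  cases g with
  | r k => exact hrot k
  | sr k =>
    have h2 : DihedralGroup.sr i * DihedralGroup.r (k - i) ∈ K := K.mul_mem hs (hrot _)
    rw [DihedralGroup.sr_mul_r] at h2
    have : i + (k - i) = k := by ring
    rw [this] at h2
    exact h2

theorem GEN_two_unit {n : ℕ} (hn : Odd n) : IsUnit (2 : ZMod n) := by
  have h : IsUnit ((2 : ℕ) : ZMod n) := (ZMod.isUnit_iff_coprime 2 n).mpr (Nat.coprime_two_left.mpr hn)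
  simpa using h

/-- (GEN) -/
theorem exists_conj_gen_inf {Γ : Type*} [Group Γ] [Finite Γ] (S : Subgroup Γ)
    (hQS : Cfsg.pCore 2 Γ ≤ S) (hcard : Nat.card S = 2 * Nat.card (Cfsg.pCore 2 Γ))
    {n : ℕ} (hn : Odd n) (hn3 : 3 ≤ n) (e : Γ ⧸ Cfsg.pCore 2 Γ ≃* DihedralGroup n) :
    ∃ g : Γ, S ⊔ MulAut.conj g • S = ⊤ ∧ S ⊓ MulAut.conj g • S = Cfsg.pCore 2 Γ := by
  haveI : NeZero n := ⟨by omega⟩
  haveI : Fact (1 < n) := ⟨by omega⟩
  set Q : Subgroup Γ := Cfsg.pCore 2 Γ with hQ
  let π : Γ →* DihedralGroup n := e.toMonoidHom.comp (QuotientGroup.mk' Q)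
  have hπsurj : Function.Surjective π := e.surjective.comp (QuotientGroup.mk'_surjective Q)
  have hker : ∀ x : Γ, π x = 1 ↔ x ∈ Q := by
    intro x
    show e (QuotientGroup.mk' Q x) = 1 ↔ _
    rw [MulEquiv.map_eq_one_iff, QuotientGroup.mk'_apply, QuotientGroup.eq_one_iff]
  have h2u : IsUnit (2 : ZMod n) := GEN_two_unit hn
  have h2ne : (2 : ZMod n) ≠ 0 := h2u.ne_zero
  -- `Q` has index two in `S`
  have hidx : Q.relIndex S = 2 := by
    have h1 := Subgroup.card_mul_index (Q.subgroupOf S)
    rw [Nat.card_congr (Subgroup.subgroupOfEquivOfLe hQS).toEquiv, hcard] at h1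
    have hpos : 0 < Nat.card Q := Nat.card_pos
    unfold Subgroup.relIndex
    nlinarith
  obtain ⟨a, haS, haQ, hab⟩ := Subgroup.relIndex_eq_two_iff_exists_notMem_and'.mp hidx
  have haa : (π a) * (π a) = 1 := by
    rw [← map_mul, hker]
    rcases hab a haS with h | h
    · exact h
    · exact absurd h haQ
  have hπa1 : π a ≠ 1 := fun h => haQ ((hker a).mp h)
  -- the image of `a` is a reflection
  obtain ⟨i, hi⟩ : ∃ i : ZMod n, π a = DihedralGroup.sr i := by
    cases hc : π a with
    | r j =>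
      exfalso
      rw [hc, DihedralGroup.r_mul_r, DihedralGroup.one_def] at haa
      have h0 : j + j = 0 := by
        have := DihedralGroup.r.inj haa
        exact this
      have h1 : (2 : ZMod n) * j = 0 := by rw [two_mul]; exact h0
      have h2 : j = 0 := by
        have := congrArg (fun z => (2 : ZMod n)⁻¹ * z) h1
        simp only [mul_zero] at this
        rw [← mul_assoc, ZMod.inv_mul_of_unit _ h2u, one_mul] at this
        exact this
      apply hπa1
      rw [hc, h2, DihedralGroup.one_def]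
    | sr j => exact ⟨j, rfl⟩
  have hSQ : ∀ b ∈ S, b ∉ Q → π b = DihedralGroup.sr i := by
    intro b hbS hbQ
    rcases hab b hbS with h | h
    · have h1 : π a * π b = 1 := by rw [← map_mul, hker]; exact h
      have h2 : π b = (π a)⁻¹ := (eq_inv_of_mul_eq_one_right h1)
      have h3 : (π a)⁻¹ = π a := inv_eq_of_mul_eq_one_right haa
      rw [h2, h3, hi]
    · exact absurd h hbQ
  obtain ⟨g, hg⟩ := hπsurj (DihedralGroup.r 1)
  have hconj : DihedralGroup.r (1 : ZMod n) * DihedralGroup.sr i * (DihedralGroup.r 1)⁻¹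
      = DihedralGroup.sr (i - 2) := by
    rw [DihedralGroup.inv_r, DihedralGroup.r_mul_sr, DihedralGroup.sr_mul_r]
    congr 1
    ring
  have hQconj : MulAut.conj g • Q = Q := Subgroup.Normal.conj_smul_eq_self g Q
  have hQle : Q ≤ MulAut.conj g • S := by
    rw [← hQconj]
    exact Subgroup.pointwise_smul_le_pointwise_smul_iff.mpr hQS
  have hmemconj : ∀ x : Γ, x ∈ MulAut.conj g • S ↔ g⁻¹ * x * g ∈ S := by
    intro x
    rw [Subgroup.mem_pointwise_smul_iff_inv_smul_mem, MulAut.smul_def, MulAut.conj_inv_apply]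
  refine ⟨g, ?_, ?_⟩
  · -- the join is everything
    set K : Subgroup Γ := S ⊔ MulAut.conj g • S with hK
    have hs1 : DihedralGroup.sr i ∈ K.map π := by
      rw [← hi]
      exact Subgroup.mem_map_of_mem π (Subgroup.mem_sup_left haS)
    have hs2 : DihedralGroup.sr (i - 2) ∈ K.map π := by
      rw [← hconj, ← hg, ← hi, ← map_inv, ← map_mul, ← map_mul]
      apply Subgroup.mem_map_of_mem π
      apply Subgroup.mem_sup_right
      rw [hmemconj]
      have : g⁻¹ * (g * a * g⁻¹) * g = a := by group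
      rw [this]
      exact haS
    have hr : DihedralGroup.r (-2 : ZMod n) ∈ K.map π := by
      have h3 := (K.map π).mul_mem hs1 hs2
      rw [DihedralGroup.sr_mul_sr] at h3
      have : i - 2 - i = -2 := by ring
      rw [this] at h3
      exact h3
    have htop : K.map π = ⊤ := GEN_eq_top _ i (-2) h2u.neg hs1 hr
    have hkerle : π.ker ≤ K := by
      intro x hx
      exact Subgroup.mem_sup_left (hQS ((hker x).mp (MonoidHom.mem_ker.mp hx)))
    have h4 : (K.map π).comap π = K := by
      rw [Subgroup.comap_map_eq, sup_eq_left.mpr hkerle]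
    rw [← h4, htop, Subgroup.comap_top]
  · -- the intersection is `Q`
    apply le_antisymm
    · intro x hx
      obtain ⟨hxS, hxc⟩ := Subgroup.mem_inf.mp hx
      by_contra hxQ
      have h1 : π x = DihedralGroup.sr i := hSQ x hxS hxQ
      rw [hmemconj] at hxc
      have hyQ : g⁻¹ * x * g ∉ Q := by
        intro h
        apply hxQ
        have h5 : g * (g⁻¹ * x * g) * g⁻¹ ∈ Q := (inferInstance : Q.Normal).conj_mem _ h g
        have : g * (g⁻¹ * x * g) * g⁻¹ = x := by group
        rw [this] at h5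
        exact h5
      have h2 : π (g⁻¹ * x * g) = DihedralGroup.sr i := hSQ _ hxc hyQ
      have h3 : π x = DihedralGroup.sr (i - 2) := by
        have : x = g * (g⁻¹ * x * g) * g⁻¹ := by group
        rw [this, map_mul, map_mul, map_inv, h2, hg, hconj]
      rw [h1] at h3
      have h4 : i = i - 2 := DihedralGroup.sr.inj h3
      apply h2ne
      have : (2 : ZMod n) = i - (i - 2) := by ring
      rw [this, ← h4, sub_self]
    · exact le_inf hQS hQle

end Cfsg.Agent.Helper33.GD
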