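import Mathlib
import Cfsg.Agent.S0200
import Cfsg.Agent.Helper60.GagolaC1

set_option autoImplicit false

/-!
# (GAG-C) of #5685 for S4839 (helper95): the case `p = 2`.   (helper33)
-/

namespace Cfsg.Agent.Helper33.Gagola

universe u

/-- (GAG-C) with (GAG-C1) as a hypothesis. -/
theorem pElement_mem_of_two_of {G : Type u} [Group G] [Finite G] (N : Subgroup G) [N.Normal]
    (hC1 : ∀ {A : Type u} [CommGroup A] (_ : ∀ a : A, a * a = 1) (α τ : MulAut A) (m : ℕ)
      (_ : Odd m) (_ : α ^ m = 1) (_ : τ * α * τ⁻¹ = α⁻¹) (_ : ∀ a : A, α a = a → a = 1) (v : A)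
      (_ : τ v = v), ∃ w : A, v = w * τ w)
    (hexp : ∀ a ∈ N, a * a = 1)
    (hcomm : ∀ a ∈ N, ∀ b ∈ N, a * b = b * a)
    (hcent : ∀ x ∈ N, x ≠ 1 → IsPGroup 2 (Subgroup.centralizer ({x} : Set G)))
    (hcam : ∀ g : G, g ∉ N → ∀ n ∈ N, ∃ c : G, c * g * c⁻¹ = g * n)
    (hCN : Subgroup.centralizer (N : Set G) ≤ N)
    (hcore : ∀ K : Subgroup G, K.Normal → IsPGroup 2 K → K ≤ N)
    (y : G) (k : ℕ) (hy : y ^ 2 ^ k = 1) : y ∈ N := by
  classical
  by_contra hyN
  -- (1) the element `x`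
  have hex : ∃ j : ℕ, y ^ 2 ^ j ∈ N := ⟨k, by rw [hy]; exact N.one_mem⟩
  obtain ⟨j, hj, hjmin⟩ : ∃ j : ℕ, y ^ 2 ^ j ∈ N ∧ ∀ i < j, y ^ 2 ^ i ∉ N :=
    ⟨Nat.find hex, Nat.find_spec hex, fun i hi => Nat.find_min hex hi⟩
  have hj0 : j ≠ 0 := by
    intro h0
    rw [h0, pow_zero, pow_one] at hj
    exact hyN hj
  obtain ⟨x, hxdef⟩ : ∃ x : G, x = y ^ 2 ^ (j - 1) := ⟨_, rfl⟩
  have hxN : x ∉ N := hxdef ▸ hjmin (j - 1) (by omega)
  have hx2 : x ^ 2 ∈ N := by
    have : x ^ 2 = y ^ 2 ^ j := by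
      rw [hxdef, ← pow_mul, ← pow_succ]
      congr 2
      omega
    rw [this]
    exact hj
  have hx2' : x * x ∈ N := by rwa [pow_two] at hx2
  -- `N` is a 2-group
  have hN2 : IsPGroup 2 N := by
    intro a
    refine ⟨1, ?_⟩
    apply Subtype.ext
    rw [pow_one, pow_two]
    exact hexp a a.2
  -- (2), (3) the inverted element
  have hxb1 : (QuotientGroup.mk x : G ⧸ N) ≠ 1 := by
    intro h
    exact hxN ((QuotientGroup.eq_one_iff x).1 h)
  have hxb2 : (QuotientGroup.mk x : G ⧸ N) ^ 2 = 1 := by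
    rw [← QuotientGroup.mk_pow]
    exact (QuotientGroup.eq_one_iff _).2 hx2
  have hxbord : orderOf (QuotientGroup.mk x : G ⧸ N) = 2 := orderOf_eq_prime hxb2 hxb1
  have hO : ∀ M : Subgroup (G ⧸ N), M.Normal → IsPGroup 2 M → (QuotientGroup.mk x : G ⧸ N) ∉ M := by
    intro M hMn hM2 hxM
    have h1 : (M.comap (QuotientGroup.mk' N)).Normal := hMn.comap _
    have h2 : IsPGroup 2 (M.comap (QuotientGroup.mk' N)) := by
      apply hM2.comap_of_ker_isPGroup
      rw [QuotientGroup.ker_mk']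
      exact hN2
    exact hxN (hcore _ h1 h2 (Subgroup.mem_comap.2 hxM))
  obtain ⟨hb, hb1, hbodd, hbinv⟩ := Cfsg.Agent.S0200.result _ hxbord hO
  obtain ⟨h, rfl⟩ := QuotientGroup.mk_surjective hb
  -- (4) the automorphisms of `N`
  letI : CommGroup ↥N :=
    { (inferInstance : Group ↥N) with mul_comm := fun a b => Subtype.ext (hcomm a a.2 b b.2) }
  have hρN : ∀ n ∈ N, (MulAut.conjNormal n : MulAut ↥N) = 1 := by
    intro n hn
    ext a
    rw [MulAut.conjNormal_apply, MulAut.one_apply, hcomm n hn a a.2]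
    group
  set m := orderOf (QuotientGroup.mk h : G ⧸ N) with hm
  have hhm : h ^ m ∈ N := by
    rw [← QuotientGroup.eq_one_iff, QuotientGroup.mk_pow, hm]
    exact pow_orderOf_eq_one _
  have hαm : (MulAut.conjNormal h : MulAut ↥N) ^ m = 1 := by
    rw [← map_pow]
    exact hρN _ hhm
  have hn'' : x * h * x⁻¹ * h ∈ N := by
    rw [← QuotientGroup.eq_one_iff]
    have : (QuotientGroup.mk (x * h * x⁻¹ * h) : G ⧸ N)
        = (QuotientGroup.mk x : G ⧸ N) * QuotientGroup.mk h * (QuotientGroup.mk x : G ⧸ N)⁻¹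
          * QuotientGroup.mk h := rfl
    rw [this, hbinv, inv_mul_cancel]
  have hτα : (MulAut.conjNormal x : MulAut ↥N) * MulAut.conjNormal h * (MulAut.conjNormal x)⁻¹
      = (MulAut.conjNormal h : MulAut ↥N)⁻¹ := by
    rw [← map_inv, ← map_mul, ← map_mul, ← map_inv]
    have h1 : x * h * x⁻¹ = (x * h * x⁻¹ * h) * h⁻¹ := by group
    rw [h1, map_mul, hρN _ hn'', one_mul]
  have hfpf : ∀ a : ↥N, (MulAut.conjNormal h : MulAut ↥N) a = a → a = 1 := by
    intro a ha
    by_contra ha1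
    have ha1' : (a : G) ≠ 1 := fun h0 => ha1 (Subtype.ext h0)
    have h1 : h * (a : G) * h⁻¹ = (a : G) := by
      have := congrArg Subtype.val ha
      rwa [MulAut.conjNormal_apply] at this
    have h2 : h ∈ Subgroup.centralizer ({(a : G)} : Set G) := by
      rw [Subgroup.mem_centralizer_iff]
      intro b hb
      rw [Set.mem_singleton_iff] at hb
      subst hb
      calc (a : G) * h = (h * (a : G) * h⁻¹) * h := by rw [h1]
        _ = h * (a : G) := by group
    obtain ⟨e, he⟩ := hcent (a : G) a.2 ha1' ⟨h, h2⟩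
    have he' : h ^ 2 ^ e = 1 := congrArg Subtype.val he
    have h3 : (QuotientGroup.mk h : G ⧸ N) ^ 2 ^ e = 1 := by
      rw [← QuotientGroup.mk_pow, he']
      rfl
    have h4 : m ∣ 2 ^ e := orderOf_dvd_of_pow_eq_one h3
    have h5 : Nat.Coprime m (2 ^ e) := Nat.Coprime.pow_right _ (Nat.coprime_two_right.2 hbodd)
    have h6 : m = 1 := Nat.Coprime.eq_one_of_dvd h5 h4
    exact hb1 (orderOf_eq_one_iff.1 h6)
  -- (5) the element `w`
  have hτv : (MulAut.conjNormal x : MulAut ↥N) ⟨x * x, hx2'⟩ = ⟨x * x, hx2'⟩ := by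
    apply Subtype.ext
    rw [MulAut.conjNormal_apply]
    show x * (x * x) * x⁻¹ = x * x
    group
  obtain ⟨w, hw⟩ := hC1 (A := ↥N) (fun a => Subtype.ext (hexp a a.2)) (MulAut.conjNormal h)
    (MulAut.conjNormal x) m hbodd hαm hτα hfpf ⟨x * x, hx2'⟩ hτv
  have hw' : x * x = (w : G) * (x * (w : G) * x⁻¹) := by
    have := congrArg Subtype.val hw
    rw [Subgroup.coe_mul, MulAut.conjNormal_apply] at this
    exact this
  obtain ⟨u, hu⟩ : ∃ u : G, u = x * (w : G) * x⁻¹ := ⟨_, rfl⟩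
  have huN : u ∈ N := by
    rw [hu]
    exact Subgroup.Normal.conj_mem inferInstance _ w.2 x
  have hzN : x * u ∉ N := fun hz => hxN (by
    have := N.mul_mem hz (N.inv_mem huN)
    simpa using this)
  have hwu : x * x = (w : G) * u := by
    rw [hu]
    exact hw'
  have hz2 : (x * u) * (x * u) = 1 := by
    have h1 : (x * u) * (x * u) = (x * x) * ((w : G) * u) := by
      rw [hu]; group
    rw [h1, ← hwu]
    exact hexp _ hx2'
  -- (6) `z` centralizes `N`
  have hzC : x * u ∈ Subgroup.centralizer (N : Set G) := by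
    rw [Subgroup.mem_centralizer_iff]
    intro n hn
    obtain ⟨c, hc⟩ := hcam (x * u) hzN n hn
    have h1 : (x * u * n) * (x * u * n) = 1 := by
      rw [← hc]
      calc c * (x * u) * c⁻¹ * (c * (x * u) * c⁻¹) = c * ((x * u) * (x * u)) * c⁻¹ := by group
        _ = 1 := by rw [hz2]; group
    have h2 : n * n = 1 := hexp n hn
    -- from `z n z n = 1`, `z z = 1`, `n n = 1`
    have e1 : n * (x * u) * n = x * u := by
      calc n * (x * u) * n = ((x * u) * (x * u)) * (n * (x * u) * n) := by rw [hz2, one_mul]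
        _ = (x * u) * ((x * u * n) * (x * u * n)) := by group
        _ = x * u := by rw [h1, mul_one]
    calc n * (x * u) = n * (x * u) * (n * n) := by rw [h2, mul_one]
      _ = (n * (x * u) * n) * n := by group
      _ = (x * u) * n := by rw [e1]
  exact hzN (hCN hzC)

/-- (GAG-C) -/
theorem pElement_mem_of_two {G : Type*} [Group G] [Finite G] (N : Subgroup G) [N.Normal]
    (hexp : ∀ a ∈ N, a * a = 1) (hcomm : ∀ a ∈ N, ∀ b ∈ N, a * b = b * a)
    (hcent : ∀ x ∈ N, x ≠ 1 → IsPGroup 2 (Subgroup.centralizer ({x} : Set G)))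
    (hcam : ∀ g : G, g ∉ N → ∀ n ∈ N, ∃ c : G, c * g * c⁻¹ = g * n)
    (hCN : Subgroup.centralizer (N : Set G) ≤ N)
    (hcore : ∀ K : Subgroup G, K.Normal → IsPGroup 2 K → K ≤ N)
    (y : G) (k : ℕ) (hy : y ^ 2 ^ k = 1) : y ∈ N :=
  pElement_mem_of_two_of N
    (fun hexp' α τ m hm hαm hinv hfpf v hv =>
      Cfsg.Agent.Helper60.Gagola.exists_mul_of_fixed hexp' α τ m hm hαm hinv hfpf v hv)
    hexp hcomm hcent hcam hCN hcore y k hy

end Cfsg.Agent.Helper33.Gagola
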