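import Mathlib
import Cfsg.Agent.Helper64.GrossMidDefs
import Cfsg.Agent.Helper47.Comm2
import Cfsg.Agent.S3736
import Cfsg.Agent.S0027

/-!
# Gross's theorem (S3795), piece (HH) of board post #6324 (helper64):
the Hall–Higman reduction of a minimal configuration.
-/

set_option autoImplicit false

namespace Cfsg.Agent.Helper33.Gross

open Subgroup Cfsg.Agent.Helper64.Gross
open scoped commutatorElement

universe uΓ uW

section basics

variable {Γ : Type*} [Group Γ]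

/-- the elements of `zpowers τ` for an involution-or-trivial `τ` -/
theorem mem_zpowers_of_sq {τ : Γ} (hτ : τ * τ = 1) {t : Γ} (ht : t ∈ zpowers τ) :
    t = 1 ∨ t = τ := by
  obtain ⟨k, rfl⟩ := Subgroup.mem_zpowers_iff.mp ht
  have h2 : τ ^ (2 : ℤ) = 1 := by
    rw [zpow_ofNat, pow_two]; exact hτ
  have hk : k = 2 * (k / 2) + k % 2 := (Int.mul_ediv_add_emod k 2).symm
  rw [hk, zpow_add, zpow_mul, h2, one_zpow, one_mul]
  rcases Int.emod_two_eq_zero_or_one k with h | h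
  · left; rw [h, zpow_zero]
  · right; rw [h, zpow_one]

/-- `⁅K, zpowers τ⁆ ≤ M` as soon as all `⁅a, τ⁆` lie in `M` -/
theorem commutator_zpowers_le {τ : Γ} (hτ : τ * τ = 1) (K M : Subgroup Γ)
    (h : ∀ a ∈ K, ⁅a, τ⁆ ∈ M) : ⁅K, zpowers τ⁆ ≤ M := by
  rw [Subgroup.commutator_le]
  intro a ha t ht
  rcases mem_zpowers_of_sq hτ ht with rfl | rfl
  · rw [commutatorElement_one_right]; exact M.one_mem
  · exact h a ha

theorem commutator_le_of_normalizes {B A : Subgroup Γ} (h : B ≤ normalizer (A : Set Γ)) :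
    ⁅A, B⁆ ≤ A := by
  rw [Subgroup.commutator_le]
  intro x hx b hb
  have h2 : b * x⁻¹ * b⁻¹ ∈ A := (Subgroup.mem_normalizer_iff.1 (h hb) x⁻¹).1 (A.inv_mem hx)
  rw [commutatorElement_def]
  have : x * b * x⁻¹ * b⁻¹ = x * (b * x⁻¹ * b⁻¹) := by group
  rw [this]
  exact A.mul_mem hx h2

/-- if `τ` centralizes `Q` and `a` normalizes `Q` then `⁅a, τ⁆` centralizes `Q` -/
theorem commutator_commute_of_cent {Q : Subgroup Γ} {τ a g : Γ}
    (hτ : ∀ g ∈ Q, τ * g = g * τ) (ha : a ∈ normalizer (Q : Set Γ)) (hg : g ∈ Q) :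
    ⁅a, τ⁆ * g = g * ⁅a, τ⁆ := by
  have h1 : a⁻¹ * g * a ∈ Q := by
    have := (Subgroup.mem_normalizer_iff.1 (Subgroup.inv_mem _ ha) g).1 hg
    simpa using this
  have h2 := hτ _ h1
  have h3 := hτ g hg
  have h4 : τ⁻¹ * g = g * τ⁻¹ := by
    rw [inv_mul_eq_iff_eq_mul, ← mul_assoc, h3, mul_inv_cancel_right]
  rw [commutatorElement_def]
  calc a * τ * a⁻¹ * τ⁻¹ * g = a * τ * a⁻¹ * (τ⁻¹ * g) := by group
    _ = a * τ * a⁻¹ * (g * τ⁻¹) := by rw [h4]
    _ = a * (τ * (a⁻¹ * g * a)) * a⁻¹ * τ⁻¹ := by group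
    _ = a * ((a⁻¹ * g * a) * τ) * a⁻¹ * τ⁻¹ := by rw [h2]
    _ = g * (a * τ * a⁻¹ * τ⁻¹) := by group

end basics

/-- (HH) -/
theorem hh_data (hAC : AbelianCentStmt.{uΓ, uW}) {Γ : Type uΓ} [Group Γ] [Finite Γ] {W : Type uW}
    [CommGroup W] [Finite W] {φ : Γ →* MulAut W} {Q S : Subgroup Γ} {x : Γ} {q s r n : ℕ}
    (c : MinCfg φ Q S x q s r n) : HHData Q S x q n := by
  classical
  haveI : Fact q.Prime := ⟨c.hq⟩
  haveI : Fact s.Prime := ⟨c.hs⟩
  set τ := x ^ (2 ^ n) with hτdef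
  have hττ : τ * τ = 1 := by
    rw [hτdef, ← pow_add, ← two_mul, ← pow_succ']
    exact c.hx
  set T := zpowers τ with hT
  -- `τ` normalizes what `x` normalizes
  have hτN : ∀ K : Subgroup Γ, x ∈ normalizer (K : Set Γ) → T ≤ normalizer (K : Set Γ) := by
    intro K hK
    rw [hT, zpowers_le, hτdef]
    exact Subgroup.pow_mem _ hK _
  have hxτ : x * τ = τ * x := by
    rw [hτdef, ← pow_succ', ← pow_succ]
  have hxT : zpowers x ≤ normalizer (T : Set Γ) := by
    rw [zpowers_le]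
    apply Subgroup.mem_normalizer_fintype
    intro t ht
    rcases mem_zpowers_of_sq hττ ht with rfl | rfl
    · simp
    · have : x * τ * x⁻¹ = τ := by rw [hxτ, mul_inv_cancel_right]
      rw [this]; exact mem_zpowers τ
  have hTS : T ≤ normalizer (S : Set Γ) := hτN S c.hxS
  have hS'S : ⁅S, T⁆ ≤ S := commutator_le_of_normalizes hTS
  have hxS' : x ∈ normalizer ((⁅S, T⁆ : Subgroup Γ) : Set Γ) :=
    Helper47.le_normalizer_commutator_of_le (zpowers_le.mpr c.hxS) hxT (mem_zpowers x)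
  -- S0027
  have hcardT : Nat.card T ∣ 2 := by
    rw [hT, Nat.card_zpowers]
    apply orderOf_dvd_of_pow_eq_one
    rw [pow_two]; exact hττ
  obtain ⟨ks, hks⟩ := c.hS.exists_card_eq
  have hcopTS : (Nat.card T).Coprime (Nat.card S) := by
    apply Nat.Coprime.coprime_dvd_left hcardT
    rw [hks]
    apply Nat.Coprime.pow_right
    exact (Nat.coprime_primes Nat.prime_two c.hs).mpr (Ne.symm c.hs2)
  have hsolvT : Group.IsSolvable T := by
    apply Group.isSolvable_of_comm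
    rintro ⟨a, ha⟩ ⟨b, hb⟩
    apply Subtype.ext
    obtain ⟨i, rfl⟩ := Subgroup.mem_zpowers_iff.mp ha
    obtain ⟨j, rfl⟩ := Subgroup.mem_zpowers_iff.mp hb
    show τ ^ i * τ ^ j = τ ^ j * τ ^ i
    rw [← zpow_add, ← zpow_add, add_comm]
  have h27 : ⁅⁅S, T⁆, T⁆ = ⁅S, T⁆ :=
    Cfsg.Agent.S0027.result T S hTS hcopTS (Or.inl hsolvT)
  obtain ⟨a0, ha0, g0, hg0, hbad⟩ := c.hbad
  -- (i)
  have hcommS : ⁅S, T⁆ = S := by
    by_contra hne
    have hlt : ⁅S, T⁆ < S := lt_of_le_of_ne hS'S hne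
    have hmin := c.hSmin _ hlt hxS'
    have hle : ⁅⁅S, T⁆, T⁆ ≤ centralizer (Q : Set Γ) := by
      apply commutator_zpowers_le hττ
      intro a ha
      rw [Subgroup.mem_centralizer_iff]
      intro g hg
      exact (hmin a ha g hg).symm
    rw [h27] at hle
    have h1 : ⁅a0, τ⁆ ∈ ⁅S, T⁆ := Subgroup.commutator_mem_commutator ha0 (mem_zpowers τ)
    have h2 := Subgroup.mem_centralizer_iff.mp (hle h1) g0 hg0
    exact hbad h2.symm
  -- (ii)
  have hcentQ' : ∀ Q' : Subgroup Γ, Q' < Q → S ≤ normalizer (Q' : Set Γ) →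
      x ∈ normalizer (Q' : Set Γ) → S ≤ centralizer (Q' : Set Γ) := by
    intro Q' hlt hSQ' hxQ'
    have hmin := c.hQmin Q' hlt hSQ' hxQ'
    have hle : ⁅S, T⁆ ≤ centralizer (Q' : Set Γ) := by
      apply commutator_zpowers_le hττ
      intro a ha
      rw [Subgroup.mem_centralizer_iff]
      intro g hg
      exact (hmin a ha g hg).symm
    rwa [hcommS] at hle
  -- `τ` does not centralize `Q`
  have htauQ : ¬ ∀ g ∈ Q, τ * g = g * τ := by
    intro h
    exact hbad (commutator_commute_of_cent h (c.hSQ ha0) hg0)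
  -- abelian `Q` is impossible
  have habel : (∀ a ∈ Q, ∀ b ∈ Q, a * b = b * a) → False := by
    intro h
    apply htauQ
    intro g hg
    exact hAC Γ W q r n φ Q x c.hq c.hr c.hq2 c.hr2 c.hqr c.hexp c.hQ h c.hxQ c.hx c.hfaith
      c.hWfix g hg
  -- (iii) S3736
  have hBP : S ⊔ zpowers x ≤ normalizer (Q : Set Γ) := sup_le c.hSQ (zpowers_le.mpr c.hxQ)
  have hAn : S ⊔ zpowers x ≤ normalizer (S : Set Γ) := sup_le le_normalizer (zpowers_le.mpr c.hxS)
  have hAp : (Nat.card S).Coprime q := by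
    rw [hks]
    apply Nat.Coprime.pow_left
    exact (Nat.coprime_primes c.hs c.hq).mpr (Ne.symm c.hqs)
  have hnt : ⁅Q, S⁆ ≠ ⊥ := by
    intro h
    have h1 : Q ≤ centralizer (S : Set Γ) := Subgroup.commutator_eq_bot_iff_le_centralizer.mp h
    have h2 : ⁅a0, τ⁆ ∈ S := hS'S (Subgroup.commutator_mem_commutator ha0 (mem_zpowers τ))
    have h3 := Subgroup.mem_centralizer_iff.mp (h1 hg0) _ h2
    exact hbad h3
  have hmin : ∀ U : Subgroup Γ, U < Q → S ⊔ zpowers x ≤ normalizer (U : Set Γ) → ⁅U, S⁆ = ⊥ := by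
    intro U hU hB
    have h1 := hcentQ' U hU (le_sup_left.trans hB) (hB ((le_sup_right : zpowers x ≤ _) (mem_zpowers x)))
    rw [Subgroup.commutator_eq_bot_iff_le_centralizer]
    exact Subgroup.le_centralizer_iff.mp h1
  obtain ⟨-, h2, h3, h4⟩ := Cfsg.Agent.S3736.result (p := q) (S ⊔ zpowers x) S Q c.hQ hBP
    le_sup_left hAn hAp hnt hmin
  rcases h2 with ⟨hcomm, -⟩ | ⟨-, hfc, hcc⟩
  · exfalso
    apply habel
    intro a ha b hb
    have := hcomm.is_comm.comm (⟨a, ha⟩ : Q) ⟨b, hb⟩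
    exact congrArg Subtype.val this
  · have hfrat : (frattini ↥Q).map Q.subtype = ⁅Q, Q⁆ := by
      rw [hfc, ← hcc, Subgroup.map_subtype_commutator]
    have hDQ : ⁅Q, Q⁆ ≤ Q := by
      rw [← Subgroup.map_subtype_commutator]; exact Subgroup.map_subtype_le _
    have hDcent : ∀ d ∈ ⁅Q, Q⁆, ∀ g ∈ Q, g * d = d * g := by
      intro d hd g hg
      rw [← Subgroup.map_subtype_commutator] at hd
      obtain ⟨d', hd', rfl⟩ := hd
      rw [hcc] at hd'
      have := Subgroup.mem_center_iff.mp (SetLike.mem_coe.mp hd') ⟨g, hg⟩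
      exact congrArg Subtype.val this
    have hDabel : ∀ a ∈ ⁅Q, Q⁆, ∀ b ∈ ⁅Q, Q⁆, a * b = b * a := by
      intro a ha b hb
      exact hDcent b hb a (hDQ ha)
    have hDlt : ⁅Q, Q⁆ < Q := by
      refine lt_of_le_of_ne hDQ ?_
      intro hEq
      apply habel
      intro a ha b hb
      rw [← hEq] at ha hb
      exact hDabel a ha b hb
    have hSD' : S ≤ normalizer ((⁅Q, Q⁆ : Subgroup Γ) : Set Γ) :=
      Helper47.le_normalizer_commutator_of_le c.hSQ c.hSQ
    have hxD' : x ∈ normalizer ((⁅Q, Q⁆ : Subgroup Γ) : Set Γ) :=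
      Helper47.le_normalizer_commutator_of_le (zpowers_le.mpr c.hxQ) (zpowers_le.mpr c.hxQ)
        (mem_zpowers x)
    have hScD := hcentQ' _ hDlt hSD' hxD'
    refine ⟨hcommS, h4 c.hq2, hfrat, hDcent, ?_, ?_, ?_, htauQ⟩
    · intro a ha d hd
      exact (Subgroup.mem_centralizer_iff.mp (hScD ha) d hd).symm
    · intro d hd
      exact hAC Γ W q r n φ ⁅Q, Q⁆ x c.hq c.hr c.hq2 c.hr2 c.hqr c.hexp (c.hQ.to_le hDQ) hDabel
        hxD' c.hx (fun a ha => c.hfaith a (hDQ ha)) c.hWfix d hd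
    · intro U hDU hUQ hSU hxU
      have hB : S ⊔ zpowers x ≤ normalizer (U : Set Γ) := sup_le hSU (zpowers_le.mpr hxU)
      have := h3 U (hfrat ▸ hDU) hUQ hB
      rwa [hfrat] at this

end Cfsg.Agent.Helper33.Gross
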