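import Mathlib.GroupTheory.Sylow
import Mathlib.GroupTheory.Abelianization.Finite
import Mathlib.Data.Int.GCD
import Mathlib.GroupTheory.IndexNormal
import Mathlib.GroupTheory.Transfer

set_option autoImplicit false

namespace Cfsg.Agent.Helper33

variable {G : Type*} [Group G]

/-- A nontrivial finite `p`-group has a normal subgroup of index `p`. -/
theorem exists_normal_index_prime_of_isPGroup [Finite G] {p : ℕ} [hp : Fact p.Prime]
    (hG : IsPGroup p G) (hne : Nontrivial G) : ∃ N : Subgroup G, N.Normal ∧ N.index = p := by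
  obtain ⟨n, hn⟩ := (IsPGroup.iff_card).mp hG
  have hn0 : n ≠ 0 := by
    intro h
    rw [h, pow_zero] at hn
    have := Finite.one_lt_card_iff_nontrivial.mpr hne
    omega
  have hdvd : p ^ (n - 1) ∣ Nat.card G := by
    rw [hn]; exact pow_dvd_pow p (Nat.sub_le n 1)
  obtain ⟨M₀, hM₀⟩ := Sylow.exists_subgroup_card_pow_prime p hdvd
  have hidx : M₀.index = p := by
    have h1 := M₀.card_mul_index
    rw [hM₀, hn] at h1
    have h2 : p ^ n = p ^ (n - 1) * p := by
      rw [← pow_succ]; congr 1; omega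
    rw [h2] at h1
    exact Nat.eq_of_mul_eq_mul_left (pow_pos hp.out.pos _) h1
  refine ⟨M₀, ?_, hidx⟩
  apply Subgroup.normal_of_index_eq_minFac_card
  rw [hidx, hn, Nat.pow_minFac hn0, Nat.Prime.minFac_eq hp.out]

/-- A finite group mapping onto a nontrivial `p`-group has a normal subgroup of index `p`. -/
theorem exists_normal_index_prime_of_surjective [Finite G] {p : ℕ} [Fact p.Prime] {Q : Type*} [Group Q]
    (ψ : G →* Q) (hψ : Function.Surjective ψ) (hQ : IsPGroup p Q) (hne : Nontrivial Q) :
    ∃ N : Subgroup G, N.Normal ∧ N.index = p := by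
  have : Finite Q := Finite.of_surjective ψ hψ
  obtain ⟨N₁, hN₁n, hN₁i⟩ := exists_normal_index_prime_of_isPGroup hQ hne
  refine ⟨N₁.comap ψ, Subgroup.Normal.comap hN₁n ψ, ?_⟩
  rw [Subgroup.index_comap_of_surjective N₁ hψ, hN₁i]

/-- A finite group with a `p`-subgroup not contained in the commutator subgroup has a normal subgroup of
index `p`. -/
theorem exists_normal_index_prime_of_not_le_commutator [Finite G] {p : ℕ} [hp : Fact p.Prime]
    (T : Subgroup G) (hT : IsPGroup p T) (hTG : ¬ T ≤ commutator G) :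
    ∃ N : Subgroup G, N.Normal ∧ N.index = p := by
  obtain ⟨t, htT, htG⟩ := SetLike.not_le_iff_exists.mp hTG
  -- the abelianization and its `p'`-power map
  obtain ⟨k, m, hm, hkm⟩ := Nat.exists_eq_pow_mul_and_not_dvd (Nat.card_pos (α := Abelianization G)).ne' p
    hp.out.ne_one
  let ψ₀ : G →* Abelianization G := (powMonoidHom m).comp Abelianization.of
  let ψ : G →* ψ₀.range := ψ₀.rangeRestrict
  have hψ : Function.Surjective ψ := ψ₀.rangeRestrict_surjective
  have hQ : IsPGroup p ψ₀.range := by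
    rintro ⟨_, ⟨g, rfl⟩⟩
    refine ⟨k, ?_⟩
    apply Subtype.ext
    show (ψ₀ g) ^ p ^ k = 1
    show ((Abelianization.of g) ^ m) ^ p ^ k = 1
    rw [← pow_mul, mul_comm, ← hkm]
    exact pow_card_eq_one'
  have hne : Nontrivial ψ₀.range := by
    refine ⟨⟨ψ t, 1, ?_⟩⟩
    intro h
    have h1 : (Abelianization.of t) ^ m = 1 := by
      have := congrArg (fun y : ψ₀.range => (y : Abelianization G)) h
      exact this
    -- `t` has `p`-power order
    obtain ⟨j, hj⟩ := hT ⟨t, htT⟩
    have h2 : (Abelianization.of t) ^ p ^ j = 1 := by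
      have := congrArg (fun y : T => Abelianization.of (y : G)) hj
      simpa using this
    have hcop : Nat.Coprime m (p ^ j) :=
      Nat.Coprime.pow_right j ((Nat.Prime.coprime_iff_not_dvd hp.out).mpr hm).symm
    have h3 : orderOf (Abelianization.of t) ∣ Nat.gcd m (p ^ j) :=
      Nat.dvd_gcd (orderOf_dvd_of_pow_eq_one h1) (orderOf_dvd_of_pow_eq_one h2)
    rw [hcop.gcd_eq_one, Nat.dvd_one, orderOf_eq_one_iff] at h3
    apply htG
    rw [← Abelianization.ker_of (G := G), MonoidHom.mem_ker]
    exact h3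
  exact exists_normal_index_prime_of_surjective ψ hψ hQ hne

/-- Lifting an element of order prime to `p` from a quotient. -/
theorem exists_coprime_lift [Finite G] {p : ℕ} [hp : Fact p.Prime] (M : Subgroup G) [M.Normal]
    (y : G ⧸ M) (hy : (orderOf y).Coprime p) :
    ∃ g : G, (orderOf g).Coprime p ∧ (g : G ⧸ M) = y := by
  obtain ⟨g, rfl⟩ := QuotientGroup.mk_surjective y
  obtain ⟨e, m, hm, hem⟩ := Nat.exists_eq_pow_mul_and_not_dvd (orderOf_pos g).ne' p hp.out.ne_one
  have hcop : Nat.Coprime (p ^ e) m :=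
    Nat.Coprime.pow_left e ((Nat.Prime.coprime_iff_not_dvd hp.out).mpr hm)
  -- the order of the image divides `m`
  have hdvd : orderOf (g : G ⧸ M) ∣ m := by
    have h1 : orderOf (g : G ⧸ M) ∣ p ^ e * m := by
      rw [← hem]
      exact orderOf_map_dvd (QuotientGroup.mk' M) g
    exact (Nat.Coprime.dvd_mul_left (Nat.Coprime.pow_right e hy)).mp h1
  by_cases hm1 : m = 1
  · -- `g` has `p`-power order, its image is trivial
    refine ⟨1, by simp, ?_⟩
    rw [hm1, Nat.dvd_one, orderOf_eq_one_iff] at hdvd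
    rw [hdvd]; rfl
  · have hm2 : 1 < m := by
      rcases Nat.lt_or_ge 1 m with h | h
      · exact h
      · interval_cases m
        · exact absurd (dvd_zero p) hm
        · exact absurd rfl hm1
    obtain ⟨b, -, hb⟩ := Nat.exists_mul_mod_eq_one_of_coprime hcop hm2
    refine ⟨g ^ (p ^ e * b), ?_, ?_⟩
    · have h1 : (g ^ (p ^ e * b)) ^ m = 1 := by
        rw [← pow_mul, mul_right_comm, ← hem, pow_mul, pow_orderOf_eq_one, one_pow]
      exact Nat.Coprime.coprime_dvd_left (orderOf_dvd_of_pow_eq_one h1)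
        ((Nat.Prime.coprime_iff_not_dvd hp.out).mpr hm).symm
    · rw [QuotientGroup.mk_pow]
      have h2 : p ^ e * b = m * (p ^ e * b / m) + 1 := by
        have := Nat.div_add_mod (p ^ e * b) m
        rw [hb] at this
        exact this.symm
      rw [h2, pow_succ, pow_mul]
      obtain ⟨c, hc⟩ := hdvd
      have h3 : (g : G ⧸ M) ^ m = 1 := by
        rw [hc, pow_mul, pow_orderOf_eq_one, one_pow]
      rw [h3, one_pow, one_mul]

end Cfsg.Agent.Helper33
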