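import Cfsg.Agent.Helper33.Sections
import Cfsg.Prelude.Def_ConjugacyFunctors

set_option autoImplicit false

universe u

namespace Cfsg.Agent.Helper33

variable {p : ℕ} {W : ∀ (Q : Type u) [Group Q], Subgroup Q}

/-- The induced functor commutes with isomorphisms (on finite `p`-subgroups). -/
theorem inducedFunctor_map_equiv (hW : Cfsg.IsCharPFunctor.{u} p W) {X Y : Type u} [Group X] [Group Y]
    (φ : X ≃* Y) (P : Subgroup X) [Finite P] (hP : IsPGroup p P) :
    Cfsg.inducedFunctor W (P.map φ.toMonoidHom) = (Cfsg.inducedFunctor W P).map φ.toMonoidHom := by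
  unfold Cfsg.inducedFunctor
  let e : ↥P ≃* ↥(P.map φ.toMonoidHom) := P.equivMapOfInjective φ.toMonoidHom φ.injective
  have h1 := hW.2 ↥P ↥(P.map φ.toMonoidHom) hP e
  rw [← h1, Subgroup.map_map, Subgroup.map_map]
  congr 1

theorem isConjugacyFunctor_inducedFunctor (hW : Cfsg.IsCharPFunctor.{u} p W) (G : Type u) [Group G]
    [Finite G] : Cfsg.IsConjugacyFunctor p (Cfsg.inducedFunctor (G := G) W) := by
  intro P hP
  refine ⟨?_, ?_, ?_⟩
  · unfold Cfsg.inducedFunctor
    exact Subgroup.map_subtype_le _
  · intro hne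
    unfold Cfsg.inducedFunctor
    rw [Ne, Subgroup.map_eq_bot_iff_of_injective _ P.subtype_injective]
    apply hW.1 ↥P hP
    exact (Subgroup.nontrivial_iff_ne_bot P).mpr hne
  · intro g
    exact inducedFunctor_map_equiv hW (MulAut.conj g) P hP

/-- Control of transfer (in the whole group) is invariant under isomorphism. -/
theorem controlsTransferIn_top_of_equiv (hW : Cfsg.IsCharPFunctor.{u} p W) {X Y : Type u} [Group X]
    [Group Y] [Finite X] (φ : X ≃* Y)
    (h : Cfsg.ControlsTransferIn p (Cfsg.inducedFunctor (G := X) W) ⊤) :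
    Cfsg.ControlsTransferIn p (Cfsg.inducedFunctor (G := Y) W) ⊤ := by
  obtain ⟨T, -, hTp, hidx, heq⟩ := h
  refine ⟨T.map φ.toMonoidHom, le_top, hTp.map _, ?_, ?_⟩
  · rw [Subgroup.relIndex_top_right] at hidx ⊢
    have : (T.map φ.toMonoidHom).index = T.index := by
      apply Subgroup.index_map_eq T φ.surjective
      rw [(MonoidHom.ker_eq_bot_iff φ.toMonoidHom).mpr φ.injective]
      exact bot_le
    rw [this]
    exact hidx
  · have h1 := congrArg (Subgroup.map φ.toMonoidHom) heq
    rw [Subgroup.map_inf _ _ _ φ.injective, Subgroup.map_inf _ _ _ φ.injective,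
      Subgroup.map_commutator, Subgroup.map_commutator, Subgroup.map_inf _ _ _ φ.injective,
      Subgroup.map_top_of_surjective _ φ.surjective] at h1
    rw [inducedFunctor_map_equiv hW φ T hTp]
    have h2 : Subgroup.normalizer (((Cfsg.inducedFunctor W T).map φ.toMonoidHom : Subgroup Y) : Set Y) =
        (Subgroup.normalizer ((Cfsg.inducedFunctor W T : Subgroup X) : Set X)).map φ.toMonoidHom :=
      (Subgroup.map_equiv_normalizer_eq _ φ).symm
    rw [h2]
    exact h1

theorem isoInvariant_controlsTransferIn (hW : Cfsg.IsCharPFunctor.{u} p W) :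
    IsoInvariant (fun (X : Type u) [Group X] =>
      Finite X → Cfsg.ControlsTransferIn p (Cfsg.inducedFunctor (G := X) W) ⊤) := by
  intro X Y _ _ φ h hY
  have : Finite X := Finite.of_equiv Y φ.symm.toEquiv
  exact controlsTransferIn_top_of_equiv hW φ (h this)

end Cfsg.Agent.Helper33
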