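import Cfsg.Prelude.Def_ConjugacyFunctors

set_option autoImplicit false

namespace Cfsg.Agent.Helper33

variable {P : Type*} [Group P]

/-- The upper-star family is antitone in the subgroup. -/
theorem kUpperStarFamily_anti {Q₁ Q₂ : Subgroup P} (h : Q₁ ≤ Q₂) :
    Cfsg.kUpperStarFamily Q₂ ⊆ Cfsg.kUpperStarFamily Q₁ := by
  intro B hB
  refine ⟨hB.1, le_trans (Subgroup.commutator_mono le_rfl h) hB.2⟩

/-- The lower-star family is antitone in the subgroup. -/
theorem kLowerStarFamily_anti {Q₁ Q₂ : Subgroup P} (h : Q₁ ≤ Q₂) :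
    Cfsg.kLowerStarFamily Q₂ ⊆ Cfsg.kLowerStarFamily Q₁ := by
  intro B hB
  refine ⟨hB.1, le_trans h hB.2.1, ?_⟩
  intro A hA hAQ hBA h1 h2
  exact hB.2.2 A hA (le_trans hAQ h) hBA h1 h2

theorem kSeqOdd_succ (n : ℕ) :
    Cfsg.kSeqOdd P (n + 1) = sSup (Cfsg.kUpperStarFamily (Cfsg.kSeqEven P n)) := by
  rfl

theorem kSeqOdd_zero : Cfsg.kSeqOdd P 0 = ⊤ := rfl

theorem kSeqOdd_succ_le (n : ℕ) : Cfsg.kSeqOdd P (n + 1) ≤ Cfsg.kSeqOdd P n := by
  induction n with
  | zero => rw [kSeqOdd_zero]; exact le_top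
  | succ n ih =>
    rw [kSeqOdd_succ, kSeqOdd_succ]
    apply sSup_le_sSup
    apply kUpperStarFamily_anti
    unfold Cfsg.kSeqEven
    apply sSup_le_sSup
    exact kLowerStarFamily_anti ih

theorem kSeqEven_le_succ (n : ℕ) : Cfsg.kSeqEven P n ≤ Cfsg.kSeqEven P (n + 1) := by
  unfold Cfsg.kSeqEven
  apply sSup_le_sSup
  exact kLowerStarFamily_anti (kSeqOdd_succ_le n)

theorem kSeqOdd_antitone : Antitone (Cfsg.kSeqOdd P) :=
  antitone_nat_of_succ_le kSeqOdd_succ_le

theorem kSeqEven_monotone : Monotone (Cfsg.kSeqEven P) :=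
  monotone_nat_of_le_succ kSeqEven_le_succ


theorem le_centralizer_of_comm (A : Subgroup P) (hA : IsMulCommutative ↥A) :
    A ≤ Subgroup.centralizer (A : Set P) := by
  intro a ha
  rw [Subgroup.mem_centralizer_iff]
  intro b hb
  have := hA.is_comm.comm (⟨b, hb⟩ : A) ⟨a, ha⟩
  exact congrArg Subtype.val this

theorem abelian_mem_classTwo (A : Subgroup P) (hA : IsMulCommutative ↥A) :
    A ∈ Cfsg.classTwoSubgroups P := by
  show ⁅A, A⁆ ≤ Subgroup.centralizer (A : Set P)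
  have : ⁅A, A⁆ = ⊥ := by
    rw [Subgroup.commutator_eq_bot_iff_le_centralizer]
    exact le_centralizer_of_comm A hA
  rw [this]; exact bot_le

theorem normal_abelian_mem_upperStar (A : Subgroup P) [A.Normal] (hA : IsMulCommutative ↥A)
    (Q : Subgroup P) : A ∈ Cfsg.kUpperStarFamily Q := by
  refine ⟨abelian_mem_classTwo A hA, ?_⟩
  rw [inf_eq_left.mpr (le_centralizer_of_comm A hA)]
  exact Subgroup.commutator_le_left A Q

theorem normal_abelian_mem_lowerStar (A : Subgroup P) [hn : A.Normal] (hA : IsMulCommutative ↥A)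
    (Q : Subgroup P) : A ∈ Cfsg.kLowerStarFamily Q := by
  refine ⟨abelian_mem_classTwo A hA, ?_, ?_⟩
  · rw [Subgroup.normalizer_eq_top]; exact le_top
  · intro B _ _ _ _ _
    rw [inf_eq_left.mpr (le_centralizer_of_comm A hA)]
    exact Subgroup.commutator_le_left A B


theorem normal_abelian_le_kSeqEven (A : Subgroup P) [A.Normal] (hA : IsMulCommutative ↥A) (n : ℕ) :
    A ≤ Cfsg.kSeqEven P n :=
  le_sSup (normal_abelian_mem_lowerStar A hA _)

theorem normal_abelian_le_kSeqOdd (A : Subgroup P) [A.Normal] (hA : IsMulCommutative ↥A) (n : ℕ) :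
    A ≤ Cfsg.kSeqOdd P n := by
  cases n with
  | zero => rw [kSeqOdd_zero]; exact le_top
  | succ n => rw [kSeqOdd_succ]; exact le_sSup (normal_abelian_mem_upperStar A hA _)

theorem normal_abelian_le_kInfLower (A : Subgroup P) [A.Normal] (hA : IsMulCommutative ↥A) :
    A ≤ Cfsg.kInfLower P :=
  le_trans (normal_abelian_le_kSeqEven A hA 0) (le_iSup (Cfsg.kSeqEven P) 0)

theorem normal_abelian_le_kInfUpper (A : Subgroup P) [A.Normal] (hA : IsMulCommutative ↥A) :
    A ≤ Cfsg.kInfUpper P :=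
  le_iInf (fun n => normal_abelian_le_kSeqOdd A hA n)

end Cfsg.Agent.Helper33
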