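import Cfsg.Agent.Helper33.KInf

set_option autoImplicit false

namespace Cfsg.Agent.Helper33

variable {P : Type*} [Group P]

theorem kSeq_stabilize [Finite P] :
    ∃ n : ℕ, ∀ m : ℕ, n ≤ m → Cfsg.kSeqEven P m = Cfsg.kInfLower P ∧ Cfsg.kSeqOdd P m = Cfsg.kInfUpper P := by
  obtain ⟨n₁, h₁'⟩ := WellFoundedGT.monotone_chain_condition
    (⟨Cfsg.kSeqEven P, kSeqEven_monotone⟩ : ℕ →o Subgroup P)
  have h₁ : ∀ m, n₁ ≤ m → Cfsg.kSeqEven P n₁ = Cfsg.kSeqEven P m := h₁'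
  obtain ⟨n₂, h₂⟩ := WellFoundedLT.antitone_chain_condition (kSeqOdd_antitone (P := P))
  refine ⟨max n₁ n₂, fun m hm => ⟨?_, ?_⟩⟩
  · have hm1 : n₁ ≤ m := le_trans (le_max_left _ _) hm
    have e : Cfsg.kSeqEven P n₁ = Cfsg.kSeqEven P m := h₁ m hm1
    apply le_antisymm
    · exact le_iSup (Cfsg.kSeqEven P) m
    · apply iSup_le
      intro k
      rcases le_total k n₁ with hk | hk
      · exact le_trans (kSeqEven_monotone hk) e.le
      · rw [← e, h₁ k hk]
  · have hm2 : n₂ ≤ m := le_trans (le_max_right _ _) hm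
    have e : Cfsg.kSeqOdd P n₂ = Cfsg.kSeqOdd P m := h₂ m hm2
    apply le_antisymm
    · apply le_iInf
      intro k
      rcases le_total k n₂ with hk | hk
      · exact le_trans e.ge (kSeqOdd_antitone hk)
      · rw [← e, h₂ k hk]
    · exact iInf_le (Cfsg.kSeqOdd P) m

end Cfsg.Agent.Helper33
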