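import Cfsg.Agent.Helper33.KInfMax
import Cfsg.Agent.Helper33.KInfStab

set_option autoImplicit false

open scoped commutatorElement

namespace Cfsg.Agent.Helper33

variable {P : Type*} [Group P]

theorem bot_mem_lowerStar (Q : Subgroup P) : (⊥ : Subgroup P) ∈ Cfsg.kLowerStarFamily Q := by
  haveI : (⊥ : Subgroup P).Normal := Subgroup.normal_bot
  exact normal_abelian_mem_lowerStar ⊥ inferInstance Q

theorem bot_mem_upperStar (Q : Subgroup P) : (⊥ : Subgroup P) ∈ Cfsg.kUpperStarFamily Q := by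
  haveI : (⊥ : Subgroup P).Normal := Subgroup.normal_bot
  exact normal_abelian_mem_upperStar ⊥ inferInstance Q

theorem centralizer_sSup_lowerStar_le {p : ℕ} [Fact p.Prime] [Finite P] (hP : IsPGroup p P)
    (Q : Subgroup P) :
    Subgroup.centralizer ((sSup (Cfsg.kLowerStarFamily Q) : Subgroup P) : Set P) ≤
      sSup (Cfsg.kLowerStarFamily Q) := by
  obtain ⟨B, -, hBmax⟩ := (Set.toFinite (Cfsg.kLowerStarFamily Q)).exists_le_maximal (bot_mem_lowerStar Q)
  have hBmem : B ∈ Cfsg.kLowerStarFamily Q := hBmax.prop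
  have h1 : B ≤ sSup (Cfsg.kLowerStarFamily Q) := le_sSup hBmem
  have h2 := lowerStar_max_selfCentralizing hP Q B hBmem
    (fun C hC hBC => le_antisymm (hBmax.le_of_ge hC hBC) hBC)
  exact le_trans (Subgroup.centralizer_le (by exact_mod_cast h1)) (le_trans h2 h1)

theorem centralizer_sSup_upperStar_le {p : ℕ} [Fact p.Prime] [Finite P] (hP : IsPGroup p P)
    (Q : Subgroup P) :
    Subgroup.centralizer ((sSup (Cfsg.kUpperStarFamily Q) : Subgroup P) : Set P) ≤
      sSup (Cfsg.kUpperStarFamily Q) := by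
  obtain ⟨B, -, hBmax⟩ := (Set.toFinite (Cfsg.kUpperStarFamily Q)).exists_le_maximal (bot_mem_upperStar Q)
  have hBmem : B ∈ Cfsg.kUpperStarFamily Q := hBmax.prop
  have h1 : B ≤ sSup (Cfsg.kUpperStarFamily Q) := le_sSup hBmem
  have h2 := upperStar_max_selfCentralizing hP Q B hBmem
    (fun C hC hBC => le_antisymm (hBmax.le_of_ge hC hBC) hBC)
  exact le_trans (Subgroup.centralizer_le (by exact_mod_cast h1)) (le_trans h2 h1)

theorem centralizer_kInfLower_le {p : ℕ} [Fact p.Prime] [Finite P] (hP : IsPGroup p P) :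
    Subgroup.centralizer (Cfsg.kInfLower P : Set P) ≤ Cfsg.kInfLower P := by
  obtain ⟨n, hn⟩ := kSeq_stabilize (P := P)
  rw [← (hn n le_rfl).1]
  exact centralizer_sSup_lowerStar_le hP _

theorem centralizer_kInfUpper_le {p : ℕ} [Fact p.Prime] [Finite P] (hP : IsPGroup p P) :
    Subgroup.centralizer (Cfsg.kInfUpper P : Set P) ≤ Cfsg.kInfUpper P := by
  obtain ⟨n, hn⟩ := kSeq_stabilize (P := P)
  rw [← (hn (n + 1) (Nat.le_succ n)).2, kSeqOdd_succ]
  exact centralizer_sSup_upperStar_le hP _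

theorem center_le_centralizer' (H : Subgroup P) :
    Subgroup.center P ≤ Subgroup.centralizer (H : Set P) := by
  rw [← Subgroup.centralizer_univ]
  exact Subgroup.centralizer_le (Set.subset_univ _)

end Cfsg.Agent.Helper33
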