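import Cfsg.Agent.Helper33.KInfMap
import Cfsg.Agent.Helper33.KInfStab

set_option autoImplicit false
set_option linter.style.haveILetI false

universe u

namespace Cfsg.Agent.Helper33

theorem kSeq_map_equiv {Q R : Type*} [Group Q] [Group R] (φ : Q ≃* R) (n : ℕ) :
    (Cfsg.kSeqOdd Q n).map φ.toMonoidHom = Cfsg.kSeqOdd R n ∧
      (Cfsg.kSeqEven Q n).map φ.toMonoidHom = Cfsg.kSeqEven R n := by
  have hinj : Function.Injective φ.toMonoidHom := φ.injective
  have hrange : φ.toMonoidHom.range = ⊤ := MonoidHom.range_eq_top.mpr φ.surjective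
  have step1 : ∀ n, (Cfsg.kSeqOdd Q n).map φ.toMonoidHom = Cfsg.kSeqOdd R n →
      (Cfsg.kSeqEven Q n).map φ.toMonoidHom = Cfsg.kSeqEven R n := by
    intro n h
    unfold Cfsg.kSeqEven
    rw [map_sSup_lowerStar φ.toMonoidHom hinj, hrange, h]
    congr 1
    ext B
    simp
  have step2 : ∀ n, (Cfsg.kSeqEven Q n).map φ.toMonoidHom = Cfsg.kSeqEven R n →
      (Cfsg.kSeqOdd Q (n + 1)).map φ.toMonoidHom = Cfsg.kSeqOdd R (n + 1) := by
    intro n h
    rw [kSeqOdd_succ, kSeqOdd_succ]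
    rw [map_sSup_upperStar φ.toMonoidHom hinj, hrange, h]
    congr 1
    ext B
    simp
  have main : ∀ n, (Cfsg.kSeqOdd Q n).map φ.toMonoidHom = Cfsg.kSeqOdd R n := by
    intro n
    induction n with
    | zero =>
      rw [kSeqOdd_zero, kSeqOdd_zero]
      exact Subgroup.map_top_of_surjective _ φ.surjective
    | succ n ih => exact step2 n (step1 n ih)
  exact ⟨main n, step1 n (main n)⟩

theorem kInfLower_map_equiv {Q R : Type u} [Group Q] [Group R] (φ : Q ≃* R) :
    (Cfsg.kInfLower Q).map φ.toMonoidHom = Cfsg.kInfLower R := by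
  unfold Cfsg.kInfLower
  rw [Subgroup.map_iSup]
  exact iSup_congr (fun n => (kSeq_map_equiv φ n).2)

theorem kInfUpper_map_equiv {Q R : Type u} [Group Q] [Group R] (φ : Q ≃* R) :
    (Cfsg.kInfUpper Q).map φ.toMonoidHom = Cfsg.kInfUpper R := by
  unfold Cfsg.kInfUpper
  rw [Subgroup.map_iInf _ φ.injective]
  exact iInf_congr (fun n => (kSeq_map_equiv φ n).1)

theorem isCharPFunctor_kInfLower (p : ℕ) [Fact p.Prime] :
    Cfsg.IsCharPFunctor.{u} p (fun (Q : Type u) [Group Q] => Cfsg.kInfLower Q) := by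
  refine ⟨?_, ?_⟩
  · intro Q _ _ hQ hnt h0
    haveI : Nontrivial (Subgroup.center Q) := hQ.center_nontrivial
    have hle : Subgroup.center Q ≤ Cfsg.kInfLower Q :=
      normal_abelian_le_kInfLower (Subgroup.center Q) inferInstance
    have h0' : Cfsg.kInfLower Q = ⊥ := h0
    rw [h0', le_bot_iff] at hle
    exact (Subgroup.nontrivial_iff_ne_bot _).mp inferInstance hle
  · intro Q R _ _ _ _ φ
    exact kInfLower_map_equiv φ

theorem isCharPFunctor_kInfUpper (p : ℕ) [Fact p.Prime] :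
    Cfsg.IsCharPFunctor.{u} p (fun (Q : Type u) [Group Q] => Cfsg.kInfUpper Q) := by
  refine ⟨?_, ?_⟩
  · intro Q _ _ hQ hnt h0
    haveI : Nontrivial (Subgroup.center Q) := hQ.center_nontrivial
    have hle : Subgroup.center Q ≤ Cfsg.kInfUpper Q :=
      normal_abelian_le_kInfUpper (Subgroup.center Q) inferInstance
    have h0' : Cfsg.kInfUpper Q = ⊥ := h0
    rw [h0', le_bot_iff] at hle
    exact (Subgroup.nontrivial_iff_ne_bot _).mp inferInstance hle
  · intro Q R _ _ _ _ φ
    exact kInfUpper_map_equiv φ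

end Cfsg.Agent.Helper33
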