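import Cfsg.Agent.Helper33.KInfMap

set_option autoImplicit false

namespace Cfsg.Agent.Helper33

variable {P : Type*} [Group P]

theorem kSeq_subgroup_compare (Q : Subgroup P)
    (hQ : ∀ n : ℕ, Cfsg.kSeqEven P n ≤ Q ∧ Cfsg.kSeqOdd P (n + 1) ≤ Q) (n : ℕ) :
    (Cfsg.kSeqOdd P (n + 1) ≤ (Cfsg.kSeqOdd ↥Q n).map Q.subtype ∧
      (Cfsg.kSeqOdd ↥Q n).map Q.subtype ≤ Cfsg.kSeqOdd P n) ∧
    (Cfsg.kSeqEven P n ≤ (Cfsg.kSeqEven ↥Q n).map Q.subtype ∧
      (Cfsg.kSeqEven ↥Q n).map Q.subtype ≤ Cfsg.kSeqEven P (n + 1)) := by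
  have hinj : Function.Injective Q.subtype := Subgroup.subtype_injective Q
  have hrange : Q.subtype.range = Q := Subgroup.range_subtype Q
  -- (a_n) implies (b_n)
  have step1 : ∀ n, (Cfsg.kSeqOdd P (n + 1) ≤ (Cfsg.kSeqOdd ↥Q n).map Q.subtype ∧
      (Cfsg.kSeqOdd ↥Q n).map Q.subtype ≤ Cfsg.kSeqOdd P n) →
      (Cfsg.kSeqEven P n ≤ (Cfsg.kSeqEven ↥Q n).map Q.subtype ∧
      (Cfsg.kSeqEven ↥Q n).map Q.subtype ≤ Cfsg.kSeqEven P (n + 1)) := by
    rintro n ⟨ha1, ha2⟩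
    have e : (Cfsg.kSeqEven ↥Q n).map Q.subtype =
        sSup {B' | B' ≤ Q.subtype.range ∧ B' ∈ Cfsg.kLowerStarFamily ((Cfsg.kSeqOdd ↥Q n).map Q.subtype)} :=
      map_sSup_lowerStar Q.subtype hinj _
    rw [e, hrange]
    constructor
    · apply sSup_le
      intro B hB
      apply le_sSup
      exact ⟨le_trans (le_sSup hB) (hQ n).1, kLowerStarFamily_anti ha2 hB⟩
    · apply sSup_le
      rintro B ⟨-, hB⟩
      exact le_sSup (kLowerStarFamily_anti ha1 hB)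
  -- (b_n) implies (a_{n+1})
  have step2 : ∀ n, (Cfsg.kSeqEven P n ≤ (Cfsg.kSeqEven ↥Q n).map Q.subtype ∧
      (Cfsg.kSeqEven ↥Q n).map Q.subtype ≤ Cfsg.kSeqEven P (n + 1)) →
      (Cfsg.kSeqOdd P (n + 2) ≤ (Cfsg.kSeqOdd ↥Q (n + 1)).map Q.subtype ∧
      (Cfsg.kSeqOdd ↥Q (n + 1)).map Q.subtype ≤ Cfsg.kSeqOdd P (n + 1)) := by
    rintro n ⟨hb1, hb2⟩
    have e : (Cfsg.kSeqOdd ↥Q (n + 1)).map Q.subtype =
        sSup {B' | B' ≤ Q.subtype.range ∧ B' ∈ Cfsg.kUpperStarFamily ((Cfsg.kSeqEven ↥Q n).map Q.subtype)} := by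
      rw [kSeqOdd_succ]
      exact map_sSup_upperStar Q.subtype hinj _
    rw [e, hrange, kSeqOdd_succ, kSeqOdd_succ]
    constructor
    · apply sSup_le
      intro B hB
      apply le_sSup
      refine ⟨?_, kUpperStarFamily_anti hb2 hB⟩
      have : B ≤ Cfsg.kSeqOdd P (n + 2) := by rw [kSeqOdd_succ]; exact le_sSup hB
      exact le_trans this (hQ (n + 1)).2
    · apply sSup_le
      rintro B ⟨-, hB⟩
      exact le_sSup (kUpperStarFamily_anti hb1 hB)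
  have base : (Cfsg.kSeqOdd P (0 + 1) ≤ (Cfsg.kSeqOdd ↥Q 0).map Q.subtype ∧
      (Cfsg.kSeqOdd ↥Q 0).map Q.subtype ≤ Cfsg.kSeqOdd P 0) := by
    rw [kSeqOdd_zero, kSeqOdd_zero, ← MonoidHom.range_eq_map, hrange]
    exact ⟨(hQ 0).2, le_top⟩
  have main : ∀ n, (Cfsg.kSeqOdd P (n + 1) ≤ (Cfsg.kSeqOdd ↥Q n).map Q.subtype ∧
      (Cfsg.kSeqOdd ↥Q n).map Q.subtype ≤ Cfsg.kSeqOdd P n) := by
    intro n
    induction n with
    | zero => exact base
    | succ n ih => exact step2 n (step1 n ih)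
  exact ⟨main n, step1 n (main n)⟩

theorem kInf_subgroup_eq (Q : Subgroup P)
    (hQ : ∀ n : ℕ, Cfsg.kSeqEven P n ≤ Q ∧ Cfsg.kSeqOdd P (n + 1) ≤ Q) :
    (Cfsg.kInfLower ↥Q).map Q.subtype = Cfsg.kInfLower P ∧
      (Cfsg.kInfUpper ↥Q).map Q.subtype = Cfsg.kInfUpper P := by
  have hinj : Function.Injective Q.subtype := Subgroup.subtype_injective Q
  constructor
  · unfold Cfsg.kInfLower
    rw [Subgroup.map_iSup]
    apply le_antisymm
    · apply iSup_le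
      intro n
      exact le_trans (kSeq_subgroup_compare Q hQ n).2.2 (le_iSup (Cfsg.kSeqEven P) (n + 1))
    · apply iSup_le
      intro n
      exact le_trans (kSeq_subgroup_compare Q hQ n).2.1
        (le_iSup (fun n => (Cfsg.kSeqEven ↥Q n).map Q.subtype) n)
  · unfold Cfsg.kInfUpper
    rw [Subgroup.map_iInf _ hinj]
    apply le_antisymm
    · apply le_iInf
      intro n
      exact le_trans (iInf_le _ n) (kSeq_subgroup_compare Q hQ n).1.2
    · apply le_iInf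
      intro n
      exact le_trans (iInf_le _ (n + 1)) (kSeq_subgroup_compare Q hQ n).1.1

end Cfsg.Agent.Helper33
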