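import Cfsg.Agent.Helper33.KInfChar
import Cfsg.Agent.Helper33.KInfSub
import Cfsg.Agent.Helper33.InducedMap
import Cfsg.Agent.Helper33.PCore
import Cfsg.Prelude.Def_PLocal
import Cfsg.Agent.Helper33.SylowBasic

set_option autoImplicit false
set_option linter.style.haveILetI false

open scoped commutatorElement

universe u

namespace Cfsg.Agent.Helper33

section PGroup

variable {P : Type*} [Group P]

/-- A class-two subgroup `B` normalized by the normal subgroup `A` acts cubically on `A`. -/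
theorem cubic_of_classTwo (A B : Subgroup P)
    (hB2 : ⁅B, B⁆ ≤ Subgroup.centralizer (B : Set P))
    (hAB : A ≤ Subgroup.normalizer (B : Set P)) : ⁅⁅⁅A, B⁆, B⁆, B⁆ = ⊥ := by
  have h1 : ⁅A, B⁆ ≤ B := Subgroup.le_normalizer_iff_commutator_le_right.mp hAB
  have h2 : ⁅⁅A, B⁆, B⁆ ≤ ⁅B, B⁆ := Subgroup.commutator_mono h1 le_rfl
  have h3 : ⁅⁅B, B⁆, B⁆ = ⊥ := Subgroup.commutator_eq_bot_iff_le_centralizer.mpr hB2
  exact le_bot_iff.mp ((Subgroup.commutator_mono h2 le_rfl).trans h3.le)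

/-- `[Z, B] ≤ Z(B)` implies `[Z, B, B] = 1`. -/
theorem quadratic_of_commutator_le_center (X B : Subgroup P)
    (h : ⁅B, X⁆ ≤ B ⊓ Subgroup.centralizer (B : Set P)) : ⁅⁅X, B⁆, B⁆ = ⊥ := by
  rw [Subgroup.commutator_comm X B]
  have h1 : ⁅B ⊓ Subgroup.centralizer (B : Set P), B⁆ = ⊥ :=
    Subgroup.commutator_eq_bot_iff_le_centralizer.mpr inf_le_right
  exact le_bot_iff.mp ((Subgroup.commutator_mono h le_rfl).trans h1.le)

/-- **The cubic/quadratic subgroup from the K-sequence** (Glauberman).  Let `A` be a normal subgroup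
of `P` of class at most two with `[T, A] ≤ Z(A)`.  If some term of the K-sequence of `P` (of
nonnegative index) is not contained in `T`, then there is a subgroup `B ≰ T` with `[A, B, B, B] = 1`
and `[Z(A), B, B] = 1`. -/
theorem exists_cubic_quadratic (T A : Subgroup P) [hA : A.Normal]
    (hA2 : ⁅A, A⁆ ≤ Subgroup.centralizer (A : Set P))
    (hTA : ⁅T, A⁆ ≤ A ⊓ Subgroup.centralizer (A : Set P))
    (h : (∃ n, ¬ Cfsg.kSeqEven P n ≤ T) ∨ (∃ n, ¬ Cfsg.kSeqOdd P (n + 1) ≤ T)) :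
    ∃ B : Subgroup P, ¬ B ≤ T ∧ ⁅⁅⁅A, B⁆, B⁆, B⁆ = ⊥ ∧
      ⁅⁅A ⊓ Subgroup.centralizer (A : Set P), B⁆, B⁆ = ⊥ := by
  classical
  obtain ⟨ZA, hZA⟩ : ∃ ZA : Subgroup P, ZA = A ⊓ Subgroup.centralizer (A : Set P) := ⟨_, rfl⟩
  rw [← hZA] at hTA ⊢
  haveI hZAn : ZA.Normal := by
    rw [hZA]
    haveI : (Subgroup.centralizer (A : Set P)).Normal := Subgroup.normal_centralizer
    exact Subgroup.normal_inf_normal _ _
  have hZAA : ZA ≤ A := hZA ▸ inf_le_left
  have hZAc : ZA ≤ Subgroup.centralizer (ZA : Set P) := by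
    rw [hZA]
    exact inf_le_right.trans (Subgroup.centralizer_le (by exact_mod_cast (inf_le_left : A ⊓ _ ≤ A)))
  have hZAcomm : IsMulCommutative ↥ZA := by
    refine ⟨⟨fun a b => ?_⟩⟩
    apply Subtype.ext
    have := Subgroup.mem_centralizer_iff.mp (hZAc b.2) a a.2
    exact this
  have hZA0 : ⁅ZA, ZA⁆ = ⊥ := Subgroup.commutator_eq_bot_iff_le_centralizer.mpr hZAc
  have hA2' : A ∈ Cfsg.classTwoSubgroups P := hA2
  have hZA2 : ZA ∈ Cfsg.classTwoSubgroups P := by
    show ⁅ZA, ZA⁆ ≤ _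
    rw [hZA0]; exact bot_le
  -- the lower case
  have lower : ∀ Q : Subgroup P, A ≤ Q → ∀ B ∈ Cfsg.kLowerStarFamily Q, ¬ B ≤ T →
      ∃ B : Subgroup P, ¬ B ≤ T ∧ ⁅⁅⁅A, B⁆, B⁆, B⁆ = ⊥ ∧ ⁅⁅ZA, B⁆, B⁆ = ⊥ := by
    intro Q hAQ B hB hBT
    obtain ⟨hB2, hBQ, hBcond⟩ := hB
    refine ⟨B, hBT, cubic_of_classTwo A B hB2 (hAQ.trans hBQ), ?_⟩
    apply quadratic_of_commutator_le_center
    apply hBcond ZA hZA2 (hZAA.trans hAQ)
    · rw [Subgroup.normalizer_eq_top_iff.mpr hZAn]; exact le_top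
    · rw [hZA0]
      exact le_bot_iff.mp (Subgroup.commutator_le_right _ _)
    · have h1 : ⁅B ⊓ Subgroup.centralizer (B : Set P), ZA⁆ ≤ ZA := Subgroup.commutator_le_right _ _
      exact le_bot_iff.mp ((Subgroup.commutator_mono h1 le_rfl).trans hZA0.le)
  by_cases hE : ∃ n, ¬ Cfsg.kSeqEven P n ≤ T
  · -- minimal even term outside `T`
    obtain ⟨n, hn⟩ : ∃ n, n = Nat.find hE := ⟨_, rfl⟩
    have hnT : ¬ Cfsg.kSeqEven P n ≤ T := hn ▸ Nat.find_spec hE
    have hmin : ∀ m, m < n → Cfsg.kSeqEven P m ≤ T := by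
      intro m hm
      by_contra hcon
      have := Nat.find_min' hE hcon
      omega
    have hAQ : A ≤ Cfsg.kSeqOdd P n := by
      cases n with
      | zero => rw [kSeqOdd_zero]; exact le_top
      | succ m =>
        rw [kSeqOdd_succ]
        apply le_sSup
        refine ⟨hA2', ?_⟩
        calc ⁅A, Cfsg.kSeqEven P m⁆ ≤ ⁅A, T⁆ := Subgroup.commutator_mono le_rfl (hmin m (by omega))
          _ = ⁅T, A⁆ := Subgroup.commutator_comm _ _
          _ ≤ ZA := hTA
          _ = A ⊓ Subgroup.centralizer (A : Set P) := hZA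
    have hex : ∃ B ∈ Cfsg.kLowerStarFamily (Cfsg.kSeqOdd P n), ¬ B ≤ T := by
      by_contra hcon
      push Not at hcon
      exact hnT (sSup_le hcon)
    obtain ⟨B, hB, hBT⟩ := hex
    exact lower _ hAQ B hB hBT
  · push Not at hE
    obtain ⟨n, hn⟩ := h.resolve_left (by
      rintro ⟨n, hn⟩
      exact hn (hE n))
    rw [kSeqOdd_succ] at hn
    have hex : ∃ B ∈ Cfsg.kUpperStarFamily (Cfsg.kSeqEven P n), ¬ B ≤ T := by
      by_contra hcon
      push Not at hcon
      exact hn (sSup_le hcon)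
    obtain ⟨B, ⟨hB2, hBK⟩, hBT⟩ := hex
    have hZAK : ZA ≤ Cfsg.kSeqEven P n := normal_abelian_le_kSeqEven ZA hZAcomm n
    have hquad : ⁅⁅ZA, B⁆, B⁆ = ⊥ := by
      apply quadratic_of_commutator_le_center
      exact (Subgroup.commutator_mono le_rfl hZAK).trans hBK
    by_cases hAmem : A ∈ Cfsg.kLowerStarFamily (Cfsg.kSeqOdd P n)
    · have hAK : A ≤ Cfsg.kSeqEven P n := le_sSup hAmem
      refine ⟨B, hBT, ?_, hquad⟩
      have h1 : ⁅⁅A, B⁆, B⁆ = ⊥ := by
        apply quadratic_of_commutator_le_center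
        exact (Subgroup.commutator_mono le_rfl hAK).trans hBK
      rw [h1]
      exact Subgroup.commutator_bot_left B
    · have hex : ∃ A₁ ∈ Cfsg.classTwoSubgroups P, A ≤ Subgroup.normalizer (A₁ : Set P) ∧
          ⁅⁅A ⊓ Subgroup.centralizer (A : Set P), A₁⁆, A₁⁆ = ⊥ ∧
          ¬ ⁅A, A₁⁆ ≤ A ⊓ Subgroup.centralizer (A : Set P) := by
        by_contra hcon
        push Not at hcon
        apply hAmem
        refine ⟨hA2', ?_, ?_⟩
        · rw [Subgroup.normalizer_eq_top_iff.mpr hA]; exact le_top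
        · intro A₁ h1 _ h3 _ h5
          exact hcon A₁ h1 h3 h5
      obtain ⟨A₁, h1, h3, h5, h6⟩ := hex
      rw [← hZA] at h5 h6
      refine ⟨A₁, ?_, cubic_of_classTwo A A₁ h1 h3, h5⟩
      intro hA₁T
      apply h6
      calc ⁅A, A₁⁆ ≤ ⁅A, T⁆ := Subgroup.commutator_mono le_rfl hA₁T
        _ = ⁅T, A⁆ := Subgroup.commutator_comm _ _
        _ ≤ ZA := hTA

end PGroup

section Induced

variable {p : ℕ} {W : ∀ (Q : Type u) [Group Q], Subgroup Q}

/-- The value of an isomorphism-invariant functor, pushed along an injective homomorphism, is the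
induced functor at the range. -/
theorem map_eq_inducedFunctor_range (hW : Cfsg.IsCharPFunctor.{u} p W) {X Y : Type u} [Group X]
    [Group Y] [Finite X] (hX : IsPGroup p X) (f : X →* Y) (hf : Function.Injective f) :
    (W X).map f = Cfsg.inducedFunctor W f.range := by
  unfold Cfsg.inducedFunctor
  have h1 := hW.2 X ↥f.range hX (MonoidHom.ofInjective hf)
  rw [← h1, Subgroup.map_map]
  congr 1

/-- The induced functor at a normal `p`-subgroup is normal. -/
theorem inducedFunctor_normal_of_normal (hW : Cfsg.IsCharPFunctor.{u} p W) {G : Type u} [Group G]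
    [Finite G] (T : Subgroup G) [hT : T.Normal] (hTp : IsPGroup p T) :
    (Cfsg.inducedFunctor W T).Normal := by
  constructor
  intro n hn g
  have h1 := (isConjugacyFunctor_inducedFunctor hW G T hTp).2.2 g
  have h2 : T.map (MulAut.conj g).toMonoidHom = T := by
    rw [← smul_eq_map_conj]; exact Subgroup.Normal.conj_smul_eq_self g T
  rw [h2] at h1
  rw [h1]
  exact ⟨n, hn, rfl⟩

end Induced

section Element

variable {G : Type u} [Group G] [Finite G] {p : ℕ} [hp : Fact p.Prime]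

/-- If a K-infinity subgroup of the Sylow `p`-subgroup `S` is not normal in `G`, some term of the
K-sequence of `S` is not contained in `O_p(G)`. -/
theorem exists_kSeq_not_le_pCore (S : Sylow p G)
    (hK : ¬ (Cfsg.inducedFunctor Cfsg.kInfLower (S : Subgroup G)).Normal ∨
      ¬ (Cfsg.inducedFunctor Cfsg.kInfUpper (S : Subgroup G)).Normal) :
    (∃ n, ¬ Cfsg.kSeqEven ↥(S : Subgroup G) n ≤ (Cfsg.pCore p G).subgroupOf (S : Subgroup G)) ∨
      (∃ n, ¬ Cfsg.kSeqOdd ↥(S : Subgroup G) (n + 1) ≤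
        (Cfsg.pCore p G).subgroupOf (S : Subgroup G)) := by
  by_contra hall
  push Not at hall
  obtain ⟨T', hT'⟩ : ∃ T' : Subgroup ↥(S : Subgroup G),
    T' = (Cfsg.pCore p G).subgroupOf (S : Subgroup G) := ⟨_, rfl⟩
  rw [← hT'] at hall
  have hTS : Cfsg.pCore p G ≤ (S : Subgroup G) := pCore_le_sylow S
  obtain ⟨hL, hU⟩ := kInf_subgroup_eq (P := ↥(S : Subgroup G)) T' (fun n => ⟨hall.1 n, hall.2 n⟩)
  obtain ⟨f, hf⟩ : ∃ f : ↥T' →* G, f = (S : Subgroup G).subtype.comp T'.subtype := ⟨_, rfl⟩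
  have hfinj : Function.Injective f := by
    rw [hf]
    exact ((S : Subgroup G).subtype_injective).comp T'.subtype_injective
  have hfrange : f.range = Cfsg.pCore p G := by
    rw [hf, MonoidHom.range_eq_map, ← Subgroup.map_map, ← MonoidHom.range_eq_map,
      Subgroup.range_subtype, hT', Subgroup.map_subgroupOf_eq_of_le hTS]
  have hT'p : IsPGroup p ↥T' := (S.2.to_subgroup T')
  haveI : (Cfsg.pCore p G).Normal := pCore_normal p
  have hTp : IsPGroup p (Cfsg.pCore p G) := pCore_isPGroup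
  have key : ∀ W : ∀ (Q : Type u) [Group Q], Subgroup Q, Cfsg.IsCharPFunctor.{u} p W →
      (W ↥T').map T'.subtype = W ↥(S : Subgroup G) →
      (Cfsg.inducedFunctor W (S : Subgroup G)).Normal := by
    intro W hW hmap
    have h1 : Cfsg.inducedFunctor W (S : Subgroup G) = Cfsg.inducedFunctor W (Cfsg.pCore p G) := by
      have h2 := map_eq_inducedFunctor_range hW hT'p f hfinj
      rw [hfrange] at h2
      rw [← h2, hf, ← Subgroup.map_map, hmap]
      rfl
    rw [h1]
    exact inducedFunctor_normal_of_normal hW _ hTp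
  rcases hK with h | h
  · exact h (key _ (isCharPFunctor_kInfLower p) hL)
  · exact h (key _ (isCharPFunctor_kInfUpper p) hU)

/-- **Glauberman's cubic/quadratic element.**  Let `A ≤ O_p(G)` be a normal subgroup of `G` of class
at most two with `[O_p(G), A] ≤ Z(A)`.  If the lower or the upper K-infinity subgroup of the Sylow
`p`-subgroup `S` is not normal in `G`, then some `g ∈ S` outside `O_p(G)` satisfies
`[A, g, g, g] = 1` and `[Z(A), g, g] = 1`. -/
theorem exists_cubic_quadratic_element (S : Sylow p G) (A : Subgroup G)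
    (hAT : A ≤ Cfsg.pCore p G) (hAn : A.Normal)
    (hA2 : ⁅A, A⁆ ≤ Subgroup.centralizer ((A : Subgroup G) : Set G))
    (hA3 : ⁅Cfsg.pCore p G, A⁆ ≤ A ⊓ Subgroup.centralizer ((A : Subgroup G) : Set G))
    (hK : ¬ (Cfsg.inducedFunctor Cfsg.kInfLower (S : Subgroup G)).Normal ∨
      ¬ (Cfsg.inducedFunctor Cfsg.kInfUpper (S : Subgroup G)).Normal) :
    ∃ g : G, g ∈ (S : Subgroup G) ∧ g ∉ Cfsg.pCore p G ∧
      Cfsg.iterCommutator A (Subgroup.zpowers g) 3 = ⊥ ∧
      ⁅⁅A ⊓ Subgroup.centralizer ((A : Subgroup G) : Set G), Subgroup.zpowers g⁆,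
        Subgroup.zpowers g⁆ = ⊥ := by
  have hTS : Cfsg.pCore p G ≤ (S : Subgroup G) := pCore_le_sylow S
  have hAS : A ≤ (S : Subgroup G) := hAT.trans hTS
  have hinj : Function.Injective (S : Subgroup G).subtype := Subgroup.subtype_injective _
  obtain ⟨A', hA'⟩ : ∃ A' : Subgroup ↥(S : Subgroup G), A' = A.subgroupOf (S : Subgroup G) :=
    ⟨_, rfl⟩
  obtain ⟨T', hT'⟩ : ∃ T' : Subgroup ↥(S : Subgroup G),
    T' = (Cfsg.pCore p G).subgroupOf (S : Subgroup G) := ⟨_, rfl⟩
  have hA'map : A'.map (S : Subgroup G).subtype = A := by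
    rw [hA']; exact Subgroup.map_subgroupOf_eq_of_le hAS
  have hT'map : T'.map (S : Subgroup G).subtype = Cfsg.pCore p G := by
    rw [hT']; exact Subgroup.map_subgroupOf_eq_of_le hTS
  haveI hA'n : A'.Normal := by
    rw [hA']; exact Subgroup.Normal.subgroupOf hAn _
  have hZmap : (A' ⊓ Subgroup.centralizer (A' : Set ↥(S : Subgroup G))).map
      (S : Subgroup G).subtype = A ⊓ Subgroup.centralizer ((A : Subgroup G) : Set G) := by
    rw [map_inf_centralizer _ hinj, hA'map]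
  have hA2' : ⁅A', A'⁆ ≤ Subgroup.centralizer (A' : Set ↥(S : Subgroup G)) := by
    rw [← map_le_centralizer_map_iff _ hinj, Subgroup.map_commutator, hA'map]
    exact hA2
  have hTA' : ⁅T', A'⁆ ≤ A' ⊓ Subgroup.centralizer (A' : Set ↥(S : Subgroup G)) := by
    rw [← Subgroup.map_le_map_iff_of_injective hinj, Subgroup.map_commutator, hA'map, hT'map, hZmap]
    exact hA3
  have hseq := exists_kSeq_not_le_pCore S hK
  rw [← hT'] at hseq
  obtain ⟨B, hBT, hcub, hquad⟩ := exists_cubic_quadratic T' A' hA2' hTA' hseq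
  obtain ⟨b, hbB, hbT⟩ := SetLike.not_le_iff_exists.mp hBT
  obtain ⟨Bt, hBt⟩ : ∃ Bt : Subgroup G, Bt = B.map (S : Subgroup G).subtype := ⟨_, rfl⟩
  have hcubG : ⁅⁅⁅A, Bt⁆, Bt⁆, Bt⁆ = ⊥ := by
    have := congrArg (Subgroup.map (S : Subgroup G).subtype) hcub
    rw [Subgroup.map_commutator, Subgroup.map_commutator, Subgroup.map_commutator, hA'map,
      Subgroup.map_bot, ← hBt] at this
    exact this
  have hquadG : ⁅⁅A ⊓ Subgroup.centralizer ((A : Subgroup G) : Set G), Bt⁆, Bt⁆ = ⊥ := by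
    have := congrArg (Subgroup.map (S : Subgroup G).subtype) hquad
    rw [Subgroup.map_commutator, Subgroup.map_commutator, hZmap, Subgroup.map_bot, ← hBt] at this
    exact this
  have hgB : Subgroup.zpowers (b : G) ≤ Bt := by
    rw [Subgroup.zpowers_le, hBt]
    exact ⟨b, hbB, rfl⟩
  refine ⟨(b : G), b.2, ?_, ?_, ?_⟩
  · intro hb
    apply hbT
    rw [hT', Subgroup.mem_subgroupOf]
    exact hb
  · apply le_bot_iff.mp
    rw [← hcubG]
    show ⁅⁅⁅A, Subgroup.zpowers (b : G)⁆, Subgroup.zpowers (b : G)⁆, Subgroup.zpowers (b : G)⁆ ≤ _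
    exact Subgroup.commutator_mono (Subgroup.commutator_mono (Subgroup.commutator_mono le_rfl hgB)
      hgB) hgB
  · apply le_bot_iff.mp
    rw [← hquadG]
    exact Subgroup.commutator_mono (Subgroup.commutator_mono le_rfl hgB) hgB

end Element

end Cfsg.Agent.Helper33
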