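import Cfsg.Agent.Helper33.PGroupBasic

set_option autoImplicit false

namespace Cfsg.Agent.Helper33

variable {P : Type*} [Group P]

/-- If `C_P(B) ≰ B` in a finite `p`-group, there is an element of `C_P(B)` outside `B`
that every element of `N_P(B)` centralizes modulo `Z(B)`. -/
theorem exists_centralizer_extension {p : ℕ} [Fact p.Prime] [Finite P] (hP : IsPGroup p P)
    (B : Subgroup P) (h : ¬ Subgroup.centralizer (B : Set P) ≤ B) :
    ∃ x ∈ Subgroup.centralizer (B : Set P), x ∉ B ∧
      ∀ g ∈ Subgroup.normalizer (B : Set P),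
        g * x * g⁻¹ * x⁻¹ ∈ B ⊓ Subgroup.centralizer (B : Set P) := by
  set L := Subgroup.normalizer (B : Set P) with hL
  set C := Subgroup.centralizer (B : Set P) with hC
  have hCL : C ≤ L := Subgroup.centralizer_le_normalizer _
  have hBL : B ≤ L := Subgroup.le_normalizer
  have hLp : IsPGroup p L := hP.to_subgroup L
  have n1 : (C.subgroupOf L).Normal := Subgroup.normal_subgroupOf_centralizer_normalizer _
  have n2 : (B.subgroupOf L).Normal := Subgroup.normal_in_normalizer
  have n3 : ((B ⊓ C).subgroupOf L).Normal := by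
    have : (B ⊓ C).subgroupOf L = B.subgroupOf L ⊓ C.subgroupOf L := by
      ext x; simp [Subgroup.mem_subgroupOf]
    rw [this]
    exact Subgroup.normal_inf_normal _ _
  have hle : (B ⊓ C).subgroupOf L ≤ C.subgroupOf L := by
    intro x hx
    rw [Subgroup.mem_subgroupOf] at hx ⊢
    exact hx.2
  have hne : ¬ C.subgroupOf L ≤ (B ⊓ C).subgroupOf L := by
    intro hh
    apply h
    intro c hc
    have : (⟨c, hCL hc⟩ : L) ∈ (B ⊓ C).subgroupOf L := hh (by rw [Subgroup.mem_subgroupOf]; exact hc)
    rw [Subgroup.mem_subgroupOf] at this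
    exact this.1
  obtain ⟨x, hxC, hxB, hx⟩ := exists_central_mod_of_normal_lt hLp ((B ⊓ C).subgroupOf L) (C.subgroupOf L) hle hne
  rw [Subgroup.mem_subgroupOf] at hxC hxB
  refine ⟨x, hxC, fun hb => hxB ⟨hb, hxC⟩, fun g hg => ?_⟩
  have := hx ⟨g, hg⟩
  rw [Subgroup.mem_subgroupOf] at this
  simpa using this

end Cfsg.Agent.Helper33
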