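import Cfsg.Agent.Helper33.KInf
import Cfsg.Agent.Helper33.CommBasic
import Cfsg.Agent.Helper33.PGroupExt

set_option autoImplicit false

open scoped commutatorElement

namespace Cfsg.Agent.Helper33

variable {P : Type*} [Group P]

section ext

variable (B : Subgroup P) (x : P) (hx : x ∈ Subgroup.centralizer (B : Set P))

include hx

theorem ext_zpowers_le_centralizer : Subgroup.zpowers x ≤ Subgroup.centralizer (B : Set P) :=
  (Subgroup.zpowers_le).mpr hx

theorem ext_le_centralizer_zpowers : B ≤ Subgroup.centralizer (Subgroup.zpowers x : Set P) :=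
  Subgroup.le_centralizer_iff.mp (ext_zpowers_le_centralizer B x hx)

omit hx in
theorem ext_zpowers_le_centralizer_self :
    Subgroup.zpowers x ≤ Subgroup.centralizer (Subgroup.zpowers x : Set P) := by
  rw [Subgroup.le_centralizer_iff_isMulCommutative]
  infer_instance

/-- `Z(B) ⊔ ⟨x⟩ ≤ Z(B ⊔ ⟨x⟩)`. -/
theorem ext_center_le :
    (B ⊓ Subgroup.centralizer (B : Set P)) ⊔ Subgroup.zpowers x ≤
      (B ⊔ Subgroup.zpowers x) ⊓ Subgroup.centralizer ((B ⊔ Subgroup.zpowers x : Subgroup P) : Set P) := by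
  rw [centralizer_sup_eq]
  apply le_inf
  · exact sup_le_sup inf_le_left le_rfl
  · apply sup_le
    · exact le_inf inf_le_right (le_trans inf_le_left (ext_le_centralizer_zpowers B x hx))
    · exact le_inf (ext_zpowers_le_centralizer B x hx) (ext_zpowers_le_centralizer_self x)

theorem ext_classTwo (hB : B ∈ Cfsg.classTwoSubgroups P) :
    B ⊔ Subgroup.zpowers x ∈ Cfsg.classTwoSubgroups P := by
  show ⁅B ⊔ Subgroup.zpowers x, B ⊔ Subgroup.zpowers x⁆ ≤
    Subgroup.centralizer ((B ⊔ Subgroup.zpowers x : Subgroup P) : Set P)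
  have hB' : ⁅B, B⁆ ≤ Subgroup.centralizer (B : Set P) := hB
  have hXc : Subgroup.zpowers x ≤ Subgroup.centralizer ((B ⊔ Subgroup.zpowers x : Subgroup P) : Set P) :=
    le_trans (le_trans le_sup_right (ext_center_le B x hx)) inf_le_right
  have hBB : ⁅B, B⁆ ≤ Subgroup.centralizer ((B ⊔ Subgroup.zpowers x : Subgroup P) : Set P) := by
    rw [centralizer_sup_eq]
    refine le_inf hB' ?_
    refine le_trans ?_ (ext_le_centralizer_zpowers B x hx)
    rw [Subgroup.commutator_le]
    intro a ha b hb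
    exact B.mul_mem (B.mul_mem (B.mul_mem ha hb) (B.inv_mem ha)) (B.inv_mem hb)
  have h1 : ⁅B, B ⊔ Subgroup.zpowers x⁆ ≤
      Subgroup.centralizer ((B ⊔ Subgroup.zpowers x : Subgroup P) : Set P) := by
    rw [Subgroup.commutator_comm]
    apply commutator_sup_le_of_central le_rfl hBB
    have : ⁅Subgroup.zpowers x, B⁆ = ⊥ := by
      rw [Subgroup.commutator_eq_bot_iff_le_centralizer]
      exact ext_zpowers_le_centralizer B x hx
    rw [this]; exact bot_le
  have h2 : ⁅Subgroup.zpowers x, B ⊔ Subgroup.zpowers x⁆ ≤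
      Subgroup.centralizer ((B ⊔ Subgroup.zpowers x : Subgroup P) : Set P) := by
    have : ⁅Subgroup.zpowers x, B ⊔ Subgroup.zpowers x⁆ = ⊥ := by
      rw [Subgroup.commutator_eq_bot_iff_le_centralizer]
      exact hXc
    rw [this]; exact bot_le
  exact commutator_sup_le_of_central le_rfl h1 h2

/-- If `K` normalizes `B`, centralizes `x` modulo `Z(B)`, and `⁅B, K⁆ ≤ Z(B)`, then
`⁅B ⊔ ⟨x⟩, K⁆ ≤ Z(B ⊔ ⟨x⟩)`. -/
theorem ext_commutator_le (K : Subgroup P)
    (hK : ∀ k ∈ K, k * x * k⁻¹ * x⁻¹ ∈ B ⊓ Subgroup.centralizer (B : Set P))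
    (hBK : ⁅B, K⁆ ≤ B ⊓ Subgroup.centralizer (B : Set P)) :
    ⁅B ⊔ Subgroup.zpowers x, K⁆ ≤
      (B ⊔ Subgroup.zpowers x) ⊓ Subgroup.centralizer ((B ⊔ Subgroup.zpowers x : Subgroup P) : Set P) := by
  have hZ := ext_center_le B x hx
  apply commutator_sup_le_of_central inf_le_right
  · exact le_trans hBK (le_trans le_sup_left hZ)
  · have key : ⁅Subgroup.closure {x}, K⁆ ≤
        (B ⊔ Subgroup.zpowers x) ⊓ Subgroup.centralizer ((B ⊔ Subgroup.zpowers x : Subgroup P) : Set P) := by
      apply commutator_closure_le_of_central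
      · rw [← Subgroup.zpowers_eq_closure]
        refine le_trans inf_le_right (Subgroup.centralizer_le ?_)
        exact_mod_cast (le_sup_right : Subgroup.zpowers x ≤ B ⊔ Subgroup.zpowers x)
      · intro s hs k hk
        rw [Set.mem_singleton_iff] at hs
        subst hs
        have : ⁅k, s⁆ ∈ B ⊓ Subgroup.centralizer (B : Set P) := hK k hk
        rw [← commutatorElement_inv]
        exact Subgroup.inv_mem _ (hZ (Subgroup.mem_sup_left this))
    rwa [← Subgroup.zpowers_eq_closure] at key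

/-- If `K` normalizes `B` and centralizes `x` modulo `Z(B)` then `K` normalizes `B ⊔ ⟨x⟩`. -/
theorem ext_le_normalizer (K : Subgroup P) (hKB : K ≤ Subgroup.normalizer (B : Set P))
    (hK : ∀ k ∈ K, k * x * k⁻¹ * x⁻¹ ∈ B ⊓ Subgroup.centralizer (B : Set P)) :
    K ≤ Subgroup.normalizer ((B ⊔ Subgroup.zpowers x : Subgroup P) : Set P) := by
  have e : B ⊔ Subgroup.zpowers x = Subgroup.closure ((B : Set P) ∪ {x}) := by
    rw [Subgroup.closure_union, Subgroup.closure_eq, Subgroup.zpowers_eq_closure]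
  rw [e, Subgroup.le_normalizer_closure_iff]
  rintro k hk g (hg | hg)
  · apply Subgroup.subset_closure
    left
    exact (Subgroup.le_normalizer_iff.mp hKB) k hk g hg
  · rw [Set.mem_singleton_iff] at hg
    subst hg
    have h1 : k * g * k⁻¹ * g⁻¹ ∈ Subgroup.closure ((B : Set P) ∪ {g}) :=
      Subgroup.subset_closure (Or.inl (hK k hk).1)
    have h2 : g ∈ Subgroup.closure ((B : Set P) ∪ {g}) :=
      Subgroup.subset_closure (Or.inr rfl)
    have := Subgroup.mul_mem _ h1 h2
    simpa using this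

end ext

end Cfsg.Agent.Helper33
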