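import Cfsg.Agent.Helper33.KInf

set_option autoImplicit false

open scoped commutatorElement

namespace Cfsg.Agent.Helper33

variable {H G : Type*} [Group H] [Group G] (f : H →* G) (hf : Function.Injective f)

include hf

theorem map_le_centralizer_map_iff (A B : Subgroup H) :
    A.map f ≤ Subgroup.centralizer ((B.map f : Subgroup G) : Set G) ↔
      A ≤ Subgroup.centralizer (B : Set H) := by
  rw [← Subgroup.commutator_eq_bot_iff_le_centralizer, ← Subgroup.commutator_eq_bot_iff_le_centralizer,
    ← Subgroup.map_commutator, Subgroup.map_eq_bot_iff_of_injective _ hf]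

theorem map_le_normalizer_map_iff (A B : Subgroup H) :
    A.map f ≤ Subgroup.normalizer ((B.map f : Subgroup G) : Set G) ↔
      A ≤ Subgroup.normalizer (B : Set H) := by
  rw [Subgroup.le_normalizer_iff_commutator_le_right, Subgroup.le_normalizer_iff_commutator_le_right,
    ← Subgroup.map_commutator, Subgroup.map_le_map_iff_of_injective hf]

theorem map_inf_centralizer (B : Subgroup H) :
    (B ⊓ Subgroup.centralizer (B : Set H)).map f =
      B.map f ⊓ Subgroup.centralizer ((B.map f : Subgroup G) : Set G) := by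
  apply le_antisymm
  · apply le_inf
    · exact Subgroup.map_mono inf_le_left
    · rw [map_le_centralizer_map_iff f hf]
      exact inf_le_right
  · rintro _ ⟨⟨b, hb, rfl⟩, hc⟩
    refine ⟨b, ⟨hb, ?_⟩, rfl⟩
    show b ∈ Subgroup.centralizer (B : Set H)
    have hc : f b ∈ Subgroup.centralizer ((B.map f : Subgroup G) : Set G) := hc
    rw [Subgroup.mem_centralizer_iff]
    intro y hy
    apply hf
    rw [map_mul, map_mul]
    exact Subgroup.mem_centralizer_iff.mp hc (f y) ⟨y, hy, rfl⟩

theorem map_mem_classTwo_iff (B : Subgroup H) :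
    B.map f ∈ Cfsg.classTwoSubgroups G ↔ B ∈ Cfsg.classTwoSubgroups H := by
  show ⁅B.map f, B.map f⁆ ≤ Subgroup.centralizer ((B.map f : Subgroup G) : Set G) ↔
    ⁅B, B⁆ ≤ Subgroup.centralizer (B : Set H)
  rw [← Subgroup.map_commutator, map_le_centralizer_map_iff f hf]

theorem map_mem_upperStar_iff (R B : Subgroup H) :
    B.map f ∈ Cfsg.kUpperStarFamily (R.map f) ↔ B ∈ Cfsg.kUpperStarFamily R := by
  show (B.map f ∈ Cfsg.classTwoSubgroups G ∧
      ⁅B.map f, R.map f⁆ ≤ B.map f ⊓ Subgroup.centralizer ((B.map f : Subgroup G) : Set G)) ↔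
    (B ∈ Cfsg.classTwoSubgroups H ∧ ⁅B, R⁆ ≤ B ⊓ Subgroup.centralizer (B : Set H))
  rw [map_mem_classTwo_iff f hf, ← map_inf_centralizer f hf, ← Subgroup.map_commutator,
    Subgroup.map_le_map_iff_of_injective hf]

theorem map_mem_lowerStar_iff (R B : Subgroup H) :
    B.map f ∈ Cfsg.kLowerStarFamily (R.map f) ↔ B ∈ Cfsg.kLowerStarFamily R := by
  constructor
  · rintro ⟨h1, h2, h3⟩
    refine ⟨(map_mem_classTwo_iff f hf B).mp h1, (map_le_normalizer_map_iff f hf R B).mp h2, ?_⟩
    intro A hA hAR hBA e1 e2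
    have := h3 (A.map f) ((map_mem_classTwo_iff f hf A).mpr hA) (Subgroup.map_mono hAR)
      ((map_le_normalizer_map_iff f hf B A).mpr hBA)
      (by rw [← Subgroup.map_commutator, ← Subgroup.map_commutator, e1, Subgroup.map_bot])
      (by rw [← map_inf_centralizer f hf, ← Subgroup.map_commutator, ← Subgroup.map_commutator, e2,
            Subgroup.map_bot])
    rw [← map_inf_centralizer f hf, ← Subgroup.map_commutator,
      Subgroup.map_le_map_iff_of_injective hf] at this
    exact this
  · rintro ⟨h1, h2, h3⟩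
    refine ⟨(map_mem_classTwo_iff f hf B).mpr h1, (map_le_normalizer_map_iff f hf R B).mpr h2, ?_⟩
    intro A' hA' hA'R hBA' e1 e2
    have hrange : A' ≤ f.range := le_trans hA'R (Subgroup.map_le_range f R)
    obtain ⟨A, rfl⟩ : ∃ A : Subgroup H, A.map f = A' := ⟨A'.comap f, Subgroup.map_comap_eq_self hrange⟩
    rw [← map_inf_centralizer f hf, ← Subgroup.map_commutator,
      Subgroup.map_le_map_iff_of_injective hf]
    apply h3 A ((map_mem_classTwo_iff f hf A).mp hA') ((Subgroup.map_le_map_iff_of_injective hf).mp hA'R)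
      ((map_le_normalizer_map_iff f hf B A).mp hBA')
    · rw [← Subgroup.map_commutator, ← Subgroup.map_commutator,
        Subgroup.map_eq_bot_iff_of_injective _ hf] at e1
      exact e1
    · rw [← map_inf_centralizer f hf, ← Subgroup.map_commutator, ← Subgroup.map_commutator,
        Subgroup.map_eq_bot_iff_of_injective _ hf] at e2
      exact e2

theorem map_sSup_lowerStar (R : Subgroup H) :
    (sSup (Cfsg.kLowerStarFamily R)).map f =
      sSup {B' | B' ≤ f.range ∧ B' ∈ Cfsg.kLowerStarFamily (R.map f)} := by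
  apply le_antisymm
  · rw [Subgroup.map_le_iff_le_comap]
    apply sSup_le
    intro B hB
    rw [← Subgroup.map_le_iff_le_comap]
    exact le_sSup ⟨Subgroup.map_le_range f B, (map_mem_lowerStar_iff f hf R B).mpr hB⟩
  · apply sSup_le
    rintro B' ⟨hr, hB'⟩
    obtain ⟨B, rfl⟩ : ∃ B : Subgroup H, B.map f = B' := ⟨B'.comap f, Subgroup.map_comap_eq_self hr⟩
    exact Subgroup.map_mono (le_sSup ((map_mem_lowerStar_iff f hf R B).mp hB'))

theorem map_sSup_upperStar (R : Subgroup H) :
    (sSup (Cfsg.kUpperStarFamily R)).map f =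
      sSup {B' | B' ≤ f.range ∧ B' ∈ Cfsg.kUpperStarFamily (R.map f)} := by
  apply le_antisymm
  · rw [Subgroup.map_le_iff_le_comap]
    apply sSup_le
    intro B hB
    rw [← Subgroup.map_le_iff_le_comap]
    exact le_sSup ⟨Subgroup.map_le_range f B, (map_mem_upperStar_iff f hf R B).mpr hB⟩
  · apply sSup_le
    rintro B' ⟨hr, hB'⟩
    obtain ⟨B, rfl⟩ : ∃ B : Subgroup H, B.map f = B' := ⟨B'.comap f, Subgroup.map_comap_eq_self hr⟩
    exact Subgroup.map_mono (le_sSup ((map_mem_upperStar_iff f hf R B).mp hB'))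

end Cfsg.Agent.Helper33
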