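import Cfsg.Agent.Helper33.KInfExt

set_option autoImplicit false

open scoped commutatorElement

namespace Cfsg.Agent.Helper33

variable {P : Type*} [Group P]

theorem classTwo_max_selfCentralizing {p : ℕ} [Fact p.Prime] [Finite P] (hP : IsPGroup p P)
    (B : Subgroup P) (hB : B ∈ Cfsg.classTwoSubgroups P)
    (hmax : ∀ C ∈ Cfsg.classTwoSubgroups P, B ≤ C → C = B) :
    Subgroup.centralizer (B : Set P) ≤ B := by
  by_contra hcon
  obtain ⟨x, hxC, hxB, -⟩ := exists_centralizer_extension hP B hcon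
  have := hmax _ (ext_classTwo B x hxC hB) le_sup_left
  apply hxB
  rw [← this]
  exact Subgroup.mem_sup_right (Subgroup.mem_zpowers x)

theorem upperStar_max_selfCentralizing {p : ℕ} [Fact p.Prime] [Finite P] (hP : IsPGroup p P)
    (Q B : Subgroup P) (hB : B ∈ Cfsg.kUpperStarFamily Q)
    (hmax : ∀ C ∈ Cfsg.kUpperStarFamily Q, B ≤ C → C = B) :
    Subgroup.centralizer (B : Set P) ≤ B := by
  by_contra hcon
  obtain ⟨x, hxC, hxB, hx⟩ := exists_centralizer_extension hP B hcon
  have hQN : Q ≤ Subgroup.normalizer (B : Set P) := by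
    rw [Subgroup.le_normalizer_iff_commutator_le_left]
    exact le_trans hB.2 inf_le_left
  have hmem : B ⊔ Subgroup.zpowers x ∈ Cfsg.kUpperStarFamily Q :=
    ⟨ext_classTwo B x hxC hB.1, ext_commutator_le B x hxC Q (fun k hk => hx k (hQN hk)) hB.2⟩
  have := hmax _ hmem le_sup_left
  apply hxB
  rw [← this]
  exact Subgroup.mem_sup_right (Subgroup.mem_zpowers x)

theorem lowerStar_max_selfCentralizing {p : ℕ} [Fact p.Prime] [Finite P] (hP : IsPGroup p P)
    (Q B : Subgroup P) (hB : B ∈ Cfsg.kLowerStarFamily Q)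
    (hmax : ∀ C ∈ Cfsg.kLowerStarFamily Q, B ≤ C → C = B) :
    Subgroup.centralizer (B : Set P) ≤ B := by
  by_contra hcon
  obtain ⟨x, hxC, hxB, hx⟩ := exists_centralizer_extension hP B hcon
  have hQN : Q ≤ Subgroup.normalizer (B : Set P) := hB.2.1
  have hmem : B ⊔ Subgroup.zpowers x ∈ Cfsg.kLowerStarFamily Q := by
    refine ⟨ext_classTwo B x hxC hB.1, ext_le_normalizer B x hxC Q hQN (fun k hk => hx k (hQN hk)), ?_⟩
    intro A hA hAQ hBA h1 h2
    have hZ := ext_center_le B x hxC
    have hBA' : ⁅B, A⁆ ≤ B ⊓ Subgroup.centralizer (B : Set P) := by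
      apply hB.2.2 A hA hAQ (le_trans le_sup_left hBA)
      · rw [eq_bot_iff, ← h1]
        exact Subgroup.commutator_mono le_sup_left le_rfl
      · rw [eq_bot_iff, ← h2]
        exact Subgroup.commutator_mono (Subgroup.commutator_mono (le_trans le_sup_left hZ) le_rfl) le_rfl
    exact ext_commutator_le B x hxC A (fun k hk => hx k (hQN (hAQ hk))) hBA'
  have := hmax _ hmem le_sup_left
  apply hxB
  rw [← this]
  exact Subgroup.mem_sup_right (Subgroup.mem_zpowers x)

end Cfsg.Agent.Helper33
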