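import Cfsg.Agent.Helper33.KInfTransfer

set_option autoImplicit false
set_option linter.style.haveILetI false

open scoped commutatorElement

universe u

namespace Cfsg.Agent.Helper33

variable {p : ℕ} [hp : Fact p.Prime]

/-- **Glauberman**: for `p ≥ 5` the upper K-infinity subgroup controls transfer. -/
theorem kInfUpper_controlsTransfer (hp5 : 5 ≤ p) :
    ∀ (n : ℕ) (G : Type u) [Group G] [Finite G], Nat.card G = n →
      Cfsg.ControlsTransferIn p (Cfsg.inducedFunctor (G := G) Cfsg.kInfUpper) ⊤ := by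
  intro n
  induction n using Nat.strong_induction_on with
  | _ n ih =>
  intro G _ _ hcard
  by_contra hG
  obtain ⟨𝓦, h𝓦def⟩ : ∃ 𝓦 : Set (∀ (Q : Type u) [Group Q], Subgroup Q),
    𝓦 = {fun (Q : Type u) [Group Q] => Cfsg.kInfUpper Q} := ⟨_, rfl⟩
  have h𝓦 : ∀ W ∈ 𝓦, Cfsg.IsCharPFunctor.{u} p W := by
    rw [h𝓦def]
    intro W hW
    rw [Set.mem_singleton_iff] at hW
    rw [hW]
    exact isCharPFunctor_kInfUpper p
  have hne : 𝓦.Nonempty := by rw [h𝓦def]; exact Set.singleton_nonempty _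
  have hfam : ∀ (X : Type u) [Group X],
      Cfsg.FamilyControlsTransferIn p ((fun W => Cfsg.inducedFunctor (G := X) W) '' 𝓦) ⊤ ↔
        Cfsg.ControlsTransferIn p (Cfsg.inducedFunctor (G := X) Cfsg.kInfUpper) ⊤ := by
    intro X _
    rw [h𝓦def, Set.image_singleton]
    exact familyControlsTransferIn_singleton_iff _ _
  obtain ⟨S⟩ : Nonempty (Sylow p G) := inferInstance
  have hsec : ∀ (K R : Subgroup G) [hR : (R.subgroupOf K).Normal], (K = ⊤ → R ≠ ⊥) →
      Cfsg.FamilyControlsTransferIn p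
        ((fun W => Cfsg.inducedFunctor (G := (↥K ⧸ R.subgroupOf K)) W) '' 𝓦) ⊤ := by
    intro K R hR hKR
    rw [hfam]
    exact ih _ (hcard ▸ card_section_lt K R hKR) _ rfl
  have hG' : ¬ Cfsg.FamilyControlsTransferIn p
      ((fun W => Cfsg.inducedFunctor (G := G) W) '' 𝓦) ⊤ := by
    rw [hfam]; exact hG
  obtain ⟨-, -, -, h4⟩ := Cfsg.Agent.S1998.result S 𝓦 h𝓦 hne hsec hG' _ _ rfl rfl
  -- the upper K-infinity subgroup is not normal
  have hKn : ¬ (Cfsg.inducedFunctor Cfsg.kInfUpper (S : Subgroup G)).Normal := by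
    intro hn
    apply hG
    refine ⟨S, le_top, S.2, ?_, ?_⟩
    · rw [Subgroup.relIndex_top_right]; exact S.not_dvd_index
    · rw [Subgroup.normalizer_eq_top_iff.mpr hn, inf_top_eq]
  obtain ⟨g, hgS, hgT, hdeg, -⟩ := exists_degree_four_element S (Or.inr hKn)
  obtain ⟨U, V, hUV, hUT, hnot⟩ := h4 g hgS hgT
  apply hnot
  have hZU : Subgroup.zpowers g ≤ Subgroup.normalizer (U : Set G) := by
    rw [Subgroup.normalizer_eq_top_iff.mpr hUV.2.1]; exact le_top
  exact (iterCommutator_antitone U _ hZU (by omega : 4 ≤ p - 1)).trans (hdeg U V hUV hUT)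

end Cfsg.Agent.Helper33
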