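import Cfsg.Agent.Helper33.LocalGlobal
import Mathlib.GroupTheory.Focal

set_option autoImplicit false

open scoped commutatorElement

namespace Cfsg.Agent.Helper33

variable {G : Type*} [Group G]

local notation:max H "⟪" g "⟫" => Subgroup.map (MulEquiv.toMonoidHom (MulAut.conj g)) H

/-- Control of transfer in `H` can be read off at any Sylow `p`-subgroup `N'` of `H`. -/
theorem controlsTransferIn_at {p : ℕ} [Fact p.Prime] [Finite G] {W : Subgroup G → Subgroup G}
    (hW : Cfsg.IsConjugacyFunctor p W) {H N' : Subgroup G}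
    (hctl : Cfsg.ControlsTransferIn p W H) (hN'H : N' ≤ H) (hN'p : IsPGroup p N')
    (hN'idx : ¬ p ∣ N'.relIndex H) :
    N' ⊓ ⁅H, H⁆ = N' ⊓ ⁅H ⊓ Subgroup.normalizer ((W N' : Subgroup G) : Set G),
      H ⊓ Subgroup.normalizer ((W N' : Subgroup G) : Set G)⁆ := by
  obtain ⟨T', hT'H, hT'p, hT'idx, hT'⟩ := hctl
  obtain ⟨m, hmH, hm⟩ := exists_conj_le_of_not_dvd_relIndex hN'H hN'p hN'idx hT'H hT'p
  have hle : T'⟪m⟫ ≤ N' := (map_conj_le_iff T' N' m).mpr hm
  have hHm : H⟪m⟫ = H := map_conj_eq_self_of_mem hmH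
  have hidx' : ¬ p ∣ (T'⟪m⟫).relIndex H := by
    have := relIndex_map_conj T' H m
    rw [hHm] at this
    rw [this]; exact hT'idx
  have heq : T'⟪m⟫ = N' := eq_of_le_of_not_dvd_relIndex hle hN'H hN'p hidx'
  have hWN' : W N' = (W T')⟪m⟫ := by rw [← heq]; exact functor_map_conj hW hT'p m
  have h1 := congrArg (fun K : Subgroup G => K⟪m⟫) hT'
  rw [map_conj_inf, map_conj_inf, Subgroup.map_commutator, Subgroup.map_commutator, map_conj_inf,
    hHm, heq, ← normalizer_map_conj, ← hWN'] at h1
  exact h1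

section

variable {p : ℕ} {W : Subgroup G → Subgroup G} (hW : Cfsg.IsConjugacyFunctor p W)
variable [Fact p.Prime] [Finite G] (S : Sylow p G)

include hW

theorem transfer_climb
    (hloc : ∀ T : Subgroup G, T ≠ ⊥ → Cfsg.IsWellPlaced p W (S : Subgroup G) T →
      Cfsg.ControlsTransferIn p W (Subgroup.normalizer ((T : Subgroup G) : Set G)))
    {T : Subgroup G} (hT : Cfsg.IsWellPlaced p W (S : Subgroup G) T) (hT0 : T ≠ ⊥) (m : ℕ) :
    ((S : Subgroup G) ⊓ Subgroup.normalizer (T : Set G)) ⊓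
        ⁅Subgroup.normalizer (T : Set G), Subgroup.normalizer (T : Set G)⁆ ≤
      ((S : Subgroup G) ⊓ Subgroup.normalizer
        ((Cfsg.functorTower W (S : Subgroup G) T m : Subgroup G) : Set G)) ⊓
        ⁅Subgroup.normalizer ((Cfsg.functorTower W (S : Subgroup G) T m : Subgroup G) : Set G),
          Subgroup.normalizer ((Cfsg.functorTower W (S : Subgroup G) T m : Subgroup G) : Set G)⁆ := by
  induction m with
  | zero => exact le_rfl
  | succ m ih =>
    refine le_trans ih ?_
    have hctl := hloc _ (tower_ne_bot hW S hT.1 hT0 m) (isWellPlaced_tower hW S hT m)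
    have := controlsTransferIn_at hW hctl inf_le_right (S.2.to_le inf_le_left) (hT.2 m)
    rw [this]
    apply le_inf
    · exact le_trans inf_le_left (nm_le_succ hW S T m)
    · refine le_trans inf_le_right ?_
      rw [functorTower_succ]
      exact Subgroup.commutator_mono inf_le_right inf_le_right

theorem transfer_wellPlaced_le
    (hloc : ∀ T : Subgroup G, T ≠ ⊥ → Cfsg.IsWellPlaced p W (S : Subgroup G) T →
      Cfsg.ControlsTransferIn p W (Subgroup.normalizer ((T : Subgroup G) : Set G)))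
    {T : Subgroup G} (hT : Cfsg.IsWellPlaced p W (S : Subgroup G) T) (hT0 : T ≠ ⊥) :
    ((S : Subgroup G) ⊓ Subgroup.normalizer (T : Set G)) ⊓
        ⁅Subgroup.normalizer (T : Set G), Subgroup.normalizer (T : Set G)⁆ ≤
      (S : Subgroup G) ⊓
        ⁅Subgroup.normalizer ((W (S : Subgroup G) : Subgroup G) : Set G),
          Subgroup.normalizer ((W (S : Subgroup G) : Subgroup G) : Set G)⁆ := by
  have := transfer_climb hW S hloc hT hT0 (Nat.card (S : Subgroup G) + 1)
  rw [tower_eq_functor_top hW S T (Nat.lt_succ_self _)] at this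
  exact le_trans this (inf_le_inf_right _ inf_le_left)

end

/-- Telescoping along a chain: if all one-step "commutators" lie in `K`, so does `a (g⁻¹ a g)⁻¹`. -/
theorem FChain.telescope {𝓕 : Set (Subgroup G)} {K : Subgroup G}
    (hstep : ∀ T ∈ 𝓕, T ≠ ⊥ → ∀ y ∈ Subgroup.normalizer (T : Set G), ∀ a ∈ T,
      a * (y⁻¹ * a * y)⁻¹ ∈ K)
    {A : Set G} {g : G} (h : FChain 𝓕 A g) : ∀ a ∈ A, a ≠ 1 → a * (g⁻¹ * a * g)⁻¹ ∈ K := by
  induction h with
  | nil A => intro a _ _; simp
  | cons A T x g hT hx hAT _ ih =>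
    intro a ha ha1
    have hTne : T ≠ ⊥ := by
      intro h
      apply ha1
      have : a ∈ T := hAT ha
      rw [h] at this
      simpa using this
    have h1 := hstep T hT hTne x hx a (hAT ha)
    have hne : x⁻¹ * a * x ≠ 1 := by
      intro h
      apply ha1
      have : a = x * (x⁻¹ * a * x) * x⁻¹ := by group
      rw [this, h]; simp
    have h2 := ih (x⁻¹ * a * x) ⟨a, ha, rfl⟩ hne
    have := K.mul_mem h1 h2
    convert this using 1
    group

end Cfsg.Agent.Helper33
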