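import Cfsg.Agent.Helper33.KInfUpperTransfer
import Cfsg.Agent.Helper33.TransferLG
import Cfsg.Agent.Helper33.InducedFunctor

set_option autoImplicit false
open scoped commutatorElement
universe u
namespace Cfsg.Agent.Helper33

/-- First half of S1993: for `p ≥ 5` and any Sylow `p`-subgroup `S`, `S ∩ G' = S ∩ N_G(K^∞(S))'`. -/
theorem kInfUpper_transfer_sylow {G : Type u} [Group G] [Finite G] {p : ℕ} [Fact p.Prime]
    (hp5 : 5 ≤ p) (S : Sylow p G) :
    (S : Subgroup G) ⊓ commutator G = (S : Subgroup G) ⊓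
      ⁅Subgroup.normalizer ((Cfsg.inducedFunctor Cfsg.kInfUpper (S : Subgroup G) : Subgroup G) : Set G),
        Subgroup.normalizer ((Cfsg.inducedFunctor Cfsg.kInfUpper (S : Subgroup G) : Subgroup G) : Set G)⁆ := by
  have hW : Cfsg.IsConjugacyFunctor p (Cfsg.inducedFunctor (G := G) Cfsg.kInfUpper) :=
    isConjugacyFunctor_inducedFunctor (isCharPFunctor_kInfUpper p) G
  have h := controlsTransferIn_at hW (kInfUpper_controlsTransfer hp5 _ G rfl) le_top S.2
    (by rw [Subgroup.relIndex_top_right]; exact S.not_dvd_index)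
  rw [top_inf_eq] at h
  rw [commutator_def]
  exact h

end Cfsg.Agent.Helper33
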