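import Cfsg.Agent.Helper33.FamilyFusion3
import Cfsg.Agent.Helper33.AlperinAbove

set_option autoImplicit false

namespace Cfsg.Agent.Helper33

variable {G : Type*} [Group G]

/-- A list of elements of `K` whose partial products keep `A` inside `D` gives an `RChain`. -/
theorem rchain_of_list {K D : Set G} :
    ∀ (l : List G) (A : Set G), (∀ z ∈ l, z ∈ K) →
      (∀ k : ℕ, k ≤ l.length → conjR (l.take k).prod A ⊆ D) → RChain K D A l.prod := by
  intro l
  induction l with
  | nil => intro A _ _; simpa using RChain.nil A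
  | cons z l ih =>
    intro A hl h
    rw [List.prod_cons]
    have h1 : conjR z A ⊆ D := by
      have := h 1 (by simp)
      simpa using this
    refine RChain.cons A z l.prod (hl z (by simp)) h1 (ih (conjR z A) (fun y hy => hl y (by simp [hy])) ?_)
    intro k hk
    have := h (k + 1) (by simpa using hk)
    rw [List.take_succ_cons, List.prod_cons, conjR_mul] at this
    exact this

/-- An `RChain` comes from a list. -/
theorem list_of_rchain {K D : Set G} {A : Set G} {g : G} (h : RChain K D A g) (hA : A ⊆ D) :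
    ∃ l : List G, (∀ z ∈ l, z ∈ K) ∧ l.prod = g ∧
      ∀ k : ℕ, k ≤ l.length → conjR (l.take k).prod A ⊆ D := by
  induction h with
  | nil A => exact ⟨[], by simp, by simp, fun k _ => by simpa [conjR_one] using hA⟩
  | cons A z g hz hzA _ ih =>
    obtain ⟨l, hl, hprod, htake⟩ := ih hzA
    refine ⟨z :: l, ?_, by rw [List.prod_cons, hprod], ?_⟩
    · intro y hy
      rcases List.mem_cons.mp hy with rfl | hy
      · exact hz
      · exact hl y hy
    · intro k hk
      cases k with
      | zero => simpa [conjR_one] using hA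
      | succ k =>
        rw [List.take_succ_cons, List.prod_cons, conjR_mul]
        exact htake k (by simpa using hk)

/-- Transport of an `RChain` by conjugation. -/
theorem RChain.conj {K D : Set G} (m : G) {A : Set G} {g : G} (h : RChain K D A g) :
    RChain (conjR m K) (conjR m D) (conjR m A) (m⁻¹ * g * m) := by
  induction h with
  | nil A => simpa using RChain.nil (K := conjR m K) (D := conjR m D) (conjR m A)
  | cons A z g hz hzA _ ih =>
    have e : m⁻¹ * (z * g) * m = (m⁻¹ * z * m) * (m⁻¹ * g * m) := by group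
    rw [e]
    have e2 : conjR (m⁻¹ * z * m) (conjR m A) = conjR m (conjR z A) := by
      rw [← conjR_mul, ← conjR_mul]; congr 1; group
    refine RChain.cons _ _ _ ⟨z, hz, rfl⟩ ?_ ?_
    · rw [e2]; exact conjR_mono hzA
    · rw [e2]; exact ih

theorem Reach.conj {K D : Set G} (m : G) {A : Set G} {g : G} (h : Reach K D A g) :
    Reach (conjR m K) (conjR m D) (conjR m A) (m⁻¹ * g * m) := by
  obtain ⟨g', hch, hag⟩ := h
  refine ⟨m⁻¹ * g' * m, hch.conj m, ?_⟩
  rintro _ ⟨a, ha, rfl⟩
  have := hag a ha
  calc (m⁻¹ * g' * m)⁻¹ * (m⁻¹ * a * m) * (m⁻¹ * g' * m) = m⁻¹ * (g'⁻¹ * a * g') * m := by group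
    _ = m⁻¹ * (g⁻¹ * a * g) * m := by rw [this]
    _ = (m⁻¹ * g * m)⁻¹ * (m⁻¹ * a * m) * (m⁻¹ * g * m) := by group

end Cfsg.Agent.Helper33
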