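import Mathlib

/-!
# The Galois step for S4489 (lead's proof #7658, pieces (C)+(D))

`A` a finite group, `ψ = ∑_{ν ∈ S} n ν • ν` a combination of linear characters with positive
multiplicities and values in a subfield `E` of `ℂ` with `[E : ℚ] = (p - 1) p ^ t`.  If `μ ∈ S` has
`|A / ker μ| = p ^ m` then at least `p ^ (m - 1 - t)` members of `S` have the same kernel as `μ`
(the Galois conjugates `μ ^ c` under `Gal(E(ζ)/E)`, `ζ` a primitive `p ^ m`-th root of unity).
-/

set_option autoImplicit false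
set_option linter.style.haveILetI false

namespace Cfsg.Agent.Helper33.MonoGalois

open Polynomial IntermediateField

variable {A : Type*} [Group A]

/-- orthogonality of linear characters -/
theorem sum_mul_inv [Fintype A] (ν ν' : A →* ℂˣ) :
    ∑ k : A, ((ν' k : ℂˣ) : ℂ) * ((ν k : ℂˣ) : ℂ)⁻¹ =
      if ν' = ν then (Fintype.card A : ℂ) else 0 := by
  classical
  have h := sum_hom_units ((Units.coeHom ℂ).comp (ν' * ν⁻¹))
  have e : ∀ k : A, ((Units.coeHom ℂ).comp (ν' * ν⁻¹)) k =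
      ((ν' k : ℂˣ) : ℂ) * ((ν k : ℂˣ) : ℂ)⁻¹ := by
    intro k
    simp
  simp only [e] at h
  rw [h]
  have : ((Units.coeHom ℂ).comp (ν' * ν⁻¹) = 1) ↔ ν' = ν := by
    constructor
    · intro hh
      ext k
      have := DFunLike.congr_fun hh k
      simp only [MonoidHom.coe_comp, Function.comp_apply, MonoidHom.mul_apply,
        MonoidHom.inv_apply, MonoidHom.one_apply] at this
      have h2 : ν' k * (ν k)⁻¹ = 1 := Units.ext (by simpa using this)
      rw [mul_inv_eq_one] at h2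
      rw [h2]
    · rintro rfl
      ext k
      simp
  simp only [this]
  split_ifs <;> simp

/-- the multiplicity formula -/
theorem sum_psi_mul_inv [Fintype A] [DecidableEq (A →* ℂˣ)] (S : Finset (A →* ℂˣ))
    (n : (A →* ℂˣ) → ℕ) (ψ : A → ℂ)
    (hψ : ∀ k, ψ k = ∑ ν ∈ S, (n ν : ℂ) * ((ν k : ℂˣ) : ℂ)) (ν : A →* ℂˣ) :
    ∑ k : A, ψ k * ((ν k : ℂˣ) : ℂ)⁻¹ =
      if ν ∈ S then (n ν : ℂ) * (Fintype.card A : ℂ) else 0 := by
  simp only [hψ, Finset.sum_mul]
  rw [Finset.sum_comm]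
  have : ∀ ν' ∈ S, ∑ k : A, (n ν' : ℂ) * ((ν' k : ℂˣ) : ℂ) * ((ν k : ℂˣ) : ℂ)⁻¹ =
      if ν' = ν then (n ν' : ℂ) * (Fintype.card A : ℂ) else 0 := by
    intro ν' _
    simp only [mul_assoc]
    rw [← Finset.mul_sum, sum_mul_inv]
    split_ifs <;> simp
  rw [Finset.sum_congr rfl this, Finset.sum_ite_eq' S ν]

/-- a linear character with `|A / ker μ| = p ^ m` has values of order dividing `p ^ m` and a value
of order exactly `p ^ m` -/
theorem exists_orderOf_eq [Finite A] (p : ℕ) [Fact p.Prime] (m : ℕ) (μ : A →* ℂˣ)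
    (hm : Nat.card (A ⧸ μ.ker) = p ^ m) :
    (∀ k, μ k ^ (p ^ m) = 1) ∧ ∃ k0, orderOf (μ k0) = p ^ m := by
  have hpow : ∀ k, μ k ^ (p ^ m) = 1 := by
    intro k
    have h1 : (QuotientGroup.mk k : A ⧸ μ.ker) ^ (p ^ m) = 1 := by
      rw [← hm]; exact pow_card_eq_one'
    rw [← QuotientGroup.mk_pow, QuotientGroup.eq_one_iff, MonoidHom.mem_ker, map_pow] at h1
    exact h1
  refine ⟨hpow, ?_⟩
  have e := QuotientGroup.quotientKerEquivRange μ
  have hcard : Nat.card μ.range = p ^ m := by rw [← hm]; exact (Nat.card_congr e.toEquiv).symm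
  haveI : Finite μ.range := Finite.of_surjective μ.rangeRestrict μ.rangeRestrict_surjective
  haveI : IsCyclic μ.range := inferInstance
  obtain ⟨g, hg⟩ := IsCyclic.exists_generator (α := μ.range)
  obtain ⟨k0, hk0⟩ := g.2
  refine ⟨k0, ?_⟩
  rw [hk0]
  have := orderOf_eq_card_of_forall_mem_zpowers hg
  rw [hcard] at this
  rw [← this, Subgroup.orderOf_coe]

/-- piece (D): the degree bound `[L : E] ≥ p ^ (m - 1 - t)` for a field `L ⊇ E(ζ)` -/
theorem pow_le_finrank (p : ℕ) [Fact p.Prime] (t m : ℕ) (E : IntermediateField ℚ ℂ)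
    (hE : Module.finrank ℚ E = (p - 1) * p ^ t) (ζ : ℂ) (hζ : IsPrimitiveRoot ζ (p ^ m))
    (L : IntermediateField E ℂ) [FiniteDimensional E L] (hζL : ζ ∈ L) :
    p ^ (m - 1 - t) ≤ Module.finrank E L := by
  have hp := (Fact.out : p.Prime)
  haveI : NeZero (p ^ m) := ⟨pow_ne_zero _ hp.ne_zero⟩
  have hEpos : 0 < Module.finrank ℚ E := by
    rw [hE]; exact Nat.mul_pos (Nat.sub_pos_of_lt hp.one_lt) (pow_pos hp.pos _)
  haveI : Module.Finite ℚ E := Module.finite_of_finrank_pos hEpos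
  haveI : Module.Finite ℚ L := Module.Finite.trans E L
  have htower : Module.finrank ℚ E * Module.finrank E L = Module.finrank ℚ L :=
    Module.finrank_mul_finrank ℚ E L
  have hle : ℚ⟮ζ⟯ ≤ L.restrictScalars ℚ := by
    rw [IntermediateField.adjoin_le_iff]
    intro x hx
    rw [Set.mem_singleton_iff] at hx
    subst hx
    exact hζL
  have hfin1 : Module.finrank ℚ ℚ⟮ζ⟯ ≤ Module.finrank ℚ L := by
    have : Module.Finite ℚ (L.restrictScalars ℚ) := ‹Module.Finite ℚ L›
    exact LinearMap.finrank_le_finrank_of_injective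
      (f := (IntermediateField.inclusion hle).toLinearMap)
      (IntermediateField.inclusion_injective hle)
  have hint : IsIntegral ℚ ζ := by
    refine ⟨X ^ (p ^ m) - 1, monic_X_pow_sub_C (1 : ℚ) (NeZero.ne _), ?_⟩
    simp [hζ.pow_eq_one]
  have hdeg : Module.finrank ℚ ℚ⟮ζ⟯ = Nat.totient (p ^ m) := by
    rw [IntermediateField.adjoin.finrank hint,
      ← Polynomial.cyclotomic_eq_minpoly_rat hζ (Nat.pos_of_ne_zero (NeZero.ne _)),
      Polynomial.natDegree_cyclotomic]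
  rw [hdeg] at hfin1
  rw [← htower, hE] at hfin1
  have hLpos : 0 < Module.finrank E L := Module.finrank_pos
  by_cases hmt : m - 1 - t = 0
  · rw [hmt, pow_zero]; exact hLpos
  · have hm1 : m = (t + (m - 1 - t)) + 1 := by omega
    have htot : Nat.totient (p ^ m) = p ^ (t + (m - 1 - t)) * (p - 1) := by
      conv_lhs => rw [hm1]
      exact Nat.totient_prime_pow_succ hp _
    rw [htot, pow_add] at hfin1
    have hpos : 0 < (p - 1) * p ^ t :=
      Nat.mul_pos (Nat.sub_pos_of_lt hp.one_lt) (pow_pos hp.pos _)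
    have : (p - 1) * p ^ t * p ^ (m - 1 - t) ≤ (p - 1) * p ^ t * Module.finrank E L := by
      calc (p - 1) * p ^ t * p ^ (m - 1 - t) = p ^ t * p ^ (m - 1 - t) * (p - 1) := by ring
        _ ≤ _ := hfin1
    exact Nat.le_of_mul_le_mul_left this hpos

/-- pieces (C)+(D): the Galois step -/
theorem card_same_kernel_ge [Finite A] (p : ℕ) [Fact p.Prime] (t m : ℕ)
    (E : IntermediateField ℚ ℂ) (hE : Module.finrank ℚ E = (p - 1) * p ^ t)
    (S : Finset (A →* ℂˣ)) (n : (A →* ℂˣ) → ℕ) (hn : ∀ ν ∈ S, 0 < n ν)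
    (ψ : A → ℂ) (hψ : ∀ k, ψ k = ∑ ν ∈ S, (n ν : ℂ) * ((ν k : ℂˣ) : ℂ)) (hψE : ∀ k, ψ k ∈ E)
    (μ : A →* ℂˣ) (hμ : μ ∈ S) (hm : Nat.card (A ⧸ μ.ker) = p ^ m)
    [DecidablePred (fun ν : A →* ℂˣ => ν.ker = μ.ker)] :
    p ^ (m - 1 - t) ≤ (S.filter (fun ν : A →* ℂˣ => ν.ker = μ.ker)).card := by
  classical
  haveI : Fintype A := Fintype.ofFinite A
  have hp := (Fact.out : p.Prime)
  haveI : NeZero (p ^ m) := ⟨pow_ne_zero _ hp.ne_zero⟩
  obtain ⟨hpow, k0, hk0⟩ := exists_orderOf_eq p m μ hm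
  set ζ : ℂ := ((μ k0 : ℂˣ) : ℂ) with hζdef
  have hζu : IsPrimitiveRoot (μ k0) (p ^ m) := by rw [← hk0]; exact IsPrimitiveRoot.orderOf _
  have hζ : IsPrimitiveRoot ζ (p ^ m) := IsPrimitiveRoot.coe_units_iff.mpr hζu
  -- the field `L = E(ζ)`
  have halg : IsAlgebraic E ζ := by
    refine ⟨X ^ (p ^ m) - 1, ?_, ?_⟩
    · exact (monic_X_pow_sub_C (1 : E) (NeZero.ne _)).ne_zero
    · simp [hζ.pow_eq_one]
  let L : IntermediateField E ℂ := IntermediateField.adjoin E {ζ}
  haveI hcyc : IsCyclotomicExtension {p ^ m} E L := by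
    change IsCyclotomicExtension {p ^ m} E (IntermediateField.adjoin E {ζ}).toSubalgebra
    rw [IntermediateField.adjoin_simple_toSubalgebra_of_isAlgebraic halg]
    exact hζ.adjoin_isCyclotomicExtension E
  haveI hgal : IsGalois E L := IsCyclotomicExtension.isGalois {p ^ m} E L
  haveI hfd : FiniteDimensional E L := IsCyclotomicExtension.finiteDimensional {p ^ m} E L
  have hζmem : ζ ∈ L := IntermediateField.mem_adjoin_simple_self E ζ
  have hbound := pow_le_finrank p t m E hE ζ hζ L hζmem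
  let ζL : L := ⟨ζ, hζmem⟩
  have hζL : IsPrimitiveRoot ζL (p ^ m) := IsPrimitiveRoot.coe_submonoidClass_iff.mp hζ
  -- each value of `μ` is a power of `ζ`
  have hpowk : ∀ k, ∃ j : ℕ, ((μ k : ℂˣ) : ℂ) = ζ ^ j := by
    intro k
    have : ((μ k : ℂˣ) : ℂ) ^ (p ^ m) = 1 := by
      rw [← Units.val_pow_eq_pow_val, hpow k, Units.val_one]
    obtain ⟨j, -, hj⟩ := hζ.eq_pow_of_pow_eq_one this
    exact ⟨j, hj.symm⟩
  choose j hj using hpowk
  -- the exponent of an automorphism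
  let c : (L ≃ₐ[E] L) → ℕ := fun τ => ((hζL.autToPow E τ : (ZMod (p ^ m))ˣ) : ZMod (p ^ m)).val
  have hc : ∀ τ, τ ζL = ζL ^ c τ := fun τ => (IsPrimitiveRoot.autToPow_spec E hζL τ).symm
  have hcop : ∀ τ, Nat.Coprime (c τ) (p ^ m) := fun τ => ZMod.val_coe_unit_coprime _
  let F : (L ≃ₐ[E] L) → (A →* ℂˣ) := fun τ => μ ^ c τ
  have hker : ∀ τ, (F τ).ker = μ.ker := by
    intro τ
    ext k
    simp only [MonoidHom.mem_ker, F, MonoidHom.pow_apply]
    constructor
    · intro h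
      have h1 : orderOf (μ k) ∣ c τ := orderOf_dvd_of_pow_eq_one h
      have h2 : orderOf (μ k) ∣ p ^ m := orderOf_dvd_of_pow_eq_one (hpow k)
      have h3 := Nat.dvd_gcd h1 h2
      rw [Nat.Coprime.gcd_eq_one (hcop τ)] at h3
      exact orderOf_eq_one_iff.mp (Nat.dvd_one.mp h3)
    · intro h; rw [h, one_pow]
  have hmemS : ∀ τ, F τ ∈ S := by
    intro τ
    by_contra hnot
    have h0 := sum_psi_mul_inv S n ψ hψ (F τ)
    rw [if_neg hnot] at h0
    have h1 := sum_psi_mul_inv S n ψ hψ μ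
    rw [if_pos hμ] at h1
    let ψL : A → L := fun k => algebraMap E L ⟨ψ k, hψE k⟩
    let sL : L := ∑ k, ψL k * (ζL ^ j k)⁻¹
    have hψLc : ∀ k, ((ψL k : L) : ℂ) = ψ k := fun k => rfl
    have hs1 : ((sL : L) : ℂ) = (n μ : ℂ) * (Fintype.card A : ℂ) := by
      rw [← h1]
      simp only [sL, IntermediateField.coe_sum, IntermediateField.coe_mul,
        IntermediateField.coe_inv, IntermediateField.coe_pow, hψLc]
      refine Finset.sum_congr rfl fun k _ => ?_
      rw [hj k]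
    have hs2 : ((τ sL : L) : ℂ) = 0 := by
      rw [← h0]
      simp only [sL, map_sum, map_mul, map_inv₀, map_pow, hc τ, IntermediateField.coe_sum,
        IntermediateField.coe_mul, IntermediateField.coe_inv, IntermediateField.coe_pow]
      refine Finset.sum_congr rfl fun k _ => ?_
      have e1 : τ (ψL k) = ψL k := τ.commutes _
      rw [e1, hψLc]
      congr 2
      simp only [F, MonoidHom.pow_apply, Units.val_pow_eq_pow_val, hj k]
      rw [← pow_mul, ← pow_mul, mul_comm]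
    have hsnat : sL = ((n μ * Fintype.card A : ℕ) : L) := by
      apply Subtype.ext
      rw [hs1]
      push_cast
      rfl
    rw [hsnat, map_natCast] at hs2
    have hne : ((n μ * Fintype.card A : ℕ) : ℂ) ≠ 0 := by
      rw [Nat.cast_ne_zero]
      exact Nat.mul_ne_zero (hn μ hμ).ne' Fintype.card_ne_zero
    apply hne
    have : (((n μ * Fintype.card A : ℕ) : L) : ℂ) = ((n μ * Fintype.card A : ℕ) : ℂ) := by
      simp
    rw [← this, hs2]
  have hinj : Function.Injective F := by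
    intro τ τ' h
    have h1 := DFunLike.congr_fun h k0
    simp only [F, MonoidHom.pow_apply] at h1
    have h2 : c τ = c τ' := hζu.pow_inj (ZMod.val_lt _) (ZMod.val_lt _) h1
    apply IsPrimitiveRoot.autToPow_injective E hζL
    apply Units.ext
    exact ZMod.val_injective _ h2
  calc p ^ (m - 1 - t) ≤ Module.finrank E L := hbound
    _ = Nat.card (L ≃ₐ[E] L) := (IsGalois.card_aut_eq_finrank E L).symm
    _ = Fintype.card (L ≃ₐ[E] L) := Nat.card_eq_fintype_card
    _ ≤ Fintype.card ↥(S.filter (fun ν : A →* ℂˣ => ν.ker = μ.ker)) :=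
      Fintype.card_le_of_injective
        (fun τ => (⟨F τ, Finset.mem_filter.mpr ⟨hmemS τ, hker τ⟩⟩ :
          ↥(S.filter (fun ν : A →* ℂˣ => ν.ker = μ.ker))))
        (fun τ τ' h => hinj (Subtype.ext_iff.mp h))
    _ = (S.filter (fun ν : A →* ℂˣ => ν.ker = μ.ker)).card := Fintype.card_coe _

end Cfsg.Agent.Helper33.MonoGalois

namespace Cfsg.Agent.Helper33.MonoGalois

open Polynomial IntermediateField

/-- the Galois step in the shape of hypothesis `hcls` of helper75's piece (E) `log_card_le`, for the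
set `S = Set.range ν` of a finite family `ν` of linear characters whose sum has its values in `E`
(this is helper75's (CD) `class_card_bound`, proved directly). -/
theorem class_card_bound_range {A : Type*} [Group A] [Finite A] (p t : ℕ) [Fact p.Prime]
    (E : IntermediateField ℚ ℂ) (hE : Module.finrank ℚ E = (p - 1) * p ^ t)
    {ι : Type*} [Fintype ι] (ν : ι → (A →* ℂˣ))
    (hEν : ∀ k : A, (∑ i, ((ν i k : ℂˣ) : ℂ)) ∈ E) :
    ∀ μ ∈ Set.range ν, ∀ m : ℕ, Nat.card ↥μ.range = p ^ m →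
      p ^ (m - 1 - t) ≤ Nat.card {μ' : A →* ℂˣ // μ' ∈ Set.range ν ∧ μ'.ker = μ.ker} := by
  classical
  intro μ hμ m hm
  let S : Finset (A →* ℂˣ) := Finset.univ.image ν
  let n : (A →* ℂˣ) → ℕ := fun μ' => (Finset.univ.filter (fun i => ν i = μ')).card
  have hS : ∀ μ' : A →* ℂˣ, μ' ∈ S ↔ μ' ∈ Set.range ν := by
    intro μ'
    simp only [S, Finset.mem_image, Finset.mem_univ, true_and, Set.mem_range]
  have hn : ∀ μ' ∈ S, 0 < n μ' := by
    intro μ' hμ'
    obtain ⟨i, hi⟩ := (hS μ').mp hμ'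
    exact Finset.card_pos.mpr ⟨i, Finset.mem_filter.mpr ⟨Finset.mem_univ _, hi⟩⟩
  have hψ : ∀ k : A, (∑ i, ((ν i k : ℂˣ) : ℂ)) = ∑ μ' ∈ S, (n μ' : ℂ) * ((μ' k : ℂˣ) : ℂ) := by
    intro k
    have := Finset.sum_comp (s := (Finset.univ : Finset ι))
      (f := fun μ' : A →* ℂˣ => ((μ' k : ℂˣ) : ℂ)) (g := ν)
    rw [this]
    refine Finset.sum_congr rfl fun μ' _ => ?_
    rw [nsmul_eq_mul]
  have hm' : Nat.card (A ⧸ μ.ker) = p ^ m := by
    rw [← hm]; exact Nat.card_congr (QuotientGroup.quotientKerEquivRange μ).toEquiv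
  have key := card_same_kernel_ge p t m E hE S n hn (fun k => ∑ i, ((ν i k : ℂˣ) : ℂ)) hψ hEν μ
    ((hS μ).mpr hμ) hm'
  refine key.trans (le_of_eq ?_)
  rw [← Fintype.card_coe, ← Nat.card_eq_fintype_card]
  refine Nat.card_congr (Equiv.subtypeEquivRight fun μ' => ?_)
  rw [Finset.mem_filter, hS]

end Cfsg.Agent.Helper33.MonoGalois
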