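import Mathlib

/-!
# (JOR3) of helper58's S3614 farm: a 2-transitive group containing a 3-cycle induces every
even permutation.
-/

set_option autoImplicit false

namespace Cfsg.Agent.Helper33.N4

open MulAction
open scoped Pointwise

/-- the image of a 2-transitive group in `Perm Ω` is preprimitive -/
theorem range_toPermHom_isPreprimitive {G Ω : Type*} [Group G] [MulAction G Ω]
    (h2 : IsMultiplyPretransitive G Ω 2) :
    IsPreprimitive ↥(MulAction.toPermHom G Ω).range Ω := by
  apply isPreprimitive_of_is_two_pretransitive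
  rw [is_two_pretransitive_iff] at h2 ⊢
  intro a b c d hab hcd
  obtain ⟨g, hg1, hg2⟩ := h2 hab hcd
  exact ⟨⟨MulAction.toPermHom G Ω g, ⟨g, rfl⟩⟩, hg1, hg2⟩

/-- if the image of `G` in `Perm Ω` contains the alternating group then `G` induces every even
permutation -/
theorem induces_of_alternatingGroup_le {G Ω : Type*} [Group G] [MulAction G Ω] [Fintype Ω]
    [DecidableEq Ω] (h : alternatingGroup Ω ≤ (MulAction.toPermHom G Ω).range) :
    ∀ σ : Equiv.Perm Ω, Equiv.Perm.sign σ = 1 →
      ∃ k : G, (MulAction.toPerm k : Equiv.Perm Ω) = σ := by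
  intro σ hσ
  obtain ⟨k, hk⟩ := h (Equiv.Perm.mem_alternatingGroup.2 hσ)
  exact ⟨k, hk⟩

/-- (JOR3) Jordan: a 2-transitive group containing a 3-cycle induces every even permutation -/
theorem alt_of_three_cycle {G Ω : Type*} [Group G] [MulAction G Ω] [Fintype Ω] [DecidableEq Ω]
    (h2 : IsMultiplyPretransitive G Ω 2) (g : G) (x y z : Ω) (hxy : x ≠ y) (hyz : y ≠ z)
    (hxz : x ≠ z) (hx : g • x = y) (hy : g • y = z) (hz : g • z = x)
    (hfix : ∀ w, w ≠ x → w ≠ y → w ≠ z → g • w = w) :
    ∀ σ : Equiv.Perm Ω, Equiv.Perm.sign σ = 1 →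
      ∃ k : G, (MulAction.toPerm k : Equiv.Perm Ω) = σ := by
  apply induces_of_alternatingGroup_le
  have hprim := range_toPermHom_isPreprimitive h2
  have hg3 : (MulAction.toPerm g : Equiv.Perm Ω) = Equiv.swap x y * Equiv.swap y z := by
    ext w
    simp only [MulAction.toPerm_apply, Equiv.Perm.mul_apply]
    by_cases hwz : w = z
    · subst hwz
      rw [Equiv.swap_apply_right, Equiv.swap_apply_right, hz]
    by_cases hwy : w = y
    · subst hwy
      rw [Equiv.swap_apply_left, Equiv.swap_apply_of_ne_of_ne (Ne.symm hxz) (Ne.symm hyz), hy]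
    by_cases hwx : w = x
    · subst hwx
      rw [Equiv.swap_apply_of_ne_of_ne hxy hxz, Equiv.swap_apply_left, hx]
    · rw [Equiv.swap_apply_of_ne_of_ne hwy hwz, Equiv.swap_apply_of_ne_of_ne hwx hwy,
        hfix w hwx hwy hwz]
  have h3 : Equiv.Perm.IsThreeCycle (MulAction.toPerm g : Equiv.Perm Ω) := by
    rw [hg3, Equiv.swap_comm x y]
    exact Equiv.Perm.isThreeCycle_swap_mul_swap_same (Ne.symm hxy) hyz hxz
  exact Equiv.Perm.alternatingGroup_le_of_isPreprimitive_of_isThreeCycle_mem hprim h3 ⟨g, rfl⟩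

end Cfsg.Agent.Helper33.N4
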