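import Mathlib
import Cfsg.Agent.S0713
import Cfsg.Agent.Helper33.N4JOR3

/-!
# (JORR) of helper58's S3614 farm: a 2-transitive group of degree `≥ r + 3` containing an
element acting as an `r`-cycle (`r` prime) induces every even permutation.
-/

set_option autoImplicit false

namespace Cfsg.Agent.Helper33.N4

open MulAction
open scoped Pointwise

/-- (JORR) Jordan: a 2-transitive group of degree `≥ r + 3` containing an element acting as an
`r`-cycle (`r` prime) induces every even permutation -/
theorem alt_of_prime_cycle {G Ω : Type*} [Group G] [MulAction G Ω] [Fintype Ω] [DecidableEq Ω]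
    (h2 : IsMultiplyPretransitive G Ω 2) {r : ℕ} (hr : r.Prime)
    (hcard : r + 3 ≤ Fintype.card Ω) (g : G) (hgr : ∀ x : Ω, (g ^ r) • x = x)
    (hfix : (Finset.univ.filter (fun x : Ω => g • x = x)).card + r = Fintype.card Ω) :
    ∀ σ : Equiv.Perm Ω, Equiv.Perm.sign σ = 1 →
      ∃ k : G, (MulAction.toPerm k : Equiv.Perm Ω) = σ := by
  apply induces_of_alternatingGroup_le
  have hprim := range_toPermHom_isPreprimitive h2
  set τ : Equiv.Perm Ω := MulAction.toPerm g with hτ
  -- τ ^ r = 1
  have hτr : τ ^ r = 1 := by
    have : τ ^ r = MulAction.toPermHom G Ω (g ^ r) := by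
      rw [map_pow]; rfl
    rw [this]
    ext x
    simpa using hgr x
  -- the support of τ has r points
  have hsupp : τ.support.card = r := by
    have h1 : τ.support = (Finset.univ.filter (fun x : Ω => g • x = x))ᶜ := by
      ext x
      simp [hτ, Equiv.Perm.mem_support]
    rw [h1, Finset.card_compl]
    omega
  have hτ1 : τ ≠ 1 := by
    intro h
    rw [h, Equiv.Perm.support_one, Finset.card_empty] at hsupp
    exact hr.ne_zero hsupp.symm
  have hrf : Fact r.Prime := ⟨hr⟩
  have hord : orderOf τ = r := orderOf_eq_prime hτr hτ1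
  have hcyc : τ.IsCycle := by
    apply Equiv.Perm.isCycle_of_prime_order (by rw [hord]; exact hr)
    rw [hord, hsupp]
    have := hr.pos
    omega
  exact Cfsg.Agent.S0713.result _ hprim hr (by have := hr.two_le; omega) hcard hcyc hsupp
    ⟨g, rfl⟩

end Cfsg.Agent.Helper33.N4
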