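import Cfsg.Agent.Helper33.Tame
import Cfsg.Agent.Helper33.AlperinStep
import Cfsg.Prelude.Def_ConjugacyFunctors

set_option autoImplicit false

namespace Cfsg.Agent.Helper33

variable {G : Type*} [Group G]

local notation:max H "⟪" g "⟫" => Subgroup.map (MulEquiv.toMonoidHom (MulAut.conj g)) H

/-- Left-conjugation, subgroup form of `exists_conj_tame`. -/
theorem exists_conj_tame' {p : ℕ} [Fact p.Prime] [Finite G] (S : Sylow p G) {R U : Subgroup G}
    (htame : ¬ p ∣ ((S : Subgroup G) ⊓ Subgroup.normalizer (U : Set G)).relIndex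
      (Subgroup.normalizer (U : Set G)))
    (c : G) (hc : R⟪c⟫ = U) :
    ∃ h : G, R⟪h⟫ = U ∧ ((S : Subgroup G) ⊓ Subgroup.normalizer (R : Set G))⟪h⟫ ≤ (S : Subgroup G) := by
  obtain ⟨h, h1, h2⟩ := exists_conj_tame S htame c hc
  refine ⟨h⁻¹, ?_, ?_⟩
  · apply SetLike.coe_injective
    rw [coe_map_conj, inv_inv]; exact h1
  · intro y hy
    have : y ∈ ((((S : Subgroup G) ⊓ Subgroup.normalizer (R : Set G))⟪h⁻¹⟫ : Subgroup G) : Set G) := hy
    rw [coe_map_conj, inv_inv] at this
    exact h2 this

theorem functorTower_zero (W : Subgroup G → Subgroup G) (S T : Subgroup G) : Cfsg.functorTower W S T 0 = T := rfl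

theorem functorTower_succ (W : Subgroup G → Subgroup G) (S T : Subgroup G) (i : ℕ) :
    Cfsg.functorTower W S T (i + 1) =
      W (S ⊓ Subgroup.normalizer ((Cfsg.functorTower W S T i : Subgroup G) : Set G)) := rfl

theorem le_nm_zero (W : Subgroup G → Subgroup G) {S T : Subgroup G} (hT : T ≤ S) :
    T ≤ S ⊓ Subgroup.normalizer ((Cfsg.functorTower W S T 0 : Subgroup G) : Set G) :=
  le_inf hT Subgroup.le_normalizer

section tower

variable {p : ℕ} {W : Subgroup G → Subgroup G} (hW : Cfsg.IsConjugacyFunctor p W)

include hW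

/-- `N(P) ≤ N(W P)` for a `p`-subgroup `P`. -/
theorem normalizer_le_normalizer_functor {P : Subgroup G} (hP : IsPGroup p P) :
    Subgroup.normalizer (P : Set G) ≤ Subgroup.normalizer ((W P : Subgroup G) : Set G) := by
  intro s hs
  rw [Subgroup.mem_normalizer_iff_map_conj_eq] at hs ⊢
  have := (hW P hP).2.2 s
  have e : P⟪s⟫ = P := hs
  rw [e] at this
  exact this.symm

theorem functor_le {P : Subgroup G} (hP : IsPGroup p P) : W P ≤ P := (hW P hP).1

theorem functor_map_conj {P : Subgroup G} (hP : IsPGroup p P) (g : G) : W (P⟪g⟫) = (W P)⟪g⟫ :=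
  (hW P hP).2.2 g


variable (S : Sylow p G)

theorem tower_le {T : Subgroup G} (hT : T ≤ (S : Subgroup G)) (i : ℕ) :
    Cfsg.functorTower W (S : Subgroup G) T i ≤ (S : Subgroup G) := by
  cases i with
  | zero => exact hT
  | succ i =>
    rw [functorTower_succ W]
    exact le_trans (functor_le hW (S.2.to_le inf_le_left)) inf_le_left

theorem nm_le_succ (T : Subgroup G) (i : ℕ) :
    (S : Subgroup G) ⊓ Subgroup.normalizer ((Cfsg.functorTower W (S : Subgroup G) T i : Subgroup G) : Set G) ≤
      (S : Subgroup G) ⊓ Subgroup.normalizer ((Cfsg.functorTower W (S : Subgroup G) T (i + 1) : Subgroup G) : Set G) := by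
  rw [functorTower_succ W]
  refine le_inf inf_le_left ?_
  exact le_trans Subgroup.le_normalizer (normalizer_le_normalizer_functor hW (S.2.to_le inf_le_left))

theorem nm_mono (T : Subgroup G) {i j : ℕ} (hij : i ≤ j) :
    (S : Subgroup G) ⊓ Subgroup.normalizer ((Cfsg.functorTower W (S : Subgroup G) T i : Subgroup G) : Set G) ≤
      (S : Subgroup G) ⊓ Subgroup.normalizer ((Cfsg.functorTower W (S : Subgroup G) T j : Subgroup G) : Set G) := by
  induction j, hij using Nat.le_induction with
  | base => exact le_rfl
  | succ j _ ih => exact le_trans ih (nm_le_succ hW S T j)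

variable [Fact p.Prime] [Finite G]

/-- The normalizers in the tower reach `S`. -/
theorem nm_card_eq (T : Subgroup G) :
    (S : Subgroup G) ⊓ Subgroup.normalizer
      ((Cfsg.functorTower W (S : Subgroup G) T (Nat.card (S : Subgroup G)) : Subgroup G) : Set G) = S := by
  have key : ∀ i : ℕ,
      (S : Subgroup G) ⊓ Subgroup.normalizer ((Cfsg.functorTower W (S : Subgroup G) T i : Subgroup G) : Set G) = S ∨
      i + 1 ≤ Nat.card ((S : Subgroup G) ⊓ Subgroup.normalizer
        ((Cfsg.functorTower W (S : Subgroup G) T i : Subgroup G) : Set G) : Subgroup G) := by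
    intro i
    induction i with
    | zero => right; exact Nat.card_pos
    | succ i ih =>
      by_cases hS : (S : Subgroup G) ⊓ Subgroup.normalizer
          ((Cfsg.functorTower W (S : Subgroup G) T i : Subgroup G) : Set G) = S
      · left
        apply le_antisymm inf_le_left
        calc (S : Subgroup G) = _ := hS.symm
          _ ≤ _ := nm_le_succ hW S T i
      · right
        have hi := ih.resolve_left hS
        obtain ⟨x, hxS, hxN, hxT⟩ := exists_mem_normalizer_not_mem S.2 inf_le_left hS
        have hx' : x ∈ (S : Subgroup G) ⊓ Subgroup.normalizer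
            ((Cfsg.functorTower W (S : Subgroup G) T (i + 1) : Subgroup G) : Set G) := by
          rw [functorTower_succ W]
          exact ⟨hxS, normalizer_le_normalizer_functor hW (S.2.to_le inf_le_left) hxN⟩
        have hlt := lt_of_le_of_ne (nm_le_succ hW S T i) (fun hh => hxT (hh ▸ hx'))
        have := card_lt_card_of_lt' hlt
        omega
  rcases key (Nat.card (S : Subgroup G)) with h | h
  · exact h
  · exfalso
    have := Subgroup.card_le_of_le (inf_le_left : (S : Subgroup G) ⊓ Subgroup.normalizer
      ((Cfsg.functorTower W (S : Subgroup G) T (Nat.card (S : Subgroup G)) : Subgroup G) : Set G) ≤ S)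
    omega

/-- Once the normalizers reach `S`, every later level satisfies the Sylow condition. -/
theorem tower_after (T : Subgroup G) {i : ℕ}
    (hi : (S : Subgroup G) ⊓ Subgroup.normalizer
      ((Cfsg.functorTower W (S : Subgroup G) T i : Subgroup G) : Set G) = S) {j : ℕ} (hij : i < j) :
    ¬ p ∣ ((S : Subgroup G) ⊓ Subgroup.normalizer
      ((Cfsg.functorTower W (S : Subgroup G) T j : Subgroup G) : Set G)).relIndex
      (Subgroup.normalizer ((Cfsg.functorTower W (S : Subgroup G) T j : Subgroup G) : Set G)) := by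
  have hj : (S : Subgroup G) ⊓ Subgroup.normalizer
      ((Cfsg.functorTower W (S : Subgroup G) T j : Subgroup G) : Set G) = S :=
    le_antisymm inf_le_left (by
      calc (S : Subgroup G) = _ := hi.symm
        _ ≤ _ := nm_mono hW S T hij.le)
  rw [hj]
  intro hdvd
  have h1 : (S : Subgroup G) ≤ Subgroup.normalizer
      ((Cfsg.functorTower W (S : Subgroup G) T j : Subgroup G) : Set G) :=
    le_trans hj.ge inf_le_right
  exact S.not_dvd_index (hdvd.trans (Subgroup.relIndex_dvd_index_of_le h1))

end tower

end Cfsg.Agent.Helper33
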