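import Cfsg.Agent.Helper33.IndexP
import Cfsg.Agent.Helper33.InducedFunctor
import Cfsg.Agent.Helper33.SylowBasic
import Cfsg.Agent.Helper33.Tower

set_option autoImplicit false

universe u

namespace Cfsg.Agent.Helper33

local notation:max H "⟪" g "⟫" => Subgroup.map (MulEquiv.toMonoidHom (MulAut.conj g)) H

/-- Normal Sylow `p`-subgroup centralized by all `p'`-elements: there is a normal subgroup of index `p`. -/
theorem exists_normal_index_prime_of_normal_sylow {G : Type*} [Group G] [Finite G] {p : ℕ}
    [hp : Fact p.Prime] (T : Subgroup G) (hTp : IsPGroup p T) (hTidx : ¬ p ∣ T.index) (hT0 : T ≠ ⊥)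
    (hTn : T.Normal)
    (hN : ∀ g : G, (orderOf g).Coprime p → g ∈ Subgroup.centralizer (T : Set G)) :
    ∃ N : Subgroup G, N.Normal ∧ N.index = p := by
  obtain ⟨C, hC⟩ : ∃ C : Subgroup G, C = Subgroup.centralizer (T : Set G) := ⟨_, rfl⟩
  have hCn : C.Normal := by rw [hC]; infer_instance
  have hQ : IsPGroup p (G ⧸ C) := by
    intro y
    obtain ⟨g, rfl⟩ := QuotientGroup.mk_surjective y
    obtain ⟨e, m, hm, hem⟩ := Nat.exists_eq_pow_mul_and_not_dvd (orderOf_pos g).ne' p hp.out.ne_one
    refine ⟨e, ?_⟩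
    rw [← QuotientGroup.mk_pow, QuotientGroup.eq_one_iff, hC]
    apply hN
    have h1 : (g ^ p ^ e) ^ m = 1 := by
      rw [← pow_mul, ← hem, pow_orderOf_eq_one]
    exact Nat.Coprime.coprime_dvd_left (orderOf_dvd_of_pow_eq_one h1)
      ((Nat.Prime.coprime_iff_not_dvd hp.out).mpr hm).symm
  by_cases hCtop : C = ⊤
  · -- `T` is central: Burnside
    let T' : Sylow p G := hTp.toSylow hTidx
    have hT' : (T' : Subgroup G) = T := rfl
    have hP : Subgroup.normalizer ((T' : Subgroup G) : Set G) ≤ Subgroup.centralizer ((T' : Subgroup G) : Set G) := by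
      rw [hT', ← hC, hCtop]; exact le_top
    have hcompl := MonoidHom.ker_transferSylow_isComplement' T' hP
    obtain ⟨N, hNdef⟩ : ∃ N : Subgroup G, N = (MonoidHom.transferSylow T' hP).ker := ⟨_, rfl⟩
    rw [← hNdef] at hcompl
    have hNn : N.Normal := by rw [hNdef]; infer_instance
    have hcard : Nat.card (G ⧸ N) = Nat.card T := by
      have h1 := hcompl.card_mul_card
      have h2 := N.card_mul_index
      rw [← Subgroup.index_eq_card]
      have hpos : 0 < Nat.card N := Nat.card_pos
      rw [hT'] at h1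
      exact Nat.eq_of_mul_eq_mul_left hpos (h2.trans h1.symm)
    obtain ⟨k, hk⟩ := IsPGroup.iff_card.mp hTp
    have hQ' : IsPGroup p (G ⧸ N) := IsPGroup.of_card (n := k) (hcard.trans hk)
    have hne : Nontrivial (G ⧸ N) := by
      rw [← Finite.one_lt_card_iff_nontrivial, hcard]
      exact (Subgroup.one_lt_card_iff_ne_bot T).mpr hT0
    exact exists_normal_index_prime_of_surjective (QuotientGroup.mk' N) (QuotientGroup.mk'_surjective N) hQ' hne
  · have hne : Nontrivial (G ⧸ C) := by
      rw [QuotientGroup.nontrivial_iff]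
      exact hCtop
    exact exists_normal_index_prime_of_surjective (QuotientGroup.mk' C) (QuotientGroup.mk'_surjective C) hQ hne

end Cfsg.Agent.Helper33
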