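import Cfsg.Agent.Helper33.Trace
import Cfsg.Agent.Helper33.SylowSub
import Cfsg.Agent.Helper33.SylowBasic
import Cfsg.Agent.Helper33.Tame
import Cfsg.Agent.Helper31.LocalCore
import Cfsg.Agent.Helper49.SylowSubnormal

set_option autoImplicit false

open scoped Pointwise

namespace Cfsg.Agent.Helper33

variable {G : Type*} [Group G]

local notation:max H "⟪" g "⟫" => Subgroup.map (MulEquiv.toMonoidHom (MulAut.conj g)) H

theorem pPrimePCore_normal (p : ℕ) : (Cfsg.pPrimePCore p G).Normal := by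
  unfold Cfsg.pPrimePCore
  have : (Cfsg.pCore p (G ⧸ Cfsg.pPrimeCore p G)).Normal := inferInstance
  exact Subgroup.Normal.comap this _

/-- Frattini-type factorization: `G = O_{p'}(G) N_G(S ∩ O_{p',p}(G))`. -/
theorem exists_mul_pPrimeCore_normalizer [Finite G] {p : ℕ} [Fact p.Prime] (S : Sylow p G) (g : G) :
    ∃ k ∈ Cfsg.pPrimeCore p G,
      ∃ n ∈ Subgroup.normalizer ((((S : Subgroup G) ⊓ Cfsg.pPrimePCore p G : Subgroup G)) : Set G),
        g = k * n := by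
  obtain ⟨M, hM⟩ : ∃ M : Subgroup G, M = Cfsg.pPrimePCore p G := ⟨_, rfl⟩
  have hMn : M.Normal := hM ▸ pPrimePCore_normal p
  obtain ⟨R, hR⟩ : ∃ R : Subgroup G, R = (S : Subgroup G) ⊓ M := ⟨_, rfl⟩
  rw [← hM, ← hR]
  have hRM : R ≤ M := hR ▸ inf_le_right
  have hRS : R ≤ (S : Subgroup G) := hR ▸ inf_le_left
  have hRp : IsPGroup p R := S.2.to_le hRS
  have hRidx : ¬ p ∣ R.relIndex M := by
    rw [hR, Subgroup.inf_relIndex_right]
    exact Cfsg.Agent.Helper49.not_dvd_relIndex_of_normal S M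
  have hsup : Cfsg.pPrimeCore p G ⊔ R = M := by
    rw [hM]
    exact Cfsg.Agent.Helper31.pPrimeCore_sup_eq R hRp (hM ▸ hRM) (hM ▸ hRidx)
  -- conjugate `R⟪g⟫` back into `R` inside `M`
  have hRgM : R⟪g⟫ ≤ M := by
    rintro _ ⟨r, hr, rfl⟩
    exact hMn.conj_mem r (hRM hr) g
  have hRgp : IsPGroup p (R⟪g⟫) := hRp.map _
  obtain ⟨m, hmM, hm⟩ := exists_conj_le_of_not_dvd_relIndex hRM hRp hRidx hRgM hRgp
  have hle : (R⟪g⟫)⟪m⟫ ≤ R := (map_conj_le_iff _ R m).mpr hm
  rw [map_conj_map_conj] at hle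
  have heq : R⟪m * g⟫ = R := by
    apply Subgroup.eq_of_le_of_card_ge hle
    rw [← Nat.card_congr (R.equivMapOfInjective _ (MulAut.conj (m * g)).injective).toEquiv]
  have hmgN : m * g ∈ Subgroup.normalizer (R : Set G) :=
    Subgroup.mem_normalizer_iff_map_conj_eq.mpr heq
  -- `m⁻¹ ∈ M = O_{p'}(G) R`
  have hminv : m⁻¹ ∈ Cfsg.pPrimeCore p G ⊔ R := by rw [hsup]; exact M.inv_mem hmM
  have hKn : (Cfsg.pPrimeCore p G).Normal := inferInstance
  rw [← SetLike.mem_coe, Subgroup.normal_mul] at hminv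
  obtain ⟨k, hk, r, hr, hkr⟩ := hminv
  refine ⟨k, hk, r * (m * g), Subgroup.mul_mem _ (Subgroup.le_normalizer hr) hmgN, ?_⟩
  have : k * r = m⁻¹ := hkr
  calc g = m⁻¹ * (m * g) := by group
    _ = k * r * (m * g) := by rw [this]
    _ = k * (r * (m * g)) := by group

theorem normalizer_le_normalizer_center (R : Subgroup G) :
    Subgroup.normalizer (R : Set G) ≤
      Subgroup.normalizer ((R ⊓ Subgroup.centralizer (R : Set G) : Subgroup G) : Set G) := by
  intro n hn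
  have key : ∀ n : G, n ∈ Subgroup.normalizer (R : Set G) → ∀ x ∈ R ⊓ Subgroup.centralizer (R : Set G),
      n * x * n⁻¹ ∈ R ⊓ Subgroup.centralizer (R : Set G) := by
    intro n hn x hx
    refine Subgroup.mem_inf.mpr ⟨(Subgroup.mem_normalizer_iff.mp hn x).mp hx.1, ?_⟩
    rw [Subgroup.mem_centralizer_iff]
    intro r hr
    have hr' : n⁻¹ * r * n ∈ R := (Subgroup.mem_normalizer_iff''.mp hn r).mp hr
    have := Subgroup.mem_centralizer_iff.mp hx.2 _ hr'
    calc r * (n * x * n⁻¹) = n * ((n⁻¹ * r * n) * x) * n⁻¹ := by group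
      _ = n * (x * (n⁻¹ * r * n)) * n⁻¹ := by rw [this]
      _ = n * x * n⁻¹ * r := by group
  rw [Subgroup.mem_normalizer_iff]
  intro x
  constructor
  · exact key n hn x
  · intro h
    have := key n⁻¹ (Subgroup.inv_mem _ hn) _ h
    simpa [mul_assoc] using this

/-- Glauberman: if `Z(S) ≤ O_{p',p}(G)` then the elements of `S` that are their only `G`-conjugates in
`S` form a subgroup of `Z(S)`, which is a direct factor of `Z(S)`. -/
theorem weaklyClosedElements_directFactor [Finite G] {p : ℕ} [Fact p.Prime] (S : Sylow p G)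
    (hZ : ((S : Subgroup G) ⊓ Subgroup.centralizer ((S : Subgroup G) : Set G)) ≤ Cfsg.pPrimePCore p G) :
    ∃ W K : Subgroup G,
      (∀ x : G, x ∈ W ↔ (x ∈ (S : Subgroup G) ∧
        ∀ g : G, g * x * g⁻¹ ∈ (S : Subgroup G) → g * x * g⁻¹ = x)) ∧
      K ≤ ((S : Subgroup G) ⊓ Subgroup.centralizer ((S : Subgroup G) : Set G)) ∧ W ⊓ K = ⊥ ∧
      W ⊔ K = ((S : Subgroup G) ⊓ Subgroup.centralizer ((S : Subgroup G) : Set G)) := by
  obtain ⟨M, hM⟩ : ∃ M : Subgroup G, M = Cfsg.pPrimePCore p G := ⟨_, rfl⟩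
  have hMn : M.Normal := hM ▸ pPrimePCore_normal p
  obtain ⟨R, hR⟩ : ∃ R : Subgroup G, R = (S : Subgroup G) ⊓ M := ⟨_, rfl⟩
  obtain ⟨N, hN⟩ : ∃ N : Subgroup G, N = Subgroup.normalizer (R : Set G) := ⟨_, rfl⟩
  obtain ⟨V, hV⟩ : ∃ V : Subgroup G, V = R ⊓ Subgroup.centralizer (R : Set G) := ⟨_, rfl⟩
  obtain ⟨Z, hZdef⟩ : ∃ Z : Subgroup G,
    Z = (S : Subgroup G) ⊓ Subgroup.centralizer ((S : Subgroup G) : Set G) := ⟨_, rfl⟩
  rw [← hM, ← hZdef] at hZ
  rw [← hZdef]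
  have hRS : R ≤ (S : Subgroup G) := hR ▸ inf_le_left
  have hRM : R ≤ M := hR ▸ inf_le_right
  have hVR : V ≤ R := hV ▸ inf_le_left
  have hVS : V ≤ (S : Subgroup G) := hVR.trans hRS
  have hVcomm : ∀ a ∈ V, ∀ b ∈ V, a * b = b * a := by
    intro a ha b hb
    rw [hV] at ha hb
    exact (Subgroup.mem_centralizer_iff.mp ha.2 b hb.1).symm
  have hNV : N ≤ Subgroup.normalizer (V : Set G) := by
    rw [hN, hV]; exact normalizer_le_normalizer_center R
  have hSN : (S : Subgroup G) ≤ N := by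
    rw [hN]
    intro s hs
    rw [Subgroup.mem_normalizer_iff]
    intro x
    rw [hR, Subgroup.mem_inf, Subgroup.mem_inf]
    constructor
    · rintro ⟨h1, h2⟩
      exact ⟨Subgroup.mul_mem _ (Subgroup.mul_mem _ hs h1) (Subgroup.inv_mem _ hs), hMn.conj_mem x h2 s⟩
    · rintro ⟨h1, h2⟩
      refine ⟨?_, ?_⟩
      · have := Subgroup.mul_mem _ (Subgroup.mul_mem _ (Subgroup.inv_mem _ hs) h1) hs
        simpa [mul_assoc] using this
      · have := hMn.conj_mem _ h2 s⁻¹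
        simpa [mul_assoc] using this
  have hcop : (Nat.card V).Coprime ((S : Subgroup G).relIndex N) := by
    obtain ⟨k, hk⟩ := IsPGroup.iff_card.mp (S.2.to_le hVS)
    rw [hk]
    apply Nat.Coprime.pow_left
    refine (Nat.Prime.coprime_iff_not_dvd Fact.out).mpr ?_
    intro hdvd
    exact S.not_dvd_index (dvd_trans hdvd (Subgroup.relIndex_dvd_index_of_le hSN))
  obtain ⟨K, hK1, hK2, hK3⟩ := exists_complement_of_trace V N (S : Subgroup G) hVcomm hNV hSN hcop
  have hVZ : V ⊓ Subgroup.centralizer ((S : Subgroup G) : Set G) = Z := by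
    rw [hZdef]
    apply le_antisymm
    · exact inf_le_inf_right _ hVS
    · intro z hz
      have hzZ : z ∈ Z := hZdef ▸ hz
      have hzR : z ∈ R := hR ▸ ⟨hz.1, hZ hzZ⟩
      refine ⟨hV ▸ ⟨hzR, ?_⟩, hz.2⟩
      exact Subgroup.centralizer_le (by exact_mod_cast hRS) hz.2
  rw [hVZ] at hK1 hK3
  refine ⟨V ⊓ Subgroup.centralizer (N : Set G), K, ?_, hK1, hK2, hK3⟩
  intro x
  constructor
  · rintro ⟨hxV, hxN⟩
    refine ⟨hVS hxV, ?_⟩
    intro g hg
    obtain ⟨k, hk, n, hn, rfl⟩ := exists_mul_pPrimeCore_normalizer S g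
    rw [← hM, ← hR, ← hN] at hn
    have hnx : n * x * n⁻¹ = x := by
      have := Subgroup.mem_centralizer_iff.mp hxN n hn
      rw [this]; group
    have e : k * n * x * (k * n)⁻¹ = k * (n * x * n⁻¹) * k⁻¹ := by group
    rw [e, hnx] at hg ⊢
    have hxS : x ∈ (S : Subgroup G) := hVS hxV
    have h1 : k * x * k⁻¹ * x⁻¹ ∈ Cfsg.pPrimeCore p G ⊓ (S : Subgroup G) := by
      refine ⟨?_, Subgroup.mul_mem _ hg (Subgroup.inv_mem _ hxS)⟩
      have hKn : (Cfsg.pPrimeCore p G).Normal := inferInstance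
      have := hKn.conj_mem _ (Subgroup.inv_mem _ hk) x
      have e2 : k * x * k⁻¹ * x⁻¹ = k * (x * k⁻¹ * x⁻¹) := by group
      rw [e2]
      exact Subgroup.mul_mem _ hk this
    rw [Cfsg.Agent.Helper31.pPrimeCore_inf_eq_bot (S : Subgroup G) S.2, Subgroup.mem_bot] at h1
    calc k * x * k⁻¹ = (k * x * k⁻¹ * x⁻¹) * x := by group
      _ = x := by rw [h1, one_mul]
  · rintro ⟨hxS, hx⟩
    have hxZ : x ∈ Z := by
      rw [hZdef]
      refine Subgroup.mem_inf.mpr ⟨hxS, ?_⟩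
      rw [Subgroup.mem_centralizer_iff]
      intro s hs
      have := hx s (Subgroup.mul_mem _ (Subgroup.mul_mem _ hs hxS) (Subgroup.inv_mem _ hs))
      calc s * x = (s * x * s⁻¹) * s := by group
        _ = x * s := by rw [this]
    have hxV : x ∈ V := (hVZ ▸ hxZ : x ∈ V ⊓ Subgroup.centralizer ((S : Subgroup G) : Set G)).1
    refine Subgroup.mem_inf.mpr ⟨hxV, ?_⟩
    rw [Subgroup.mem_centralizer_iff]
    intro n hn
    have hn' : n ∈ Subgroup.normalizer (R : Set G) := hN ▸ hn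
    have hconj : n * x * n⁻¹ ∈ R := (Subgroup.mem_normalizer_iff.mp hn' x).mp (hVR hxV)
    have := hx n (hRS hconj)
    calc n * x = (n * x * n⁻¹) * n := by group
      _ = x * n := by rw [this]

end Cfsg.Agent.Helper33
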