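import Cfsg.Agent.Helper33.ConstrainedLemmas
import Cfsg.Agent.Helper33.WeaklyClosedCenter
import Cfsg.Agent.Helper31.LocalCore
import Cfsg.Agent.Helper76.SylowNormalizes
import Cfsg.Prelude.Def_Local

set_option autoImplicit false

open scoped Pointwise

namespace Cfsg.Agent.Helper33

open Cfsg.Agent.Lib

variable {G : Type*} [Group G]

local notation:max H "⟪" g "⟫" => Subgroup.map (MulEquiv.toMonoidHom (MulAut.conj g)) H

/-- If `G = N_G(S) O_{p'}(G)`, then `C_G(S) ≤ O_{p',p}(G)` and `S ≤ O_{p',p}(G)`. -/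
theorem centralizer_sylow_le_pPrimePCore [Finite G] {p : ℕ} [hp : Fact p.Prime] (S : Sylow p G)
    (h : Subgroup.normalizer ((S : Subgroup G) : Set G) ⊔ Cfsg.pPrimeCore p G = ⊤) :
    (S : Subgroup G) ≤ Cfsg.pPrimePCore p G ∧
      Subgroup.centralizer ((S : Subgroup G) : Set G) ≤ Cfsg.pPrimePCore p G := by
  obtain ⟨K, hK⟩ : ∃ K : Subgroup G, K = Cfsg.pPrimeCore p G := ⟨_, rfl⟩
  have hKn : K.Normal := hK ▸ Cfsg.pPrimeCore_normal p G
  -- `S K` is normal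
  have hSKn : ((S : Subgroup G) ⊔ K).Normal := by
    rw [← Subgroup.normalizer_eq_top_iff, eq_top_iff, ← h, ← hK]
    apply sup_le
    · refine le_trans ?_ (Subgroup.normalizer_inf_normalizer_le_normalizer_sup _ _)
      refine le_inf le_rfl ?_
      rw [Subgroup.normalizer_eq_top_iff.mpr hKn]
      exact le_top
    · exact le_trans le_sup_right Subgroup.le_normalizer
  obtain ⟨f, hf⟩ : ∃ f : G →* G ⧸ Cfsg.pPrimeCore p G, f = QuotientGroup.mk' (Cfsg.pPrimeCore p G) :=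
    ⟨_, rfl⟩
  have hfs : Function.Surjective f := hf ▸ QuotientGroup.mk'_surjective _
  have hker : f.ker = K := by rw [hf, hK]; exact QuotientGroup.ker_mk' _
  have hmap : ((S : Subgroup G) ⊔ K).map f = (S : Subgroup G).map f := by
    rw [Subgroup.map_sup, ← hker, (Subgroup.map_eq_bot_iff _).mpr le_rfl, sup_bot_eq]
  have hSbn : ((S : Subgroup G).map f).Normal := hmap ▸ Subgroup.Normal.map hSKn f hfs
  obtain ⟨Sb, hSb⟩ : ∃ Sb : Sylow p (G ⧸ Cfsg.pPrimeCore p G), (Sb : Subgroup _) = (S : Subgroup G).map f :=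
    ⟨S.mapSurjective hfs, rfl⟩
  have hSbn' : (Sb : Subgroup (G ⧸ Cfsg.pPrimeCore p G)).Normal := hSb ▸ hSbn
  have hcore : Cfsg.pCore p (G ⧸ Cfsg.pPrimeCore p G) = (S : Subgroup G).map f := by
    rw [← hSb]
    exact pCore_eq_of_normal_sylow Sb hSbn'
  have hK0 : Cfsg.pPrimeCore p (G ⧸ Cfsg.pPrimeCore p G) = ⊥ :=
    Cfsg.Agent.Helper76.pPrimeCore_quotient_pPrimeCore p
  have hcon : Subgroup.centralizer ((Cfsg.pCore p (G ⧸ Cfsg.pPrimeCore p G) : Subgroup _) : Set _) ≤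
      Cfsg.pCore p (G ⧸ Cfsg.pPrimeCore p G) := by
    apply centralizer_pCore_le_of_normal_inf Sb hK0
    rw [hcore, hSb]
    have := hSbn
    exact Subgroup.normal_inf_normal _ _
  constructor
  · intro s hs
    unfold Cfsg.pPrimePCore
    rw [Subgroup.mem_comap, ← hf, hcore]
    exact ⟨s, hs, rfl⟩
  · intro c hc
    unfold Cfsg.pPrimePCore
    rw [Subgroup.mem_comap, ← hf]
    apply hcon
    rw [hcore, Subgroup.mem_centralizer_iff]
    rintro _ ⟨s, hs, rfl⟩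
    rw [Subgroup.mem_centralizer_iff] at hc
    rw [← map_mul, ← map_mul, hc s hs]

theorem fusion_of_normalizer_sup_pPrimeCore [Finite G] {p : ℕ} [hp : Fact p.Prime] (S : Sylow p G)
    (h : Subgroup.normalizer ((S : Subgroup G) : Set G) ⊔ Cfsg.pPrimeCore p G = ⊤)
    (Q : Subgroup G) (hQS : Q ≤ (S : Subgroup G)) (g : G) (hg : Q⟪g⟫ ≤ (S : Subgroup G)) :
    ∃ n ∈ Subgroup.normalizer ((S : Subgroup G) : Set G), ∃ c ∈ Subgroup.centralizer (Q : Set G),
      g = n * c := by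
  have hg' : g ∈ ((Subgroup.normalizer ((S : Subgroup G) : Set G) ⊔ Cfsg.pPrimeCore p G : Subgroup G) : Set G) :=
    h ▸ Subgroup.mem_top g
  rw [Subgroup.mul_normal] at hg'
  obtain ⟨n, hn, k, hk, hnk⟩ := hg'
  have hnk' : g = n * k := hnk.symm
  refine ⟨n, hn, k, ?_, hnk'⟩
  rw [Subgroup.mem_centralizer_iff]
  intro q hq
  have h1 : g * q * g⁻¹ ∈ (S : Subgroup G) := hg (conj_mem_map_conj Q g hq)
  have h2 : k * q * k⁻¹ ∈ (S : Subgroup G) := by
    have h3 := (Subgroup.mem_normalizer_iff.mp (Subgroup.inv_mem _ hn) _).mp h1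
    rw [hnk'] at h3
    have e : n⁻¹ * (n * k * q * (n * k)⁻¹) * n⁻¹⁻¹ = k * q * k⁻¹ := by group
    rwa [e] at h3
  have h4 : k * q * k⁻¹ * q⁻¹ ∈ Cfsg.pPrimeCore p G ⊓ (S : Subgroup G) := by
    refine Subgroup.mem_inf.mpr ⟨?_, (S : Subgroup G).mul_mem h2 ((S : Subgroup G).inv_mem (hQS hq))⟩
    have h5 : q * k⁻¹ * q⁻¹ ∈ Cfsg.pPrimeCore p G :=
      (Cfsg.pPrimeCore_normal p G).conj_mem _ (Subgroup.inv_mem _ hk) q
    have := Subgroup.mul_mem _ hk h5
    have e : k * (q * k⁻¹ * q⁻¹) = k * q * k⁻¹ * q⁻¹ := by group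
    rwa [e] at this
  rw [Cfsg.Agent.Helper31.pPrimeCore_inf_eq_bot (S : Subgroup G) S.2, Subgroup.mem_bot] at h4
  calc q * k = (k * q * k⁻¹ * q⁻¹)⁻¹ * (k * q) := by group
    _ = k * q := by rw [h4, inv_one, one_mul]

theorem isPConstrained_of_normalizer_sup_pPrimeCore [Finite G] {p : ℕ} [hp : Fact p.Prime]
    (S : Sylow p G)
    (h : Subgroup.normalizer ((S : Subgroup G) : Set G) ⊔ Cfsg.pPrimeCore p G = ⊤) :
    Cfsg.IsPConstrained p G := by
  obtain ⟨hSM, hCM⟩ := centralizer_sylow_le_pPrimePCore S h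
  intro P
  obtain ⟨M, hM⟩ : ∃ M : Subgroup G, M = Cfsg.pPrimePCore p G := ⟨_, rfl⟩
  have hMn : M.Normal := hM ▸ pPrimePCore_normal p
  obtain ⟨P₀, hP₀⟩ : ∃ P₀ : Subgroup G,
    P₀ = (P : Subgroup ↥(Cfsg.pPrimePCore p G)).map (Cfsg.pPrimePCore p G).subtype := ⟨_, rfl⟩
  rw [← hP₀]
  have hP₀p : IsPGroup p P₀ := hP₀ ▸ P.2.map _
  have hP₀M : P₀ ≤ Cfsg.pPrimePCore p G := hP₀ ▸ Subgroup.map_subtype_le _
  have hP₀idx : ¬ p ∣ P₀.index := by
    rw [← Subgroup.relIndex_mul_index hP₀M]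
    intro hd
    rcases (Nat.Prime.dvd_mul hp.out).mp hd with h1 | h1
    · have e : P₀.relIndex (Cfsg.pPrimePCore p G) = (P : Subgroup ↥(Cfsg.pPrimePCore p G)).index := by
        unfold Subgroup.relIndex
        rw [hP₀, Subgroup.subgroupOf,
          Subgroup.comap_map_eq_self_of_injective (Subgroup.subtype_injective _)]
      rw [e] at h1
      exact P.not_dvd_index h1
    · exact S.not_dvd_index (h1.trans (Subgroup.index_dvd_of_le hSM))
  obtain ⟨k, hk⟩ := exists_conj_eq_of_isPGroup_of_not_dvd_index S P₀ hP₀p hP₀idx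
  intro c hc
  have h1 : k⁻¹ * c * k ∈ Subgroup.centralizer ((S : Subgroup G) : Set G) := by
    rw [Subgroup.mem_centralizer_iff] at hc ⊢
    intro s hs
    have hs' : k * s * k⁻¹ ∈ P₀ := hk ▸ conj_mem_map_conj (S : Subgroup G) k hs
    have := hc _ hs'
    calc s * (k⁻¹ * c * k) = k⁻¹ * ((k * s * k⁻¹) * c) * k := by group
      _ = k⁻¹ * (c * (k * s * k⁻¹)) * k := by rw [this]
      _ = k⁻¹ * c * k * s := by group
  have h2 := hCM h1
  have h3 := (pPrimePCore_normal (G := G) p).conj_mem _ h2 k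
  have e : k * (k⁻¹ * c * k) * k⁻¹ = c := by group
  rwa [e] at h3

theorem normalizer_sup_pPrimeCore_of_constrained [Finite G] {p : ℕ} [hp : Fact p.Prime] (S : Sylow p G)
    (hcon : Cfsg.IsPConstrained p G)
    (hfus : ∀ Q : Subgroup G, Q ≤ (S : Subgroup G) → ∀ g : G, Q⟪g⟫ ≤ (S : Subgroup G) →
      ∃ n ∈ Subgroup.normalizer ((S : Subgroup G) : Set G), ∃ c ∈ Subgroup.centralizer (Q : Set G),
        g = n * c) :
    Subgroup.normalizer ((S : Subgroup G) : Set G) ⊔ Cfsg.pPrimeCore p G = ⊤ := by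
  rw [eq_top_iff]
  intro g _
  obtain ⟨k, hk, n, hn, rfl⟩ := exists_mul_pPrimeCore_normalizer S g
  obtain ⟨R, hR⟩ : ∃ R : Subgroup G, R = (S : Subgroup G) ⊓ Cfsg.pPrimePCore p G := ⟨_, rfl⟩
  rw [← hR] at hn
  have hRS : R ≤ (S : Subgroup G) := hR ▸ inf_le_left
  have hRM : R ≤ Cfsg.pPrimePCore p G := hR ▸ inf_le_right
  have hRp : IsPGroup p R := S.2.to_le hRS
  have hMn : (Cfsg.pPrimePCore p G).Normal := pPrimePCore_normal p
  have hRidx : ¬ p ∣ R.relIndex (Cfsg.pPrimePCore p G) := by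
    rw [hR, Subgroup.inf_relIndex_right]
    exact Cfsg.Agent.Helper49.not_dvd_relIndex_of_normal S _
  have hRn : R⟪n⟫ ≤ (S : Subgroup G) := by
    rw [map_conj_le_iff]
    intro y hy
    exact hRS ((Subgroup.mem_normalizer_iff.mp hn y).mp hy)
  obtain ⟨n', hn', c, hc, rfl⟩ := hfus R hRS n hRn
  -- `c ∈ C_G(R) ≤ O_{p',p}(G) = O_{p'}(G) R`
  have hcM : c ∈ Cfsg.pPrimePCore p G := by
    have hP : IsPGroup p (R.subgroupOf (Cfsg.pPrimePCore p G)) := hRp.comap_subtype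
    have hRidx' : ¬ p ∣ (R.subgroupOf (Cfsg.pPrimePCore p G)).index := hRidx
    have := hcon (hP.toSylow hRidx')
    apply this
    have e : ((hP.toSylow hRidx' : Sylow p ↥(Cfsg.pPrimePCore p G)) : Subgroup ↥(Cfsg.pPrimePCore p G)).map
        (Cfsg.pPrimePCore p G).subtype = R := by
      rw [IsPGroup.toSylow_coe]
      exact Subgroup.map_subgroupOf_eq_of_le hRM
    rw [e]
    exact hc
  rw [← Cfsg.Agent.Helper31.pPrimeCore_sup_eq R hRp hRM hRidx] at hcM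
  have hcM' : c ∈ ((Cfsg.pPrimeCore p G ⊔ R : Subgroup G) : Set G) := hcM
  rw [Subgroup.normal_mul] at hcM'
  obtain ⟨k', hk', r, hr, rfl⟩ := hcM'
  have hKle : Cfsg.pPrimeCore p G ≤ Subgroup.normalizer ((S : Subgroup G) : Set G) ⊔ Cfsg.pPrimeCore p G :=
    le_sup_right
  have hNle : Subgroup.normalizer ((S : Subgroup G) : Set G) ≤
      Subgroup.normalizer ((S : Subgroup G) : Set G) ⊔ Cfsg.pPrimeCore p G := le_sup_left
  exact Subgroup.mul_mem _ (hKle hk) (Subgroup.mul_mem _ (hNle hn')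
    (Subgroup.mul_mem _ (hKle hk') (hNle (Subgroup.le_normalizer (hRS hr)))))

end Cfsg.Agent.Helper33
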