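import Cfsg.Agent.Helper91.O7.Defs

/-!
# Helper33: piece (L) of helper91's S5514 farm — the normaliser stabilises a line
-/

set_option autoImplicit false

namespace Cfsg.Agent.Helper33.O7

open Matrix Cfsg.Agent.Helper91.O7

theorem map_conj_zpowers_aux {G : Type*} [Group G] (g a : G) :
    (Subgroup.zpowers a).map (MulAut.conj g).toMonoidHom = Subgroup.zpowers (g * a * g⁻¹) := by
  rw [MonoidHom.map_zpowers]
  rfl

theorem mem_Nz_iff {a g : U7} :
    g ∈ Nz a ↔ Subgroup.zpowers (g * a * g⁻¹) = Subgroup.zpowers a := by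
  unfold Nz
  rw [Subgroup.mem_normalizer_iff_map_conj_eq]
  rw [← map_conj_zpowers_aux]
  rfl

/-- elements of `⟨a⟩` when `a ^ 3 = 1` -/
theorem mem_zpowers_cube_aux {G : Type*} [Group G] {a x : G} (ha : a ^ 3 = 1)
    (hx : x ∈ Subgroup.zpowers a) : x = 1 ∨ x = a ∨ x = a ^ 2 := by
  obtain ⟨z, rfl⟩ := Subgroup.mem_zpowers_iff.mp hx
  have hz : z = 3 * (z / 3) + z % 3 := (Int.mul_ediv_add_emod z 3).symm
  have h3 : a ^ (3 : ℤ) = 1 := by
    have : a ^ ((3 : ℕ) : ℤ) = 1 := by rw [zpow_natCast]; exact ha
    simpa using this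
  have hred : a ^ z = a ^ (z % 3) := by
    conv_lhs => rw [hz]
    rw [_root_.zpow_add, _root_.zpow_mul, h3, _root_.one_zpow, one_mul]
  rw [hred]
  have hc : z % 3 = 0 ∨ z % 3 = 1 ∨ z % 3 = 2 := by omega
  rcases hc with h | h | h <;> rw [h]
  · left; simp
  · right; left; simp
  · right; right
    exact zpow_natCast a 2

theorem three_M7_aux (X : M7) : X + X + X = 0 := by
  ext i j
  simp only [Matrix.add_apply, Matrix.zero_apply]
  generalize X i j = x
  revert x
  decide

theorem sq_sub_one_aux (X : M7) : (X - 1) * (X - 1) = X * X + X + 1 := by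
  have h : (X - 1) * (X - 1) = X * X + X + 1 - (X + X + X) := by noncomm_ring
  rw [h, three_M7_aux, sub_zero]

theorem zmod3_sq_aux : ∀ x : ZMod 3, x ≠ 0 → x * x = 1 := by decide

theorem zmod3_cases_aux : ∀ c : ZMod 3, c = 0 ∨ c = 1 ∨ c = -1 := by decide

theorem Nz_le_lineStab (a : U7) (ha : a ^ 3 = 1) (u φ : Fin 7 → ZMod 3) (hu : u ≠ 0)
    (hφ : φ ≠ 0) (hM : (a.val - 1) * (a.val - 1) = Matrix.vecMulVec u φ) :
    Nz a ≤ lineStab u := by
  intro g hg
  rw [mem_Nz_iff] at hg
  rw [mem_lineStab]
  obtain ⟨i0, hi0⟩ : ∃ i, u i ≠ 0 := by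
    by_contra hcon
    push Not at hcon
    exact hu (funext hcon)
  obtain ⟨j0, hj0⟩ : ∃ j, φ j ≠ 0 := by
    by_contra hcon
    push Not at hcon
    exact hφ (funext hcon)
  have hmem : g * a * g⁻¹ ∈ Subgroup.zpowers a := by
    rw [← hg]; exact Subgroup.mem_zpowers _
  have hX3 : a.val * a.val * a.val = 1 := by
    have := congrArg Units.val ha
    rw [Units.val_pow_eq_pow_val, Units.val_one] at this
    rw [← this]; noncomm_ring
  -- g commutes with N = X*X + X + 1
  have hcomm : g.val * (a.val * a.val + a.val + 1) = (a.val * a.val + a.val + 1) * g.val := by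
    rcases mem_zpowers_cube_aux ha hmem with h1 | h1 | h1
    · -- a = 1: impossible
      exfalso
      have ha1 : a = 1 := by
        have : g⁻¹ * (g * a * g⁻¹) * g = a := by group
        rw [← this, h1]; group
      have h0 : Matrix.vecMulVec u φ = 0 := by
        rw [← hM, ha1, Units.val_one, sub_self, mul_zero]
      have h00 := congrFun (congrFun h0 i0) j0
      rw [Matrix.vecMulVec_apply, Matrix.zero_apply] at h00
      exact (mul_ne_zero hi0 hj0) h00
    · have hga : g * a = a * g := by
        have : g * a = (g * a * g⁻¹) * g := by group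
        rw [this, h1]
      have hv : g.val * a.val = a.val * g.val := by
        have := congrArg Units.val hga
        simpa [Units.val_mul] using this
      calc g.val * (a.val * a.val + a.val + 1)
          = (g.val * a.val) * a.val + g.val * a.val + g.val := by noncomm_ring
        _ = (a.val * g.val) * a.val + a.val * g.val + g.val := by rw [hv]
        _ = a.val * (g.val * a.val) + a.val * g.val + g.val := by noncomm_ring
        _ = a.val * (a.val * g.val) + a.val * g.val + g.val := by rw [hv]
        _ = (a.val * a.val + a.val + 1) * g.val := by noncomm_ring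
    · have hga : g * a = a ^ 2 * g := by
        have : g * a = (g * a * g⁻¹) * g := by group
        rw [this, h1]
      have hv : g.val * a.val = a.val * a.val * g.val := by
        have := congrArg Units.val hga
        simpa [Units.val_mul, Units.val_pow_eq_pow_val, pow_two] using this
      calc g.val * (a.val * a.val + a.val + 1)
          = (g.val * a.val) * a.val + g.val * a.val + g.val := by noncomm_ring
        _ = (a.val * a.val * g.val) * a.val + a.val * a.val * g.val + g.val := by rw [hv]
        _ = a.val * a.val * (g.val * a.val) + a.val * a.val * g.val + g.val := by noncomm_ring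
        _ = a.val * a.val * (a.val * a.val * g.val) + a.val * a.val * g.val + g.val := by rw [hv]
        _ = (a.val * a.val * a.val) * a.val * g.val + a.val * a.val * g.val + g.val := by
            noncomm_ring
        _ = a.val * g.val + a.val * a.val * g.val + g.val := by rw [hX3, one_mul]
        _ = (a.val * a.val + a.val + 1) * g.val := by noncomm_ring
  rw [← sq_sub_one_aux, hM, Matrix.mul_vecMulVec, Matrix.vecMulVec_mul] at hcomm
  -- entries
  have hent : ∀ i, (g.val *ᵥ u) i = (φ ᵥ* g.val) j0 * φ j0 * u i := by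
    intro i
    have h1 := congrFun (congrFun hcomm i) j0
    rw [Matrix.vecMulVec_apply, Matrix.vecMulVec_apply] at h1
    calc (g.val *ᵥ u) i = (g.val *ᵥ u) i * (φ j0 * φ j0) := by
          rw [zmod3_sq_aux _ hj0, mul_one]
      _ = ((g.val *ᵥ u) i * φ j0) * φ j0 := by ring
      _ = (u i * (φ ᵥ* g.val) j0) * φ j0 := by rw [h1]
      _ = (φ ᵥ* g.val) j0 * φ j0 * u i := by ring
  have hvec : g.val *ᵥ u = ((φ ᵥ* g.val) j0 * φ j0) • u := by
    funext i
    rw [hent i, Pi.smul_apply, smul_eq_mul]
  rcases zmod3_cases_aux ((φ ᵥ* g.val) j0 * φ j0) with hc | hc | hc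
  · exfalso
    rw [hc, zero_smul] at hvec
    have : g⁻¹.val *ᵥ (g.val *ᵥ u) = u := by
      rw [Matrix.mulVec_mulVec, ← Units.val_mul, inv_mul_cancel, Units.val_one, Matrix.one_mulVec]
    rw [hvec, Matrix.mulVec_zero] at this
    exact hu this.symm
  · left; rw [hvec, hc, one_smul]
  · right; rw [hvec, hc, neg_smul, one_smul]

theorem natCast_neg_aux (x y : ℕ) (h : ((x : ℕ) : ZMod 3) = -((y : ℕ) : ZMod 3)) :
    x % 3 = (3 - y % 3) % 3 := by
  have h1 : (((3 - y % 3 : ℕ) : ℕ) : ZMod 3) = -((y : ℕ) : ZMod 3) := by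
    have hle : y % 3 ≤ 3 := (Nat.mod_lt y (by norm_num)).le
    rw [Nat.cast_sub hle, ZMod.natCast_mod]
    have : ((3 : ℕ) : ZMod 3) = 0 := by decide
    rw [this, zero_sub]
  rw [← h1, ZMod.natCast_eq_natCast_iff'] at h
  exact h

theorem lineKey_eq_of_mem_lineStab {A B : ℕ} {a b : U7} (ha : a.val = toMat A)
    (hb : b.val = toMat B) (j : Fin 7) (h : a⁻¹ * b ∈ lineStab (Pi.single j 1)) :
    lineKey A j = lineKey B j := by
  rw [mem_lineStab] at h
  have hb' : b.val *ᵥ (Pi.single j 1) = a.val *ᵥ ((a⁻¹ * b).val *ᵥ (Pi.single j 1)) := by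
    rw [Matrix.mulVec_mulVec, ← Units.val_mul, mul_inv_cancel_left]
  have hcolA : ∀ i : Fin 7, (a.val *ᵥ (Pi.single j 1)) i = ((ent A i j : ℕ) : ZMod 3) := by
    intro i
    rw [Matrix.mulVec_single_one, ha]
    rfl
  have hcolB : ∀ i : Fin 7, (b.val *ᵥ (Pi.single j 1)) i = ((ent B i j : ℕ) : ZMod 3) := by
    intro i
    rw [Matrix.mulVec_single_one, hb]
    rfl
  rcases h with h | h
  · -- same column
    have hent : ∀ i : ℕ, i < 7 → ent B i j % 3 = ent A i j % 3 := by
      intro i hi
      have h1 := hcolB ⟨i, hi⟩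
      rw [hb', h, hcolA ⟨i, hi⟩] at h1
      rw [ZMod.natCast_eq_natCast_iff'] at h1
      exact h1.symm
    have h1 : colNum B j = colNum A j := by
      unfold colNum
      congr 1
      apply List.map_congr_left
      intro i hi
      rw [List.mem_range] at hi
      rw [hent i hi]
    have h2 : colNeg B j = colNeg A j := by
      unfold colNeg
      congr 1
      apply List.map_congr_left
      intro i hi
      rw [List.mem_range] at hi
      rw [hent i hi]
    unfold lineKey
    rw [h1, h2]
  · -- opposite column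
    have hent : ∀ i : ℕ, i < 7 → ent B i j % 3 = (3 - ent A i j % 3) % 3 := by
      intro i hi
      have h1 := hcolB ⟨i, hi⟩
      rw [hb', h, Matrix.mulVec_neg, Pi.neg_apply, hcolA ⟨i, hi⟩] at h1
      exact natCast_neg_aux _ _ h1.symm
    have h1 : colNum B j = colNeg A j := by
      unfold colNum colNeg
      congr 1
      apply List.map_congr_left
      intro i hi
      rw [List.mem_range] at hi
      rw [hent i hi]
    have h2 : colNeg B j = colNum A j := by
      unfold colNum colNeg
      congr 1
      apply List.map_congr_left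
      intro i hi
      rw [List.mem_range] at hi
      have := hent i hi
      have h3 : (3 - ent B i j % 3) % 3 = ent A i j % 3 := by omega
      rw [h3]
    unfold lineKey
    rw [h1, h2, min_comm]

end Cfsg.Agent.Helper33.O7
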