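import Cfsg.Agent.Helper91.O7.Defs
import Cfsg.Agent.Helper33.O7L

/-!
# Helper33: piece (W) of helper91's S5514 farm — the twins are not conjugate
-/

set_option autoImplicit false

namespace Cfsg.Agent.Helper33.O7

open Matrix Cfsg.Agent.Helper91.O7

/-- `|H| |K ⊓ N| ≤ |K| |N|` when `H ⊆ K N` (local copy for (W)) -/
theorem card_mul_inf_le_aux {G : Type*} [Group G] (H K N : Subgroup G) [Finite K] [Finite N]
    (hH : ∀ h ∈ H, ∃ k ∈ K, ∃ n ∈ N, h = k * n) :
    Nat.card H * Nat.card (K ⊓ N : Subgroup G) ≤ Nat.card K * Nat.card N := by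
  classical
  choose kf hkf nf hnf hkn using hH
  let f : H × (K ⊓ N : Subgroup G) → K × N := fun p =>
    (⟨kf p.1.1 p.1.2 * p.2.1, K.mul_mem (hkf _ _) (Subgroup.mem_inf.mp p.2.2).1⟩,
     ⟨(p.2.1)⁻¹ * nf p.1.1 p.1.2, N.mul_mem (N.inv_mem (Subgroup.mem_inf.mp p.2.2).2) (hnf _ _)⟩)
  have hf : Function.Injective f := by
    rintro ⟨⟨h, hh⟩, ⟨x, hx⟩⟩ ⟨⟨h', hh'⟩, ⟨x', hx'⟩⟩ he
    simp only [f, Prod.mk.injEq, Subtype.mk.injEq] at he
    obtain ⟨e1, e2⟩ := he
    have hprod : h = h' := by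
      calc h = kf h hh * nf h hh := hkn h hh
        _ = (kf h hh * x) * (x⁻¹ * nf h hh) := by group
        _ = (kf h' hh' * x') * (x'⁻¹ * nf h' hh') := by rw [e1, e2]
        _ = kf h' hh' * nf h' hh' := by group
        _ = h' := (hkn h' hh').symm
    subst hprod
    have hx' : x = x' := mul_left_cancel e1
    subst hx'
    rfl
  have h1 := Nat.card_le_card_of_injective f hf
  rwa [Nat.card_prod, Nat.card_prod] at h1

theorem zpowers_conj_congr_aux {G : Type*} [Group G] (c : G) {x y : G}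
    (h : Subgroup.zpowers x = Subgroup.zpowers y) :
    Subgroup.zpowers (c * x * c⁻¹) = Subgroup.zpowers (c * y * c⁻¹) := by
  rw [← map_conj_zpowers_aux, ← map_conj_zpowers_aux, h]

theorem mem_normalizer_zpowers_aux {G : Type*} [Group G] {a g : G} :
    g ∈ Subgroup.normalizer (Subgroup.zpowers a : Set G) ↔
      Subgroup.zpowers (g * a * g⁻¹) = Subgroup.zpowers a := by
  rw [Subgroup.mem_normalizer_iff_map_conj_eq]
  rw [← map_conj_zpowers_aux]
  rfl

/-- the generic form of (W) -/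
theorem twin_separation_aux {G : Type*} [Group G] (OM Om : Subgroup G) (hle : Om ≤ OM)
    (cardO : Nat.card OM = 18341406720) (cardOm : Nat.card Om = 4585351680)
    (a b : G)
    (hU : Nat.card (Subgroup.normalizer (Subgroup.zpowers a : Set G) ⊓ OM : Subgroup G) ≤ 69984)
    (hL : 34992 ≤ Nat.card (Subgroup.normalizer (Subgroup.zpowers a : Set G) ⊓ Om : Subgroup G))
    (hcls : ∀ g ∈ OM, zconj Om (g * a * g⁻¹) a ∨ zconj Om (g * a * g⁻¹) b) :
    ¬ zconj Om a b := by
  rintro ⟨k0, hk0, hab⟩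
  -- every `g ∈ OM` is in `Om * (Nz a ⊓ OM)`
  have hdec : ∀ g ∈ OM, ∃ k ∈ Om,
      ∃ n ∈ (Subgroup.normalizer (Subgroup.zpowers a : Set G) ⊓ OM : Subgroup G), g = k * n := by
    intro g hg
    have hkey : ∃ k ∈ Om, k * g ∈ Subgroup.normalizer (Subgroup.zpowers a : Set G) := by
      rcases hcls g hg with ⟨k, hk, h1⟩ | ⟨k, hk, h1⟩
      · refine ⟨k, hk, ?_⟩
        rw [mem_normalizer_zpowers_aux, ← h1]
        congr 1
        group
      · refine ⟨k0⁻¹ * k, Om.mul_mem (Om.inv_mem hk0) hk, ?_⟩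
        rw [mem_normalizer_zpowers_aux]
        have h2 := zpowers_conj_congr_aux k0⁻¹ (h1.trans hab.symm)
        have e1 : k0⁻¹ * (k * (g * a * g⁻¹) * k⁻¹) * k0⁻¹⁻¹ =
            k0⁻¹ * k * g * a * (k0⁻¹ * k * g)⁻¹ := by group
        have e2 : k0⁻¹ * (k0 * a * k0⁻¹) * k0⁻¹⁻¹ = a := by group
        rw [e1, e2] at h2
        exact h2
    obtain ⟨k, hk, hkg⟩ := hkey
    refine ⟨k⁻¹, Om.inv_mem hk, k * g, Subgroup.mem_inf.mpr ⟨hkg, OM.mul_mem (hle hk) hg⟩, ?_⟩
    group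
  have : Finite OM := Nat.finite_of_card_ne_zero (by rw [cardO]; norm_num)
  have : Finite Om := Nat.finite_of_card_ne_zero (by rw [cardOm]; norm_num)
  have : Finite (Subgroup.normalizer (Subgroup.zpowers a : Set G) ⊓ OM : Subgroup G) :=
    Finite.of_injective
      (fun x : (Subgroup.normalizer (Subgroup.zpowers a : Set G) ⊓ OM : Subgroup G) =>
        (⟨x.1, (Subgroup.mem_inf.mp x.2).2⟩ : OM)) (by
        intro x y hxy
        simp only [Subtype.mk.injEq] at hxy
        exact Subtype.ext hxy)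
  have hmain := card_mul_inf_le_aux OM Om
    (Subgroup.normalizer (Subgroup.zpowers a : Set G) ⊓ OM : Subgroup G) hdec
  have hinf : (Om ⊓ (Subgroup.normalizer (Subgroup.zpowers a : Set G) ⊓ OM) : Subgroup G) =
      Subgroup.normalizer (Subgroup.zpowers a : Set G) ⊓ Om := by
    ext x
    simp only [Subgroup.mem_inf]
    constructor
    · rintro ⟨h1, h2, -⟩; exact ⟨h2, h1⟩
    · rintro ⟨h1, h2⟩; exact ⟨h2, h1, hle h2⟩
  rw [hinf, cardO, cardOm] at hmain
  have h1 : 18341406720 * 34992 ≤ 18341406720 *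
      Nat.card (Subgroup.normalizer (Subgroup.zpowers a : Set G) ⊓ Om : Subgroup G) :=
    Nat.mul_le_mul_left _ hL
  have h2 : 4585351680 *
      Nat.card (Subgroup.normalizer (Subgroup.zpowers a : Set G) ⊓ OM : Subgroup G) ≤
      4585351680 * 69984 :=
    Nat.mul_le_mul_left _ hU
  omega

theorem twin_separation (Om : Subgroup U7) (hle : Om ≤ OM)
    (cardO : Nat.card OM = 18341406720) (cardOm : Nat.card Om = 4585351680)
    (a b : U7)
    (hU : Nat.card (Nz a ⊓ OM : Subgroup U7) ≤ 69984)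
    (hL : 34992 ≤ Nat.card (Nz a ⊓ Om : Subgroup U7))
    (hcls : ∀ g ∈ OM, zconj Om (g * a * g⁻¹) a ∨ zconj Om (g * a * g⁻¹) b) :
    ¬ zconj Om a b :=
  twin_separation_aux OM Om hle cardO cardOm a b hU hL hcls

end Cfsg.Agent.Helper33.O7
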