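import Cfsg.Agent.Helper24.OddOmega

set_option autoImplicit false

namespace Cfsg.Agent.Helper33

open Cfsg.Agent.Helper24

variable {G : Type*} [Group G]

/-- **Gorenstein 5.3.10**, elementwise, with a general exponent `e` (`p ∣ e` and `p ∣ 0 + 1 + ⋯ + (e-1)`;
`e = p` for odd `p`, `e = 4` for `p = 2`): `a` normalizes the `p`-subgroup `P`, has order coprime
to `p` and commutes with every `x ∈ P` with `x ^ e = 1`. Then `a` centralizes `P`.
(Adapted from helper24's `commute_of_commute_omega_odd`.) -/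
theorem commute_of_commute_omega_gen [Finite G] {p : ℕ} [hp : Fact p.Prime] {e : ℕ} (hpe : p ∣ e)
    (hsum : p ∣ ∑ i ∈ Finset.range e, i) {a : G}
    (hcop : (orderOf a).Coprime p) :
    ∀ (P : Subgroup G), IsPGroup p P → a ∈ Subgroup.normalizer (P : Set G) →
      (∀ x ∈ P, x ^ e = 1 → a * x = x * a) → ∀ x ∈ P, a * x = x * a := by
  suffices H : ∀ n : ℕ, ∀ P : Subgroup G, Nat.card P = n → IsPGroup p P →
      a ∈ Subgroup.normalizer (P : Set G) → (∀ x ∈ P, x ^ e = 1 → a * x = x * a) →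
      ∀ x ∈ P, a * x = x * a from fun P => H _ P rfl
  intro n
  induction n using Nat.strong_induction_on with
  | _ n ih => ?_
  intro P hcard hP haP hΩ
  have ih' : ∀ Q : Subgroup G, Q ≤ P → Q ≠ P → a ∈ Subgroup.normalizer (Q : Set G) →
      ∀ x ∈ Q, a * x = x * a := by
    intro Q hQP hne haQ
    have hlt : Nat.card Q < n := hcard ▸ card_lt_of_lt (lt_of_le_of_ne hQP hne)
    exact ih _ hlt Q rfl (hP.to_le hQP) haQ (fun x hx hxp => hΩ x (hQP hx) hxp)
  by_contra hcon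
  push Not at hcon
  -- if `a` commutes with all commutators `a x a⁻¹ x⁻¹` we are done
  have hkey : ¬ (∀ x ∈ P, a * (a * x * a⁻¹ * x⁻¹) = (a * x * a⁻¹ * x⁻¹) * a) := by
    intro h
    obtain ⟨x, hx, hax⟩ := hcon
    apply hax
    have hwP : a * x * a⁻¹ * x⁻¹ ∈ P :=
      P.mul_mem (conj_mem_of_mem_normalizer haP hx) (P.inv_mem hx)
    exact commute_of_commute_commutator a x (h x hx) (coprime_orderOf_of_mem hP hwP hcop)
  -- every proper `a`-invariant normal subgroup of `P` is central in `P`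
  have hZ : ∀ N : Subgroup G, N ≤ P → N ≠ P → P ≤ Subgroup.normalizer (N : Set G) →
      a ∈ Subgroup.normalizer (N : Set G) → ∀ n ∈ N, ∀ x ∈ P, n * x = x * n := by
    intro N hNP hNne hPN haN
    have hCN := ih' N hNP hNne haN
    have hCN' : ∀ x ∈ N, a⁻¹ * x = x * a⁻¹ := fun x hx => inv_mul_comm_of_mul_comm (hCN x hx)
    set Z : Subgroup G := P ⊓ Subgroup.centralizer (N : Set G) with hZdef
    have hZmem : ∀ z, z ∈ Z ↔ z ∈ P ∧ ∀ n ∈ N, n * z = z * n := by
      intro z; rw [hZdef, Subgroup.mem_inf, Subgroup.mem_centralizer_iff]; rfl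
    have hconjZ : ∀ b : G, b ∈ Subgroup.normalizer (P : Set G) → (∀ x ∈ N, b * x = x * b) →
        ∀ z ∈ Z, b * z * b⁻¹ ∈ Z := by
      intro b hbP hbN z hz
      rw [hZmem] at hz ⊢
      refine ⟨conj_mem_of_mem_normalizer hbP hz.1, fun n hn => ?_⟩
      have h1 := hbN n hn
      have h1' := inv_mul_comm_of_mul_comm h1
      have h2 := hz.2 n hn
      calc n * (b * z * b⁻¹) = (n * b) * z * b⁻¹ := by group
        _ = b * (n * z) * b⁻¹ := by rw [← h1]; group
        _ = b * z * (n * b⁻¹) := by rw [h2]; group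
        _ = b * z * b⁻¹ * n := by rw [← h1']; group
    have haZ : a ∈ Subgroup.normalizer (Z : Set G) := by
      apply mem_normalizer_of_forall_conj_mem
      · exact fun z hz => hconjZ a haP hCN z hz
      · intro z hz
        have := hconjZ a⁻¹ (Subgroup.inv_mem _ haP) hCN' z hz
        simpa using this
    have hwZ : ∀ x ∈ P, a * x * a⁻¹ * x⁻¹ ∈ Z := by
      intro x hx
      rw [hZmem]
      refine ⟨P.mul_mem (conj_mem_of_mem_normalizer haP hx) (P.inv_mem hx), fun n hn => ?_⟩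
      have hmN : x⁻¹ * n * x ∈ N := conj_inv_mem_of_mem_normalizer (hPN hx) hn
      have hm : a⁻¹ * (x⁻¹ * n * x) * a = x⁻¹ * n * x := by
        rw [hCN' _ hmN]; group
      have han : a * n * a⁻¹ = n := by rw [hCN n hn]; group
      have hconj : (a * x * a⁻¹ * x⁻¹) * n * (a * x * a⁻¹ * x⁻¹)⁻¹ = n := by
        calc (a * x * a⁻¹ * x⁻¹) * n * (a * x * a⁻¹ * x⁻¹)⁻¹
            = a * x * (a⁻¹ * (x⁻¹ * n * x) * a) * x⁻¹ * a⁻¹ := by group
          _ = a * x * (x⁻¹ * n * x) * x⁻¹ * a⁻¹ := by rw [hm]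
          _ = a * n * a⁻¹ := by group
          _ = n := han
      calc n * (a * x * a⁻¹ * x⁻¹)
          = ((a * x * a⁻¹ * x⁻¹) * n * (a * x * a⁻¹ * x⁻¹)⁻¹) * (a * x * a⁻¹ * x⁻¹) := by rw [hconj]
        _ = (a * x * a⁻¹ * x⁻¹) * n := by group
    by_cases hZP : Z = P
    · intro n hn x hx
      have hxZ : x ∈ Z := by rw [hZP]; exact hx
      exact ((hZmem x).mp hxZ).2 n hn
    · exfalso
      apply hkey
      intro x hx
      exact ih' Z inf_le_left hZP haZ _ (hwZ x hx)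
  have hPne : P ≠ ⊥ := by
    intro h
    obtain ⟨x, hx, hax⟩ := hcon
    rw [h, Subgroup.mem_bot] at hx
    subst hx
    simp at hax
  obtain ⟨M, hMP, hMne, hMpow, hMcomm⟩ := exists_proper_containing_pow_comm hP hPne
  set S : Set G := {y | ∃ x ∈ P, y = x ^ p} ∪ {y | ∃ x ∈ P, ∃ x' ∈ P, y = x * x' * x⁻¹ * x'⁻¹}
    with hSdef
  set Φ : Subgroup G := Subgroup.closure S with hΦdef
  have hΦM : Φ ≤ M := by
    rw [hΦdef, Subgroup.closure_le]
    rintro y (⟨x, hx, rfl⟩ | ⟨x, hx, x', hx', rfl⟩)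
    · exact hMpow x hx
    · exact hMcomm x hx x' hx'
  have hΦP : Φ ≤ P := le_trans hΦM hMP
  have hΦne : Φ ≠ P := fun h => hMne (le_antisymm hMP (h ▸ hΦM))
  have hnormS : ∀ g ∈ Subgroup.normalizer (P : Set G), ∀ y ∈ S, g * y * g⁻¹ ∈ S := by
    intro g hg y hy
    rcases hy with ⟨x, hx, rfl⟩ | ⟨x, hx, x', hx', rfl⟩
    · left
      exact ⟨g * x * g⁻¹, conj_mem_of_mem_normalizer hg hx, (conj_pow).symm⟩
    · right
      exact ⟨g * x * g⁻¹, conj_mem_of_mem_normalizer hg hx, g * x' * g⁻¹,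
        conj_mem_of_mem_normalizer hg hx', by group⟩
  have hnormΦ : Subgroup.normalizer (P : Set G) ≤ Subgroup.normalizer (Φ : Set G) := by
    intro g hg
    apply Subgroup.normalizer_le_normalizer_closure
    apply mem_normalizer_of_forall_conj_mem (hnormS g hg)
    have := hnormS g⁻¹ (Subgroup.inv_mem _ hg)
    simpa using this
  have hcent := hZ Φ hΦP hΦne (le_trans Subgroup.le_normalizer hnormΦ) (hnormΦ haP)
  have hCΦ := ih' Φ hΦP hΦne (hnormΦ haP)
  apply hkey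
  intro x hx
  set y : G := a * x * a⁻¹ with hydef
  have hyP : y ∈ P := conj_mem_of_mem_normalizer haP hx
  have hxiP : x⁻¹ ∈ P := P.inv_mem hx
  set c : G := x⁻¹ * y * (x⁻¹)⁻¹ * y⁻¹ with hcdef
  have hcΦ : c ∈ Φ := Subgroup.subset_closure (Or.inr ⟨x⁻¹, hxiP, y, hyP, rfl⟩)
  have h : x⁻¹ * y = c * y * x⁻¹ := by rw [hcdef]; group
  have hcy : Commute c y := hcent c hcΦ y hyP
  have hcx : Commute c x⁻¹ := hcent c hcΦ x⁻¹ hxiP
  have hpow := mul_pow_of_central h hcy hcx e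
  have hxpΦ : x ^ p ∈ Φ := Subgroup.subset_closure (Or.inl ⟨x, hx, rfl⟩)
  have hcp : c ^ p = 1 := by
    have h1 := pow_mul_of_central h hcx p
    have hxp : (x⁻¹) ^ p ∈ Φ := by rw [inv_pow]; exact Φ.inv_mem hxpΦ
    have h2 : (x⁻¹) ^ p * y = y * (x⁻¹) ^ p := hcent _ hxp y hyP
    rw [h2] at h1
    have h3 : c ^ p * (y * (x⁻¹) ^ p) = 1 * (y * (x⁻¹) ^ p) := by
      rw [one_mul, ← mul_assoc]; exact h1.symm
    exact mul_right_cancel h3
  have hcsum : c ^ (∑ i ∈ Finset.range e, i) = 1 := by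
    obtain ⟨k, hk⟩ := hsum
    rw [hk, pow_mul, hcp, one_pow]
  have hxeΦ : x ^ e ∈ Φ := by
    obtain ⟨k, hk⟩ := hpe
    rw [hk, pow_mul]
    exact Φ.pow_mem hxpΦ k
  have hyp : y ^ e = x ^ e := by
    rw [hydef, conj_pow]
    have := hCΦ (x ^ e) hxeΦ
    rw [this]; group
  have hwp : (a * x * a⁻¹ * x⁻¹) ^ e = 1 := by
    rw [← hydef, hpow, hcsum, hyp, inv_pow]; group
  exact hΩ _ (P.mul_mem hyP hxiP) hwp

end Cfsg.Agent.Helper33
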