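import Cfsg.Agent.Helper33.TransferQuotCore

set_option autoImplicit false

universe u

open scoped Pointwise commutatorElement

namespace Cfsg.Agent.Helper33

open Cfsg.Agent.Lib

variable {p : ℕ} [hp : Fact p.Prime] {𝓦 : Set (∀ (Q : Type u) [Group Q], Subgroup Q)}

omit hp in
/-- From `S ∩ G' ≤ S₀` to control of transfer. -/
theorem familyControlsTransfer_of_le {G : Type*} [Group G] {𝓦' : Set (Subgroup G → Subgroup G)}
    {S : Subgroup G} (hSp : IsPGroup p S) (hSidx : ¬ p ∣ S.index)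
    (h : S ⊓ commutator G ≤ focalTarget 𝓦' S) : Cfsg.FamilyControlsTransferIn p 𝓦' ⊤ := by
  refine ⟨S, le_top, hSp, ?_, ?_⟩
  · rw [Subgroup.relIndex_top_right]; exact hSidx
  · simp only [top_inf_eq]
    apply le_antisymm h
    refine iSup₂_le ?_
    intro W _
    exact inf_le_inf_left _ (Subgroup.commutator_mono le_top le_top)

/-- If a family of isomorphism-invariant `p`-group functors controls transfer in every constrained section
of `G`, then it controls transfer in `G`. -/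
theorem familyControlsTransfer_of_constrained_sections (h𝓦 : ∀ W ∈ 𝓦, Cfsg.IsCharPFunctor.{u} p W) :
    ∀ (n : ℕ) (G : Type u) [Group G] [Finite G], Nat.card G = n → SectionProp (CTFProp p 𝓦) G →
      Cfsg.FamilyControlsTransferIn p (FamW 𝓦 G) ⊤ := by
  intro n
  induction n using Nat.strong_induction_on with
  | _ n ih =>
  intro G _ _ hcard hsec
  have hΦ : IsoInvariant (CTFProp p 𝓦) := isoInvariant_CTFProp h𝓦
  by_cases hcon : Constrained p G
  · exact hsec.self hΦ inferInstance hcon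
  have hsub : ∀ H : Subgroup G, H ≠ ⊤ → Cfsg.FamilyControlsTransferIn p (FamW 𝓦 ↥H) ⊤ := by
    intro H hH
    have hlt : Nat.card H < n := by
      rw [← hcard]
      have := card_lt_card_of_lt' (lt_top_iff_ne_top.mpr hH)
      rwa [Subgroup.card_top] at this
    exact ih _ hlt ↥H rfl (hsec.subgroup hΦ H)
  have hquo : ∀ M : Subgroup G, [M.Normal] → M ≠ ⊥ →
      Cfsg.FamilyControlsTransferIn p (FamW 𝓦 (G ⧸ M)) ⊤ := by
    intro M _ hM
    have hlt : Nat.card (G ⧸ M) < n := by
      have h1 := Subgroup.card_eq_card_quotient_mul_card_subgroup M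
      have h2 : 1 < Nat.card M := (Subgroup.one_lt_card_iff_ne_bot M).mpr hM
      have h3 : 0 < Nat.card (G ⧸ M) := Nat.card_pos
      rw [← hcard, h1]
      nlinarith
    exact ih _ hlt (G ⧸ M) rfl (hsec.quotient hΦ M)
  obtain ⟨S⟩ : Nonempty (Sylow p G) := inferInstance
  by_cases hQ0 : Cfsg.pCore p G = ⊥
  · -- `O_p(G) = 1`: local control
    apply familyControlsTransfer_of_local (famW_isConjugacyFunctor h𝓦 G) S
    intro T hTS hT0 _
    apply familyControlsTransferIn_of_subgroup h𝓦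
    apply hsub
    intro htop
    have hTn : T.Normal := Subgroup.normalizer_eq_top_iff.mp htop
    have := le_pCore hTn (S.2.to_le hTS)
    rw [hQ0, le_bot_iff] at this
    exact hT0 this
  apply familyControlsTransfer_of_le S.2 S.not_dvd_index
  by_cases hK0 : Cfsg.pPrimeCore p G = ⊥
  swap
  · exact inf_commutator_le_of_quotient_pPrime h𝓦 (Cfsg.pPrimeCore p G) (card_pPrimeCore_coprime p)
      (hquo _ hK0) S.2 S.not_dvd_index
  have hsubT : ∀ H : Subgroup G, H ≠ ⊤ → (S : Subgroup G) ≤ H →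
      (S : Subgroup G) ⊓ ⁅H, H⁆ ≤ focalTarget (FamW 𝓦 G) (S : Subgroup G) := by
    intro H hH hSH
    exact inf_commutator_le_of_subgroup h𝓦 H (hsub H hH) hSH S.2 S.not_dvd_index
  have hStop : (S : Subgroup G) ≠ ⊤ := by
    intro htop
    apply hcon
    have hG : IsPGroup p G := by
      intro x
      obtain ⟨k, hk⟩ := S.2 ⟨x, htop ▸ Subgroup.mem_top x⟩
      exact ⟨k, congrArg Subtype.val hk⟩
    unfold Constrained
    rw [pCore_eq_top_of_isPGroup hG]
    exact le_top
  have hS' : ⁅(S : Subgroup G), (S : Subgroup G)⁆ ≤ focalTarget (FamW 𝓦 G) (S : Subgroup G) := by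
    refine le_trans ?_ (hsubT (S : Subgroup G) hStop le_rfl)
    exact le_inf (Subgroup.commutator_le_self _) le_rfl
  obtain ⟨C, hC⟩ : ∃ C : Subgroup G,
    C = Subgroup.centralizer ((Cfsg.pCore p G : Subgroup G) : Set G) := ⟨_, rfl⟩
  have hCn : C.Normal := hC ▸ Subgroup.normal_centralizer
  have hG₁ : Subgroup.normalizer (((S : Subgroup G) ⊓ C : Subgroup G) : Set G) ≠ ⊤ := by
    intro htop
    apply hcon
    have hn : ((S : Subgroup G) ⊓ C).Normal := Subgroup.normalizer_eq_top_iff.mp htop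
    rw [hC] at hn
    exact centralizer_pCore_le_of_normal_inf S hK0 hn
  have hSG₁ : (S : Subgroup G) ≤ Subgroup.normalizer (((S : Subgroup G) ⊓ C : Subgroup G) : Set G) := by
    intro s hs
    apply mem_normalizer_of_conjR_subset
    rintro _ ⟨x, hx, rfl⟩
    obtain ⟨hxS, hxC⟩ := Subgroup.mem_inf.mp hx
    refine Subgroup.mem_inf.mpr ⟨?_, ?_⟩
    · exact (S : Subgroup G).mul_mem ((S : Subgroup G).mul_mem ((S : Subgroup G).inv_mem hs) hxS) hs
    · have := hCn.conj_mem x hxC s⁻¹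
      rwa [inv_inv] at this
  by_cases hCS : C ⊔ (S : Subgroup G) = ⊤
  · -- the case `G = C S`
    have hfac : ∀ g : G, ∃ c ∈ Subgroup.centralizer ((Cfsg.pCore p G : Subgroup G) : Set G),
        ∃ s ∈ (S : Subgroup G), g = c * s := by
      intro g
      have hg : g ∈ ((C ⊔ (S : Subgroup G) : Subgroup G) : Set G) := hCS ▸ Subgroup.mem_top g
      rw [Subgroup.normal_mul] at hg
      obtain ⟨c, hc, s, hs, rfl⟩ := hg
      exact ⟨c, hC ▸ hc, s, hs, rfl⟩
    have hQS : Cfsg.pCore p G ≠ (S : Subgroup G) := by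
      intro hQS
      apply hG₁
      rw [Subgroup.normalizer_eq_top_iff, ← hQS]
      exact Subgroup.normal_inf_normal _ _
    exact inf_commutator_le_of_quotient_pCore h𝓦 S hQS hfac (hquo _ hQ0) hsubT hS'
  · -- use the focal subgroup theorem and the Frattini argument
    rw [inf_comm, Subgroup.commutator_inf_eq_focalSubgroup S, Subgroup.focalSubgroup_def,
      Subgroup.closure_le]
    rintro g ⟨hgS, x, hxS, u, rfl⟩
    have hconj : u * x * u⁻¹ ∈ (S : Subgroup G) := by
      have h1 : x⁻¹ * ⁅x, u⁆ ∈ (S : Subgroup G) := Subgroup.mul_mem _ (Subgroup.inv_mem _ hxS) hgS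
      have h2 : (x⁻¹ * ⁅x, u⁆)⁻¹ ∈ (S : Subgroup G) := Subgroup.inv_mem _ h1
      have e : (x⁻¹ * ⁅x, u⁆)⁻¹ = u * x * u⁻¹ := by
        rw [commutatorElement_def]; group
      rwa [e] at h2
    have hA₀ : Subgroup.closure ({x} : Set G) ≤ (S : Subgroup G) := by
      rw [Subgroup.closure_le]
      intro y hy
      rw [Set.mem_singleton_iff] at hy
      subst hy
      exact hxS
    have hgA : conjR u⁻¹ ({x} : Set G) ⊆ ((S : Subgroup G) : Set G) := by
      rintro _ ⟨a, ha, rfl⟩
      rw [Set.mem_singleton_iff] at ha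
      subst ha
      rw [inv_inv]
      exact hconj
    have hgA₀ := conjR_closure_subset (S := (S : Subgroup G)) hgA
    obtain ⟨c, hcC, hn, hcA⟩ := exists_frattini_fusion S C (Subgroup.closure {x}) hA₀ u⁻¹ hgA₀
    have hxc : c⁻¹ * x * c ∈ (S : Subgroup G) := hcA ⟨x, Subgroup.subset_closure rfl, rfl⟩
    -- first factor: in `(C S)'`
    have h1 : x * (c⁻¹ * x * c)⁻¹ ∈ focalTarget (FamW 𝓦 G) (S : Subgroup G) := by
      apply hsubT _ hCS le_sup_right
      refine Subgroup.mem_inf.mpr ⟨(S : Subgroup G).mul_mem hxS ((S : Subgroup G).inv_mem hxc), ?_⟩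
      have e : x * (c⁻¹ * x * c)⁻¹ = ⁅x, c⁻¹⁆ := by rw [commutatorElement_def]; group
      rw [e]
      exact Subgroup.commutator_mem_commutator ((le_sup_right : (S : Subgroup G) ≤ C ⊔ S) hxS)
        (Subgroup.inv_mem _ ((le_sup_left : C ≤ C ⊔ (S : Subgroup G)) hcC))
    -- second factor: in `N_G(S ∩ C)'`
    have h2 : (c⁻¹ * x * c) * (u * x * u⁻¹)⁻¹ ∈ focalTarget (FamW 𝓦 G) (S : Subgroup G) := by
      apply hsubT _ hG₁ hSG₁
      refine Subgroup.mem_inf.mpr ⟨(S : Subgroup G).mul_mem hxc ((S : Subgroup G).inv_mem hconj), ?_⟩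
      have e : (c⁻¹ * x * c) * (u * x * u⁻¹)⁻¹ = ⁅c⁻¹ * x * c, (c⁻¹ * u⁻¹)⁻¹⁆ := by
        rw [commutatorElement_def]; group
      rw [e]
      exact Subgroup.commutator_mem_commutator (hSG₁ hxc) (Subgroup.inv_mem _ hn)
    have e : ⁅x, u⁆ = (x * (c⁻¹ * x * c)⁻¹) * ((c⁻¹ * x * c) * (u * x * u⁻¹)⁻¹) := by
      rw [commutatorElement_def]; group
    rw [SetLike.mem_coe, e]
    exact Subgroup.mul_mem _ h1 h2

end Cfsg.Agent.Helper33
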