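import Cfsg.Agent.Helper33.TransferQuotCore2
import Cfsg.Agent.Helper33.TransferConstrainedSections

set_option autoImplicit false

universe u

open scoped Pointwise commutatorElement

namespace Cfsg.Agent.Helper33

open Cfsg.Agent.Lib

variable {p : ℕ} [hp : Fact p.Prime] {W : ∀ (Q : Type u) [Group Q], Subgroup Q}

/-- The hypothesis of the theorem: in constrained groups, `O_p(X) ∩ X' = O_p(X) ∩ N_X(W(T))'`. -/
def OpTransferProp (p : ℕ) (W : ∀ (Q : Type u) [Group Q], Subgroup Q) : ∀ (X : Type u) [Group X], Prop :=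
  fun X _ => Finite X → Constrained p X → ∀ T : Sylow p X,
    Cfsg.pCore p X ⊓ commutator X = Cfsg.pCore p X ⊓
      ⁅Subgroup.normalizer ((Cfsg.inducedFunctor (G := X) W (T : Subgroup X) : Subgroup X) : Set X),
        Subgroup.normalizer ((Cfsg.inducedFunctor (G := X) W (T : Subgroup X) : Subgroup X) : Set X)⁆

omit hp in
theorem isoInvariant_OpTransferProp [Fact p.Prime] (hW : Cfsg.IsCharPFunctor.{u} p W) :
    IsoInvariant (OpTransferProp p W) := by
  intro X Y _ _ φ h hY hcon TY
  have hX : Finite X := Finite.of_equiv Y φ.symm.toEquiv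
  obtain ⟨TX, hTX⟩ : ∃ TX : Sylow p X, (TX : Subgroup X) = (TY : Subgroup Y).comap φ.toMonoidHom :=
    ⟨TY.comapOfInjective φ.toMonoidHom φ.injective
      (by rw [MonoidHom.range_eq_top.mpr φ.surjective]; exact le_top), rfl⟩
  have hmap : (TX : Subgroup X).map φ.toMonoidHom = (TY : Subgroup Y) := by
    rw [hTX]
    exact Subgroup.map_comap_eq_self_of_surjective φ.surjective _
  have h1 := congrArg (Subgroup.map φ.toMonoidHom) (h hX (hcon.of_equiv φ.symm) TX)
  rw [Subgroup.map_inf _ _ _ φ.injective, Subgroup.map_inf _ _ _ φ.injective,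
    pCore_map_equiv_eq p φ, Subgroup.map_commutator] at h1
  unfold commutator at h1 ⊢
  rw [Subgroup.map_commutator, Subgroup.map_top_of_surjective _ φ.surjective] at h1
  have h2 : (Subgroup.normalizer ((Cfsg.inducedFunctor W (TX : Subgroup X) : Subgroup X) : Set X)).map
      φ.toMonoidHom =
      Subgroup.normalizer ((Cfsg.inducedFunctor W (TY : Subgroup Y) : Subgroup Y) : Set Y) := by
    rw [← hmap, inducedFunctor_map_equiv hW φ (TX : Subgroup X) TX.2]
    exact Subgroup.map_equiv_normalizer_eq _ φ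
  rw [h2] at h1
  exact h1

/-- The step for a constrained group: control of transfer in `Y`, given control of transfer in all smaller
groups with the section property. -/
theorem controlsTransfer_constrained_step (hW : Cfsg.IsCharPFunctor.{u} p W) (Y : Type u) [Group Y]
    [Finite Y] (hcon : Constrained p Y) (hsecY : SectionProp (OpTransferProp p W) Y)
    (ih : ∀ (Z : Type u) [Group Z] [Finite Z], Nat.card Z < Nat.card Y →
      SectionProp (OpTransferProp p W) Z → Cfsg.FamilyControlsTransferIn p (FamW {W} Z) ⊤) :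
    Cfsg.FamilyControlsTransferIn p (FamW {W} Y) ⊤ := by
  have h𝓦 : ∀ W' ∈ ({W} : Set (∀ (Q : Type u) [Group Q], Subgroup Q)),
      Cfsg.IsCharPFunctor.{u} p W' := by
    intro W' hW'
    rw [Set.mem_singleton_iff] at hW'
    rw [hW']; exact hW
  have hΦ := isoInvariant_OpTransferProp hW
  obtain ⟨S⟩ : Nonempty (Sylow p Y) := inferInstance
  apply familyControlsTransfer_of_le S.2 S.not_dvd_index
  have hHyp := hsecY.self hΦ inferInstance hcon S
  have hQleS : Cfsg.pCore p Y ≤ (S : Subgroup Y) := pCore_le_sylow S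
  have hQG : Cfsg.pCore p Y ⊓ commutator Y ≤ focalTarget (FamW {W} Y) (S : Subgroup Y) := by
    rw [hHyp]
    unfold focalTarget
    refine le_iSup₂_of_le (Cfsg.inducedFunctor (G := Y) W) ⟨W, rfl, rfl⟩ ?_
    exact inf_le_inf_right _ hQleS
  by_cases hQS : Cfsg.pCore p Y = (S : Subgroup Y)
  · calc (S : Subgroup Y) ⊓ commutator Y = Cfsg.pCore p Y ⊓ commutator Y := by rw [hQS]
      _ ≤ _ := hQG
  · have hsubT : ∀ H : Subgroup Y, H ≠ ⊤ → (S : Subgroup Y) ≤ H →
        (S : Subgroup Y) ⊓ ⁅H, H⁆ ≤ focalTarget (FamW {W} Y) (S : Subgroup Y) := by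
      intro H hH hSH
      have hlt : Nat.card H < Nat.card Y := by
        have := card_lt_card_of_lt' (lt_top_iff_ne_top.mpr hH)
        rwa [Subgroup.card_top] at this
      exact inf_commutator_le_of_subgroup h𝓦 H (ih ↥H hlt (hsecY.subgroup hΦ H)) hSH S.2
        S.not_dvd_index
    have hQ0 : Cfsg.pCore p Y ≠ ⊥ := by
      intro h0
      apply hQS
      have htop : (⊤ : Subgroup Y) ≤ ⊥ := by
        have := hcon
        unfold Constrained at this
        rw [h0] at this
        refine le_trans ?_ this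
        intro y _
        rw [Subgroup.mem_centralizer_iff]
        intro z hz
        have : z = 1 := hz
        rw [this, one_mul, mul_one]
      rw [h0]
      exact (le_bot_iff.mp (le_trans le_top htop)).symm
    have hquot : Cfsg.FamilyControlsTransferIn p (FamW {W} (Y ⧸ Cfsg.pCore p Y)) ⊤ := by
      have hlt : Nat.card (Y ⧸ Cfsg.pCore p Y) < Nat.card Y := by
        have h1 := Subgroup.card_eq_card_quotient_mul_card_subgroup (Cfsg.pCore p Y)
        have h2 : 1 < Nat.card (Cfsg.pCore p Y) := (Subgroup.one_lt_card_iff_ne_bot _).mpr hQ0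
        have h3 : 0 < Nat.card (Y ⧸ Cfsg.pCore p Y) := Nat.card_pos
        rw [h1]
        nlinarith
      exact ih _ hlt (hsecY.quotient hΦ _)
    exact inf_commutator_le_of_quotient_pCore' h𝓦 S hQS hquot hsubT hQG

/-- If `O_p(X) ∩ X' = O_p(X) ∩ N_X(W(T))'` in all constrained sections, then `W` controls transfer. -/
theorem controlsTransfer_of_pCore_condition (hW : Cfsg.IsCharPFunctor.{u} p W) :
    ∀ (n : ℕ) (X : Type u) [Group X] [Finite X], Nat.card X = n →
      SectionProp (OpTransferProp p W) X → Cfsg.FamilyControlsTransferIn p (FamW {W} X) ⊤ := by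
  intro n
  induction n using Nat.strong_induction_on with
  | _ n ih =>
  intro X _ _ hcard hsec
  have h𝓦 : ∀ W' ∈ ({W} : Set (∀ (Q : Type u) [Group Q], Subgroup Q)),
      Cfsg.IsCharPFunctor.{u} p W' := by
    intro W' hW'
    rw [Set.mem_singleton_iff] at hW'
    rw [hW']; exact hW
  have hΦ := isoInvariant_OpTransferProp hW
  apply familyControlsTransfer_of_constrained_sections h𝓦 _ X rfl
  intro K R _ hfin hcon
  have := hfin
  have hsecY : SectionProp (OpTransferProp p W) (↥K ⧸ R.subgroupOf K) :=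
    (hsec.subgroup hΦ K).quotient hΦ (R.subgroupOf K)
  have hcardY : Nat.card (↥K ⧸ R.subgroupOf K) ≤ n := by
    rw [← hcard]
    calc Nat.card (↥K ⧸ R.subgroupOf K) ≤ Nat.card ↥K :=
          Nat.le_of_dvd Nat.card_pos (Subgroup.card_quotient_dvd_card _)
      _ ≤ Nat.card X := Subgroup.card_le_card_group K
  apply controlsTransfer_constrained_step hW _ hcon hsecY
  intro Z _ _ hlt hsecZ
  exact ih _ (lt_of_lt_of_le hlt hcardY) Z rfl hsecZ

end Cfsg.Agent.Helper33
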