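import Mathlib
import Cfsg.Agent.Helper62.Ore.Defs

/-!
# Helper33: piece (GAM) of helper62's S2444 farm: the compression `Γ` has a one-dimensional kernel,
disjoint from its range.
-/

set_option autoImplicit false

namespace Cfsg.Agent.Helper33.Ore

open Polynomial Module Cfsg.Agent.Helper62.Ore

variable {F : Type*} [Field F] {V : Type*} [AddCommGroup V] [Module F V]

/-- (GAM) the compression `Γ` has a one-dimensional kernel, disjoint from its range. -/
theorem Gamma_props [FiniteDimensional F V] (A : V ≃ₗ[F] V) (ε : Module.Dual F V) (z : V) (s : F)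
    (hs : s ≠ 0) (hz : ε (A.symm z) = s) (hz0 : ε z = 0) (hz1 : ε (A z) ≠ 0) :
    finrank F (LinearMap.ker (GammaMap A ε z s hs hz)) = 1 ∧
    Disjoint (LinearMap.ker (GammaMap A ε z s hs hz)) (LinearMap.range (GammaMap A ε z s hs hz)) := by
  have hzne : z ≠ 0 := by
    rintro rfl
    rw [map_zero, map_zero] at hz
    exact hs hz.symm
  let z' : ↥(LinearMap.ker ε) := ⟨z, LinearMap.mem_ker.mpr hz0⟩
  have hz'coe : (z' : V) = z := rfl
  have hz'ne : z' ≠ 0 := fun h => hzne (congrArg Subtype.val h)
  have hΓz : GammaMap A ε z s hs hz z' = 0 := by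
    apply Subtype.ext
    rw [GammaMap_coe, PiMap_apply, hz'coe, hz, inv_mul_cancel₀ hs, one_smul, sub_self, map_zero]
    rfl
  have hker : LinearMap.ker (GammaMap A ε z s hs hz) = Submodule.span F {z'} := by
    apply le_antisymm
    · intro h hh
      rw [LinearMap.mem_ker] at hh
      have h1 : PiMap A ε z s (h : V) = 0 := by
        rw [← GammaMap_coe A ε z s hs hz h, hh]
        rfl
      rw [PiMap_apply] at h1
      have h2 : (h : V) - (s⁻¹ * ε (A.symm (h : V))) • z = 0 := by
        have := congrArg A h1
        rwa [LinearEquiv.apply_symm_apply, map_zero] at this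
      rw [Submodule.mem_span_singleton]
      refine ⟨s⁻¹ * ε (A.symm (h : V)), ?_⟩
      apply Subtype.ext
      rw [Submodule.coe_smul, hz'coe]
      exact (sub_eq_zero.mp h2).symm
    · rw [Submodule.span_singleton_le_iff_mem]
      exact LinearMap.mem_ker.mpr hΓz
  constructor
  · rw [hker]
    exact finrank_span_singleton hz'ne
  · rw [Submodule.disjoint_def]
    intro x hx1 hx2
    rw [hker, Submodule.mem_span_singleton] at hx1
    obtain ⟨c, rfl⟩ := hx1
    obtain ⟨h, hh⟩ := hx2
    have h1 : PiMap A ε z s (h : V) = c • z := by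
      rw [← GammaMap_coe A ε z s hs hz h, hh]
      rfl
    rw [PiMap_apply] at h1
    have h2 : (h : V) - (s⁻¹ * ε (A.symm (h : V))) • z = c • A z := by
      have := congrArg A h1
      rwa [LinearEquiv.apply_symm_apply, map_smul] at this
    have h3 := congrArg ε h2
    rw [map_sub, map_smul, map_smul, hz0, smul_zero, sub_zero,
      (LinearMap.mem_ker.mp h.2 : ε (h : V) = 0), smul_eq_mul] at h3
    have hc : c = 0 := by
      rcases mul_eq_zero.mp h3.symm with h | h
      · exact h
      · exact absurd h hz1
    rw [hc, zero_smul]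

end Cfsg.Agent.Helper33.Ore
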