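import Mathlib
import Cfsg.Agent.Helper38.Cov2P5.Defs

/-!
# Helper33: leaf (RC) of helper38's S2500 part (5) farm: conjugates of regular unipotent matrices
are regular unipotent.
-/

set_option autoImplicit false

namespace Cfsg.Agent.Helper33.P5

open Matrix Polynomial Module Cfsg.Agent.S2587 Cfsg.Agent.S2578 Cfsg.Agent.Helper45.GU
  Cfsg.Agent.Helper38.Cov2

variable {F : Type*} [Field F] [Fintype F] {q : ℕ}

/-- (RC) conjugates of regular unipotent matrices are regular unipotent -/
theorem isRegUnipMat_of_conj (P P' B : Matrix (Fin 3) (Fin 3) F) (h1 : P * P' = 1)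
    (h2 : P' * P = 1) (hB : IsRegUnipMat B) : IsRegUnipMat (P * B * P') :=
  isRegUnipMat_conj (⟨P, P', h1, h2⟩ : GL (Fin 3) F) hB

end Cfsg.Agent.Helper33.P5
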