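import Mathlib

/-!
# Helper33: leaf (RK) of helper38's S2500 part (5) farm: `D S = S' D` with `S' - S` invertible
forces `rank (D - 1) ≥ 2` (3 × 3 matrices).
-/

set_option autoImplicit false

namespace Cfsg.Agent.Helper33.P5

open Matrix Polynomial Module

variable {F : Type*} [Field F] [Fintype F] {q : ℕ}

omit [Fintype F] in
/-- subadditivity of the rank for a difference -/
theorem RK_rank_sub_le (A B : Matrix (Fin 3) (Fin 3) F) : (A - B).rank ≤ A.rank + B.rank := by
  unfold Matrix.rank
  have hle : LinearMap.range (A - B).mulVecLin ≤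
      LinearMap.range A.mulVecLin ⊔ LinearMap.range B.mulVecLin := by
    rintro _ ⟨v, rfl⟩
    rw [Matrix.mulVecLin_apply, Matrix.sub_mulVec, sub_eq_add_neg]
    refine Submodule.add_mem_sup ⟨v, rfl⟩ (Submodule.neg_mem _ ⟨v, rfl⟩)
  calc finrank F (LinearMap.range (A - B).mulVecLin)
      ≤ finrank F ↥(LinearMap.range A.mulVecLin ⊔ LinearMap.range B.mulVecLin) :=
        Submodule.finrank_mono hle
    _ ≤ _ := Submodule.finrank_add_le_finrank_add_finrank _ _

/-- (RK) `D S = S' D` with `S' - S` invertible forces `rank (D - 1) ≥ 2` -/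
theorem two_le_rank_sub_one (D S S' : Matrix (Fin 3) (Fin 3) F) (h : D * S = S' * D)
    (hu : IsUnit (S' - S).det) : 2 ≤ (D - 1).rank := by
  have hid : (D - 1) * S - S' * (D - 1) = S' - S := by
    rw [sub_mul, mul_sub, one_mul, mul_one, h]
    abel
  have h3 : (S' - S).rank = 3 := by
    rw [Matrix.rank_of_isUnit _ ((Matrix.isUnit_iff_isUnit_det _).mpr hu), Fintype.card_fin]
  have h1 := RK_rank_sub_le ((D - 1) * S) (S' * (D - 1))
  rw [hid, h3] at h1
  have h4 := Matrix.rank_mul_le_left (D - 1) S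
  have h5 := Matrix.rank_mul_le_right S' (D - 1)
  omega

end Cfsg.Agent.Helper33.P5
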