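import Mathlib
import Cfsg.Prelude.Def_Classical

/-!
# (L2) elements of orders `30` and `14` in `PSp(6,3)` (for helper86's S3664)

Explicit matrices in block form `fromBlocks A B C D` with `3 × 3` blocks over `ZMod 3`; all products are
evaluated block by block by `decide`.
-/

set_option autoImplicit false

namespace Cfsg.Agent.Helper33.PG63

open Matrix

/-- `3 × 3` matrices over the field with three elements -/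
abbrev M3 := Matrix (Fin 3) (Fin 3) (ZMod 3)

/-- the symplectic group `Sp(6,3)` -/
abbrev Sp63 := Matrix.symplecticGroup (Fin 3) (ZMod 3)

theorem L2_blk_mul (A B C D A' B' C' D' A'' B'' C'' D'' : M3)
    (hA : A * A' + B * C' = A'') (hB : A * B' + B * D' = B'')
    (hC : C * A' + D * C' = C'') (hD : C * B' + D * D' = D'') :
    fromBlocks A B C D * fromBlocks A' B' C' D' = fromBlocks A'' B'' C'' D'' := by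
  rw [Matrix.fromBlocks_multiply, hA, hB, hC, hD]

theorem L2_mem_sp (A B C D : M3)
    (h1 : (A * 0 + B * 1) * Aᵀ + (A * -1 + B * 0) * Bᵀ = 0)
    (h2 : (A * 0 + B * 1) * Cᵀ + (A * -1 + B * 0) * Dᵀ = -1)
    (h3 : (C * 0 + D * 1) * Aᵀ + (C * -1 + D * 0) * Bᵀ = 1)
    (h4 : (C * 0 + D * 1) * Cᵀ + (C * -1 + D * 0) * Dᵀ = 0) :
    fromBlocks A B C D ∈ Matrix.symplecticGroup (Fin 3) (ZMod 3) := by
  rw [SymplecticGroup.mem_iff]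
  unfold Matrix.J
  rw [Matrix.fromBlocks_transpose, Matrix.fromBlocks_multiply, Matrix.fromBlocks_multiply,
    h1, h2, h3, h4]

/-- a symplectic matrix of order `30` -/
def m30 : Matrix (Fin 3 ⊕ Fin 3) (Fin 3 ⊕ Fin 3) (ZMod 3) :=
  fromBlocks (!![2,0,0;0,0,0;1,0,1] : M3) !![0,1,1;0,1,0;2,0,0] !![0,0,2;0,2,1;1,0,0] !![0,0,0;0,0,0;0,0,0]

/-- a symplectic matrix of order `28` whose `14`-th power is `-1` -/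
def m28 : Matrix (Fin 3 ⊕ Fin 3) (Fin 3 ⊕ Fin 3) (ZMod 3) :=
  fromBlocks (!![2,0,0;0,0,0;2,1,0] : M3) !![2,2,0;0,0,2;0,1,0] !![1,0,0;0,0,1;0,0,0] !![0,0,0;0,0,0;0,1,0]

/-- a symplectic transvection used as a non-commuting witness -/
def mH : Matrix (Fin 3 ⊕ Fin 3) (Fin 3 ⊕ Fin 3) (ZMod 3) :=
  fromBlocks (!![1,0,0;0,1,0;0,0,1] : M3) !![0,0,0;0,0,0;0,0,1] !![0,0,0;0,0,0;0,0,0] !![1,0,0;0,1,0;0,0,1]

theorem m30_mem : m30 ∈ Matrix.symplecticGroup (Fin 3) (ZMod 3) :=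
  L2_mem_sp _ _ _ _ (by decide +kernel) (by decide +kernel) (by decide +kernel) (by decide +kernel)

theorem m28_mem : m28 ∈ Matrix.symplecticGroup (Fin 3) (ZMod 3) :=
  L2_mem_sp _ _ _ _ (by decide +kernel) (by decide +kernel) (by decide +kernel) (by decide +kernel)

theorem mH_mem : mH ∈ Matrix.symplecticGroup (Fin 3) (ZMod 3) :=
  L2_mem_sp _ _ _ _ (by decide +kernel) (by decide +kernel) (by decide +kernel) (by decide +kernel)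

theorem m30_mul_1_1 :
    fromBlocks (!![2,0,0;0,0,0;1,0,1] : M3) !![0,1,1;0,1,0;2,0,0] !![0,0,2;0,2,1;1,0,0] !![0,0,0;0,0,0;0,0,0] *
      fromBlocks (!![2,0,0;0,0,0;1,0,1] : M3) !![0,1,1;0,1,0;2,0,0] !![0,0,2;0,2,1;1,0,0] !![0,0,0;0,0,0;0,0,0] =
      fromBlocks (!![2,2,1;0,2,1;0,0,2] : M3) !![0,2,2;0,0,0;2,1,1] !![2,0,2;1,0,1;2,0,0] !![1,0,0;2,2,0;0,1,1] :=
  L2_blk_mul _ _ _ _ _ _ _ _ _ _ _ _ (by decide +kernel) (by decide +kernel) (by decide +kernel)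
    (by decide +kernel)

theorem m30_mul_2_1 :
    fromBlocks (!![2,2,1;0,2,1;0,0,2] : M3) !![0,2,2;0,0,0;2,1,1] !![2,0,2;1,0,1;2,0,0] !![1,0,0;2,2,0;0,1,1] *
      fromBlocks (!![2,0,0;0,0,0;1,0,1] : M3) !![0,1,1;0,1,0;2,0,0] !![0,0,2;0,2,1;1,0,0] !![0,0,0;0,0,0;0,0,0] =
      fromBlocks (!![1,1,0;1,0,1;0,2,1] : M3) !![2,1,2;2,2,0;1,0,0] !![0,0,1;0,1,1;2,2,1] !![1,2,2;2,1,1;0,2,2] :=
  L2_blk_mul _ _ _ _ _ _ _ _ _ _ _ _ (by decide +kernel) (by decide +kernel) (by decide +kernel)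
    (by decide +kernel)

theorem m30_mul_3_2 :
    fromBlocks (!![1,1,0;1,0,1;0,2,1] : M3) !![2,1,2;2,2,0;1,0,0] !![0,0,1;0,1,1;2,2,1] !![1,2,2;2,1,1;0,2,2] *
      fromBlocks (!![2,2,1;0,2,1;0,0,2] : M3) !![0,2,2;0,0,0;2,1,1] !![2,0,2;1,0,1;2,0,0] !![1,0,0;2,2,0;0,1,1] =
      fromBlocks (!![2,1,1;2,2,0;2,1,0] : M3) !![1,0,1;2,1,0;0,1,1] !![2,0,0;1,2,2;1,2,2] !![1,1,0;0,1,2;0,2,1] :=
  L2_blk_mul _ _ _ _ _ _ _ _ _ _ _ _ (by decide +kernel) (by decide +kernel) (by decide +kernel)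
    (by decide +kernel)

theorem m30_mul_3_3 :
    fromBlocks (!![1,1,0;1,0,1;0,2,1] : M3) !![2,1,2;2,2,0;1,0,0] !![0,0,1;0,1,1;2,2,1] !![1,2,2;2,1,1;0,2,2] *
      fromBlocks (!![1,1,0;1,0,1;0,2,1] : M3) !![2,1,2;2,2,0;1,0,0] !![0,0,1;0,1,1;2,2,1] !![1,2,2;2,1,1;0,2,2] =
      fromBlocks (!![0,0,0;1,2,2;2,2,1] : M3) !![2,0,2;0,1,2;0,0,2] !![1,2,0;0,2,0;2,1,1] !![0,2,2;1,0,1;1,0,1] :=
  L2_blk_mul _ _ _ _ _ _ _ _ _ _ _ _ (by decide +kernel) (by decide +kernel) (by decide +kernel)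
    (by decide +kernel)

theorem m30_mul_5_5 :
    fromBlocks (!![2,1,1;2,2,0;2,1,0] : M3) !![1,0,1;2,1,0;0,1,1] !![2,0,0;1,2,2;1,2,2] !![1,1,0;0,1,2;0,2,1] *
      fromBlocks (!![2,1,1;2,2,0;2,1,0] : M3) !![1,0,1;2,1,0;0,1,1] !![2,0,0;1,2,2;1,2,2] !![1,1,0;0,1,2;0,2,1] =
      fromBlocks (!![2,1,1;1,2,1;2,2,0] : M3) !![2,2,1;2,2,1;1,1,2] !![1,1,1;1,1,1;1,1,1] !![0,2,1;2,0,1;2,2,2] :=
  L2_blk_mul _ _ _ _ _ _ _ _ _ _ _ _ (by decide +kernel) (by decide +kernel) (by decide +kernel)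
    (by decide +kernel)

theorem m30_mul_10_5 :
    fromBlocks (!![2,1,1;1,2,1;2,2,0] : M3) !![2,2,1;2,2,1;1,1,2] !![1,1,1;1,1,1;1,1,1] !![0,2,1;2,0,1;2,2,2] *
      fromBlocks (!![2,1,1;2,2,0;2,1,0] : M3) !![1,0,1;2,1,0;0,1,1] !![2,0,0;1,2,2;1,2,2] !![1,1,0;0,1,2;0,2,1] =
      fromBlocks (!![0,2,2;0,0,1;1,0,2] : M3) !![0,2,2;1,0,1;1,2,0] !![0,1,1;2,0,0;2,0,0] !![0,0,1;2,0,0;2,1,2] :=
  L2_blk_mul _ _ _ _ _ _ _ _ _ _ _ _ (by decide +kernel) (by decide +kernel) (by decide +kernel)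
    (by decide +kernel)

theorem m30_mul_15_15 :
    fromBlocks (!![0,2,2;0,0,1;1,0,2] : M3) !![0,2,2;1,0,1;1,2,0] !![0,1,1;2,0,0;2,0,0] !![0,0,1;2,0,0;2,1,2] *
      fromBlocks (!![0,2,2;0,0,1;1,0,2] : M3) !![0,2,2;1,0,1;1,2,0] !![0,1,1;2,0,0;2,0,0] !![0,0,1;2,0,0;2,1,2] =
      fromBlocks (!![1,0,0;0,1,0;0,0,1] : M3) !![0,0,0;0,0,0;0,0,0] !![0,0,0;0,0,0;0,0,0] !![1,0,0;0,1,0;0,0,1] :=
  L2_blk_mul _ _ _ _ _ _ _ _ _ _ _ _ (by decide +kernel) (by decide +kernel) (by decide +kernel)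
    (by decide +kernel)

theorem m28_mul_1_1 :
    fromBlocks (!![2,0,0;0,0,0;2,1,0] : M3) !![2,2,0;0,0,2;0,1,0] !![1,0,0;0,0,1;0,0,0] !![0,0,0;0,0,0;0,1,0] *
      fromBlocks (!![2,0,0;0,0,0;2,1,0] : M3) !![2,2,0;0,0,2;0,1,0] !![1,0,0;0,0,1;0,0,0] !![0,0,0;0,0,0;0,1,0] =
      fromBlocks (!![0,0,2;0,0,0;1,0,1] : M3) !![1,1,0;0,2,0;1,1,2] !![2,0,0;2,1,0;0,0,1] !![2,2,0;0,1,0;0,0,0] :=
  L2_blk_mul _ _ _ _ _ _ _ _ _ _ _ _ (by decide +kernel) (by decide +kernel) (by decide +kernel)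
    (by decide +kernel)

theorem m28_mul_2_1 :
    fromBlocks (!![0,0,2;0,0,0;1,0,1] : M3) !![1,1,0;0,2,0;1,1,2] !![2,0,0;2,1,0;0,0,1] !![2,2,0;0,1,0;0,0,0] *
      fromBlocks (!![2,0,0;0,0,0;2,1,0] : M3) !![2,2,0;0,0,2;0,1,0] !![1,0,0;0,0,1;0,0,0] !![0,0,0;0,0,0;0,1,0] =
      fromBlocks (!![2,2,1;0,0,2;2,1,1] : M3) !![0,2,0;0,0,0;2,2,0] !![0,0,2;1,0,1;2,1,0] !![1,1,0;1,1,2;0,1,0] :=
  L2_blk_mul _ _ _ _ _ _ _ _ _ _ _ _ (by decide +kernel) (by decide +kernel) (by decide +kernel)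
    (by decide +kernel)

theorem m28_mul_3_3 :
    fromBlocks (!![2,2,1;0,0,2;2,1,1] : M3) !![0,2,0;0,0,0;2,2,0] !![0,0,2;1,0,1;2,1,0] !![1,1,0;1,1,2;0,1,0] *
      fromBlocks (!![2,2,1;0,0,2;2,1,1] : M3) !![0,2,0;0,0,0;2,2,0] !![0,0,2;1,0,1;2,1,0] !![1,1,0;1,1,2;0,1,0] =
      fromBlocks (!![2,2,0;1,2,2;2,2,2] : M3) !![1,2,1;1,1,0;0,1,1] !![2,2,2;0,2,2;2,1,2] !![0,0,2;1,2,2;1,2,2] :=
  L2_blk_mul _ _ _ _ _ _ _ _ _ _ _ _ (by decide +kernel) (by decide +kernel) (by decide +kernel)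
    (by decide +kernel)

theorem m28_mul_6_1 :
    fromBlocks (!![2,2,0;1,2,2;2,2,2] : M3) !![1,2,1;1,1,0;0,1,1] !![2,2,2;0,2,2;2,1,2] !![0,0,2;1,2,2;1,2,2] *
      fromBlocks (!![2,0,0;0,0,0;2,1,0] : M3) !![2,2,0;0,0,2;0,1,0] !![1,0,0;0,0,1;0,0,0] !![0,0,0;0,0,0;0,1,0] =
      fromBlocks (!![2,0,2;1,2,1;2,2,1] : M3) !![1,2,1;2,1,1;1,1,1] !![2,2,0;2,2,2;0,2,2] !![1,2,1;0,1,1;1,2,2] :=
  L2_blk_mul _ _ _ _ _ _ _ _ _ _ _ _ (by decide +kernel) (by decide +kernel) (by decide +kernel)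
    (by decide +kernel)

theorem m28_mul_7_7 :
    fromBlocks (!![2,0,2;1,2,1;2,2,1] : M3) !![1,2,1;2,1,1;1,1,1] !![2,2,0;2,2,2;0,2,2] !![1,2,1;0,1,1;1,2,2] *
      fromBlocks (!![2,0,2;1,2,1;2,2,1] : M3) !![1,2,1;2,1,1;1,1,1] !![2,2,0;2,2,2;0,2,2] !![1,2,1;0,1,1;1,2,2] =
      fromBlocks (!![2,0,0;0,2,0;0,0,2] : M3) !![0,0,0;0,0,0;0,0,0] !![0,0,0;0,0,0;0,0,0] !![2,0,0;0,2,0;0,0,2] :=
  L2_blk_mul _ _ _ _ _ _ _ _ _ _ _ _ (by decide +kernel) (by decide +kernel) (by decide +kernel)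
    (by decide +kernel)

theorem m30_pow_2 : m30 ^ 2 = fromBlocks (!![2,2,1;0,2,1;0,0,2] : M3) !![0,2,2;0,0,0;2,1,1] !![2,0,2;1,0,1;2,0,0] !![1,0,0;2,2,0;0,1,1] := by
  rw [pow_two]
  exact m30_mul_1_1

theorem m30_pow_3 : m30 ^ 3 = fromBlocks (!![1,1,0;1,0,1;0,2,1] : M3) !![2,1,2;2,2,0;1,0,0] !![0,0,1;0,1,1;2,2,1] !![1,2,2;2,1,1;0,2,2] := by
  rw [pow_succ, m30_pow_2]
  exact m30_mul_2_1

theorem m30_pow_5 : m30 ^ 5 = fromBlocks (!![2,1,1;2,2,0;2,1,0] : M3) !![1,0,1;2,1,0;0,1,1] !![2,0,0;1,2,2;1,2,2] !![1,1,0;0,1,2;0,2,1] := by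
  rw [show (5 : ℕ) = 3 + 2 from rfl, pow_add, m30_pow_3, m30_pow_2]
  exact m30_mul_3_2

theorem m30_pow_6 : m30 ^ 6 = fromBlocks (!![0,0,0;1,2,2;2,2,1] : M3) !![2,0,2;0,1,2;0,0,2] !![1,2,0;0,2,0;2,1,1] !![0,2,2;1,0,1;1,0,1] := by
  rw [show (6 : ℕ) = 3 + 3 from rfl, pow_add, m30_pow_3]
  exact m30_mul_3_3

theorem m30_pow_10 : m30 ^ 10 = fromBlocks (!![2,1,1;1,2,1;2,2,0] : M3) !![2,2,1;2,2,1;1,1,2] !![1,1,1;1,1,1;1,1,1] !![0,2,1;2,0,1;2,2,2] := by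
  rw [show (10 : ℕ) = 5 + 5 from rfl, pow_add, m30_pow_5]
  exact m30_mul_5_5

theorem m30_pow_15 : m30 ^ 15 = fromBlocks (!![0,2,2;0,0,1;1,0,2] : M3) !![0,2,2;1,0,1;1,2,0] !![0,1,1;2,0,0;2,0,0] !![0,0,1;2,0,0;2,1,2] := by
  rw [show (15 : ℕ) = 10 + 5 from rfl, pow_add, m30_pow_10, m30_pow_5]
  exact m30_mul_10_5

theorem m30_pow_30 : m30 ^ 30 = fromBlocks (!![1,0,0;0,1,0;0,0,1] : M3) !![0,0,0;0,0,0;0,0,0] !![0,0,0;0,0,0;0,0,0] !![1,0,0;0,1,0;0,0,1] := by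
  rw [show (30 : ℕ) = 15 + 15 from rfl, pow_add, m30_pow_15]
  exact m30_mul_15_15

theorem m28_pow_2 : m28 ^ 2 = fromBlocks (!![0,0,2;0,0,0;1,0,1] : M3) !![1,1,0;0,2,0;1,1,2] !![2,0,0;2,1,0;0,0,1] !![2,2,0;0,1,0;0,0,0] := by
  rw [pow_two]
  exact m28_mul_1_1

theorem m28_pow_3 : m28 ^ 3 = fromBlocks (!![2,2,1;0,0,2;2,1,1] : M3) !![0,2,0;0,0,0;2,2,0] !![0,0,2;1,0,1;2,1,0] !![1,1,0;1,1,2;0,1,0] := by
  rw [pow_succ, m28_pow_2]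
  exact m28_mul_2_1

theorem m28_pow_6 : m28 ^ 6 = fromBlocks (!![2,2,0;1,2,2;2,2,2] : M3) !![1,2,1;1,1,0;0,1,1] !![2,2,2;0,2,2;2,1,2] !![0,0,2;1,2,2;1,2,2] := by
  rw [show (6 : ℕ) = 3 + 3 from rfl, pow_add, m28_pow_3]
  exact m28_mul_3_3

theorem m28_pow_7 : m28 ^ 7 = fromBlocks (!![2,0,2;1,2,1;2,2,1] : M3) !![1,2,1;2,1,1;1,1,1] !![2,2,0;2,2,2;0,2,2] !![1,2,1;0,1,1;1,2,2] := by
  rw [pow_succ, m28_pow_6]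
  exact m28_mul_6_1

theorem m28_pow_14 : m28 ^ 14 = fromBlocks (!![2,0,0;0,2,0;0,0,2] : M3) !![0,0,0;0,0,0;0,0,0] !![0,0,0;0,0,0;0,0,0] !![2,0,0;0,2,0;0,0,2] := by
  rw [show (14 : ℕ) = 7 + 7 from rfl, pow_add, m28_pow_7]
  exact m28_mul_7_7

theorem mH_mul_m30_6 :
    fromBlocks (!![1,0,0;0,1,0;0,0,1] : M3) !![0,0,0;0,0,0;0,0,1] !![0,0,0;0,0,0;0,0,0] !![1,0,0;0,1,0;0,0,1] *
      fromBlocks (!![0,0,0;1,2,2;2,2,1] : M3) !![2,0,2;0,1,2;0,0,2] !![1,2,0;0,2,0;2,1,1] !![0,2,2;1,0,1;1,0,1] =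
      fromBlocks (!![0,0,0;1,2,2;1,0,2] : M3) !![2,0,2;0,1,2;1,0,0] !![1,2,0;0,2,0;2,1,1] !![0,2,2;1,0,1;1,0,1] :=
  L2_blk_mul _ _ _ _ _ _ _ _ _ _ _ _ (by decide +kernel) (by decide +kernel) (by decide +kernel)
    (by decide +kernel)

theorem m30_6_mul_mH :
    fromBlocks (!![0,0,0;1,2,2;2,2,1] : M3) !![2,0,2;0,1,2;0,0,2] !![1,2,0;0,2,0;2,1,1] !![0,2,2;1,0,1;1,0,1] *
      fromBlocks (!![1,0,0;0,1,0;0,0,1] : M3) !![0,0,0;0,0,0;0,0,1] !![0,0,0;0,0,0;0,0,0] !![1,0,0;0,1,0;0,0,1] =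
      fromBlocks (!![0,0,0;1,2,2;2,2,1] : M3) !![2,0,2;0,1,1;0,0,0] !![1,2,0;0,2,0;2,1,1] !![0,2,2;1,0,1;1,0,2] :=
  L2_blk_mul _ _ _ _ _ _ _ _ _ _ _ _ (by decide +kernel) (by decide +kernel) (by decide +kernel)
    (by decide +kernel)

theorem m30_6_ne : fromBlocks (!![1,0,0;0,1,0;0,0,1] : M3) !![0,0,0;0,0,0;0,0,1] !![0,0,0;0,0,0;0,0,0] !![1,0,0;0,1,0;0,0,1] *
      fromBlocks (!![0,0,0;1,2,2;2,2,1] : M3) !![2,0,2;0,1,2;0,0,2] !![1,2,0;0,2,0;2,1,1] !![0,2,2;1,0,1;1,0,1] ≠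
    fromBlocks (!![0,0,0;1,2,2;2,2,1] : M3) !![2,0,2;0,1,2;0,0,2] !![1,2,0;0,2,0;2,1,1] !![0,2,2;1,0,1;1,0,1] *
      fromBlocks (!![1,0,0;0,1,0;0,0,1] : M3) !![0,0,0;0,0,0;0,0,1] !![0,0,0;0,0,0;0,0,0] !![1,0,0;0,1,0;0,0,1] := by
  rw [mH_mul_m30_6, m30_6_mul_mH, Ne, Matrix.fromBlocks_inj]
  decide +kernel

theorem mH_mul_m30_10 :
    fromBlocks (!![1,0,0;0,1,0;0,0,1] : M3) !![0,0,0;0,0,0;0,0,1] !![0,0,0;0,0,0;0,0,0] !![1,0,0;0,1,0;0,0,1] *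
      fromBlocks (!![2,1,1;1,2,1;2,2,0] : M3) !![2,2,1;2,2,1;1,1,2] !![1,1,1;1,1,1;1,1,1] !![0,2,1;2,0,1;2,2,2] =
      fromBlocks (!![2,1,1;1,2,1;0,0,1] : M3) !![2,2,1;2,2,1;0,0,1] !![1,1,1;1,1,1;1,1,1] !![0,2,1;2,0,1;2,2,2] :=
  L2_blk_mul _ _ _ _ _ _ _ _ _ _ _ _ (by decide +kernel) (by decide +kernel) (by decide +kernel)
    (by decide +kernel)

theorem m30_10_mul_mH :
    fromBlocks (!![2,1,1;1,2,1;2,2,0] : M3) !![2,2,1;2,2,1;1,1,2] !![1,1,1;1,1,1;1,1,1] !![0,2,1;2,0,1;2,2,2] *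
      fromBlocks (!![1,0,0;0,1,0;0,0,1] : M3) !![0,0,0;0,0,0;0,0,1] !![0,0,0;0,0,0;0,0,0] !![1,0,0;0,1,0;0,0,1] =
      fromBlocks (!![2,1,1;1,2,1;2,2,0] : M3) !![2,2,2;2,2,2;1,1,2] !![1,1,1;1,1,1;1,1,1] !![0,2,2;2,0,2;2,2,0] :=
  L2_blk_mul _ _ _ _ _ _ _ _ _ _ _ _ (by decide +kernel) (by decide +kernel) (by decide +kernel)
    (by decide +kernel)

theorem m30_10_ne : fromBlocks (!![1,0,0;0,1,0;0,0,1] : M3) !![0,0,0;0,0,0;0,0,1] !![0,0,0;0,0,0;0,0,0] !![1,0,0;0,1,0;0,0,1] *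
      fromBlocks (!![2,1,1;1,2,1;2,2,0] : M3) !![2,2,1;2,2,1;1,1,2] !![1,1,1;1,1,1;1,1,1] !![0,2,1;2,0,1;2,2,2] ≠
    fromBlocks (!![2,1,1;1,2,1;2,2,0] : M3) !![2,2,1;2,2,1;1,1,2] !![1,1,1;1,1,1;1,1,1] !![0,2,1;2,0,1;2,2,2] *
      fromBlocks (!![1,0,0;0,1,0;0,0,1] : M3) !![0,0,0;0,0,0;0,0,1] !![0,0,0;0,0,0;0,0,0] !![1,0,0;0,1,0;0,0,1] := by
  rw [mH_mul_m30_10, m30_10_mul_mH, Ne, Matrix.fromBlocks_inj]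
  decide +kernel

theorem mH_mul_m30_15 :
    fromBlocks (!![1,0,0;0,1,0;0,0,1] : M3) !![0,0,0;0,0,0;0,0,1] !![0,0,0;0,0,0;0,0,0] !![1,0,0;0,1,0;0,0,1] *
      fromBlocks (!![0,2,2;0,0,1;1,0,2] : M3) !![0,2,2;1,0,1;1,2,0] !![0,1,1;2,0,0;2,0,0] !![0,0,1;2,0,0;2,1,2] =
      fromBlocks (!![0,2,2;0,0,1;0,0,2] : M3) !![0,2,2;1,0,1;0,0,2] !![0,1,1;2,0,0;2,0,0] !![0,0,1;2,0,0;2,1,2] :=
  L2_blk_mul _ _ _ _ _ _ _ _ _ _ _ _ (by decide +kernel) (by decide +kernel) (by decide +kernel)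
    (by decide +kernel)

theorem m30_15_mul_mH :
    fromBlocks (!![0,2,2;0,0,1;1,0,2] : M3) !![0,2,2;1,0,1;1,2,0] !![0,1,1;2,0,0;2,0,0] !![0,0,1;2,0,0;2,1,2] *
      fromBlocks (!![1,0,0;0,1,0;0,0,1] : M3) !![0,0,0;0,0,0;0,0,1] !![0,0,0;0,0,0;0,0,0] !![1,0,0;0,1,0;0,0,1] =
      fromBlocks (!![0,2,2;0,0,1;1,0,2] : M3) !![0,2,1;1,0,2;1,2,2] !![0,1,1;2,0,0;2,0,0] !![0,0,2;2,0,0;2,1,2] :=
  L2_blk_mul _ _ _ _ _ _ _ _ _ _ _ _ (by decide +kernel) (by decide +kernel) (by decide +kernel)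
    (by decide +kernel)

theorem m30_15_ne : fromBlocks (!![1,0,0;0,1,0;0,0,1] : M3) !![0,0,0;0,0,0;0,0,1] !![0,0,0;0,0,0;0,0,0] !![1,0,0;0,1,0;0,0,1] *
      fromBlocks (!![0,2,2;0,0,1;1,0,2] : M3) !![0,2,2;1,0,1;1,2,0] !![0,1,1;2,0,0;2,0,0] !![0,0,1;2,0,0;2,1,2] ≠
    fromBlocks (!![0,2,2;0,0,1;1,0,2] : M3) !![0,2,2;1,0,1;1,2,0] !![0,1,1;2,0,0;2,0,0] !![0,0,1;2,0,0;2,1,2] *
      fromBlocks (!![1,0,0;0,1,0;0,0,1] : M3) !![0,0,0;0,0,0;0,0,1] !![0,0,0;0,0,0;0,0,0] !![1,0,0;0,1,0;0,0,1] := by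
  rw [mH_mul_m30_15, m30_15_mul_mH, Ne, Matrix.fromBlocks_inj]
  decide +kernel

theorem mH_mul_m28_2 :
    fromBlocks (!![1,0,0;0,1,0;0,0,1] : M3) !![0,0,0;0,0,0;0,0,1] !![0,0,0;0,0,0;0,0,0] !![1,0,0;0,1,0;0,0,1] *
      fromBlocks (!![0,0,2;0,0,0;1,0,1] : M3) !![1,1,0;0,2,0;1,1,2] !![2,0,0;2,1,0;0,0,1] !![2,2,0;0,1,0;0,0,0] =
      fromBlocks (!![0,0,2;0,0,0;1,0,2] : M3) !![1,1,0;0,2,0;1,1,2] !![2,0,0;2,1,0;0,0,1] !![2,2,0;0,1,0;0,0,0] :=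
  L2_blk_mul _ _ _ _ _ _ _ _ _ _ _ _ (by decide +kernel) (by decide +kernel) (by decide +kernel)
    (by decide +kernel)

theorem m28_2_mul_mH :
    fromBlocks (!![0,0,2;0,0,0;1,0,1] : M3) !![1,1,0;0,2,0;1,1,2] !![2,0,0;2,1,0;0,0,1] !![2,2,0;0,1,0;0,0,0] *
      fromBlocks (!![1,0,0;0,1,0;0,0,1] : M3) !![0,0,0;0,0,0;0,0,1] !![0,0,0;0,0,0;0,0,0] !![1,0,0;0,1,0;0,0,1] =
      fromBlocks (!![0,0,2;0,0,0;1,0,1] : M3) !![1,1,2;0,2,0;1,1,0] !![2,0,0;2,1,0;0,0,1] !![2,2,0;0,1,0;0,0,1] :=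
  L2_blk_mul _ _ _ _ _ _ _ _ _ _ _ _ (by decide +kernel) (by decide +kernel) (by decide +kernel)
    (by decide +kernel)

theorem m28_2_ne : fromBlocks (!![1,0,0;0,1,0;0,0,1] : M3) !![0,0,0;0,0,0;0,0,1] !![0,0,0;0,0,0;0,0,0] !![1,0,0;0,1,0;0,0,1] *
      fromBlocks (!![0,0,2;0,0,0;1,0,1] : M3) !![1,1,0;0,2,0;1,1,2] !![2,0,0;2,1,0;0,0,1] !![2,2,0;0,1,0;0,0,0] ≠
    fromBlocks (!![0,0,2;0,0,0;1,0,1] : M3) !![1,1,0;0,2,0;1,1,2] !![2,0,0;2,1,0;0,0,1] !![2,2,0;0,1,0;0,0,0] *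
      fromBlocks (!![1,0,0;0,1,0;0,0,1] : M3) !![0,0,0;0,0,0;0,0,1] !![0,0,0;0,0,0;0,0,0] !![1,0,0;0,1,0;0,0,1] := by
  rw [mH_mul_m28_2, m28_2_mul_mH, Ne, Matrix.fromBlocks_inj]
  decide +kernel

theorem mH_mul_m28_7 :
    fromBlocks (!![1,0,0;0,1,0;0,0,1] : M3) !![0,0,0;0,0,0;0,0,1] !![0,0,0;0,0,0;0,0,0] !![1,0,0;0,1,0;0,0,1] *
      fromBlocks (!![2,0,2;1,2,1;2,2,1] : M3) !![1,2,1;2,1,1;1,1,1] !![2,2,0;2,2,2;0,2,2] !![1,2,1;0,1,1;1,2,2] =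
      fromBlocks (!![2,0,2;1,2,1;2,1,0] : M3) !![1,2,1;2,1,1;2,0,0] !![2,2,0;2,2,2;0,2,2] !![1,2,1;0,1,1;1,2,2] :=
  L2_blk_mul _ _ _ _ _ _ _ _ _ _ _ _ (by decide +kernel) (by decide +kernel) (by decide +kernel)
    (by decide +kernel)

theorem m28_7_mul_mH :
    fromBlocks (!![2,0,2;1,2,1;2,2,1] : M3) !![1,2,1;2,1,1;1,1,1] !![2,2,0;2,2,2;0,2,2] !![1,2,1;0,1,1;1,2,2] *
      fromBlocks (!![1,0,0;0,1,0;0,0,1] : M3) !![0,0,0;0,0,0;0,0,1] !![0,0,0;0,0,0;0,0,0] !![1,0,0;0,1,0;0,0,1] =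
      fromBlocks (!![2,0,2;1,2,1;2,2,1] : M3) !![1,2,0;2,1,2;1,1,2] !![2,2,0;2,2,2;0,2,2] !![1,2,1;0,1,0;1,2,1] :=
  L2_blk_mul _ _ _ _ _ _ _ _ _ _ _ _ (by decide +kernel) (by decide +kernel) (by decide +kernel)
    (by decide +kernel)

theorem m28_7_ne : fromBlocks (!![1,0,0;0,1,0;0,0,1] : M3) !![0,0,0;0,0,0;0,0,1] !![0,0,0;0,0,0;0,0,0] !![1,0,0;0,1,0;0,0,1] *
      fromBlocks (!![2,0,2;1,2,1;2,2,1] : M3) !![1,2,1;2,1,1;1,1,1] !![2,2,0;2,2,2;0,2,2] !![1,2,1;0,1,1;1,2,2] ≠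
    fromBlocks (!![2,0,2;1,2,1;2,2,1] : M3) !![1,2,1;2,1,1;1,1,1] !![2,2,0;2,2,2;0,2,2] !![1,2,1;0,1,1;1,2,2] *
      fromBlocks (!![1,0,0;0,1,0;0,0,1] : M3) !![0,0,0;0,0,0;0,0,1] !![0,0,0;0,0,0;0,0,0] !![1,0,0;0,1,0;0,0,1] := by
  rw [mH_mul_m28_7, m28_7_mul_mH, Ne, Matrix.fromBlocks_inj]
  decide +kernel

theorem L2_one :
    fromBlocks (!![1,0,0;0,1,0;0,0,1] : M3) !![0,0,0;0,0,0;0,0,0] !![0,0,0;0,0,0;0,0,0] !![1,0,0;0,1,0;0,0,1] =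
      (1 : Matrix (Fin 3 ⊕ Fin 3) (Fin 3 ⊕ Fin 3) (ZMod 3)) := by
  have h : (1 : Matrix (Fin 3 ⊕ Fin 3) (Fin 3 ⊕ Fin 3) (ZMod 3)) = fromBlocks (1 : M3) 0 0 1 :=
    Matrix.fromBlocks_one.symm
  rw [h, Matrix.fromBlocks_inj]
  decide +kernel

theorem L2_neg_one :
    fromBlocks (!![2,0,0;0,2,0;0,0,2] : M3) !![0,0,0;0,0,0;0,0,0] !![0,0,0;0,0,0;0,0,0] !![2,0,0;0,2,0;0,0,2] =
      (-1 : Matrix (Fin 3 ⊕ Fin 3) (Fin 3 ⊕ Fin 3) (ZMod 3)) := by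
  have h : (1 : Matrix (Fin 3 ⊕ Fin 3) (Fin 3 ⊕ Fin 3) (ZMod 3)) = fromBlocks (1 : M3) 0 0 1 :=
    Matrix.fromBlocks_one.symm
  rw [h, Matrix.fromBlocks_neg, Matrix.fromBlocks_inj]
  decide +kernel

/-- the element of order `30` -/
def G30 : Sp63 := ⟨m30, m30_mem⟩

/-- the element of order `28` -/
def G28 : Sp63 := ⟨m28, m28_mem⟩

/-- the witness -/
def GH : Sp63 := ⟨mH, mH_mem⟩

theorem L2_not_center (g : Sp63) (k : ℕ)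
    (h : (GH : Matrix (Fin 3 ⊕ Fin 3) (Fin 3 ⊕ Fin 3) (ZMod 3)) *
        (g : Matrix (Fin 3 ⊕ Fin 3) (Fin 3 ⊕ Fin 3) (ZMod 3)) ^ k ≠
      (g : Matrix (Fin 3 ⊕ Fin 3) (Fin 3 ⊕ Fin 3) (ZMod 3)) ^ k *
        (GH : Matrix (Fin 3 ⊕ Fin 3) (Fin 3 ⊕ Fin 3) (ZMod 3))) :
    g ^ k ∉ Subgroup.center Sp63 := by
  intro hc
  apply h
  have h1 := Subgroup.mem_center_iff.1 hc GH
  have h2 := congrArg Subtype.val h1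
  rw [Submonoid.coe_mul, Submonoid.coe_mul, SubmonoidClass.coe_pow] at h2
  exact h2

theorem G30_pow_30 : G30 ^ 30 = 1 := by
  apply Subtype.ext
  rw [SubmonoidClass.coe_pow]
  show m30 ^ 30 = 1
  rw [m30_pow_30]
  exact L2_one

theorem G28_pow_14_mem : G28 ^ 14 ∈ Subgroup.center Sp63 := by
  rw [Subgroup.mem_center_iff]
  intro h
  apply Subtype.ext
  rw [Submonoid.coe_mul, Submonoid.coe_mul, SubmonoidClass.coe_pow]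
  show (h : Matrix (Fin 3 ⊕ Fin 3) (Fin 3 ⊕ Fin 3) (ZMod 3)) * m28 ^ 14 = m28 ^ 14 * h
  rw [m28_pow_14, L2_neg_one, mul_neg, mul_one, neg_mul, one_mul]


theorem L2_primes_30 (p : ℕ) (hp : p.Prime) (h : p ∣ 30) : p = 2 ∨ p = 3 ∨ p = 5 := by
  have h30 : (30 : ℕ) = 2 * 3 * 5 := by norm_num
  rw [h30] at h
  rcases (Nat.Prime.dvd_mul hp).1 h with h | h
  · rcases (Nat.Prime.dvd_mul hp).1 h with h | h
    · left; exact (Nat.prime_dvd_prime_iff_eq hp Nat.prime_two).1 h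
    · right; left; exact (Nat.prime_dvd_prime_iff_eq hp Nat.prime_three).1 h
  · right; right; exact (Nat.prime_dvd_prime_iff_eq hp Nat.prime_five).1 h

theorem L2_primes_14 (p : ℕ) (hp : p.Prime) (h : p ∣ 14) : p = 2 ∨ p = 7 := by
  have h14 : (14 : ℕ) = 2 * 7 := by norm_num
  rw [h14] at h
  rcases (Nat.Prime.dvd_mul hp).1 h with h | h
  · left; exact (Nat.prime_dvd_prime_iff_eq hp Nat.prime_two).1 h
  · right; exact (Nat.prime_dvd_prime_iff_eq hp (by norm_num)).1 h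

/-- (L2) an element of order `30` -/
theorem psp_order30 : ∃ g : Cfsg.PSp 3 (ZMod 3), orderOf g = 30 := by
  refine ⟨QuotientGroup.mk G30, ?_⟩
  apply orderOf_eq_of_pow_and_pow_div_prime (by norm_num)
  · rw [← QuotientGroup.mk_pow, QuotientGroup.eq_one_iff, G30_pow_30]
    exact one_mem _
  · intro p hp hdvd
    rw [← QuotientGroup.mk_pow, Ne, QuotientGroup.eq_one_iff]
    rcases L2_primes_30 p hp hdvd with rfl | rfl | rfl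
    · refine L2_not_center G30 15 ?_
      show mH * m30 ^ 15 ≠ m30 ^ 15 * mH
      rw [m30_pow_15]
      exact m30_15_ne
    · refine L2_not_center G30 10 ?_
      show mH * m30 ^ 10 ≠ m30 ^ 10 * mH
      rw [m30_pow_10]
      exact m30_10_ne
    · refine L2_not_center G30 6 ?_
      show mH * m30 ^ 6 ≠ m30 ^ 6 * mH
      rw [m30_pow_6]
      exact m30_6_ne

/-- (L2) an element of order `14` -/
theorem psp_order14 : ∃ g : Cfsg.PSp 3 (ZMod 3), orderOf g = 14 := by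
  refine ⟨QuotientGroup.mk G28, ?_⟩
  apply orderOf_eq_of_pow_and_pow_div_prime (by norm_num)
  · rw [← QuotientGroup.mk_pow, QuotientGroup.eq_one_iff]
    exact G28_pow_14_mem
  · intro p hp hdvd
    rw [← QuotientGroup.mk_pow, Ne, QuotientGroup.eq_one_iff]
    rcases L2_primes_14 p hp hdvd with rfl | rfl
    · refine L2_not_center G28 7 ?_
      show mH * m28 ^ 7 ≠ m28 ^ 7 * mH
      rw [m28_pow_7]
      exact m28_7_ne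
    · refine L2_not_center G28 2 ?_
      show mH * m28 ^ 2 ≠ m28 ^ 2 * mH
      rw [m28_pow_2]
      exact m28_2_ne

end Cfsg.Agent.Helper33.PG63
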