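import Mathlib.GroupTheory.PGroup
import Mathlib.GroupTheory.Sylow
import Mathlib.GroupTheory.Commutator.Basic

set_option autoImplicit false

namespace Cfsg.Agent.Helper33

variable {G : Type*} [Group G]

/-- In a finite `p`-group a nontrivial normal subgroup meets the centre nontrivially. -/
theorem exists_mem_center_of_normal {p : ℕ} [Fact p.Prime] [Finite G] (hG : IsPGroup p G)
    (N : Subgroup G) [hN : N.Normal] (hne : N ≠ ⊥) :
    ∃ z ∈ N, z ≠ 1 ∧ z ∈ Subgroup.center G := by
  -- G acts on N by conjugation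
  letI : MulAction G N := MulAction.compHom N (MulAut.conjNormal (H := N))
  have hsmul : ∀ (g : G) (n : N), ((g • n : N) : G) = g * n * g⁻¹ := by
    intro g n
    rfl
  have hNp : IsPGroup p N := hG.to_subgroup N
  haveI : Nontrivial N := (Subgroup.nontrivial_iff_ne_bot N).mpr hne
  obtain ⟨k, hk0, hk⟩ := hNp.nontrivial_iff_card.mp inferInstance
  have dvd : p ∣ Nat.card N := hk.symm ▸ dvd_pow_self _ (ne_of_gt hk0)
  have h1 : (1 : N) ∈ MulAction.fixedPoints G N := by
    intro g
    apply Subtype.ext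
    rw [hsmul]
    simp
  obtain ⟨b, hb, hb1⟩ := hG.exists_fixed_point_of_prime_dvd_card_of_fixed_point N dvd h1
  refine ⟨b, b.2, ?_, ?_⟩
  · intro h
    apply hb1
    apply Subtype.ext
    simp [h]
  · rw [Subgroup.mem_center_iff]
    intro g
    have := congrArg Subtype.val (hb g)
    rw [hsmul] at this
    calc g * b = g * b * g⁻¹ * g := by group
      _ = b * g := by rw [this]

/-- Relative version: in a finite `p`-group, if `M < N` are normal subgroups there is an element of
`N` outside `M` that is central modulo `M`. -/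
theorem exists_central_mod_of_normal_lt {p : ℕ} [Fact p.Prime] [Finite G] (hG : IsPGroup p G)
    (M N : Subgroup G) [hM : M.Normal] [hN : N.Normal] (hMN : M ≤ N) (hne : ¬ N ≤ M) :
    ∃ x ∈ N, x ∉ M ∧ ∀ g : G, g * x * g⁻¹ * x⁻¹ ∈ M := by
  have hQ : IsPGroup p (G ⧸ M) := hG.to_quotient M
  have hnorm : (N.map (QuotientGroup.mk' M)).Normal :=
    Subgroup.Normal.map hN _ (QuotientGroup.mk'_surjective M)
  have hne' : N.map (QuotientGroup.mk' M) ≠ ⊥ := by
    intro h
    apply hne
    intro x hx
    have : QuotientGroup.mk' M x ∈ N.map (QuotientGroup.mk' M) := Subgroup.mem_map_of_mem _ hx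
    rw [h, Subgroup.mem_bot] at this
    exact (QuotientGroup.eq_one_iff x).mp this
  obtain ⟨z, hzN, hz1, hzc⟩ := exists_mem_center_of_normal hQ (N.map (QuotientGroup.mk' M)) hne'
  obtain ⟨x, hxN, rfl⟩ := hzN
  refine ⟨x, hxN, ?_, ?_⟩
  · intro hxM
    apply hz1
    exact (QuotientGroup.eq_one_iff x).mpr hxM
  · intro g
    rw [Subgroup.mem_center_iff] at hzc
    have := hzc (QuotientGroup.mk' M g)
    rw [← QuotientGroup.eq_one_iff]
    have e : ((g * x * g⁻¹ * x⁻¹ : G) : G ⧸ M) =
        (QuotientGroup.mk' M g) * (QuotientGroup.mk' M x) * (QuotientGroup.mk' M g)⁻¹ * (QuotientGroup.mk' M x)⁻¹ := by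
      simp
    rw [e, this]
    group

end Cfsg.Agent.Helper33
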