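import Mathlib
import Cfsg.Agent.Helper52.PQDefs
import Cfsg.Agent.Helper60.WardW2
import Cfsg.Agent.Helper31.WardW34
import Cfsg.Agent.Helper62.Radical
import Cfsg.Agent.Helper65.PQG
import Cfsg.Agent.Helper60.ShultO

set_option autoImplicit false

/-!
# (P) Lemma P for S4306 (helper52)   (helper33)
-/

namespace Cfsg.Agent.Helper33.PQ

open Subgroup Cfsg.Agent.Helper1.Shult Cfsg.Agent.Helper52.PQ
open scoped commutatorElement

variable {H : Type*} [Group H] [Finite H]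

omit [Finite H] in
theorem isPGroup_of_isEA {w : ℕ} {Q : Subgroup H} (hQ : IsEA w Q) : IsPGroup w Q := by
  intro g
  refine ⟨1, ?_⟩
  apply Subtype.ext
  rw [pow_one]
  simpa using hQ.2 g g.2

/-- the elements of `N_H(Q)` acting trivially on `Q / N` (for `N ≤ Q`). -/
def actTriv (Q N : Subgroup H) : Subgroup H where
  carrier := {l | l ∈ normalizer (Q : Set H) ∧ ∀ g ∈ Q, g⁻¹ * (l * g * l⁻¹) ∈ N}
  one_mem' := ⟨Subgroup.one_mem _, fun g _ => by simp⟩
  mul_mem' := by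
    rintro l m ⟨hl, hl'⟩ ⟨hm, hm'⟩
    refine ⟨Subgroup.mul_mem _ hl hm, fun g hg => ?_⟩
    have h1 : m * g * m⁻¹ ∈ Q := (mem_normalizer_iff.1 hm g).1 hg
    have h2 : g⁻¹ * (l * m * g * (l * m)⁻¹)
        = (g⁻¹ * (m * g * m⁻¹)) * ((m * g * m⁻¹)⁻¹ * (l * (m * g * m⁻¹) * l⁻¹)) := by group
    rw [h2]
    exact N.mul_mem (hm' g hg) (hl' _ h1)
  inv_mem' := by
    rintro l ⟨hl, hl'⟩
    refine ⟨Subgroup.inv_mem _ hl, fun g hg => ?_⟩
    have h1 : l⁻¹ * g * l ∈ Q := by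
      have := (mem_normalizer_iff.1 (Subgroup.inv_mem _ hl) g).1 hg
      simpa using this
    have h2 := N.inv_mem (hl' _ h1)
    have h3 : ((l⁻¹ * g * l)⁻¹ * (l * (l⁻¹ * g * l) * l⁻¹))⁻¹ = g⁻¹ * (l⁻¹ * g * l⁻¹⁻¹) := by group
    rwa [h3] at h2

omit [Finite H] in
theorem mem_actTriv {Q N : Subgroup H} {l : H} :
    l ∈ actTriv Q N ↔ l ∈ normalizer (Q : Set H) ∧ ∀ g ∈ Q, g⁻¹ * (l * g * l⁻¹) ∈ N := Iff.rfl

/-- `τ` normalizes `⟨σ⟩`. -/
theorem tau_mem_normalizer_zpowers {s t : ℕ} {σ τ : H} (hF : FrobPair s t σ τ) :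
    τ ∈ normalizer ((zpowers σ : Subgroup H) : Set H) := by
  apply mem_normalizer_fintype
  intro n hn
  obtain ⟨k, rfl⟩ := mem_zpowers_iff.1 hn
  have h1 : τ * σ ^ k * τ⁻¹ = (τ * σ * τ⁻¹) ^ k := by
    rw [conj_zpow]
  rw [SetLike.mem_coe, h1]
  exact Subgroup.zpow_mem _ hF.norm k

/-- The orbit argument: a `τ`-fixed element of `C_Q(E)`, for a hyperplane `E` moved by all
nontrivial powers of `σ`, is trivial. -/
theorem orbit_contra {s t u : ℕ} [Fact u.Prime] {σ τ : H} (hF : FrobPair s t σ τ)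
    (Q R R0 : Subgroup H) (hs : HypSet u Q R R0)
    (hQinv : Inv σ τ Q) (hRinv : Inv σ τ R) (hR0inv : Inv σ τ R0) (hfixQ : Fix σ τ Q = ⊥)
    (E : Subgroup H) (hE : IsHyp u R R0 E)
    (hmove : ∀ a ∈ zpowers σ, a ≠ 1 → a ∉ normalizer (E : Set H))
    (q : H) (hq : q ∈ Q ⊓ centralizer (E : Set H)) (hqτ : τ * q * τ⁻¹ = q) : q = 1 := by
  classical
  have hqQ : q ∈ Q := (mem_inf.1 hq).1
  letI : CommGroup ↥Q :=
    { (inferInstance : Group ↥Q) with mul_comm := fun a b => Subtype.ext (hs.hVab a a.2 b b.2) }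
  haveI : Fintype ↥(zpowers σ) := Fintype.ofFinite _
  have hCQ : ∀ a ∈ zpowers σ, a ∈ normalizer (Q : Set H) := fun a ha =>
    (zpowers_le.2 hQinv.1) ha
  have hCR : ∀ a ∈ zpowers σ, a ∈ normalizer (R : Set H) := fun a ha =>
    (zpowers_le.2 hRinv.1) ha
  have hCR0 : ∀ a ∈ zpowers σ, a ∈ normalizer (R0 : Set H) := fun a ha =>
    (zpowers_le.2 hR0inv.1) ha
  let f : ↥(zpowers σ) → ↥Q := fun a =>
    ⟨(a : H) * q * (a : H)⁻¹, (mem_normalizer_iff.1 (hCQ a a.2) q).1 hqQ⟩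
  -- conjugation homs on `Q`
  let cg : ∀ g : H, g ∈ normalizer (Q : Set H) → ↥Q →* ↥Q := fun g hg =>
    { toFun := fun v => ⟨g * v * g⁻¹, (mem_normalizer_iff.1 hg v).1 v.2⟩
      map_one' := by
        apply Subtype.ext
        simp
      map_mul' := by
        intro a b
        apply Subtype.ext
        show g * ((a : H) * (b : H)) * g⁻¹ = (g * a * g⁻¹) * (g * b * g⁻¹)
        group }
  set P : ↥Q := ∏ a : ↥(zpowers σ), f a with hP
  -- `σ` fixes `P`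
  have hσP : σ * (P : H) * σ⁻¹ = (P : H) := by
    have h1 : cg σ hQinv.1 P = P := by
      rw [hP, map_prod]
      let σC : ↥(zpowers σ) := ⟨σ, mem_zpowers σ⟩
      have h2 : ∀ a : ↥(zpowers σ), cg σ hQinv.1 (f a) = f (σC * a) := by
        intro a
        apply Subtype.ext
        show σ * ((a : H) * q * (a : H)⁻¹) * σ⁻¹ = (σ * (a : H)) * q * (σ * (a : H))⁻¹
        group
      rw [Finset.prod_congr rfl (fun a _ => h2 a)]
      exact Fintype.prod_equiv (Equiv.mulLeft σC) (fun a => f (σC * a)) f (fun a => rfl)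
    exact congrArg Subtype.val h1
  -- `τ` fixes `P`
  have hτC := tau_mem_normalizer_zpowers hF
  have hτC' : τ⁻¹ ∈ normalizer ((zpowers σ : Subgroup H) : Set H) := Subgroup.inv_mem _ hτC
  let eτ : ↥(zpowers σ) ≃ ↥(zpowers σ) :=
    { toFun := fun a => ⟨τ * a * τ⁻¹, (mem_normalizer_iff.1 hτC a).1 a.2⟩
      invFun := fun a => ⟨τ⁻¹ * a * τ, by
        have := (mem_normalizer_iff.1 hτC' a).1 a.2
        simpa using this⟩
      left_inv := by
        intro a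
        apply Subtype.ext
        show τ⁻¹ * (τ * (a : H) * τ⁻¹) * τ = a
        group
      right_inv := by
        intro a
        apply Subtype.ext
        show τ * (τ⁻¹ * (a : H) * τ) * τ⁻¹ = a
        group }
  have hτP : τ * (P : H) * τ⁻¹ = (P : H) := by
    have h1 : cg τ hQinv.2 P = P := by
      rw [hP, map_prod]
      have h2 : ∀ a : ↥(zpowers σ), cg τ hQinv.2 (f a) = f (eτ a) := by
        intro a
        apply Subtype.ext
        show τ * ((a : H) * q * (a : H)⁻¹) * τ⁻¹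
          = (τ * (a : H) * τ⁻¹) * q * (τ * (a : H) * τ⁻¹)⁻¹
        conv_rhs => rw [← hqτ]
        group
      rw [Finset.prod_congr rfl (fun a _ => h2 a)]
      exact Fintype.prod_equiv eτ (fun a => f (eτ a)) f (fun a => rfl)
    exact congrArg Subtype.val h1
  -- so `P = 1`
  have hP1 : (P : H) = 1 := by
    have hmem : (P : H) ∈ Fix σ τ Q := by
      refine mem_inf.2 ⟨P.2, ?_⟩
      rw [mem_centralizer_iff]
      intro h hh
      rcases hh with rfl | hh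
      · calc h * (P : H) = (h * (P : H) * h⁻¹) * h := by group
          _ = (P : H) * h := by rw [hσP]
      · rw [Set.mem_singleton_iff] at hh
        subst hh
        calc h * (P : H) = (h * (P : H) * h⁻¹) * h := by group
          _ = (P : H) * h := by rw [hτP]
    rw [hfixQ] at hmem
    exact mem_bot.1 hmem
  -- split off the term `a = 1`
  have hsplit : f 1 * ∏ a ∈ (Finset.univ.erase (1 : ↥(zpowers σ))), f a = P :=
    Finset.mul_prod_erase Finset.univ f (Finset.mem_univ _)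
  have hf1 : ((f 1 : ↥Q) : H) = q := by
    show ((1 : ↥(zpowers σ)) : H) * q * ((1 : ↥(zpowers σ)) : H)⁻¹ = q
    simp
  have hrest : ((∏ a ∈ (Finset.univ.erase (1 : ↥(zpowers σ))), f a : ↥Q) : H)
      ∈ Cfsg.Agent.Helper60.Shult.others u Q R R0 E := by
    refine Finset.prod_induction f
      (fun x : ↥Q => (x : H) ∈ Cfsg.Agent.Helper60.Shult.others u Q R R0 E) ?_ ?_ ?_
    · intro a b ha hb
      exact Subgroup.mul_mem _ ha hb
    · exact Subgroup.one_mem _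
    · intro a ha
      have ha1 : a ≠ 1 := Finset.ne_of_mem_erase ha
      have ha1' : (a : H) ≠ 1 := fun h => ha1 (Subtype.ext h)
      exact Cfsg.Agent.Helper60.Shult.conj_mem_others E hE (a : H) (hCQ a a.2) (hCR a a.2)
        (hCR0 a a.2) (hmove a a.2 ha1') q hq
  have hmul : q * ((∏ a ∈ (Finset.univ.erase (1 : ↥(zpowers σ))), f a : ↥Q) : H) = 1 := by
    rw [← hf1, ← Subgroup.coe_mul, hsplit, hP1]
  exact Cfsg.Agent.Helper60.Shult.eq_one_of_mul_mem_others hs E hE q _ hq hrest hmul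

/-- a nontrivial power of `σ` (of prime order) generates `⟨σ⟩`. -/
theorem sigma_mem_zpowers_of_ne_one {s : ℕ} {σ : H} (hs : s.Prime) (hσ : orderOf σ = s) (a : H)
    (ha : a ∈ zpowers σ) (ha1 : a ≠ 1) : σ ∈ zpowers a := by
  have h1 : zpowers a ≤ zpowers σ := zpowers_le.2 ha
  have h2 : Nat.card (zpowers σ) = s := by rw [Nat.card_zpowers, hσ]
  have h3 : Nat.card (zpowers a) ∣ s := by
    rw [← h2]
    exact Subgroup.card_dvd_of_le h1
  have h4 : Nat.card (zpowers a) ≠ 1 := by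
    rw [Nat.card_zpowers]
    intro h
    exact ha1 (orderOf_eq_one_iff.1 h)
  have h5 : Nat.card (zpowers a) = s := by
    rcases (Nat.dvd_prime hs).1 h3 with h | h
    · exact absurd h h4
    · exact h
  have h6 : zpowers a = zpowers σ := by
    apply Subgroup.eq_of_le_of_card_ge h1
    rw [h2, h5]
  rw [h6]
  exact mem_zpowers σ

omit [Finite H] in
/-- subgroups between `R0 ⊇ [R,R]` and `R` are normal in `R`. -/
theorem le_normalizer_of_comm (R R0 D : Subgroup H)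
    (hRcomm : ∀ x ∈ R, ∀ y ∈ R, x * y * x⁻¹ * y⁻¹ ∈ R0) (hR0D : R0 ≤ D) (hDR : D ≤ R) :
    R ≤ normalizer (D : Set H) := by
  intro r hr
  rw [mem_normalizer_iff]
  intro n
  constructor
  · intro hn
    have h1 : r * n * r⁻¹ = (r * n * r⁻¹ * n⁻¹) * n := by group
    rw [h1]
    exact D.mul_mem (hR0D (hRcomm r hr n (hDR hn))) hn
  · intro hn
    have h1 : n = (r⁻¹ * (r * n * r⁻¹) * r⁻¹⁻¹ * (r * n * r⁻¹)⁻¹) * (r * n * r⁻¹) := by group
    rw [h1]
    exact D.mul_mem (hR0D (hRcomm r⁻¹ (R.inv_mem hr) _ (hDR hn))) hn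

/-- `σ` does not normalize a `τ`-invariant hyperplane of `R` over `R0`. -/
theorem sigma_not_normalizes {s t u : ℕ} [Fact u.Prime] {σ τ : H} (_hF : FrobPair s t σ τ)
    (hFA : ∀ (Q D : Subgroup H) {q : ℕ}, q.Prime → D ≤ Q → Q ≤ normalizer (D : Set H) →
      D.relIndex Q = q → Inv σ τ Q → Inv σ τ D → ∀ x ∈ Q, x⁻¹ * (σ * x * σ⁻¹) ∈ D)
    (R R0 : Subgroup H) (hRinv : Inv σ τ R) (hR0inv : Inv σ τ R0) (hR0R : R0 ≤ R)
    (hRcomm : ∀ x ∈ R, ∀ y ∈ R, x * y * x⁻¹ * y⁻¹ ∈ R0)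
    (hρ : ∀ x ∈ R, x⁻¹ * (σ * x * σ⁻¹) ∈ R0 → x ∈ R0)
    (E : Subgroup H) (hE : IsHyp u R R0 E) (hτE : τ ∈ normalizer (E : Set H)) :
    σ ∉ normalizer (E : Set H) := by
  intro hσE
  have hu : u.Prime := Fact.out
  obtain ⟨hR0E, hER, hidx⟩ := hE
  have h1 := hFA R E hu hER (le_normalizer_of_comm R R0 E hRcomm hR0E hER) hidx hRinv ⟨hσE, hτE⟩
  have h2 := Cfsg.Agent.Helper65.PQ.surj_comm_of_fpf σ R R0 hR0R
    (le_normalizer_of_comm R R0 R0 hRcomm le_rfl hR0R) hRinv.1 hR0inv.1 hρ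
  have h3 : R ≤ E := by
    intro y hy
    obtain ⟨x, hx, n, hn, rfl⟩ := h2 y hy
    exact E.mul_mem (h1 x hx) (hR0E hn)
  have h4 : E.relIndex R = 1 := relIndex_eq_one.2 h3
  rw [h4] at hidx
  exact hu.one_lt.ne hidx

/-- (P), with (FA) `frob_sigma_cyclic_quotient` as a hypothesis. -/
theorem lemmaP_of {s t w u : ℕ} [Fact w.Prime] [Fact u.Prime] {σ τ : H} (hF : FrobPair s t σ τ)
    (hFA : ∀ (Q D : Subgroup H) {q : ℕ}, q.Prime → D ≤ Q → Q ≤ normalizer (D : Set H) →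
      D.relIndex Q = q → Inv σ τ Q → Inv σ τ D → ∀ x ∈ Q, x⁻¹ * (σ * x * σ⁻¹) ∈ D)
    (hwu : w ≠ u) (hwt : w ≠ t)
    (Q R R0 : Subgroup H) (hQ : IsEA w Q) (hR : IsPGroup u R)
    (hQinv : Inv σ τ Q) (hRinv : Inv σ τ R) (hR0inv : Inv σ τ R0)
    (hRQ : R ≤ normalizer (Q : Set H)) (hR0R : R0 ≤ R) (hR0 : R0 ≤ centralizer (Q : Set H))
    (hRcomm : ∀ x ∈ R, ∀ y ∈ R, x * y * x⁻¹ * y⁻¹ ∈ R0) (hRpow : ∀ x ∈ R, x ^ u ∈ R0)
    (hQR : Q ⊓ centralizer (R : Set H) = ⊥) (hfixQ : Fix σ τ Q = ⊥)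
    (hρ : ∀ x ∈ R, x⁻¹ * (σ * x * σ⁻¹) ∈ R0 → x ∈ R0)
    (N : Subgroup H) (hNQ : N ≤ Q) (hNτ : ∀ g ∈ Q, g⁻¹ * (τ * g * τ⁻¹) ∈ N)
    (hNy : ∀ x ∈ R, ∀ g ∈ Q,
      g⁻¹ * ((x⁻¹ * (τ * x * τ⁻¹)) * g * (x⁻¹ * (τ * x * τ⁻¹))⁻¹) ∈ N) :
    N = Q := by
  classical
  have hwp : w.Prime := Fact.out
  have hup : u.Prime := Fact.out
  obtain ⟨yf, hyf⟩ : ∃ yf : H → H, ∀ x, yf x = x⁻¹ * (τ * x * τ⁻¹) := ⟨_, fun _ => rfl⟩
  have hyR : ∀ x ∈ R, yf x ∈ R := fun x hx => by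
    rw [hyf]
    exact R.mul_mem (R.inv_mem hx) ((mem_normalizer_iff.1 hRinv.2 x).1 hx)
  obtain ⟨L, hL⟩ : ∃ L : Subgroup H, L = closure ({τ} ∪ yf '' (R : Set H)) := ⟨_, rfl⟩
  have hτL : τ ∈ L := by
    rw [hL]
    exact subset_closure (Or.inl rfl)
  have hyL : ∀ x ∈ R, yf x ∈ L := fun x hx => by
    rw [hL]
    exact subset_closure (Or.inr ⟨x, hx, rfl⟩)
  -- `L` acts trivially on `Q / N`
  have hLact : L ≤ actTriv Q N := by
    rw [hL, closure_le]
    rintro l (hl | ⟨x, hx, rfl⟩)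
    · rw [Set.mem_singleton_iff] at hl
      subst hl
      exact ⟨hQinv.2, hNτ⟩
    · refine ⟨hRQ (hyR x hx), ?_⟩
      rw [hyf]
      exact hNy x hx
  have hLQ : L ≤ normalizer (Q : Set H) := fun l hl => (hLact hl).1
  -- `L ≤ R ⟨τ⟩`
  have hLB : L ≤ zpowers τ ⊔ R := by
    rw [hL, closure_le]
    rintro l (hl | ⟨x, hx, rfl⟩)
    · rw [Set.mem_singleton_iff] at hl
      subst hl
      exact (le_sup_left : zpowers l ≤ zpowers l ⊔ R) (mem_zpowers l)
    · exact (le_sup_right : R ≤ zpowers τ ⊔ R) (hyR x hx)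
  have hQw : IsPGroup w Q := isPGroup_of_isEA hQ
  obtain ⟨m, hm⟩ := (IsPGroup.iff_card).1 hQw
  obtain ⟨k, hk⟩ := (IsPGroup.iff_card).1 hR
  have hcopwu : Nat.Coprime w u := (Nat.coprime_primes hwp hup).2 hwu
  have hcopwt : Nat.Coprime w t := (Nat.coprime_primes hwp hF.ht).2 hwt
  have hcop : (Nat.card Q).Coprime (Nat.card L) := by
    have h1 : Nat.card L ∣ Nat.card (zpowers τ) * Nat.card R :=
      (Subgroup.card_dvd_of_le hLB).trans
        (Cfsg.Agent.Helper62.card_sup_dvd_of_le_normalizer (zpowers_le.2 hRinv.2))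
    rw [Nat.card_zpowers, hF.oτ, hk] at h1
    rw [hm]
    apply Nat.Coprime.coprime_dvd_right h1
    apply Nat.Coprime.pow_left
    exact Nat.Coprime.mul_right hcopwt (Nat.Coprime.pow_right _ hcopwu)
  -- `⁅Q, L⁆ ≤ N`
  have hcomm : ⁅Q, L⁆ ≤ N := by
    rw [commutator_le]
    intro g hg l hl
    have h1 := (hLact hl).2 g⁻¹ (Q.inv_mem hg)
    have h2 : ⁅g, l⁆ = g⁻¹⁻¹ * (l * g⁻¹ * l⁻¹) := by
      rw [commutatorElement_def]
      group
    rw [h2]
    exact h1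
  obtain ⟨hsplit, -⟩ := Cfsg.Agent.Helper31.Ward.abelian_coprime_split Q L hQ.1 hLQ hcop
  by_cases hQ2 : Q ⊓ centralizer (L : Set H) = ⊥
  · apply le_antisymm hNQ
    rw [hQ2, bot_sup_eq] at hsplit
    exact hsplit.trans hcomm
  · exfalso
    -- `R` normalizes `L`
    have hRL : ∀ r ∈ R, L ≤ L.comap (MulAut.conj r).toMonoidHom := by
      intro r hr
      conv_lhs => rw [hL]
      rw [closure_le]
      rintro l (hl | ⟨x, hx, rfl⟩)
      · rw [Set.mem_singleton_iff] at hl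
        subst hl
        show r * l * r⁻¹ ∈ L
        have h1 : l⁻¹ * r⁻¹ * l ∈ R := by
          have := (mem_normalizer_iff.1 (Subgroup.inv_mem _ hRinv.2) r⁻¹).1 (R.inv_mem hr)
          simpa using this
        have h2 : r * l * r⁻¹ = l * yf (l⁻¹ * r⁻¹ * l) := by
          rw [hyf]
          group
        rw [h2]
        exact L.mul_mem hτL (hyL _ h1)
      · show r * yf x * r⁻¹ ∈ L
        have h2 : r * yf x * r⁻¹ = yf (x * r⁻¹) * (yf r⁻¹)⁻¹ := by
          rw [hyf, hyf, hyf]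
          group
        rw [h2]
        exact L.mul_mem (hyL _ (R.mul_mem hx (R.inv_mem hr))) (L.inv_mem (hyL _ (R.inv_mem hr)))
    have hRL' : ∀ r ∈ R, ∀ l ∈ L, r * l * r⁻¹ ∈ L := fun r hr l hl => hRL r hr hl
    obtain ⟨Q2, hQ2def⟩ : ∃ Q2 : Subgroup H, Q2 = Q ⊓ centralizer (L : Set H) := ⟨_, rfl⟩
    rw [← hQ2def] at hQ2
    have hQ2Q : Q2 ≤ Q := hQ2def ▸ inf_le_left
    have hQ2L : Q2 ≤ centralizer (L : Set H) := hQ2def ▸ inf_le_right
    have hRQ2 : R ≤ normalizer (Q2 : Set H) := by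
      intro r hr
      apply mem_normalizer_fintype
      intro n hn
      rw [SetLike.mem_coe, hQ2def]
      refine mem_inf.2 ⟨(mem_normalizer_iff.1 (hRQ hr) n).1 (hQ2Q hn), ?_⟩
      rw [mem_centralizer_iff]
      intro l hl
      have h1 : r⁻¹ * l * r ∈ L := by
        have := hRL' r⁻¹ (R.inv_mem hr) l hl
        simpa using this
      have h2 := mem_centralizer_iff.1 (hQ2L hn) _ h1
      calc l * (r * n * r⁻¹) = r * ((r⁻¹ * l * r) * n) * r⁻¹ := by group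
        _ = r * (n * (r⁻¹ * l * r)) * r⁻¹ := by rw [h2]
        _ = r * n * r⁻¹ * l := by group
    -- the subgroup `S0 = R0 [R, τ]`
    obtain ⟨Y, hY⟩ : ∃ Y : Subgroup H, Y = closure (yf '' (R : Set H)) := ⟨_, rfl⟩
    have hYL : Y ≤ L := by
      rw [hY, hL]
      exact closure_mono Set.subset_union_right
    have hYR : Y ≤ R := by
      rw [hY, closure_le]
      rintro _ ⟨x, hx, rfl⟩
      exact hyR x hx
    have hyY : ∀ x ∈ R, yf x ∈ Y := fun x hx => by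
      rw [hY]
      exact subset_closure ⟨x, hx, rfl⟩
    have hS0R : R0 ⊔ Y ≤ R := sup_le hR0R hYR
    have hS0c : R0 ⊔ Y ≤ centralizer (Q2 : Set H) := by
      apply sup_le
      · exact hR0.trans (centralizer_le (fun x hx => hQ2Q hx))
      · exact hYL.trans (le_centralizer_iff.1 hQ2L)
    have hgen := Cfsg.Agent.Helper60.WardW2.gen_hyperplanes (s := u) Q2 R (R0 ⊔ Y)
      (fun a ha b hb => hQ.1 a (hQ2Q ha) b (hQ2Q hb)) hRQ2
      (by
        have h1 : Nat.card Q2 ∣ Nat.card Q := Subgroup.card_dvd_of_le hQ2Q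
        rw [hm] at h1
        exact Nat.Coprime.coprime_dvd_left h1 (Nat.Coprime.pow_left _ hcopwu))
      hS0R hS0c (fun a ha b hb => le_sup_left (a := R0) (hRcomm a ha b hb))
      (fun a ha => le_sup_left (a := R0) (hRpow a ha))
      (by
        rw [eq_bot_iff, ← hQR]
        exact inf_le_inf_right _ hQ2Q)
    have hex : ∃ D : {D : Subgroup H // R0 ⊔ Y ≤ D ∧ D ≤ R ∧ D.relIndex R = u},
        Q2 ⊓ centralizer ((D : Subgroup H) : Set H) ≠ ⊥ := by
      by_contra hcon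
      rw [not_exists] at hcon
      have h1 : (⨆ D : {D : Subgroup H // R0 ⊔ Y ≤ D ∧ D ≤ R ∧ D.relIndex R = u},
          Q2 ⊓ centralizer ((D : Subgroup H) : Set H)) = ⊥ := by
        rw [iSup_eq_bot]
        intro D
        exact not_not.1 (hcon D)
      rw [h1] at hgen
      exact hQ2 (le_bot_iff.1 hgen)
    obtain ⟨⟨E, hS0E, hER, hEidx⟩, hne⟩ := hex
    obtain ⟨⟨q, hqmem⟩, hq1⟩ := (Subgroup.ne_bot_iff_exists_ne_one).1 hne
    have hq1' : q ≠ 1 := fun h => hq1 (Subtype.ext h)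
    have hqQ2 : q ∈ Q2 := (mem_inf.1 hqmem).1
    have hqE : q ∈ centralizer (E : Set H) := (mem_inf.1 hqmem).2
    have hE' : IsHyp u R R0 E := ⟨le_sup_left.trans hS0E, hER, hEidx⟩
    have hτE : τ ∈ normalizer (E : Set H) := by
      apply mem_normalizer_fintype
      intro n hn
      have h1 : τ * n * τ⁻¹ = n * yf n := by
        rw [hyf]
        group
      rw [SetLike.mem_coe, h1]
      exact E.mul_mem hn (hS0E (le_sup_right (a := R0) (hyY n (hER hn))))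
    have hs : HypSet u Q R R0 :=
      ⟨hQ.1, hRQ, hR, by rw [hm]; exact Nat.Coprime.pow_left _ hcopwu, hR0R, hR0, hRcomm, hRpow,
        hQR⟩
    have hσE := sigma_not_normalizes hF hFA R R0 hRinv hR0inv hR0R hRcomm hρ E hE' hτE
    have hmove : ∀ a ∈ zpowers σ, a ≠ 1 → a ∉ normalizer (E : Set H) := fun a ha ha1 haE =>
      hσE ((zpowers_le.2 haE) (sigma_mem_zpowers_of_ne_one hF.hs hF.oσ a ha ha1))
    have hqτ : τ * q * τ⁻¹ = q := by
      have h1 := mem_centralizer_iff.1 (hQ2L hqQ2) τ hτL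
      rw [h1]
      group
    exact hq1' (orbit_contra hF Q R R0 hs hQinv hRinv hR0inv hfixQ E hE' hmove q
      (mem_inf.2 ⟨hQ2Q hqQ2, hqE⟩) hqτ)

end Cfsg.Agent.Helper33.PQ
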