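import Mathlib
import Cfsg.Agent.Helper52.PQDefs
import Cfsg.Agent.Helper38.PQFA
import Cfsg.Agent.Helper33.PQPCore

set_option autoImplicit false

/-!
# (P) Lemma P for S4306 (helper52), exact skeleton signature.   (helper33)
-/

namespace Cfsg.Agent.Helper33.PQ

open Subgroup Cfsg.Agent.Helper1.Shult Cfsg.Agent.Helper52.PQ

variable {H : Type*} [Group H] [Finite H]

theorem lemmaP {s t w u : ℕ} [Fact w.Prime] [Fact u.Prime] {σ τ : H} (hF : FrobPair s t σ τ)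
    (hwu : w ≠ u) (hws : w ≠ s) (hwt : w ≠ t) (hus : u ≠ s) (hut : u ≠ t)
    (Q R R0 : Subgroup H) (hQ : IsEA w Q) (hR : IsPGroup u R)
    (hQinv : Inv σ τ Q) (hRinv : Inv σ τ R) (hR0inv : Inv σ τ R0)
    (hRQ : R ≤ normalizer (Q : Set H)) (hR0R : R0 ≤ R) (hR0 : R0 ≤ centralizer (Q : Set H))
    (hRcomm : ∀ x ∈ R, ∀ y ∈ R, x * y * x⁻¹ * y⁻¹ ∈ R0) (hRpow : ∀ x ∈ R, x ^ u ∈ R0)
    (hQR : Q ⊓ centralizer (R : Set H) = ⊥) (hfixQ : Fix σ τ Q = ⊥)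
    (hρ : ∀ x ∈ R, x⁻¹ * (σ * x * σ⁻¹) ∈ R0 → x ∈ R0)
    (N : Subgroup H) (hNQ : N ≤ Q) (hNτ : ∀ g ∈ Q, g⁻¹ * (τ * g * τ⁻¹) ∈ N)
    (hNy : ∀ x ∈ R, ∀ g ∈ Q,
      g⁻¹ * ((x⁻¹ * (τ * x * τ⁻¹)) * g * (x⁻¹ * (τ * x * τ⁻¹))⁻¹) ∈ N) :
    N = Q :=
  lemmaP_of hF
    (fun Q D _ hq hDQ hDn hidx hQinv hDinv =>
      Cfsg.Agent.Helper38.PQFA.frob_sigma_cyclic_quotient hF Q D hq hDQ hDn hidx hQinv hDinv)
    hwu hwt Q R R0 hQ hR hQinv hRinv hR0inv hRQ hR0R hR0 hRcomm hRpow hQR hfixQ hρ N hNQ hNτ hNy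

end Cfsg.Agent.Helper33.PQ
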