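import Mathlib
import Cfsg.Agent.Helper82.PRat.Defs
import Cfsg.Agent.S0888

set_option autoImplicit false

/-!
# (EXT) of #4790 for S4892 (helper82): an invariant p-rational character of p'-degree in the
principal block of `N` extends to `G = N C_G(Q)`.   (helper33)

`exists_extension_of` takes the three pieces (ADS), (EP), (DET) as hypotheses.
-/

namespace Cfsg.Agent.Helper33.PRatEXT

open Cfsg Cfsg.Agent.Helper82.PRat

variable {G : Type*} [Group G] [Finite G]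

/-- `S = N R` for a Sylow `q`-subgroup `R`: index prime to `q`, and `|S : N|` a power of `q`. -/
theorem sylow_sup_props (N : Subgroup G) [N.Normal] (q : ℕ) [Fact q.Prime] (R : Sylow q G) :
    Nat.Coprime (N ⊔ (R : Subgroup G)).index q ∧
      ∃ k : ℕ, N.relIndex (N ⊔ (R : Subgroup G)) = q ^ k := by
  have hq : q.Prime := Fact.out
  constructor
  · have h1 : (N ⊔ (R : Subgroup G)).index ∣ (R : Subgroup G).index :=
      Subgroup.index_dvd_of_le le_sup_right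
    have h2 : ¬ q ∣ (R : Subgroup G).index := R.not_dvd_index
    rw [Nat.coprime_comm, Nat.Prime.coprime_iff_not_dvd hq]
    exact fun h => h2 (h.trans h1)
  · rw [Subgroup.relIndex_sup_left]
    have h3 : N.relIndex (R : Subgroup G) ∣ Nat.card (R : Subgroup G) := by
      unfold Subgroup.relIndex
      exact Subgroup.index_dvd_card _
    obtain ⟨n, hn⟩ := (IsPGroup.iff_card.1 R.isPGroup')
    rw [hn] at h3
    obtain ⟨k, -, hk⟩ := (Nat.dvd_prime_pow hq).1 h3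
    exact ⟨k, hk⟩

/-- (EXT), with the two local extension results as hypotheses. -/
theorem exists_extension_of (p : ℕ) [Fact p.Prime] (N : Subgroup G) [N.Normal]
    (θ : IrrCharacter ↥N)
    (hinv : ∀ g : G, ∀ n n' : ↥N, (n' : G) = g * (n : G) * g⁻¹ → (θ : ↥N → ℂ) n' = (θ : ↥N → ℂ) n)
    (hADS : ∀ (S : Subgroup G) (hNS : N ≤ S), ¬ p ∣ N.relIndex S →
      ∃ η : IrrCharacter ↥S, ∀ n : ↥N, (η : ↥S → ℂ) ⟨(n : G), hNS n.2⟩ = (θ : ↥N → ℂ) n)
    (hEP : ∀ (S : Subgroup G) (hNS : N ≤ S), (∃ c : ℕ, N.relIndex S = p ^ c) →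
      ∃ η : IrrCharacter ↥S, ∀ n : ↥N, (η : ↥S → ℂ) ⟨(n : G), hNS n.2⟩ = (θ : ↥N → ℂ) n) :
    ∃ ψ : IrrCharacter G, ∀ x : ↥N, (ψ : G → ℂ) x = (θ : ↥N → ℂ) x := by
  have hp : p.Prime := Fact.out
  have hmain := Cfsg.Agent.S0888.result N (θ : ↥N → ℂ) θ.2
    (fun g n => hinv g n ⟨g * n * g⁻¹, _⟩ rfl) ?_
  · obtain ⟨χ, hχ, hχN⟩ := hmain
    exact ⟨⟨χ, hχ⟩, hχN⟩
  · intro q hq
    have : Fact q.Prime := ⟨hq⟩
    obtain ⟨R⟩ : Nonempty (Sylow q G) := inferInstance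
    obtain ⟨hidx, k, hk⟩ := sylow_sup_props N q R
    have hNS : N ≤ N ⊔ (R : Subgroup G) := le_sup_left
    by_cases hqp : q = p
    · subst hqp
      obtain ⟨η, hη⟩ := hEP _ hNS ⟨k, hk⟩
      exact ⟨_, hNS, (η : _ → ℂ), hidx, ⟨k, hk⟩, η.2, hη⟩
    · have hnd : ¬ p ∣ N.relIndex (N ⊔ (R : Subgroup G)) := by
        rw [hk]
        intro h
        exact hqp ((Nat.prime_dvd_prime_iff_eq hp hq).1 (hp.dvd_of_dvd_pow h)).symm
      obtain ⟨η, hη⟩ := hADS _ hNS hnd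
      exact ⟨_, hNS, (η : _ → ℂ), hidx, ⟨k, hk⟩, η.2, hη⟩

end Cfsg.Agent.Helper33.PRatEXT
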