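import Mathlib
import Cfsg.Agent.Helper82.PRat.Defs
import Cfsg.Agent.Helper82.PRat.Rat
import Cfsg.Agent.Helper29.PRatADS
import Cfsg.Agent.Helper25.PRatEP
import Cfsg.Agent.Helper33.PRatEXTCore

set_option autoImplicit false

/-!
# (EXT) of #4790 for S4892 (helper82), exact skeleton signature.   (helper33)
-/

namespace Cfsg.Agent.Helper33.PRatEXT

open Cfsg Cfsg.Agent.Helper82.PRat

variable {G : Type*} [Group G] [Finite G] (p : ℕ) [Fact p.Prime] (M : Ideal AlgInt)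
  (N : Subgroup G) [N.Normal]

/-- (EXT) `θ` extends to `G = N C_G(Q)`. -/
theorem exists_extension (hM : IsPModular p M) (hp : p ≠ 2) (Q : Sylow p ↥N)
    (hcov : N ⊔ Subgroup.centralizer (((Q : Subgroup ↥N).map N.subtype : Subgroup G) : Set G) = ⊤)
    (θ : IrrCharacter ↥N)
    (hinv : ∀ g : G, ∀ n n' : ↥N, (n' : G) = g * (n : G) * g⁻¹ → (θ : ↥N → ℂ) n' = (θ : ↥N → ℂ) n)
    (hdeg : ¬ p ∣ charDegree (θ : ↥N → ℂ)) (hrat : IsPRat p (θ : ↥N → ℂ))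
    (hθ : θ ∈ principalBlock M ↥N) :
    ∃ ψ : IrrCharacter G, ∀ x : ↥N, (ψ : G → ℂ) x = (θ : ↥N → ℂ) x := by
  have hchar : IsCharacter ↥N (θ : ↥N → ℂ) := by
    obtain ⟨n, ρ, -, h⟩ := θ.2
    exact ⟨n, ρ, h⟩
  have hdet : ¬ p ∣ detOrder (θ : ↥N → ℂ) := not_dvd_detOrder_of_isPRat p hp hchar hrat
  refine exists_extension_of p N θ hinv ?_ ?_
  · intro S hNS hnd
    obtain ⟨η, ⟨-, hη⟩, -⟩ := Cfsg.Agent.Helper29.PRat.ad_unique p M N hM Q hcov S hNS hnd θ hθ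
    exact ⟨η, hη⟩
  · intro S hNS hc
    exact Cfsg.Agent.Helper25.PRatEP.ext_p p N S hNS hc θ hinv hdeg hdet

end Cfsg.Agent.Helper33.PRatEXT
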