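import Mathlib
import Cfsg.Agent.Helper88.PSp4Fus

set_option autoImplicit false

/-!
# (T1), (T2) of #5347 for S5320 (helper88): from the conditions modulo `Z` in `G` to the conditions
in `G ⧸ Z`.   (helper33)
-/

namespace Cfsg.Agent.Helper33.PSp4

open Cfsg.Agent.Helper85 Cfsg.Agent.Helper84 Cfsg.Agent.Helper88.PSp4F

theorem comap_map_mk_eq {G : Type*} [Group G] (Z S : Subgroup G) [Z.Normal] (hZS : Z ≤ S) :
    (S.map (QuotientGroup.mk' Z)).comap (QuotientGroup.mk' Z) = S := by
  rw [Subgroup.comap_map_eq, QuotientGroup.ker_mk']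
  exact sup_eq_left.2 hZS

/-- (T1) -/
theorem noStrClosed_map_of_mod {G : Type*} [Group G] (Z S : Subgroup G) [Z.Normal] (hZS : Z ≤ S)
    (h : NoStrClosedMod Z S) : NoStrClosed (S.map (QuotientGroup.mk' Z)) := by
  intro T' hT'S hcl
  have hsurj : Function.Surjective (QuotientGroup.mk' Z) := QuotientGroup.mk'_surjective Z
  have hZT : Z ≤ T'.comap (QuotientGroup.mk' Z) := by
    intro z hz
    rw [Subgroup.mem_comap]
    have : (QuotientGroup.mk' Z) z = 1 := by
      have : z ∈ (QuotientGroup.mk' Z).ker := by rw [QuotientGroup.ker_mk']; exact hz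
      exact this
    rw [this]
    exact T'.one_mem
  have hTS : T'.comap (QuotientGroup.mk' Z) ≤ S := by
    rw [← comap_map_mk_eq Z S hZS]
    exact Subgroup.comap_mono hT'S
  have hclosed : ∀ t ∈ T'.comap (QuotientGroup.mk' Z), ∀ g : G, g * t * g⁻¹ ∈ S →
      g * t * g⁻¹ ∈ T'.comap (QuotientGroup.mk' Z) := by
    intro t ht g hg
    rw [Subgroup.mem_comap] at ht ⊢
    have h1 := hcl _ ht ((QuotientGroup.mk' Z) g) (by
      have := Subgroup.mem_map_of_mem (QuotientGroup.mk' Z) hg
      simpa using this)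
    simpa using h1
  rcases h _ hZT hTS hclosed with h1 | h1
  · left
    rw [eq_bot_iff]
    intro t' ht'
    obtain ⟨t, rfl⟩ := hsurj t'
    have h2 : t ∈ T'.comap (QuotientGroup.mk' Z) := ht'
    rw [h1] at h2
    rw [Subgroup.mem_bot]
    have : t ∈ (QuotientGroup.mk' Z).ker := by rw [QuotientGroup.ker_mk']; exact h2
    exact this
  · right
    rw [← Subgroup.map_comap_eq_self_of_surjective hsurj T', h1]

end Cfsg.Agent.Helper33.PSp4
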