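import Mathlib
import Cfsg.Agent.Helper88.PSp4Fus
import Cfsg.Agent.Helper33.PSp4T1

set_option autoImplicit false

/-!
# (T2) of #5347 for S5320 (helper88).   (helper33)
-/

namespace Cfsg.Agent.Helper33.PSp4

open Cfsg.Agent.Helper85 Cfsg.Agent.Helper84 Cfsg.Agent.Helper88.PSp4F

/-- (T2) -/
theorem locGen_map_of_mod {G : Type*} [Group G] (p : ℕ) [Fact p.Prime] (Z S : Subgroup G) [Z.Normal] (hZS : Z ≤ S)
    (h : LocGenMod p Z S) : LocGen p (S.map (QuotientGroup.mk' Z)) := by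
  have hp : p.Prime := Fact.out
  have hsurj : Function.Surjective (QuotientGroup.mk' Z) := QuotientGroup.mk'_surjective Z
  intro g' hg'
  obtain ⟨g, rfl⟩ := hsurj g'
  -- `g` normalizes `S`
  have hgS : g ∈ Subgroup.normalizer (S : Set G) := by
    rw [Subgroup.mem_normalizer_iff]
    intro x
    have h1 := (Subgroup.mem_normalizer_iff.1 hg') ((QuotientGroup.mk' Z) x)
    have h2 : ∀ y : G, (QuotientGroup.mk' Z) y ∈ S.map (QuotientGroup.mk' Z) ↔ y ∈ S := by
      intro y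
      rw [← Subgroup.mem_comap, comap_map_mk_eq Z S hZS]
    rw [← h2 x, ← h2 (g * x * g⁻¹), h1]
    simp
  have h1 := h hgS
  have h2 : (QuotientGroup.mk' Z) g ∈ (Subgroup.closure (LocSetMod p Z S)).map (QuotientGroup.mk' Z) :=
    Subgroup.mem_map_of_mem _ h1
  rw [MonoidHom.map_closure] at h2
  refine (Subgroup.closure_mono ?_) h2
  rintro _ ⟨x, ⟨hxN, hx⟩, rfl⟩
  refine ⟨Subgroup.le_normalizer_map _ (Subgroup.mem_map_of_mem _ hxN), ?_⟩
  rcases hx with hx | ⟨R, hZR, hRS, hSR, hcen, hxcl⟩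
  · exact Or.inl (Subgroup.mem_map_of_mem _ hx)
  · right; right
    refine ⟨R.map (QuotientGroup.mk' Z), Subgroup.map_mono hRS, ?_, ?_, ?_⟩
    · exact (Subgroup.map_mono hSR).trans (Subgroup.le_normalizer_map _)
    · intro y' hy'
      obtain ⟨y, rfl⟩ := hsurj y'
      apply Subgroup.mem_map_of_mem
      apply hcen
      intro r hr
      have h3 := Subgroup.mem_centralizer_iff.1 hy' ((QuotientGroup.mk' Z) r)
        (Subgroup.mem_map_of_mem _ hr)
      have h4 : (QuotientGroup.mk' Z) (y * r * y⁻¹ * r⁻¹) = 1 := by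
        rw [map_mul, map_mul, map_mul, map_inv, map_inv, ← h3]
        group
      have : y * r * y⁻¹ * r⁻¹ ∈ (QuotientGroup.mk' Z).ker := h4
      rwa [QuotientGroup.ker_mk'] at this
    · have h5 : (QuotientGroup.mk' Z) x ∈ (Subgroup.closure {x : G | x ∈ Subgroup.normalizer (R : Set G) ∧
          ∃ k : ℕ, orderOf x = p ^ k}).map (QuotientGroup.mk' Z) := Subgroup.mem_map_of_mem _ hxcl
      rw [MonoidHom.map_closure] at h5
      refine (Subgroup.closure_mono ?_) h5
      rintro _ ⟨y, ⟨hyN, k, hk⟩, rfl⟩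
      refine ⟨Subgroup.le_normalizer_map _ (Subgroup.mem_map_of_mem _ hyN), ?_⟩
      have h6 : orderOf ((QuotientGroup.mk' Z) y) ∣ p ^ k := hk ▸ orderOf_map_dvd _ y
      obtain ⟨j, -, hj⟩ := (Nat.dvd_prime_pow hp).1 h6
      exact ⟨j, hj⟩

end Cfsg.Agent.Helper33.PSp4
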