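import Cfsg.Agent.Helper33.FusMisc

set_option autoImplicit false

namespace Cfsg.Agent.Helper33

variable {G : Type*} [Group G]

/-- If `G = N_G(W₁(T)) N_G(W₂(T))` for a Sylow `p`-subgroup `T`, then the pair `{W₁, W₂}` controls strong
fusion in `G`. -/
theorem familyControls_pair_of_factorization {p : ℕ} [Fact p.Prime] [Finite G]
    {W₁ W₂ : Subgroup G → Subgroup G} (h₁ : Cfsg.IsConjugacyFunctor p W₁)
    (h₂ : Cfsg.IsConjugacyFunctor p W₂) (T : Sylow p G)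
    (hfac : ∀ x : G, ∃ a ∈ Subgroup.normalizer ((W₁ (T : Subgroup G) : Subgroup G) : Set G),
      ∃ b ∈ Subgroup.normalizer ((W₂ (T : Subgroup G) : Subgroup G) : Set G), x = a * b) :
    Cfsg.FamilyControlsStrongFusionIn p {W₁, W₂} ⊤ := by
  apply ctl_of_reach T.2 T.not_dvd_index
  intro A g hA hgA
  obtain ⟨N₁, hN₁⟩ : ∃ N₁ : Subgroup G,
    N₁ = Subgroup.normalizer ((W₁ (T : Subgroup G) : Subgroup G) : Set G) := ⟨_, rfl⟩
  obtain ⟨N₂, hN₂⟩ : ∃ N₂ : Subgroup G,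
    N₂ = Subgroup.normalizer ((W₂ (T : Subgroup G) : Subgroup G) : Set G) := ⟨_, rfl⟩
  have hTN₁ : (T : Subgroup G) ≤ N₁ :=
    hN₁ ▸ le_trans Subgroup.le_normalizer (normalizer_le_normalizer_functor h₁ T.2)
  have hTN₂ : (T : Subgroup G) ≤ N₂ :=
    hN₂ ▸ le_trans Subgroup.le_normalizer (normalizer_le_normalizer_functor h₂ T.2)
  obtain ⟨a, ha, b, hb, rfl⟩ := hfac g
  rw [← hN₁] at ha
  rw [← hN₂] at hb
  obtain ⟨A₀, hA₀⟩ : ∃ A₀ : Subgroup G, A₀ = Subgroup.closure A := ⟨_, rfl⟩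
  have hA₀T : A₀ ≤ (T : Subgroup G) := hA₀ ▸ (Subgroup.closure_le _).mpr hA
  have hgA₀ : conjR (a * b) (A₀ : Set G) ⊆ ((T : Subgroup G) : Set G) :=
    hA₀ ▸ conjR_closure_subset (S := (T : Subgroup G)) hgA
  -- `B = a⁻¹ A₀ a`
  obtain ⟨B, hB⟩ : ∃ B : Subgroup G, B = A₀.map (MulAut.conj a⁻¹).toMonoidHom := ⟨_, rfl⟩
  have hBmem : ∀ y, y ∈ B ↔ a * y * a⁻¹ ∈ A₀ := by
    intro y
    rw [hB, mem_map_conj_iff, inv_inv]
  have hBp : IsPGroup p B := hB ▸ (T.2.to_le hA₀T).map _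
  have hBN₁ : B ≤ N₁ := by
    intro y hy
    have h1 : a * y * a⁻¹ ∈ N₁ := hTN₁ (hA₀T ((hBmem y).mp hy))
    have := N₁.mul_mem (N₁.mul_mem (N₁.inv_mem ha) h1) ha
    simpa [mul_assoc] using this
  have hBN₂ : B ≤ N₂ := by
    intro y hy
    have h1 : (a * b)⁻¹ * (a * y * a⁻¹) * (a * b) ∈ (T : Subgroup G) :=
      hgA₀ ⟨_, (hBmem y).mp hy, rfl⟩
    have h2 : b⁻¹ * y * b ∈ N₂ := by
      have e : (a * b)⁻¹ * (a * y * a⁻¹) * (a * b) = b⁻¹ * y * b := by group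
      rw [e] at h1
      exact hTN₂ h1
    have := N₂.mul_mem (N₂.mul_mem hb h2) (N₂.inv_mem hb)
    simpa [mul_assoc] using this
  have hidx : ¬ p ∣ (T : Subgroup G).relIndex (N₁ ⊓ N₂) := fun hd =>
    T.not_dvd_index (hd.trans (Subgroup.relIndex_dvd_index_of_le (le_inf hTN₁ hTN₂)))
  obtain ⟨d, hd, hdB⟩ := exists_conj_le_of_not_dvd_relIndex (le_inf hTN₁ hTN₂) T.2 hidx
    (le_inf hBN₁ hBN₂) hBp
  obtain ⟨hd₁, hd₂⟩ := Subgroup.mem_inf.mp hd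
  have hstep1 : conjR (a * d⁻¹) A ⊆ ((T : Subgroup G) : Set G) := by
    rintro _ ⟨x, hx, rfl⟩
    have hxB : a⁻¹ * x * a ∈ B := by
      rw [hBmem]
      have : x ∈ A₀ := hA₀ ▸ Subgroup.subset_closure hx
      simpa [mul_assoc] using this
    have := hdB _ hxB
    have e : d * (a⁻¹ * x * a) * d⁻¹ = (a * d⁻¹)⁻¹ * x * (a * d⁻¹) := by group
    rw [e] at this
    exact this
  have hK1 : a * d⁻¹ ∈ KW ({W₁, W₂} : Set (Subgroup G → Subgroup G)) ⊤ (T : Subgroup G) := by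
    refine ⟨W₁, Set.mem_insert _ _, Subgroup.mem_inf.mpr ⟨Subgroup.mem_top _, ?_⟩⟩
    rw [← hN₁]
    exact N₁.mul_mem ha (N₁.inv_mem hd₁)
  have hK2 : d * b ∈ KW ({W₁, W₂} : Set (Subgroup G → Subgroup G)) ⊤ (T : Subgroup G) := by
    refine ⟨W₂, Set.mem_insert_of_mem _ rfl, Subgroup.mem_inf.mpr ⟨Subgroup.mem_top _, ?_⟩⟩
    rw [← hN₂]
    exact N₂.mul_mem hd₂ hb
  have e : a * b = (a * d⁻¹) * (d * b) := by group
  rw [e]
  apply Reach.of_rchain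
  refine RChain.cons A (a * d⁻¹) (d * b) hK1 hstep1 ?_
  apply RChain.single hK2
  rw [← conjR_mul, ← e]
  exact hgA

end Cfsg.Agent.Helper33
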