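import Cfsg.Agent.Helper33.FusReach

set_option autoImplicit false

universe u

namespace Cfsg.Agent.Helper33

variable {p : ℕ} {G : Type u} [Group G] [Finite G]
  {𝓦 : Set (∀ (Q : Type u) [Group Q], Subgroup Q)}

/-- Control of strong fusion in the group `↥H` gives control of strong fusion in the subgroup `H`. -/
theorem familyControlsIn_of_subgroup (h𝓦 : ∀ W ∈ 𝓦, Cfsg.IsCharPFunctor.{u} p W) (H : Subgroup G)
    (h : Cfsg.FamilyControlsStrongFusionIn p (FamW 𝓦 ↥H) ⊤) :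
    Cfsg.FamilyControlsStrongFusionIn p (FamW 𝓦 G) H := by
  obtain ⟨T₀, -, hT₀p, hT₀idx, hT₀⟩ := h
  have hmem : ∀ x : ↥H, (x : G) ∈ T₀.map H.subtype ↔ x ∈ T₀ := by
    intro x
    constructor
    · rintro ⟨y, hy, hyx⟩
      have : y = x := Subtype.ext hyx
      rwa [← this]
    · intro hx
      exact ⟨x, hx, rfl⟩
  refine ⟨T₀.map H.subtype, Subgroup.map_subtype_le _, hT₀p.map _, ?_, ?_⟩
  · rw [Subgroup.relIndex_top_right] at hT₀idx
    have e : (T₀.map H.subtype).subgroupOf H = T₀ := by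
      ext x
      rw [Subgroup.mem_subgroupOf]
      exact hmem x
    unfold Subgroup.relIndex
    rw [e]
    exact hT₀idx
  · intro A x hx hA hxA
    have hA' : H.subtype ⁻¹' A ⊆ (T₀ : Set ↥H) := by
      intro a ha
      exact (hmem a).mp (hA ha)
    have hxA' : (fun a => (⟨x, hx⟩ : ↥H) * a * (⟨x, hx⟩ : ↥H)⁻¹) '' (H.subtype ⁻¹' A) ⊆ (T₀ : Set ↥H) := by
      rintro _ ⟨a, ha, rfl⟩
      apply (hmem _).mp
      exact hxA ⟨(a : G), ha, rfl⟩
    obtain ⟨n, c, hc0, hcstep, hcimg, hclast⟩ := hT₀ _ ⟨x, hx⟩ (Subgroup.mem_top _) hA' hxA'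
    have hAH : ∀ a ∈ A, ∃ a' : ↥H, a' ∈ H.subtype ⁻¹' A ∧ (a' : G) = a := by
      intro a ha
      have : a ∈ H := Subgroup.map_subtype_le _ (hA ha)
      exact ⟨⟨a, this⟩, ha, rfl⟩
    refine ⟨n, fun i => (c i : G), ?_, ?_, ?_, ?_⟩
    · show ((c 0 : ↥H) : G) = 1
      rw [hc0]; rfl
    · intro i
      obtain ⟨_, ⟨W, hW, rfl⟩, hmemN⟩ := hcstep i
      refine ⟨_, ⟨W, hW, rfl⟩, ?_⟩
      have h2 := (Subgroup.mem_inf.mp hmemN).2
      refine Subgroup.mem_inf.mpr ⟨?_, ?_⟩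
      · exact H.mul_mem (c i.succ).2 (H.inv_mem (c i.castSucc).2)
      · show (c i.succ : G) * ((c i.castSucc : ↥H) : G)⁻¹ ∈
          Subgroup.normalizer ((Cfsg.inducedFunctor W (T₀.map H.subtype) : Subgroup G) : Set G)
        rw [inducedFunctor_map_of_injective (h𝓦 W hW) H.subtype H.subtype_injective T₀ hT₀p]
        apply Subgroup.le_normalizer_map H.subtype
        exact ⟨_, h2, rfl⟩
    · rintro i _ ⟨a, ha, rfl⟩
      obtain ⟨a', ha', rfl⟩ := hAH a ha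
      have := hcimg i ⟨a', ha', rfl⟩
      exact (hmem _).mpr this
    · intro a ha
      obtain ⟨a', ha', rfl⟩ := hAH a ha
      have := hclast a' ha'
      exact congrArg Subtype.val this

/-- Elements of a subgroup `H ⊇ S` in which the family controls strong fusion act on subsets of `S` by
reachable conjugations. -/
theorem reach_of_subgroup [Fact p.Prime] (h𝓦 : ∀ W ∈ 𝓦, Cfsg.IsCharPFunctor.{u} p W) (H : Subgroup G)
    (h : Cfsg.FamilyControlsStrongFusionIn p (FamW 𝓦 ↥H) ⊤) {S : Subgroup G} (hSH : S ≤ H)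
    (hSp : IsPGroup p S) (hSidx : ¬ p ∣ S.index) {A : Set G} {g : G} (hg : g ∈ H)
    (hA : A ⊆ (S : Set G)) (hgA : conjR g A ⊆ (S : Set G)) :
    Reach (KW (FamW 𝓦 G) ⊤ S) (S : Set G) A g :=
  (reach_of_ctlIn (famW_isConjugacyFunctor h𝓦 G) (familyControlsIn_of_subgroup h𝓦 H h) hSH hSp
    (fun hd => hSidx (hd.trans (Subgroup.relIndex_dvd_index_of_le hSH))) hg hA hgA).mono_K
    (KW_mono le_top)

end Cfsg.Agent.Helper33
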