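import Cfsg.Agent.Helper33.FusMisc
import Cfsg.Agent.Helper33.SubTransport

set_option autoImplicit false

universe u

open scoped Pointwise

namespace Cfsg.Agent.Helper33

variable {p : ℕ} {G : Type u} [Group G] [Finite G]
  {𝓦 : Set (∀ (Q : Type u) [Group Q], Subgroup Q)}

/-- Control of strong fusion lifts from the quotient by a normal `p'`-subgroup. -/
theorem reach_of_quotient_pPrime [Fact p.Prime] (h𝓦 : ∀ W ∈ 𝓦, Cfsg.IsCharPFunctor.{u} p W)
    (M : Subgroup G) [M.Normal] (hM : (Nat.card M).Coprime p)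
    (h : Cfsg.FamilyControlsStrongFusionIn p (FamW 𝓦 (G ⧸ M)) ⊤) {S : Subgroup G}
    (hSp : IsPGroup p S) (hSidx : ¬ p ∣ S.index) {A : Set G} {g : G}
    (hA : A ⊆ (S : Set G)) (hgA : conjR g A ⊆ (S : Set G)) :
    Reach (KW (FamW 𝓦 G) ⊤ S) (S : Set G) A g := by
  obtain ⟨f, hf⟩ : ∃ f : G →* G ⧸ M, f = QuotientGroup.mk' M := ⟨_, rfl⟩
  have hfs : Function.Surjective f := hf ▸ QuotientGroup.mk'_surjective M
  have hker : f.ker = M := by rw [hf]; exact QuotientGroup.ker_mk' M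
  have hSM : S ⊓ M = ⊥ := by
    apply (Subgroup.disjoint_of_coprime_natCard ?_).eq_bot
    obtain ⟨k, hk⟩ := IsPGroup.iff_card.mp hSp
    rw [hk]
    exact (Nat.Coprime.pow_left k hM.symm)
  have hinj : Set.InjOn f (S : Set G) := by
    intro a ha b hb hab
    have h1 : a⁻¹ * b ∈ f.ker := by
      rw [MonoidHom.mem_ker, map_mul, map_inv, hab, inv_mul_cancel]
    rw [hker] at h1
    have h2 : a⁻¹ * b ∈ S ⊓ M := Subgroup.mem_inf.mpr ⟨S.mul_mem (S.inv_mem ha) hb, h1⟩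
    rw [hSM, Subgroup.mem_bot] at h2
    exact inv_mul_eq_one.mp h2
  have hSbp : IsPGroup p (S.map f) := hSp.map f
  have hSbidx : ¬ p ∣ (S.map f).relIndex ⊤ := by
    rw [Subgroup.relIndex_top_right]
    intro hd
    exact hSidx (hd.trans (Subgroup.index_map_dvd S hfs))
  have hAb : f '' A ⊆ ((S.map f : Subgroup (G ⧸ M)) : Set (G ⧸ M)) := by
    rintro _ ⟨a, ha, rfl⟩
    exact ⟨a, hA ha, rfl⟩
  have hgAb : conjR (f g) (f '' A) ⊆ ((S.map f : Subgroup (G ⧸ M)) : Set (G ⧸ M)) := by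
    rw [← image_conjR]
    rintro _ ⟨a, ha, rfl⟩
    exact ⟨a, hgA ha, rfl⟩
  obtain ⟨x', hch, hag⟩ := reach_of_ctlIn (famW_isConjugacyFunctor h𝓦 (G ⧸ M)) h le_top hSbp hSbidx
    (Subgroup.mem_top _) hAb hgAb
  have hstep : ∀ z' ∈ KW (FamW 𝓦 (G ⧸ M)) ⊤ (S.map f), ∀ B : Set G, B ⊆ (S : Set G) →
      conjR z' (f '' B) ⊆ ((S.map f : Subgroup (G ⧸ M)) : Set (G ⧸ M)) →
      ∃ z, f z = z' ∧ Reach (KW (FamW 𝓦 G) ⊤ S) (S : Set G) B z := by
    rintro z' ⟨_, ⟨W, hW, rfl⟩, hz'⟩ B hB hzB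
    have hz'N := (Subgroup.mem_inf.mp hz').2
    obtain ⟨V, hV⟩ : ∃ V : Subgroup G, V = Cfsg.inducedFunctor W S := ⟨_, rfl⟩
    have hVS : V ≤ S := hV ▸ (isConjugacyFunctor_inducedFunctor (h𝓦 W hW) G S hSp).1
    have hVb : Cfsg.inducedFunctor W (S.map f) = V.map f := by
      rw [hV]
      exact inducedFunctor_map_of_injOn (h𝓦 W hW) f S hSp hinj
    have hz'N' : z' ∈ Subgroup.normalizer ((V.map f : Subgroup (G ⧸ M)) : Set (G ⧸ M)) := by
      rw [← hVb]; exact hz'N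
    obtain ⟨R, hR⟩ : ∃ R : Subgroup G, R = Subgroup.closure (B ∪ (V : Set G)) := ⟨_, rfl⟩
    have hRS : R ≤ S := by
      rw [hR, Subgroup.closure_le]
      exact Set.union_subset hB hVS
    have hBR : B ⊆ (R : Set G) := fun b hb => hR ▸ Subgroup.subset_closure (Or.inl hb)
    have hVR : V ≤ R := fun v hv => hR ▸ Subgroup.subset_closure (Or.inr hv)
    -- `z'` conjugates the image of `R` into the image of `S`
    have hRz : ∀ r ∈ R, z'⁻¹ * f r * z' ∈ S.map f := by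
      have : R ≤ ((S.map f).comap (MulAut.conj z'⁻¹).toMonoidHom).comap f := by
        rw [hR, Subgroup.closure_le]
        rintro b (hb | hb)
        · show (MulAut.conj z'⁻¹) (f b) ∈ S.map f
          rw [MulAut.conj_apply, inv_inv]
          exact hzB ⟨f b, ⟨b, hb, rfl⟩, rfl⟩
        · show (MulAut.conj z'⁻¹) (f b) ∈ S.map f
          rw [MulAut.conj_apply, inv_inv]
          have h1 : f b ∈ V.map f := ⟨b, hb, rfl⟩
          have h2 := (Subgroup.mem_normalizer_iff.mp (Subgroup.inv_mem _ hz'N') (f b)).mp h1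
          rw [inv_inv] at h2
          exact Subgroup.map_mono hVS h2
      intro r hr
      have h1 : (MulAut.conj z'⁻¹) (f r) ∈ S.map f := this hr
      rw [MulAut.conj_apply, inv_inv] at h1
      exact h1
    obtain ⟨z₀, hz₀⟩ := hfs z'
    obtain ⟨R', hR'⟩ : ∃ R' : Subgroup G, R' = R.map (MulAut.conj z₀⁻¹).toMonoidHom := ⟨_, rfl⟩
    have hR'p : IsPGroup p R' := hR' ▸ (hSp.to_le hRS).map _
    have hR'le : R' ≤ S ⊔ M := by
      rw [hR']
      rintro _ ⟨r, hr, rfl⟩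
      have h1 := hRz r hr
      have h2 : (MulAut.conj z₀⁻¹).toMonoidHom r ∈ (S.map f).comap f := by
        show f ((MulAut.conj z₀⁻¹) r) ∈ S.map f
        rw [MulAut.conj_apply, inv_inv, map_mul, map_mul, map_inv, hz₀]
        exact h1
      rw [Subgroup.comap_map_eq, hker] at h2
      exact h2
    have hidx : ¬ p ∣ S.relIndex (S ⊔ M) := fun hd =>
      hSidx (hd.trans (Subgroup.relIndex_dvd_index_of_le le_sup_left))
    obtain ⟨y, hy, hyR⟩ := exists_conj_le_of_not_dvd_relIndex le_sup_left hSp hidx hR'le hR'p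
    have hy' : y ∈ ((S ⊔ M : Subgroup G) : Set G) := hy
    rw [Subgroup.mul_normal] at hy'
    obtain ⟨s, hs, m, hm, rfl⟩ := hy'
    have hfm : f m = 1 := by
      rw [← MonoidHom.mem_ker, hker]; exact hm
    have hzR : ∀ r ∈ R, (z₀ * m⁻¹)⁻¹ * r * (z₀ * m⁻¹) ∈ S := by
      intro r hr
      have h1 : z₀⁻¹ * r * z₀ ∈ R' := by
        rw [hR']
        exact ⟨r, hr, by simp⟩
      have h2 := hyR _ h1
      have h3 := S.mul_mem (S.mul_mem (S.inv_mem hs) h2) hs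
      have e : s⁻¹ * (s * m * (z₀⁻¹ * r * z₀) * (s * m)⁻¹) * s = (z₀ * m⁻¹)⁻¹ * r * (z₀ * m⁻¹) := by
        group
      rw [e] at h3
      exact h3
    have hfz : f (z₀ * m⁻¹) = z' := by
      rw [map_mul, map_inv, hfm, hz₀, inv_one, mul_one]
    refine ⟨z₀ * m⁻¹, hfz, ?_⟩
    apply Reach.of_rchain
    apply RChain.single
    · refine ⟨_, ⟨W, hW, rfl⟩, Subgroup.mem_inf.mpr ⟨Subgroup.mem_top _, ?_⟩⟩
      show z₀ * m⁻¹ ∈ Subgroup.normalizer ((Cfsg.inducedFunctor W S : Subgroup G) : Set G)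
      rw [← hV]
      apply mem_normalizer_of_conjR_subset
      rintro _ ⟨v, hv, rfl⟩
      have h1 : (z₀ * m⁻¹)⁻¹ * v * (z₀ * m⁻¹) ∈ S := hzR v (hVR hv)
      have h2 : f ((z₀ * m⁻¹)⁻¹ * v * (z₀ * m⁻¹)) ∈ V.map f := by
        rw [map_mul, map_mul, map_inv, hfz]
        have h3 : f v ∈ V.map f := ⟨v, hv, rfl⟩
        have h4 := (Subgroup.mem_normalizer_iff.mp (Subgroup.inv_mem _ hz'N') (f v)).mp h3
        rw [inv_inv] at h4
        exact h4
      obtain ⟨v', hv', hvv⟩ := h2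
      have := hinj (hVS hv') h1 hvv
      show (z₀ * m⁻¹)⁻¹ * v * (z₀ * m⁻¹) ∈ V
      rw [← this]; exact hv'
    · rintro _ ⟨b, hb, rfl⟩
      exact hzR b (hBR hb)
  obtain ⟨x, hfx, hRx⟩ := hch.lift_surj f hstep A hA rfl
  apply hRx.congr
  intro a ha
  have h1 : x⁻¹ * a * x ∈ S := hRx.conjR_subset hA ⟨a, ha, rfl⟩
  have h2 : g⁻¹ * a * g ∈ S := hgA ⟨a, ha, rfl⟩
  apply hinj h1 h2
  rw [map_mul, map_mul, map_inv, map_mul, map_mul, map_inv, hfx]
  exact hag (f a) ⟨a, ha, rfl⟩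

end Cfsg.Agent.Helper33
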