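import Cfsg.Agent.Helper33.FChain

set_option autoImplicit false

namespace Cfsg.Agent.Helper33

variable {G : Type*} [Group G]

/-- Chains of right conjugations by elements of `K`, all intermediate sets staying inside `D`. -/
inductive RChain (K D : Set G) : Set G → G → Prop
  | nil (A : Set G) : RChain K D A 1
  | cons (A : Set G) (z g : G) : z ∈ K → conjR z A ⊆ D → RChain K D (conjR z A) g →
      RChain K D A (z * g)

variable {K D : Set G}

theorem RChain.mono {A B : Set G} {g : G} (h : RChain K D B g) (hAB : A ⊆ B) : RChain K D A g := by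
  induction h generalizing A with
  | nil B => exact RChain.nil A
  | cons B z g hz hzB _ ih =>
    exact RChain.cons A z g hz ((conjR_mono hAB).trans hzB) (ih (conjR_mono hAB))

theorem RChain.single {A : Set G} {z : G} (hz : z ∈ K) (hzA : conjR z A ⊆ D) : RChain K D A z := by
  have := RChain.cons A z 1 hz hzA (RChain.nil _)
  rwa [mul_one] at this

theorem RChain.append {A : Set G} {g h : G} (h1 : RChain K D A g) (h2 : RChain K D (conjR g A) h) :
    RChain K D A (g * h) := by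
  induction h1 with
  | nil A => rwa [one_mul, ← conjR_one A]
  | cons A z g hz hzA _ ih =>
    rw [mul_assoc]
    refine RChain.cons A z (g * h) hz hzA (ih ?_)
    rwa [← conjR_mul]

theorem RChain.inv (hK : ∀ z ∈ K, z⁻¹ ∈ K) {A : Set G} {g : G} (h : RChain K D A g) (hA : A ⊆ D) :
    RChain K D (conjR g A) g⁻¹ := by
  induction h with
  | nil A => rw [inv_one]; exact RChain.nil _
  | cons A z g hz hzA _ ih =>
    rw [mul_inv_rev, conjR_mul]
    refine RChain.append (ih hzA) ?_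
    rw [conjR_inv_conjR]
    refine RChain.single (hK z hz) ?_
    rw [conjR_inv_conjR]
    exact hA

theorem RChain.conjR_subset {A : Set G} {g : G} (h : RChain K D A g) (hA : A ⊆ D) : conjR g A ⊆ D := by
  induction h with
  | nil A => rwa [conjR_one]
  | cons A z g hz hzA _ ih =>
    rw [conjR_mul]
    exact ih hzA

/-- `g` is reachable on `A`: some chain element induces the same right conjugation on `A`. -/
def Reach (K D : Set G) (A : Set G) (g : G) : Prop :=
  ∃ g' : G, RChain K D A g' ∧ ∀ a ∈ A, g'⁻¹ * a * g' = g⁻¹ * a * g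

theorem conjR_congr {A : Set G} {g g' : G} (h : ∀ a ∈ A, g'⁻¹ * a * g' = g⁻¹ * a * g) :
    conjR g' A = conjR g A := by
  ext y
  constructor
  · rintro ⟨a, ha, rfl⟩
    exact ⟨a, ha, (h a ha).symm⟩
  · rintro ⟨a, ha, rfl⟩
    exact ⟨a, ha, h a ha⟩

theorem Reach.mono {A B : Set G} {g : G} (h : Reach K D B g) (hAB : A ⊆ B) : Reach K D A g := by
  obtain ⟨g', hch, hag⟩ := h
  exact ⟨g', hch.mono hAB, fun a ha => hag a (hAB ha)⟩

theorem Reach.of_rchain {A : Set G} {g : G} (h : RChain K D A g) : Reach K D A g :=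
  ⟨g, h, fun _ _ => rfl⟩

theorem Reach.refl (A : Set G) : Reach K D A 1 := Reach.of_rchain (RChain.nil A)

theorem Reach.congr {A : Set G} {g h : G} (hr : Reach K D A g)
    (hgh : ∀ a ∈ A, g⁻¹ * a * g = h⁻¹ * a * h) : Reach K D A h := by
  obtain ⟨g', hch, hag⟩ := hr
  exact ⟨g', hch, fun a ha => (hag a ha).trans (hgh a ha)⟩

theorem Reach.trans {A : Set G} {g h : G} (h1 : Reach K D A g) (h2 : Reach K D (conjR g A) h) :
    Reach K D A (g * h) := by
  obtain ⟨g', hch1, hag1⟩ := h1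
  obtain ⟨h', hch2, hag2⟩ := h2
  refine ⟨g' * h', hch1.append ?_, ?_⟩
  · rw [conjR_congr hag1]; exact hch2
  · intro a ha
    have e1 : (g' * h')⁻¹ * a * (g' * h') = h'⁻¹ * (g'⁻¹ * a * g') * h' := by group
    have e2 : (g * h)⁻¹ * a * (g * h) = h⁻¹ * (g⁻¹ * a * g) * h := by group
    rw [e1, e2, hag1 a ha]
    exact hag2 _ ⟨a, ha, rfl⟩

theorem Reach.symm (hK : ∀ z ∈ K, z⁻¹ ∈ K) {A : Set G} {g : G} (h : Reach K D A g) (hA : A ⊆ D) :
    Reach K D (conjR g A) g⁻¹ := by
  obtain ⟨g', hch, hag⟩ := h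
  have hc := conjR_congr hag
  refine ⟨g'⁻¹, ?_, ?_⟩
  · rw [← hc]; exact hch.inv hK hA
  · rintro _ ⟨a, ha, rfl⟩
    have := hag a ha
    show g'⁻¹⁻¹ * (g⁻¹ * a * g) * g'⁻¹ = g⁻¹⁻¹ * (g⁻¹ * a * g) * g⁻¹
    calc g'⁻¹⁻¹ * (g⁻¹ * a * g) * g'⁻¹ = g'⁻¹⁻¹ * (g'⁻¹ * a * g') * g'⁻¹ := by rw [this]
      _ = g⁻¹⁻¹ * (g⁻¹ * a * g) * g⁻¹ := by group

theorem Reach.conjR_subset {A : Set G} {g : G} (h : Reach K D A g) (hA : A ⊆ D) : conjR g A ⊆ D := by
  obtain ⟨g', hch, hag⟩ := h
  rw [← conjR_congr hag]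
  exact hch.conjR_subset hA

end Cfsg.Agent.Helper33
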