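import Mathlib
import Cfsg.Agent.Helper81.RU3FGSF
import Cfsg.Agent.Helper81.RU3NTZ

/-!
# (PARAM) of helper84's S2282: the parameter `c` with `c + c̄ + 1 = 0` generating `K` over the
prime field
-/

set_option autoImplicit false
set_option linter.unusedSectionVars false

namespace Cfsg.Agent.Helper33.RUn

variable {K : Type*} [Field K]

variable (bar : K →+* K)

/-- (PARAM) the parameter `c` -/
theorem exists_param [Fintype K] {q : ℕ} (hq2 : 2 ≤ q) (hK : Fintype.card K = q ^ 2)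
    (hq : ∀ x, bar x = x ^ q) :
    ∃ c : K, c + bar c + 1 = 0 ∧
      ∀ A : AddSubgroup K, (∀ x ∈ A, c * x ∈ A) → (1 : K) ∈ A → A = ⊤ := by
  obtain ⟨z, hzord, hzz⟩ := Cfsg.Agent.Helper81.RU3.exists_norm_one (K := K) hq2 hK
  have hz0 : z ≠ 0 := by
    rintro rfl
    rw [zero_mul] at hzz
    exact zero_ne_one hzz
  have hbz : bar z = z⁻¹ := by
    rw [hq z]
    exact eq_inv_of_mul_eq_one_right hzz
  have h1z : 1 + z ≠ 0 := by
    intro h
    have hz1 : z = -1 := by linear_combination h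
    have hz2 : z ^ 2 = 1 := by rw [hz1]; ring
    have hdvd := orderOf_dvd_of_pow_eq_one hz2
    rw [hzord] at hdvd
    have := Nat.le_of_dvd (by norm_num) hdvd
    omega
  refine ⟨-(1 + z)⁻¹, ?_, ?_⟩
  · rw [map_neg, map_inv₀, map_add, map_one, hbz]
    have h1z' : 1 + z⁻¹ ≠ 0 := by
      intro h
      apply h1z
      have : z * (1 + z⁻¹) = 0 := by rw [h, mul_zero]
      rw [mul_add, mul_one, mul_inv_cancel₀ hz0] at this
      rw [add_comm]; exact this
    have e : (1 + z⁻¹)⁻¹ = z * (1 + z)⁻¹ := by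
      rw [inv_eq_iff_eq_inv, mul_inv, inv_inv]
      rw [mul_add, mul_one, inv_mul_cancel₀ hz0, add_comm]
    rw [e]
    have e2 : (1 + z) * (1 + z)⁻¹ = 1 := mul_inv_cancel₀ h1z
    linear_combination -e2
  · intro A hA h1A
    refine Cfsg.Agent.Helper81.RU3.addSubgroup_eq_top (-(1 + z)⁻¹) ?_ A hA one_ne_zero h1A
    intro L hL
    -- `z ∈ L`
    have hzL : z ∈ L := by
      have h1 : (-(1 + z)⁻¹)⁻¹ ∈ L := L.inv_mem hL
      have h2 : (-(1 + z)⁻¹)⁻¹ = -(1 + z) := by
        rw [inv_neg, inv_inv]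
      rw [h2] at h1
      have h3 : -(-(1 + z)) - 1 ∈ L := L.sub_mem (L.neg_mem h1) L.one_mem
      have h4 : -(-(1 + z)) - 1 = z := by ring
      rw [h4] at h3
      exact h3
    refine Cfsg.Agent.Helper81.RU3.subfield_eq_top_of_pow_ne z hz0 ?_ L hzL
    intro s k hsk hk hpow
    rw [hK] at hsk
    have hq4 : 4 ≤ q ^ 2 := by nlinarith
    have hs2 : 2 ≤ s := by
      by_contra hlt
      have : s = 0 ∨ s = 1 := by omega
      rcases this with rfl | rfl
      · rw [zero_pow (by omega)] at hsk; omega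
      · rw [one_pow] at hsk; omega
    have hdvd := orderOf_dvd_of_pow_eq_one hpow
    rw [hzord] at hdvd
    have hle : q + 1 ≤ s - 1 := Nat.le_of_dvd (by omega) hdvd
    have hs : q + 2 ≤ s := by omega
    have h1 : (q + 2) ^ 2 ≤ s ^ k := by
      calc (q + 2) ^ 2 ≤ s ^ 2 := Nat.pow_le_pow_left hs 2
        _ ≤ s ^ k := Nat.pow_le_pow_right (by omega) hk
    rw [← hsk] at h1
    nlinarith

end Cfsg.Agent.Helper33.RUn
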