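import Cfsg.Agent.Helper62.SC3.Defs3

/-!
# S3331 farm, block M, piece (M5) (helper33 for helper62)

`M5_card_sq`: if `M` is an `x`-invariant `3'`-subgroup normalized by `t`, then
`|M| = |C_M(t)|^2`.

Proof: with `t₁ = x t x⁻¹` we show `M = C_M(t) · C_M(t₁)` (every `m ∈ M` factors), the
intersection `C_M(t) ⊓ C_M(t₁)` being trivial (it centralizes `t t₁ = x`), and
`C_M(t₁) = x C_M(t) x⁻¹`.  The factorization: for `m ∈ M` the element
`y = t · (m t₁ m⁻¹)` lies in the coset `M x`, every element of which is an `M`-conjugate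
`n x n⁻¹` of `x` (because `C_M(x) = 1` and `M` is finite); `t` and `m t₁ m⁻¹` invert `y`,
so `n⁻¹ t n` and `n⁻¹ m t₁ m⁻¹ n` invert `x`; as `M ⊓ N(⟨x⟩) = 1` this forces
`n ∈ C_M(t)` and `n⁻¹ m ∈ C_M(t₁)`.
-/

set_option autoImplicit false

namespace Cfsg.Agent.Helper33.SC3

open Cfsg.Agent.Helper62.SC3

universe u

variable {G : Type u} [Group G] [Finite G]

omit [Finite G] in
theorem M5_x_pow (S : Setup G) : S.x ^ 3 = 1 := by
  have h := pow_orderOf_eq_one S.x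
  rwa [S.hx] at h

omit [Finite G] in
theorem M5_t_sq (S : Setup G) : S.t * S.t = 1 := by
  have h := pow_orderOf_eq_one S.t
  rw [S.ht, pow_two] at h
  exact h

omit [Finite G] in
theorem M5_t_inv (S : Setup G) : S.t⁻¹ = S.t := inv_eq_of_mul_eq_one_left (M5_t_sq S)

omit [Finite G] in
/-- `t x t = x⁻¹`. -/
theorem M5_txt (S : Setup G) : S.t * S.x * S.t = S.x⁻¹ := by
  have h := S.htx
  rwa [M5_t_inv S] at h

omit [Finite G] in
/-- `x⁻¹ * x⁻¹ = x`. -/
theorem M5_xinv_sq (S : Setup G) : S.x⁻¹ * S.x⁻¹ = S.x := by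
  have h := M5_x_pow S
  have h2 : S.x * (S.x * S.x) = 1 := by
    rw [← h, pow_succ, pow_two, mul_assoc]
  have h3 : (S.x * S.x)⁻¹ = S.x := inv_eq_of_mul_eq_one_left h2
  rw [← mul_inv_rev]; exact h3

omit [Finite G] in
/-- `M ⊓ ⟨x⟩ = 1`. -/
theorem M5_inf_zpowers (S : Setup G) {M : Subgroup G} (hM : Inv3 S M) {g : G} (hg : g ∈ M)
    (hgx : g ∈ Subgroup.zpowers S.x) : g = 1 := by
  have h1 : orderOf g ∣ Nat.card M := by
    have h := orderOf_dvd_natCard (⟨g, hg⟩ : M)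
    rwa [Subgroup.orderOf_mk] at h
  have h2 : orderOf g ∣ 3 := by
    have h := orderOf_dvd_natCard (⟨g, hgx⟩ : Subgroup.zpowers S.x)
    rw [Subgroup.orderOf_mk, Nat.card_zpowers, S.hx] at h
    exact h
  have h3 : orderOf g ∣ 1 := by
    have h := Nat.dvd_gcd h1 h2
    rwa [Nat.Coprime.gcd_eq_one hM.2] at h
  exact orderOf_eq_one_iff.mp (Nat.dvd_one.mp h3)

omit [Finite G] in
/-- `C_M(x) = 1`. -/
theorem M5_fpf (S : Setup G) {M : Subgroup G} (hM : Inv3 S M) {g : G} (hg : g ∈ M)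
    (hc : g * S.x = S.x * g) : g = 1 := by
  apply M5_inf_zpowers S hM hg
  rw [← S.hC, Subgroup.mem_centralizer_iff]
  intro h hh
  rw [Set.mem_singleton_iff] at hh
  rw [hh]; exact hc.symm

omit [Finite G] in
theorem M5_conj_mem (S : Setup G) {M : Subgroup G} (hM : Inv3 S M) {g : G} (hg : g ∈ M) :
    S.x * g * S.x⁻¹ ∈ M := (Subgroup.mem_normalizer_iff.mp hM.1 g).mp hg

omit [Finite G] in
theorem M5_conj_mem' (S : Setup G) {M : Subgroup G} (hM : Inv3 S M) {g : G} (hg : g ∈ M) :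
    S.x⁻¹ * g * S.x ∈ M := (Subgroup.mem_normalizer_iff''.mp hM.1 g).mp hg

omit [Finite G] in
/-- `M ⊓ N(⟨x⟩) = 1`. -/
theorem M5_inf_normalizer (S : Setup G) {M : Subgroup G} (hM : Inv3 S M) {g : G} (hg : g ∈ M)
    (hgN : g ∈ Subgroup.normalizer (Subgroup.zpowers S.x : Set G)) : g = 1 := by
  have hxX : S.x ∈ Subgroup.zpowers S.x := Subgroup.mem_zpowers S.x
  have h1 : g * S.x * g⁻¹ ∈ Subgroup.zpowers S.x :=
    (Subgroup.mem_normalizer_iff.mp hgN S.x).mp hxX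
  have h2 : g * S.x * g⁻¹ * S.x⁻¹ ∈ Subgroup.zpowers S.x :=
    Subgroup.mul_mem _ h1 (Subgroup.inv_mem _ hxX)
  have h3 : g * S.x * g⁻¹ * S.x⁻¹ ∈ M := by
    have h := M.mul_mem hg (M5_conj_mem S hM (M.inv_mem hg))
    have e : g * (S.x * g⁻¹ * S.x⁻¹) = g * S.x * g⁻¹ * S.x⁻¹ := by simp only [mul_assoc]
    rwa [e] at h
  have h4 := M5_inf_zpowers S hM h3 h2
  apply M5_fpf S hM hg
  have h5 : g * S.x * g⁻¹ = S.x := by
    have := congrArg (fun z => z * S.x) h4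
    simpa using this
  have := congrArg (fun z => z * g) h5
  simpa using this

/-- every element of the coset `M x` is an `M`-conjugate of `x`. -/
theorem M5_conj_surj (S : Setup G) {M : Subgroup G} (hM : Inv3 S M) {y : G}
    (hy : y * S.x⁻¹ ∈ M) : ∃ n ∈ M, y = n * S.x * n⁻¹ := by
  classical
  let f : M → M := fun n => ⟨(n : G) * S.x * (n : G)⁻¹ * S.x⁻¹, by
    have h := M.mul_mem n.2 (M5_conj_mem S hM (M.inv_mem n.2))
    have e : (n : G) * (S.x * (n : G)⁻¹ * S.x⁻¹) = (n : G) * S.x * (n : G)⁻¹ * S.x⁻¹ := by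
      simp only [mul_assoc]
    rwa [e] at h⟩
  have hinj : Function.Injective f := by
    intro a b hab
    have h1 : (a : G) * S.x * (a : G)⁻¹ * S.x⁻¹ = (b : G) * S.x * (b : G)⁻¹ * S.x⁻¹ :=
      congrArg Subtype.val hab
    have h2 : (a : G) * S.x * (a : G)⁻¹ = (b : G) * S.x * (b : G)⁻¹ := mul_right_cancel h1
    have h3 : ((b : G)⁻¹ * (a : G)) * S.x = S.x * ((b : G)⁻¹ * (a : G)) := by
      have := congrArg (fun z => (b : G)⁻¹ * z * (a : G)) h2
      simpa [mul_assoc] using this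
    have h4 := M5_fpf S hM (M.mul_mem (M.inv_mem b.2) a.2) h3
    apply Subtype.ext
    have := congrArg (fun z => (b : G) * z) h4
    simpa using this
  obtain ⟨n, hn⟩ := Finite.surjective_of_injective hinj ⟨y * S.x⁻¹, hy⟩
  refine ⟨n, n.2, ?_⟩
  have h1 : (n : G) * S.x * (n : G)⁻¹ * S.x⁻¹ = y * S.x⁻¹ := congrArg Subtype.val hn
  exact (mul_right_cancel h1).symm

omit [Finite G] in
/-- a conjugate of `x` back: if `g` inverts `x` then `g` normalizes `⟨x⟩`. -/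
theorem M5_mem_normalizer_of_inverts (S : Setup G) {g : G} (hg : g * S.x * g⁻¹ = S.x⁻¹) :
    g ∈ Subgroup.normalizer (Subgroup.zpowers S.x : Set G) := by
  rw [Subgroup.mem_normalizer_iff]
  have key : ∀ k : ℤ, g * S.x ^ k * g⁻¹ = (S.x ^ k)⁻¹ := by
    intro k
    have h := (MulAut.conj g).toMonoidHom.map_zpow S.x k
    simp only [MulEquiv.toMonoidHom_eq_coe, MonoidHom.coe_coe, MulAut.conj_apply] at h
    rw [h, hg, inv_zpow]
  intro h
  constructor
  · rintro ⟨k, rfl⟩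
    rw [key k]
    exact Subgroup.inv_mem _ (Subgroup.zpow_mem_zpowers S.x k)
  · intro hh
    obtain ⟨k, hk⟩ := Subgroup.mem_zpowers_iff.mp hh
    have h2 : h = g⁻¹ * S.x ^ k * g := by
      rw [hk]; simp [mul_assoc]
    have h3 : g * (S.x ^ (-k)) * g⁻¹ = S.x ^ k := by
      rw [key (-k), zpow_neg, inv_inv]
    have h4 : g⁻¹ * S.x ^ k * g = S.x ^ (-k) := by
      rw [← h3]; simp [mul_assoc]
    rw [h2, h4]
    exact Subgroup.zpow_mem_zpowers S.x (-k)

omit [Finite G] in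
theorem M5_t_conj_mem (S : Setup G) {M : Subgroup G}
    (ht : S.t ∈ Subgroup.normalizer (M : Set G)) {g : G} (hg : g ∈ M) :
    S.t * g * S.t ∈ M := by
  have h := (Subgroup.mem_normalizer_iff.mp ht g).mp hg
  rwa [M5_t_inv S] at h

/-- The key factorization, with `t₁` abstract. -/
theorem M5_factor_aux (S : Setup G) {M : Subgroup G} (hM : Inv3 S M)
    (ht : S.t ∈ Subgroup.normalizer (M : Set G)) (t1 : G)
    (ht1t1 : t1 * t1 = 1) (htt1 : S.t * t1 = S.x) (ht1M : ∀ g ∈ M, t1 * g * t1 ∈ M)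
    (ht1x : t1 * S.x * t1⁻¹ = S.x⁻¹) {m : G} (hm : m ∈ M) :
    ∃ n ∈ M, n * S.t = S.t * n ∧ (n⁻¹ * m) * t1 = t1 * (n⁻¹ * m) := by
  have htt : S.t * S.t = 1 := M5_t_sq S
  have htinv : S.t⁻¹ = S.t := M5_t_inv S
  have ht1inv : t1⁻¹ = t1 := inv_eq_of_mul_eq_one_left ht1t1
  have htx' : S.t * S.x = t1 := by rw [← htt1, ← mul_assoc, htt, one_mul]
  have htx : S.t * S.x * S.t⁻¹ = S.x⁻¹ := S.htx
  obtain ⟨y, hy⟩ : ∃ y, y = S.t * (m * t1 * m⁻¹) := ⟨_, rfl⟩
  have hyM : y * S.x⁻¹ ∈ M := by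
    have h1 : S.t * m * S.t ∈ M := M5_t_conj_mem S ht hm
    have h2 : S.x * m⁻¹ * S.x⁻¹ ∈ M := M5_conj_mem S hM (M.inv_mem hm)
    have h3 := M.mul_mem h1 h2
    have e : S.t * m * S.t * (S.x * m⁻¹ * S.x⁻¹) = y * S.x⁻¹ := by
      rw [hy, ← htx']; simp only [mul_assoc]
    rwa [e] at h3
  obtain ⟨n, hnM, hn⟩ := M5_conj_surj S hM hyM
  -- `t` inverts `y`
  have hty : S.t * y * S.t⁻¹ = y⁻¹ := by
    rw [htinv, hy]
    have e1 : (S.t * (m * t1 * m⁻¹))⁻¹ = m * t1 * m⁻¹ * S.t := by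
      rw [mul_inv_rev, mul_inv_rev, mul_inv_rev, inv_inv, ht1inv, htinv]
      simp only [mul_assoc]
    rw [e1]
    calc S.t * (S.t * (m * t1 * m⁻¹)) * S.t = (S.t * S.t) * (m * t1 * m⁻¹) * S.t := by
          simp only [mul_assoc]
      _ = m * t1 * m⁻¹ * S.t := by rw [htt, one_mul]
  -- `s' = m t1 m⁻¹` inverts `y`
  have hs' : m * t1 * m⁻¹ = S.t * y := by
    rw [hy, ← mul_assoc S.t S.t, htt, one_mul]
  have hs'y : (m * t1 * m⁻¹) * y * (m * t1 * m⁻¹)⁻¹ = y⁻¹ := by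
    rw [hs', mul_inv_rev, htinv]
    calc S.t * y * y * (y⁻¹ * S.t) = S.t * y * S.t := by simp [mul_assoc]
      _ = y⁻¹ := by rw [← hty, htinv]
  -- `n⁻¹ t n` inverts `x`
  have hg1 : (n⁻¹ * S.t * n) * S.x * (n⁻¹ * S.t * n)⁻¹ = S.x⁻¹ := by
    have e : (n⁻¹ * S.t * n) * S.x * (n⁻¹ * S.t * n)⁻¹
        = n⁻¹ * (S.t * (n * S.x * n⁻¹) * S.t⁻¹) * n := by
      simp [mul_assoc]
    rw [e, ← hn, hty, hn]
    simp [mul_assoc]
  have hn1 : n⁻¹ * S.t * n * S.t⁻¹ = 1 := by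
    apply M5_inf_normalizer S hM
    · have h1 : S.t * n * S.t ∈ M := M5_t_conj_mem S ht hnM
      have h2 := M.mul_mem (M.inv_mem hnM) h1
      have e : n⁻¹ * (S.t * n * S.t) = n⁻¹ * S.t * n * S.t⁻¹ := by
        rw [htinv]; simp only [mul_assoc]
      rwa [e] at h2
    · exact Subgroup.mul_mem _ (M5_mem_normalizer_of_inverts S hg1)
        (Subgroup.inv_mem _ (M5_mem_normalizer_of_inverts S htx))
  have hnt : n * S.t = S.t * n := by
    have h1 : n⁻¹ * S.t * n = S.t := by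
      have := congrArg (fun z => z * S.t) hn1
      simpa using this
    have := congrArg (fun z => n * z) h1
    simpa [mul_assoc] using this.symm
  refine ⟨n, hnM, hnt, ?_⟩
  -- `k = n⁻¹ m`
  obtain ⟨k, hk⟩ : ∃ k, k = n⁻¹ * m := ⟨_, rfl⟩
  rw [← hk]
  have hkM : k ∈ M := by rw [hk]; exact M.mul_mem (M.inv_mem hnM) hm
  have hg2 : (k * t1 * k⁻¹) * S.x * (k * t1 * k⁻¹)⁻¹ = S.x⁻¹ := by
    have e : (k * t1 * k⁻¹) * S.x * (k * t1 * k⁻¹)⁻¹
        = n⁻¹ * ((m * t1 * m⁻¹) * (n * S.x * n⁻¹) * (m * t1 * m⁻¹)⁻¹) * n := by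
      rw [hk]; simp [mul_assoc]
    rw [e, ← hn, hs'y, hn]
    simp [mul_assoc]
  have hk1 : k * t1 * k⁻¹ * t1⁻¹ = 1 := by
    apply M5_inf_normalizer S hM
    · have h1 : t1 * k⁻¹ * t1 ∈ M := ht1M _ (M.inv_mem hkM)
      have h2 := M.mul_mem hkM h1
      have e : k * (t1 * k⁻¹ * t1) = k * t1 * k⁻¹ * t1⁻¹ := by
        rw [ht1inv]; simp only [mul_assoc]
      rwa [e] at h2
    · exact Subgroup.mul_mem _ (M5_mem_normalizer_of_inverts S hg2)
        (Subgroup.inv_mem _ (M5_mem_normalizer_of_inverts S ht1x))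
  have h1 : k * t1 * k⁻¹ = t1 := by
    have := congrArg (fun z => z * t1) hk1
    simpa using this
  have := congrArg (fun z => z * k) h1
  simpa [mul_assoc] using this

/-- The key factorization: every `m ∈ M` is `n * k` with `n ∈ C_M(t)`, `k ∈ C_M(x t x⁻¹)`. -/
theorem M5_factor (S : Setup G) {M : Subgroup G} (hM : Inv3 S M)
    (ht : S.t ∈ Subgroup.normalizer (M : Set G)) {m : G} (hm : m ∈ M) :
    ∃ n ∈ M, n * S.t = S.t * n ∧
      (n⁻¹ * m) * (S.x * S.t * S.x⁻¹) = (S.x * S.t * S.x⁻¹) * (n⁻¹ * m) := by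
  have htt : S.t * S.t = 1 := M5_t_sq S
  have htxt : S.t * S.x * S.t = S.x⁻¹ := M5_txt S
  have hxx : S.x⁻¹ * S.x⁻¹ = S.x := M5_xinv_sq S
  apply M5_factor_aux S hM ht (S.x * S.t * S.x⁻¹) _ _ _ _ hm
  · calc S.x * S.t * S.x⁻¹ * (S.x * S.t * S.x⁻¹) = S.x * (S.t * S.t) * S.x⁻¹ := by
          simp [mul_assoc]
      _ = 1 := by rw [htt]; simp
  · calc S.t * (S.x * S.t * S.x⁻¹) = (S.t * S.x * S.t) * S.x⁻¹ := by simp only [mul_assoc]
      _ = S.x := by rw [htxt, hxx]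
  · intro g hg
    have h1 : S.x⁻¹ * g * S.x ∈ M := M5_conj_mem' S hM hg
    have h2 : S.t * (S.x⁻¹ * g * S.x) * S.t ∈ M := M5_t_conj_mem S ht h1
    have h3 : S.x * (S.t * (S.x⁻¹ * g * S.x) * S.t) * S.x⁻¹ ∈ M := M5_conj_mem S hM h2
    have e : S.x * (S.t * (S.x⁻¹ * g * S.x) * S.t) * S.x⁻¹
        = S.x * S.t * S.x⁻¹ * g * (S.x * S.t * S.x⁻¹) := by
      simp only [mul_assoc]
    rwa [e] at h3
  · have e : (S.x * S.t * S.x⁻¹)⁻¹ = S.x * S.t * S.x⁻¹ := by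
      rw [mul_inv_rev, mul_inv_rev, inv_inv, M5_t_inv S]; simp only [mul_assoc]
    rw [e]
    calc S.x * S.t * S.x⁻¹ * S.x * (S.x * S.t * S.x⁻¹) = S.x * (S.t * S.x * S.t) * S.x⁻¹ := by
          simp [mul_assoc]
      _ = S.x⁻¹ := by rw [htxt]; simp

/-- (M5). -/
theorem M5_card_sq (S : Setup G) {M : Subgroup G} (hM : Inv3 S M)
    (ht : S.t ∈ Subgroup.normalizer (M : Set G)) :
    Nat.card M = (Nat.card ↥(M ⊓ Subgroup.centralizer ({S.t} : Set G))) ^ 2 := by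
  classical
  set A : Subgroup G := M ⊓ Subgroup.centralizer ({S.t} : Set G) with hA
  have hAmem : ∀ a : G, a ∈ A ↔ a ∈ M ∧ a * S.t = S.t * a := by
    intro a
    rw [hA, Subgroup.mem_inf, Subgroup.mem_centralizer_iff]
    constructor
    · rintro ⟨h1, h2⟩
      exact ⟨h1, (h2 S.t (Set.mem_singleton _)).symm⟩
    · rintro ⟨h1, h2⟩
      refine ⟨h1, fun h hh => ?_⟩
      rw [Set.mem_singleton_iff] at hh
      rw [hh]; exact h2.symm
  -- the bijection `A × A → M`, `(a, b) ↦ a * (x b x⁻¹)`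
  let φ : A × A → M := fun p => ⟨(p.1 : G) * (S.x * (p.2 : G) * S.x⁻¹),
    M.mul_mem ((hAmem _).mp p.1.2).1 (M5_conj_mem S hM ((hAmem _).mp p.2.2).1)⟩
  have hbij : Function.Bijective φ := by
    constructor
    · rintro ⟨a, b⟩ ⟨a', b'⟩ hab
      have h1 : (a : G) * (S.x * (b : G) * S.x⁻¹) = (a' : G) * (S.x * (b' : G) * S.x⁻¹) :=
        congrArg Subtype.val hab
      obtain ⟨haM, hat⟩ := (hAmem _).mp a.2
      obtain ⟨ha'M, ha't⟩ := (hAmem _).mp a'.2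
      obtain ⟨hbM, hbt⟩ := (hAmem _).mp b.2
      obtain ⟨hb'M, hb't⟩ := (hAmem _).mp b'.2
      -- c = a'⁻¹ a = x (b' b⁻¹) x⁻¹
      set c : G := (a' : G)⁻¹ * (a : G) with hc
      have hc2 : c = S.x * ((b' : G) * (b : G)⁻¹) * S.x⁻¹ := by
        have := congrArg (fun z => (a' : G)⁻¹ * z * (S.x * (b : G) * S.x⁻¹)⁻¹) h1
        simp only [mul_assoc, mul_inv_rev, inv_inv, inv_mul_cancel_left, mul_inv_cancel_left,
          mul_inv_cancel, mul_one] at this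
        rw [hc]
        simpa [mul_assoc] using this
      have hcM : c ∈ M := M.mul_mem (M.inv_mem ha'M) haM
      have hct : c * S.t = S.t * c := by
        have ha'inv : (a' : G)⁻¹ * S.t = S.t * (a' : G)⁻¹ := by
          have := congrArg (fun z => (a' : G)⁻¹ * z * (a' : G)⁻¹) ha't
          simpa [mul_assoc] using this.symm
        rw [hc, mul_assoc, hat, ← mul_assoc, ha'inv, mul_assoc]
      -- d = b' b⁻¹ commutes with t, so c commutes with x t x⁻¹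
      have hdt : ((b' : G) * (b : G)⁻¹) * S.t = S.t * ((b' : G) * (b : G)⁻¹) := by
        have hbinv : (b : G)⁻¹ * S.t = S.t * (b : G)⁻¹ := by
          have := congrArg (fun z => (b : G)⁻¹ * z * (b : G)⁻¹) hbt
          simpa [mul_assoc] using this.symm
        rw [mul_assoc, hbinv, ← mul_assoc, hb't, mul_assoc]
      have hct1 : c * (S.x * S.t * S.x⁻¹) = (S.x * S.t * S.x⁻¹) * c := by
        rw [hc2]
        calc S.x * ((b' : G) * (b : G)⁻¹) * S.x⁻¹ * (S.x * S.t * S.x⁻¹)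
            = S.x * (((b' : G) * (b : G)⁻¹) * S.t) * S.x⁻¹ := by simp [mul_assoc]
          _ = S.x * (S.t * ((b' : G) * (b : G)⁻¹)) * S.x⁻¹ := by rw [hdt]
          _ = S.x * S.t * S.x⁻¹ * (S.x * ((b' : G) * (b : G)⁻¹) * S.x⁻¹) := by simp [mul_assoc]
      -- so c commutes with t * (x t x⁻¹) = x
      have htt1 : S.t * (S.x * S.t * S.x⁻¹) = S.x := by
        calc S.t * (S.x * S.t * S.x⁻¹) = (S.t * S.x * S.t) * S.x⁻¹ := by simp only [mul_assoc]
          _ = S.x := by rw [M5_txt S, M5_xinv_sq S]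
      have hcx : c * S.x = S.x * c := by
        rw [← htt1, ← mul_assoc, hct, mul_assoc, hct1, ← mul_assoc]
      have hc1 : c = 1 := M5_fpf S hM hcM hcx
      have haa' : (a : G) = (a' : G) := by
        have := congrArg (fun z => (a' : G) * z) hc1
        simpa [hc] using this
      have hbb' : (b : G) = (b' : G) := by
        rw [haa'] at h1
        have h2 := mul_left_cancel h1
        have h3 := mul_right_cancel h2
        exact mul_left_cancel h3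
      exact Prod.ext (Subtype.ext haa') (Subtype.ext hbb')
    · rintro ⟨m, hm⟩
      obtain ⟨n, hnM, hnt, hk⟩ := M5_factor S hM ht hm
      have hkM : n⁻¹ * m ∈ M := M.mul_mem (M.inv_mem hnM) hm
      have hb : S.x⁻¹ * (n⁻¹ * m) * S.x ∈ A := by
        rw [hAmem]
        refine ⟨M5_conj_mem' S hM hkM, ?_⟩
        have := congrArg (fun z => S.x⁻¹ * z * S.x) hk
        simpa [mul_assoc] using this
      refine ⟨(⟨n, (hAmem _).mpr ⟨hnM, hnt⟩⟩, ⟨_, hb⟩), ?_⟩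
      apply Subtype.ext
      show n * (S.x * (S.x⁻¹ * (n⁻¹ * m) * S.x) * S.x⁻¹) = m
      simp [mul_assoc]
  have h1 : Nat.card (A × A) = Nat.card M := Nat.card_congr (Equiv.ofBijective φ hbij)
  rw [← h1, Nat.card_prod, pow_two]

end Cfsg.Agent.Helper33.SC3
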