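import Mathlib.GroupTheory.QuotientGroup.Basic
import Mathlib.GroupTheory.Sylow

set_option autoImplicit false

universe u

namespace Cfsg.Agent.Helper33

/-- A property of groups holds for every section `K/R` of `G`. -/
def SectionProp (Φ : ∀ (X : Type u) [Group X], Prop) (G : Type u) [Group G] : Prop :=
  ∀ (K R : Subgroup G) [(R.subgroupOf K).Normal], Φ (↥K ⧸ R.subgroupOf K)

/-- Isomorphism invariance of a property of groups. -/
def IsoInvariant (Φ : ∀ (X : Type u) [Group X], Prop) : Prop :=
  ∀ (X Y : Type u) [Group X] [Group Y], (X ≃* Y) → Φ X → Φ Y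

variable {Φ : ∀ (X : Type u) [Group X], Prop} {G : Type u} [Group G]

/-- The section `⊤/⊥` is the group itself. -/
noncomputable def sectionTopBot (G : Type u) [Group G] :
    (↥(⊤ : Subgroup G) ⧸ (⊥ : Subgroup G).subgroupOf ⊤) ≃* G :=
  ((QuotientGroup.quotientMulEquivOfEq (Subgroup.bot_subgroupOf (⊤ : Subgroup G))).trans
    QuotientGroup.quotientBot).trans Subgroup.topEquiv

theorem SectionProp.self (hΦ : IsoInvariant Φ) (h : SectionProp Φ G) : Φ G :=
  hΦ _ _ (sectionTopBot G) (h ⊤ ⊥)

/-- Sections of a subgroup are sections of the group. -/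
theorem SectionProp.subgroup (hΦ : IsoInvariant Φ) (h : SectionProp Φ G) (N : Subgroup G) :
    SectionProp Φ ↥N := by
  intro K' R' hR
  let K : Subgroup G := K'.map N.subtype
  let R : Subgroup G := R'.map N.subtype
  let e : ↥K' ≃* ↥K := K'.equivMapOfInjective N.subtype N.subtype_injective
  have he : (R'.subgroupOf K').map e.toMonoidHom = R.subgroupOf K := by
    ext y
    constructor
    · rintro ⟨x, hx, rfl⟩
      have hx' : (x : ↥N) ∈ R' := Subgroup.mem_subgroupOf.mp hx
      rw [Subgroup.mem_subgroupOf]
      exact ⟨(x : ↥N), hx', rfl⟩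
    · intro hy
      rw [Subgroup.mem_subgroupOf] at hy
      obtain ⟨r, hr, hry⟩ := hy
      obtain ⟨k, hk, hky⟩ := y.2
      have hkr : k = r := N.subtype_injective (hky.trans hry.symm)
      refine ⟨⟨k, hk⟩, ?_, ?_⟩
      · show (⟨k, hk⟩ : ↥K') ∈ R'.subgroupOf K'
        rw [Subgroup.mem_subgroupOf]
        show k ∈ R'
        rw [hkr]; exact hr
      · apply Subtype.ext
        exact hky
  have hRn : (R.subgroupOf K).Normal := by
    rw [← he]
    exact Subgroup.Normal.map hR _ e.surjective
  have key := h K R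
  exact hΦ _ _ (QuotientGroup.congr (R'.subgroupOf K') (R.subgroupOf K) e he).symm key

/-- Sections of a quotient are sections of the group. -/
theorem SectionProp.quotient (hΦ : IsoInvariant Φ) (h : SectionProp Φ G) (M : Subgroup G) [M.Normal] :
    SectionProp Φ (G ⧸ M) := by
  intro K' R' hR
  let K : Subgroup G := K'.comap (QuotientGroup.mk' M)
  let R : Subgroup G := R'.comap (QuotientGroup.mk' M)
  let f : ↥K →* ↥K' := (QuotientGroup.mk' M).subgroupComap K'
  have hf : Function.Surjective f :=
    (QuotientGroup.mk' M).subgroupComap_surjective_of_surjective K' (QuotientGroup.mk'_surjective M)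
  let ψ : ↥K →* ↥K' ⧸ R'.subgroupOf K' := (QuotientGroup.mk' (R'.subgroupOf K')).comp f
  have hψ : Function.Surjective ψ := (QuotientGroup.mk'_surjective _).comp hf
  have hker : ψ.ker = R.subgroupOf K := by
    ext y
    rw [MonoidHom.mem_ker, Subgroup.mem_subgroupOf]
    show (QuotientGroup.mk' (R'.subgroupOf K')) (f y) = 1 ↔ _
    rw [QuotientGroup.mk'_apply, QuotientGroup.eq_one_iff, Subgroup.mem_subgroupOf]
    rfl
  have hRn : (R.subgroupOf K).Normal := by
    rw [← hker]; infer_instance
  have key := h K R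
  exact hΦ _ _ ((QuotientGroup.quotientMulEquivOfEq hker.symm).trans
    (QuotientGroup.quotientKerEquivOfSurjective ψ hψ)) key

end Cfsg.Agent.Helper33
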