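import Cfsg.Agent.Helper8.Sims3Basic

/-!
# Helper33: leaf (T0) of helper8's Sims3 farm (S3385 + S3685): `B = P ∩ gPg⁻¹` is a 2-group.
-/

set_option autoImplicit false

namespace Cfsg.Agent.Helper33.Sims3

open Cfsg.Agent.Helper8.Sims3 Pointwise

variable {G : Type*} [Group G]

/-- an element of odd prime order `q` of a subgroup `C` of index 3 acts trivially on the three
cosets of `C`: all its conjugates lie in `C`. -/
theorem T0_conj_mem {H : Type*} [Group H] [Finite H] (C : Subgroup H) (hC : C.index = 3)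
    (q : ℕ) (hq : q.Prime) (hq2 : q ≠ 2) (x : H) (hx : x ∈ C) (hxq : x ^ q = 1) (h : H) :
    h⁻¹ * x * h ∈ C := by
  have hfact : Fact q.Prime := ⟨hq⟩
  have hZ : IsPGroup q ↥(Subgroup.zpowers x) := by
    rintro ⟨z, hz⟩
    refine ⟨1, ?_⟩
    obtain ⟨n, rfl⟩ := Subgroup.mem_zpowers_iff.mp hz
    apply Subtype.ext
    rw [pow_one]
    show (x ^ n) ^ q = 1
    rw [← zpow_natCast, ← zpow_mul, mul_comm, zpow_mul, zpow_natCast, hxq, one_zpow]
  have hcard : Nat.card (H ⧸ C) = 3 := by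
    rw [← Subgroup.index_eq_card]
    exact hC
  have hmod := hZ.card_modEq_card_fixedPoints (H ⧸ C)
  rw [hcard] at hmod
  -- the coset of `1` is fixed
  have h1fix : ((1 : H) : H ⧸ C) ∈ MulAction.fixedPoints ↥(Subgroup.zpowers x) (H ⧸ C) := by
    rintro ⟨z, hz⟩
    have hzC : z ∈ C := (Subgroup.zpowers_le.mpr hx) hz
    show ((z * 1 : H) : H ⧸ C) = ((1 : H) : H ⧸ C)
    rw [mul_one, QuotientGroup.eq, mul_one]
    exact C.inv_mem hzC
  -- hence all three cosets are fixed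
  have hall : MulAction.fixedPoints ↥(Subgroup.zpowers x) (H ⧸ C) = Set.univ := by
    by_contra hne
    have hss : MulAction.fixedPoints ↥(Subgroup.zpowers x) (H ⧸ C) ⊂ Set.univ :=
      Set.ssubset_univ_iff.mpr hne
    have hlt := Set.ncard_lt_ncard hss (Set.toFinite _)
    rw [Set.ncard_univ, hcard] at hlt
    have hpos : 0 < (MulAction.fixedPoints ↥(Subgroup.zpowers x) (H ⧸ C)).ncard :=
      (Set.ncard_pos (Set.toFinite _)).mpr ⟨_, h1fix⟩
    rw [← Nat.card_coe_set_eq] at hlt hpos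
    have hq3 : 3 ≤ q := by
      have := hq.two_le
      omega
    generalize Nat.card ↥(MulAction.fixedPoints ↥(Subgroup.zpowers x) (H ⧸ C)) = n at hmod hlt hpos
    have hdvd : q ∣ 3 - n := (Nat.modEq_iff_dvd' (by omega)).mp hmod.symm
    have := Nat.le_of_dvd (by omega) hdvd
    omega
  have hfix : ((h : H) : H ⧸ C) ∈ MulAction.fixedPoints ↥(Subgroup.zpowers x) (H ⧸ C) := by
    rw [hall]
    trivial
  have h2 : ((x * h : H) : H ⧸ C) = ((h : H) : H ⧸ C) := hfix ⟨x, Subgroup.mem_zpowers x⟩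
  rw [QuotientGroup.eq] at h2
  have h3 : ((x * h)⁻¹ * h)⁻¹ ∈ C := inv_mem h2
  have h4 : ((x * h)⁻¹ * h)⁻¹ = h⁻¹ * x * h := by group
  rwa [h4] at h3

/-- conjugation by `z` maps the closure of a `z`-stable set into itself -/
theorem T0_conj_closure (T : Set G) (z : G) (hz : ∀ x ∈ T, z * x * z⁻¹ ∈ T) :
    ∀ y ∈ Subgroup.closure T, z * y * z⁻¹ ∈ Subgroup.closure T := by
  intro y hy
  induction hy using Subgroup.closure_induction with
  | mem x hx => exact Subgroup.subset_closure (hz x hx)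
  | one =>
    rw [mul_one, mul_inv_cancel]
    exact Subgroup.one_mem _
  | mul a b _ _ ha hb =>
    have e : z * (a * b) * z⁻¹ = (z * a * z⁻¹) * (z * b * z⁻¹) := by group
    rw [e]
    exact Subgroup.mul_mem _ ha hb
  | inv a _ ha =>
    have e : z * a⁻¹ * z⁻¹ = (z * a * z⁻¹)⁻¹ := by group
    rw [e]
    exact Subgroup.inv_mem _ ha

/-- (T0) `B = P ∩ gPg⁻¹` is a 2-group. -/
theorem isPGroup_B [Finite G] {P : Subgroup G} {g : G} (h : Setup P g) :
    IsPGroup 2 ↥(P ⊓ MulAut.conj g • P) := by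
  obtain ⟨B, hB⟩ : ∃ B : Subgroup G, B = P ⊓ MulAut.conj g • P := ⟨_, rfl⟩
  obtain ⟨P1, hP1⟩ : ∃ P1 : Subgroup G, P1 = MulAut.conj g • P := ⟨_, rfl⟩
  have hidx := h.idx
  rw [← hP1] at hB
  rw [← hP1, ← hB] at hidx
  rw [← hP1, ← hB]
  have hBP : B ≤ P := by rw [hB]; exact inf_le_left
  have hBP1 : B ≤ P1 := by rw [hB]; exact inf_le_right
  have hcP1 : Nat.card ↥P1 = Nat.card ↥P := by rw [hP1]; exact card_conj_smul g P
  have hcB := card_mul_relIndex B P hBP
  have hcB1 := card_mul_relIndex B P1 hBP1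
  have hBpos : 0 < Nat.card ↥B := Nat.card_pos
  have hidx1 : B.relIndex P1 = 3 := by
    rw [hidx] at hcB
    rw [hcP1, ← hcB] at hcB1
    exact Nat.eq_of_mul_eq_mul_left hBpos hcB1
  -- conjugates of elements of odd prime order of `B` under `P` and `P1` stay in `B`
  have key : ∀ K : Subgroup G, B ≤ K → B.relIndex K = 3 → ∀ q : ℕ, q.Prime → q ≠ 2 →
      ∀ x ∈ B, x ^ q = 1 → ∀ z ∈ K, z⁻¹ * x * z ∈ B := by
    intro K hBK hK q hq hq2 x hx hxq z hz
    have := T0_conj_mem (B.subgroupOf K) hK q hq hq2 ⟨x, hBK hx⟩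
      (Subgroup.mem_subgroupOf.mpr hx) (Subtype.ext hxq) ⟨z, hz⟩
    exact this
  -- some element of `P1` is not in `P`
  have hex : ∃ w ∈ P1, w ∉ P := by
    by_contra hno
    push Not at hno
    have hle : P1 ≤ P := hno
    have hBeq : B = P1 := by rw [hB]; exact inf_eq_right.mpr hle
    rw [hBeq, Subgroup.relIndex_self] at hidx1
    norm_num at hidx1
  obtain ⟨w, hw1, hwP⟩ := hex
  -- no element of odd prime order in `B`
  have hno : ∀ q : ℕ, q.Prime → q ≠ 2 → ∀ x ∈ B, x ^ q = 1 → x = 1 := by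
    intro q hq hq2 x hx hxq
    have hTstab : ∀ K : Subgroup G, B ≤ K → B.relIndex K = 3 → ∀ z ∈ K,
        ∀ y ∈ {y : G | y ∈ B ∧ y ^ q = 1}, z * y * z⁻¹ ∈ {y : G | y ∈ B ∧ y ^ q = 1} := by
      intro K hBK hK z hz y hy
      refine ⟨?_, ?_⟩
      · have := key K hBK hK q hq hq2 y hy.1 hy.2 z⁻¹ (K.inv_mem hz)
        rwa [inv_inv] at this
      · rw [conj_pow, hy.2, mul_one, mul_inv_cancel]
    have hNle : Subgroup.closure {y : G | y ∈ B ∧ y ^ q = 1} ≤ B :=
      (Subgroup.closure_le _).mpr fun y hy => hy.1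
    have hnorm : ∀ K : Subgroup G, B ≤ K → B.relIndex K = 3 →
        K ≤ Subgroup.normalizer
          (Subgroup.closure {y : G | y ∈ B ∧ y ^ q = 1} : Set G) := by
      intro K hBK hK z hz
      rw [Subgroup.mem_normalizer_iff]
      intro y
      constructor
      · exact T0_conj_closure _ z (hTstab K hBK hK z hz) y
      · intro hy
        have := T0_conj_closure _ z⁻¹ (hTstab K hBK hK z⁻¹ (K.inv_mem hz)) _ hy
        have e : z⁻¹ * (z * y * z⁻¹) * z⁻¹⁻¹ = y := by group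
        rwa [e] at this
    have hPN := hnorm P hBP hidx
    have hwN := hnorm P1 hBP1 hidx1 hw1
    have htop : Subgroup.normalizer
        (Subgroup.closure {y : G | y ∈ B ∧ y ^ q = 1} : Set G) = ⊤ :=
      h.coatom.2 _ (lt_of_le_of_ne hPN (fun e => hwP (e ▸ hwN)))
    have hNn : (Subgroup.closure {y : G | y ∈ B ∧ y ^ q = 1}).Normal :=
      Subgroup.normalizer_eq_top_iff.mp htop
    have hbot := h.core _ hNn (hNle.trans hBP)
    have hxN : x ∈ Subgroup.closure {y : G | y ∈ B ∧ y ^ q = 1} :=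
      Subgroup.subset_closure ⟨hx, hxq⟩
    rw [hbot] at hxN
    exact Subgroup.mem_bot.mp hxN
  -- conclude with Cauchy
  have hcard : Nat.card ↥B = 2 ^ (Nat.card ↥B).primeFactorsList.length := by
    apply Nat.eq_prime_pow_of_unique_prime_dvd hBpos.ne'
    intro q hq hqd
    by_contra hq2
    have hfact : Fact q.Prime := ⟨hq⟩
    obtain ⟨x, hxo⟩ := exists_prime_orderOf_dvd_card' q hqd
    have hxq : (x : G) ^ q = 1 := by
      have := pow_orderOf_eq_one x
      rw [hxo] at this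
      exact congrArg Subtype.val this
    have hx1 := hno q hq hq2 (x : G) x.2 hxq
    have hx1' : x = 1 := Subtype.ext hx1
    rw [hx1', orderOf_one] at hxo
    exact hq.one_lt.ne hxo
  exact IsPGroup.of_card hcard

end Cfsg.Agent.Helper33.Sims3
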