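import Cfsg.Agent.Helper8.Sims3Basic

/-!
# Helper33: leaf (T1) of helper8's Sims3 farm (S3385 + S3685): if `B = P ∩ gPg⁻¹` is a normal
2-subgroup of `P` then `|P| = 3`.
-/

set_option autoImplicit false

namespace Cfsg.Agent.Helper33.Sims3

open Cfsg.Agent.Helper8.Sims3 Pointwise

variable {G : Type*} [Group G]

/-- a 2-element lies in every normal subgroup of index 3 -/
theorem T1_mem_of_index_three {H : Type*} [Group H] [Finite H] (C : Subgroup H) [C.Normal]
    (hC : C.index = 3) (x : H) (k : ℕ) (hx : x ^ 2 ^ k = 1) : x ∈ C := by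
  rw [← QuotientGroup.eq_one_iff]
  have hcard : Nat.card (H ⧸ C) = 3 := by
    rw [← Subgroup.index_eq_card]
    exact hC
  have h1 : orderOf (x : H ⧸ C) ∣ 2 ^ k := by
    apply orderOf_dvd_of_pow_eq_one
    rw [← QuotientGroup.mk_pow, hx, QuotientGroup.mk_one]
  have h2 : orderOf (x : H ⧸ C) ∣ 3 := by
    rw [← hcard]
    exact orderOf_dvd_natCard _
  have hcop : Nat.Coprime (2 ^ k) 3 := Nat.Coprime.pow_left k (by norm_num)
  have h3 := Nat.dvd_gcd h1 h2
  rw [Nat.Coprime.gcd_eq_one hcop] at h3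
  exact orderOf_eq_one_iff.mp (Nat.dvd_one.mp h3)

/-- conjugation by an element fixing `B` (as a pointwise action) normalizes `B` -/
theorem T1_mem_normalizer {B : Subgroup G} {z : G} (e : MulAut.conj z • B = B) :
    z ∈ Subgroup.normalizer (B : Set G) := by
  rw [Subgroup.mem_normalizer_iff]
  intro x
  constructor
  · intro hx
    have : z * x * z⁻¹ ∈ MulAut.conj z • B := by
      rw [mem_conj_smul]
      have : z⁻¹ * (z * x * z⁻¹) * z = x := by group
      rw [this]
      exact hx
    rwa [e] at this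
  · intro hx
    rw [← e, mem_conj_smul] at hx
    have : z⁻¹ * (z * x * z⁻¹) * z = x := by group
    rwa [this] at hx

/-- (T1) if `B ⊴ P` then `B = 1`, `|P| = 3`. -/
theorem card_of_normal [Finite G] {P : Subgroup G} {g : G} (h : Setup P g)
    (h2 : IsPGroup 2 ↥(P ⊓ MulAut.conj g • P))
    (hn : ∀ p ∈ P, MulAut.conj p • (P ⊓ MulAut.conj g • P) = P ⊓ MulAut.conj g • P) :
    Nat.card ↥P = 3 := by
  obtain ⟨B, hB⟩ : ∃ B : Subgroup G, B = P ⊓ MulAut.conj g • P := ⟨_, rfl⟩
  have hidx := h.idx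
  rw [← hB] at h2 hn hidx
  have hBP : B ≤ P := by rw [hB]; exact inf_le_left
  have hBP1 : B ≤ MulAut.conj g • P := by rw [hB]; exact inf_le_right
  -- `B` is normal in `P`
  have hnorm : (B.subgroupOf P).Normal := by
    constructor
    intro n hn' p
    rw [Subgroup.mem_subgroupOf] at hn' ⊢
    have hmem : (p : G) * (n : G) * (p : G)⁻¹ ∈ MulAut.conj (p : G) • B := by
      rw [mem_conj_smul]
      have : (p : G)⁻¹ * ((p : G) * (n : G) * (p : G)⁻¹) * (p : G) = (n : G) := by group
      rw [this]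
      exact hn'
    rw [hn p.1 p.2] at hmem
    exact hmem
  have hidx' : (B.subgroupOf P).index = 3 := hidx
  -- every 2-element of `P` lies in `B`
  have hL : ∀ x ∈ P, ∀ k : ℕ, x ^ 2 ^ k = 1 → x ∈ B := by
    intro x hx k hxk
    have := T1_mem_of_index_three (B.subgroupOf P) hidx' ⟨x, hx⟩ k (Subtype.ext hxk)
    exact this
  -- `B ≤ gBg⁻¹`
  have h1 : B ≤ MulAut.conj g • B := by
    intro b hb
    rw [mem_conj_smul]
    obtain ⟨k, hk⟩ := h2 ⟨b, hb⟩
    have hbk : b ^ 2 ^ k = 1 := congrArg Subtype.val hk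
    have hb1 : b ∈ MulAut.conj g • P := hBP1 hb
    rw [mem_conj_smul] at hb1
    apply hL _ hb1 k
    have hcp : (g⁻¹ * b * g) ^ 2 ^ k = g⁻¹ * b ^ 2 ^ k * g := by
      have := conj_pow (a := g⁻¹) (b := b) (i := 2 ^ k)
      rwa [inv_inv] at this
    rw [hcp, hbk, mul_one, inv_mul_cancel]
  have h1' : B = MulAut.conj g • B :=
    eq_of_le_of_card_le h1 (by rw [card_conj_smul])
  -- the normalizer of `B` is everything
  have hPN : P ≤ Subgroup.normalizer (B : Set G) := fun p hp => T1_mem_normalizer (hn p hp)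
  have hgN : g ∈ Subgroup.normalizer (B : Set G) := T1_mem_normalizer h1'.symm
  have hgP : g ∉ P := by
    intro hg
    have e : MulAut.conj g • P = P := Subgroup.conj_smul_eq_self_of_mem hg
    have hBeq : B = P := by rw [hB, e, inf_idem]
    rw [hBeq, Subgroup.relIndex_self] at hidx
    norm_num at hidx
  have htop : Subgroup.normalizer (B : Set G) = ⊤ :=
    h.coatom.2 _ (lt_of_le_of_ne hPN (fun e => hgP (e ▸ hgN)))
  have hBn : B.Normal := Subgroup.normalizer_eq_top_iff.mp htop
  have hBbot : B = ⊥ := h.core B hBn hBP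
  have hc := card_mul_relIndex B P hBP
  rw [hidx, hBbot, Subgroup.card_bot] at hc
  omega

end Cfsg.Agent.Helper33.Sims3
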