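import Mathlib
import Cfsg.Agent.Helper9.SpGen.Root
import Cfsg.Agent.Helper9.SpGen.Pos

/-!
# (PF) prime fields, for helper9's S2411
-/

set_option autoImplicit false

namespace Cfsg.Agent.Helper33.SpGen

universe u v w

theorem exists_natCast_of_card_prime {K : Type u} [Field K] [Fintype K] {p : ℕ} (hp : p.Prime)
    (hK : Fintype.card K = p) (t : K) : ∃ j : ℕ, t = (j : K) := by
  classical
  have : Fact p.Prime := ⟨hp⟩
  -- characteristic of K is p
  obtain ⟨q, hq⟩ := CharP.exists K
  have := hq
  have hqp : q.Prime := by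
    rcases CharP.char_is_prime_or_zero K q with h | h
    · exact h
    · exfalso
      subst h
      have : CharZero K := CharP.charP_to_charZero K
      exact not_finite K
  have : Fact q.Prime := ⟨hqp⟩
  obtain ⟨n, hn⟩ := FiniteField.card K q
  have hqeq : q = p := by
    have h1 : p = q ^ (n : ℕ) := by rw [← hK]; exact hn.2
    have hdvd : q ∣ p := by
      rw [h1]; exact dvd_pow_self q n.ne_zero
    exact (Nat.prime_dvd_prime_iff_eq hqp hp).1 hdvd
  subst hqeq
  let f : ZMod q →+* K := ZMod.castHom (dvd_refl q) K
  have hinj : Function.Injective f := f.injective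
  have hbij : Function.Bijective f := by
    rw [Fintype.bijective_iff_injective_and_card]
    exact ⟨hinj, by rw [ZMod.card, hK]⟩
  obtain ⟨z, hz⟩ := hbij.2 t
  refine ⟨z.val, ?_⟩
  rw [← hz]
  have : (z : ZMod q) = ((z.val : ℕ) : ZMod q) := (ZMod.natCast_zmod_val z).symm
  conv_lhs => rw [this]
  simp [f]

theorem eq_zero_or_one_of_card_two {K : Type u} [Field K] [Fintype K] (hK : Fintype.card K = 2)
    (t : K) : t = 0 ∨ t = 1 := by
  classical
  by_contra h
  push Not at h
  have : 2 < Fintype.card K := by
    rw [Fintype.two_lt_card_iff]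
    exact ⟨t, 0, 1, h.1, h.2, zero_ne_one⟩
  omega

theorem one_add_one_of_card_two {K : Type u} [Field K] [Fintype K] (hK : Fintype.card K = 2) :
    (1 : K) + 1 = 0 := by
  rcases eq_zero_or_one_of_card_two hK ((1 : K) + 1) with h | h
  · exact h
  · exfalso
    have : (1 : K) = 0 := by
      have := h
      calc (1 : K) = (1 + 1) - 1 := by ring
        _ = 1 - 1 := by rw [h]
        _ = 0 := by ring
    exact one_ne_zero this

end Cfsg.Agent.Helper33.SpGen
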