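import Mathlib
import Cfsg.Agent.Helper86.Spec4.Defs

/-!
# (A2) of helper86's S2510 farm: the abstract two-factor core.
-/

set_option autoImplicit false
set_option linter.unusedSectionVars false

namespace Cfsg.Agent.Helper33.Spec4

open Matrix Cfsg.Agent.Helper86.Spec4

/-- `lcm (a * r) b = r * lcm a b` when `r` is prime to `lcm a b` -/
theorem lcm_mul_of_coprime (a b r : ℕ) (h : Nat.Coprime r (Nat.lcm a b)) :
    Nat.lcm (a * r) b = r * Nat.lcm a b := by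
  apply Nat.dvd_antisymm
  · apply Nat.lcm_dvd
    · rw [mul_comm]
      exact Nat.mul_dvd_mul_left r (Nat.dvd_lcm_left a b)
    · exact Dvd.dvd.mul_left (Nat.dvd_lcm_right a b) r
  · apply h.mul_dvd_of_dvd_of_dvd
    · exact Dvd.dvd.trans (Dvd.intro_left a rfl) (Nat.dvd_lcm_left (a * r) b)
    · apply Nat.lcm_dvd
      · exact Dvd.dvd.trans (Dvd.intro r rfl) (Nat.dvd_lcm_left (a * r) b)
      · exact Nat.dvd_lcm_right (a * r) b

section abstract

variable {L : Type*} [Group L] [Finite L]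

/-- a good factor can be multiplied by its commuting element of order `r` -/
theorem good_step {r : ℕ} (hr : r.Prime) (x y : L) (hx : Good r x)
    (hxy : ¬ r ∣ Nat.lcm (orderOf x) (orderOf y)) :
    ∃ x' : L, Nat.lcm (orderOf x') (orderOf y) = r * Nat.lcm (orderOf x) (orderOf y) := by
  obtain ⟨d, hcomm, hd⟩ := hx
  have hcop : Nat.Coprime r (Nat.lcm (orderOf x) (orderOf y)) :=
    (Nat.Prime.coprime_iff_not_dvd hr).2 hxy
  have hcx : Nat.Coprime (orderOf x) (orderOf d) := by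
    rw [hd]
    exact (Nat.Coprime.coprime_dvd_right (Nat.dvd_lcm_left _ _) hcop).symm
  refine ⟨x * d, ?_⟩
  rw [hcomm.orderOf_mul_eq_mul_orderOf_of_coprime hcx, hd]
  exact lcm_mul_of_coprime _ _ _ hcop

/-- both factors bad, the `p`-part of the first one is the larger one -/
theorem bad_bad {p r c : ℕ} (hp : p.Prime) (hr : r.Prime) (hpr : p ≠ r) (hpc : Nat.Coprime p c)
    (hS : ∃ w : L, orderOf w = c) (hR : ∃ ρ : L, orderOf ρ = r)
    (hU : ∀ j : ℕ, 1 ≤ j → (∃ w : L, orderOf w = p ^ j) → ∃ u : L, orderOf u = p ^ j ∧ Good r u)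
    (x y : L) (hxy : ¬ r ∣ Nat.lcm (orderOf x) (orderOf y))
    (t1 k1 t2 k2 : ℕ) (hx : orderOf x = p ^ t1 * k1) (hk1 : k1 ∣ c)
    (hy : orderOf y = p ^ t2 * k2) (hk2 : k2 ∣ c) (ht : t2 ≤ t1) :
    ∃ x' y' : L, Nat.lcm (orderOf x') (orderOf y') = r * Nat.lcm (orderOf x) (orderOf y) := by
  obtain ⟨w, hw⟩ := hS
  obtain ⟨ρ, hρ⟩ := hR
  have hcpos : 0 < c := by rw [← hw]; exact orderOf_pos w
  set m := Nat.lcm k1 k2 with hm
  have hmc : m ∣ c := Nat.lcm_dvd hk1 hk2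
  have hpm : Nat.Coprime (p ^ t1) m :=
    Nat.Coprime.pow_left t1 (Nat.Coprime.coprime_dvd_right hmc hpc)
  -- the lcm
  have hl : Nat.lcm (orderOf x) (orderOf y) = p ^ t1 * m := by
    apply Nat.dvd_antisymm
    · apply Nat.lcm_dvd
      · rw [hx]
        exact Nat.mul_dvd_mul_left _ (Nat.dvd_lcm_left k1 k2)
      · rw [hy]
        exact Nat.mul_dvd_mul (pow_dvd_pow p ht) (Nat.dvd_lcm_right k1 k2)
    · apply hpm.mul_dvd_of_dvd_of_dvd
      · exact Dvd.dvd.trans (by rw [hx]; exact Dvd.intro _ rfl) (Nat.dvd_lcm_left _ _)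
      · apply Nat.lcm_dvd
        · exact Dvd.dvd.trans (by rw [hx]; exact Dvd.intro_left _ rfl) (Nat.dvd_lcm_left _ _)
        · exact Dvd.dvd.trans (by rw [hy]; exact Dvd.intro_left _ rfl) (Nat.dvd_lcm_right _ _)
  have hrl : Nat.Coprime r (p ^ t1 * m) := by
    rw [← hl]
    exact (Nat.Prime.coprime_iff_not_dvd hr).2 hxy
  have hrm : Nat.Coprime r m := Nat.Coprime.coprime_dvd_right (Dvd.intro_left _ rfl) hrl
  -- the element of order `m`
  have hmpos : 0 < m := Nat.pos_of_dvd_of_pos hmc hcpos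
  have hw' : orderOf (w ^ (c / m)) = m := by
    have h1 : c / m ∣ orderOf w := by rw [hw]; exact Nat.div_dvd_of_dvd hmc
    have h2 : c / m ≠ 0 := (Nat.div_pos (Nat.le_of_dvd hcpos hmc) hmpos).ne'
    rw [orderOf_pow_of_dvd h2 h1, hw, Nat.div_div_self hmc hcpos.ne']
  rcases Nat.eq_zero_or_pos t1 with h0 | hpos
  · -- no `p`-part
    refine ⟨w ^ (c / m), ρ, ?_⟩
    rw [hw', hρ, hl, h0, pow_zero, one_mul, (Nat.Coprime.lcm_eq_mul hrm.symm), mul_comm]
  · -- an element of order `p ^ t1`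
    have hk1pos : 0 < k1 := by
      rcases Nat.eq_zero_or_pos k1 with h | h
      · exfalso
        have := orderOf_pos x
        rw [hx, h, mul_zero] at this
        exact lt_irrefl _ this
      · exact h
    have hxp : orderOf (x ^ k1) = p ^ t1 := by
      have h1 : k1 ∣ orderOf x := by rw [hx]; exact Dvd.intro_left _ rfl
      rw [orderOf_pow_of_dvd hk1pos.ne' h1, hx, Nat.mul_div_cancel _ hk1pos]
    obtain ⟨u, hu, d, hcomm, hd⟩ := hU t1 hpos ⟨x ^ k1, hxp⟩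
    have hcud : Nat.Coprime (orderOf u) (orderOf d) := by
      rw [hu, hd]
      exact Nat.Coprime.pow_left t1 ((Nat.coprime_primes hp hr).2 hpr)
    refine ⟨u * d, w ^ (c / m), ?_⟩
    rw [hcomm.orderOf_mul_eq_mul_orderOf_of_coprime hcud, hu, hd, hw', hl]
    have hcop : Nat.Coprime (p ^ t1 * r) m := Nat.Coprime.mul_left hpm hrm
    rw [hcop.lcm_eq_mul]
    ring

/-- (A2) two factors. -/
theorem part2_core {p r c : ℕ} (hp : p.Prime) (hr : r.Prime) (hpr : p ≠ r) (hpc : Nat.Coprime p c)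
    (hBAD : ∀ w : L, Good r w ∨ ∃ t k, orderOf w = p ^ t * k ∧ k ∣ c)
    (hS : ∃ w : L, orderOf w = c) (hR : ∃ ρ : L, orderOf ρ = r)
    (hU : ∀ j : ℕ, 1 ≤ j → (∃ w : L, orderOf w = p ^ j) → ∃ u : L, orderOf u = p ^ j ∧ Good r u)
    (x y : L) (hxy : ¬ r ∣ Nat.lcm (orderOf x) (orderOf y)) :
    ∃ x' y' : L, Nat.lcm (orderOf x') (orderOf y') = r * Nat.lcm (orderOf x) (orderOf y) := by
  rcases hBAD x with hgx | ⟨t1, k1, hx, hk1⟩
  · obtain ⟨x', hx'⟩ := good_step hr x y hgx hxy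
    exact ⟨x', y, hx'⟩
  rcases hBAD y with hgy | ⟨t2, k2, hy, hk2⟩
  · have hyx : ¬ r ∣ Nat.lcm (orderOf y) (orderOf x) := by rwa [Nat.lcm_comm]
    obtain ⟨y', hy'⟩ := good_step hr y x hgy hyx
    refine ⟨x, y', ?_⟩
    rw [Nat.lcm_comm, hy', Nat.lcm_comm]
  rcases le_total t2 t1 with ht | ht
  · exact bad_bad hp hr hpr hpc hS hR hU x y hxy t1 k1 t2 k2 hx hk1 hy hk2 ht
  · have hyx : ¬ r ∣ Nat.lcm (orderOf y) (orderOf x) := by rwa [Nat.lcm_comm]
    obtain ⟨y', x', h⟩ := bad_bad hp hr hpr hpc hS hR hU y x hyx t2 k2 t1 k1 hy hk2 hx hk1 ht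
    refine ⟨x', y', ?_⟩
    rw [Nat.lcm_comm, h, Nat.lcm_comm]

end abstract

end Cfsg.Agent.Helper33.Spec4
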