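import Mathlib
import Cfsg.Agent.Helper86.Spec4.Defs
import Cfsg.Agent.Helper38.Singer

/-!
# (M5) of helper86's S2510 farm: the Singer cycle of `PSL_n(q)` has order
`(q^n - 1) / ((q - 1) gcd(n, q - 1))`.
-/

set_option autoImplicit false

namespace Cfsg.Agent.Helper33.Spec4

open Matrix Cfsg.Agent.Helper86.Spec4

variable {F : Type*} [Field F] [Fintype F]

/-- `1 + q + ⋯ + q^(n-1) ≡ n` modulo `q - 1` -/
theorem geomSum_modEq (q n : ℕ) (hq : 1 ≤ q) :
    (∑ i ∈ Finset.range n, q ^ i) ≡ n [MOD (q - 1)] := by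
  have h1 : q ≡ 1 [MOD (q - 1)] := ((Nat.modEq_iff_dvd' hq).2 (dvd_refl _)).symm
  induction n with
  | zero => simp [Nat.ModEq]
  | succ n ih =>
    rw [Finset.sum_range_succ]
    have h2 : q ^ n ≡ 1 [MOD (q - 1)] := by
      have := h1.pow n
      rwa [one_pow] at this
    exact ih.add h2

/-- the arithmetic of the Singer order -/
theorem singer_arith (q n : ℕ) (hq : 2 ≤ q) (hn : 1 ≤ n) :
    ∃ N : ℕ, N * (q - 1) = q ^ n - 1 ∧ 0 < N ∧ cS q n = N / Nat.gcd n (q - 1) ∧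
      Nat.gcd N (q - 1) = Nat.gcd n (q - 1) := by
  refine ⟨∑ i ∈ Finset.range n, q ^ i, ?_, ?_, ?_, ?_⟩
  · have := Nat.geomSum_eq hq n
    rw [this]
    exact Nat.div_mul_cancel (by simpa only [one_pow] using Nat.sub_dvd_pow_sub_pow q 1 n)
  · apply Finset.sum_pos
    · intro i _
      exact pow_pos (by omega) i
    · exact ⟨0, Finset.mem_range.2 hn⟩
  · unfold cS
    rw [← Nat.div_div_eq_div_mul, Nat.geomSum_eq hq n]
  · exact (geomSum_modEq q n (by omega)).gcd_eq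

/-- `N ∣ Q * j ↔ N / gcd(N, Q) ∣ j` -/
theorem dvd_mul_iff_div_gcd_dvd (N Q j : ℕ) (hN : 0 < N) :
    N ∣ Q * j ↔ N / Nat.gcd N Q ∣ j := by
  set g := Nat.gcd N Q with hg
  have hgpos : 0 < g := Nat.gcd_pos_of_pos_left _ hN
  obtain ⟨N', hN'⟩ : g ∣ N := Nat.gcd_dvd_left N Q
  obtain ⟨Q', hQ'⟩ : g ∣ Q := Nat.gcd_dvd_right N Q
  have hcop : Nat.Coprime N' Q' := by
    have := Nat.coprime_div_gcd_div_gcd (m := N) (n := Q) hgpos
    rwa [← hg, hN', hQ', Nat.mul_div_cancel_left _ hgpos, Nat.mul_div_cancel_left _ hgpos] at this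
  have hdiv : N / g = N' := by rw [hN', Nat.mul_div_cancel_left _ hgpos]
  rw [hdiv]
  constructor
  · intro h
    rw [hN', hQ', mul_assoc] at h
    have h2 : N' ∣ Q' * j := Nat.dvd_of_mul_dvd_mul_left hgpos h
    exact hcop.dvd_of_dvd_mul_left h2
  · intro h
    rw [hN', hQ', mul_assoc]
    exact Nat.mul_dvd_mul_left g (Dvd.dvd.mul_left h Q')

/-- (M5) the Singer cycle. -/
theorem singer {n : ℕ} (hn : 2 ≤ n) :
    ∃ w : ProjectiveSpecialLinearGroup (Fin n) F, orderOf w = cS (Fintype.card F) n := by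
  classical
  set q := Fintype.card F with hq
  have hq2 : 2 ≤ q := Fintype.one_lt_card
  obtain ⟨A, hAord, -, hAsc⟩ := Cfsg.Agent.Helper38.exists_singer (F := F) n (by omega)
  obtain ⟨N, hNmul, hNpos, hcS, hgcd⟩ := singer_arith q n hq2 (by omega)
  have hqn : 0 < q ^ n - 1 := by
    rw [← hNmul]
    exact Nat.mul_pos hNpos (by omega)
  -- the determinant of `A` is a unit
  have hA1 : A ^ (q ^ n - 1) = 1 := by
    rw [← hAord]; exact pow_orderOf_eq_one A
  have hdet0 : A.det ≠ 0 := by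
    intro h0
    have := congrArg Matrix.det hA1
    rw [Matrix.det_pow, h0, zero_pow hqn.ne', Matrix.det_one] at this
    exact zero_ne_one this
  have hdetB : (A ^ (q - 1)).det = 1 := by
    rw [Matrix.det_pow]
    exact FiniteField.pow_card_sub_one_eq_one _ hdet0
  let x : SpecialLinearGroup (Fin n) F := ⟨A ^ (q - 1), hdetB⟩
  refine ⟨QuotientGroup.mk x, ?_⟩
  -- the key equivalence
  have key : ∀ j : ℕ, (QuotientGroup.mk x : ProjectiveSpecialLinearGroup (Fin n) F) ^ j = 1 ↔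
      N / Nat.gcd n (q - 1) ∣ j := by
    intro j
    have hxj : ((x ^ j : SpecialLinearGroup (Fin n) F) : Matrix (Fin n) (Fin n) F) =
        A ^ ((q - 1) * j) := by
      rw [Matrix.SpecialLinearGroup.coe_pow, pow_mul]
    have harith : q ^ n - 1 ∣ (q - 1) * j * (q - 1) ↔ N / Nat.gcd n (q - 1) ∣ j := by
      rw [← hgcd, ← dvd_mul_iff_div_gcd_dvd N (q - 1) j hNpos, ← hNmul]
      exact Nat.mul_dvd_mul_iff_right (by omega)
    rw [← QuotientGroup.mk_pow]
    have hmk : ((QuotientGroup.mk (x ^ j) : ProjectiveSpecialLinearGroup (Fin n) F) = 1) ↔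
        x ^ j ∈ Subgroup.center (SpecialLinearGroup (Fin n) F) :=
      QuotientGroup.eq_one_iff _
    rw [hmk, Matrix.SpecialLinearGroup.mem_center_iff, ← harith, ← hAsc]
    constructor
    · rintro ⟨μ, -, hμ⟩
      refine ⟨μ, ?_⟩
      rw [← hxj, ← hμ, Matrix.smul_one_eq_diagonal]
      rfl
    · rintro ⟨μ, hμ⟩
      refine ⟨μ, ?_, ?_⟩
      · have h1 : ((x ^ j : SpecialLinearGroup (Fin n) F) : Matrix (Fin n) (Fin n) F).det = 1 :=
          (x ^ j).2
        rw [hxj, hμ, Matrix.det_smul, Matrix.det_one, mul_one] at h1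
        exact h1
      · rw [hxj, hμ, Matrix.smul_one_eq_diagonal]
        rfl
  rw [hcS]
  apply Nat.dvd_antisymm
  · exact orderOf_dvd_of_pow_eq_one ((key _).2 (dvd_refl _))
  · exact (key _).1 (pow_orderOf_eq_one _)

end Cfsg.Agent.Helper33.Spec4
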