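import Mathlib
import Cfsg.Prelude.Def_Classical
import Cfsg.Agent.Helper86.Spec4.DefsU
import Cfsg.Agent.Helper38.UnitaryTorus
import Cfsg.Agent.Helper33.Spec4M5

/-!
# (V5e) of helper86's S2511 farm: the Coxeter torus of `PSU_{2m}(q)`.
-/

set_option autoImplicit false
set_option linter.unusedVariables false

namespace Cfsg.Agent.Helper33.Spec4U

open Matrix Polynomial Cfsg.Agent.Helper86.Spec4

variable {F : Type*} [Field F] [Fintype F] {q n : ℕ}

/-- the arithmetic of the even Coxeter torus -/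
theorem torus_even_arith (q m : ℕ) (hq : 2 ≤ q) (hm : 1 ≤ m) :
    ∃ T : ℕ, T * (q + 1) = q ^ (m + m) - 1 ∧ Nat.gcd T (q + 1) = Nat.gcd (m + m) (q + 1) ∧
      cU q (m + m) = T / Nat.gcd (m + m) (q + 1) := by
  set S := ∑ i ∈ Finset.range m, (q ^ 2) ^ i with hS
  have hq2 : 2 ≤ q ^ 2 := by nlinarith
  have hsq : q ^ 2 - 1 = (q - 1) * (q + 1) := by
    obtain ⟨k, rfl⟩ : ∃ k, q = k + 1 := ⟨q - 1, by omega⟩
    have : (k + 1) ^ 2 = k * (k + 1 + 1) + 1 := by ring
    rw [this]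
    simp
  have hS1 : S * (q ^ 2 - 1) = (q ^ 2) ^ m - 1 := by
    rw [hS, Nat.geomSum_eq hq2 m]
    exact Nat.div_mul_cancel (by simpa only [one_pow] using Nat.sub_dvd_pow_sub_pow (q ^ 2) 1 m)
  have hpw : (q ^ 2) ^ m = q ^ (m + m) := by rw [← pow_mul, two_mul]
  have hSmod : S ≡ m [MOD (q + 1)] := by
    have h1 := Cfsg.Agent.Helper33.Spec4.geomSum_modEq (q ^ 2) m (by omega)
    exact Nat.ModEq.of_dvd (by rw [hsq]; exact Dvd.intro_left _ rfl) h1
  refine ⟨S * (q - 1), ?_, ?_, ?_⟩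
  · rw [mul_assoc, ← hsq, hS1, hpw]
  · -- `T + 2m ≡ 0`
    have hT : S * (q - 1) + (m + m) ≡ 0 [MOD (q + 1)] := by
      have h1 : S * (q - 1) + (m + m) ≡ m * (q - 1) + (m + m) [MOD (q + 1)] :=
        (hSmod.mul_right (q - 1)).add_right (m + m)
      have h2 : m * (q - 1) + (m + m) = (q + 1) * m := by
        obtain ⟨k, rfl⟩ : ∃ k, q = k + 1 := ⟨q - 1, by omega⟩
        simp only [Nat.add_sub_cancel]
        ring
      rw [h2] at h1
      exact h1.trans ((Nat.modEq_zero_iff_dvd).2 (Dvd.intro _ rfl))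
    have hdvd : (q + 1) ∣ S * (q - 1) + (m + m) := (Nat.modEq_zero_iff_dvd).1 hT
    apply Nat.dvd_antisymm
    · apply Nat.dvd_gcd
      · have h1 : Nat.gcd (S * (q - 1)) (q + 1) ∣ S * (q - 1) + (m + m) :=
          Dvd.dvd.trans (Nat.gcd_dvd_right _ _) hdvd
        exact (Nat.dvd_add_right (Nat.gcd_dvd_left _ _)).1 h1
      · exact Nat.gcd_dvd_right _ _
    · apply Nat.dvd_gcd
      · have h1 : Nat.gcd (m + m) (q + 1) ∣ S * (q - 1) + (m + m) :=
          Dvd.dvd.trans (Nat.gcd_dvd_right _ _) hdvd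
        exact (Nat.dvd_add_left (Nat.gcd_dvd_left _ _)).1 h1
      · exact Nat.gcd_dvd_right _ _
  · unfold cU NU
    have hev : Even (m + m) := ⟨m, rfl⟩
    rw [if_pos hev, ← Nat.div_div_eq_div_mul]
    congr 1
    apply Nat.div_eq_of_eq_mul_left (by omega)
    rw [mul_assoc, ← hsq, hS1, hpw]

/-- (V5e) the Coxeter torus, even dimension (from `Cfsg.Agent.Helper38.exists_psu_order_torus`). -/
theorem singer_U_even (hF : Fintype.card F = q ^ 2) (m : ℕ) (hm : 2 ≤ m) :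
    ∃ w : Cfsg.PSU (m + m) F q, orderOf w = cU q (m + m) := by
  have hq2 : 2 ≤ q := by
    have := Fintype.one_lt_card (α := F)
    rw [hF] at this
    nlinarith
  obtain ⟨T, hT, hgcd, hcU⟩ := torus_even_arith q m hq2 (by omega)
  obtain ⟨x, hx⟩ := Cfsg.Agent.Helper38.exists_psu_order_torus hF m hm T hT
  exact ⟨x, by rw [hx, hgcd, hcU]⟩

end Cfsg.Agent.Helper33.Spec4U
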