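import Mathlib
import Cfsg.Agent.Helper86.Spec4.DefsU
import Cfsg.Agent.Helper33.Spec4M5

/-!
# Arithmetic for (V5o) of helper86's S2511 farm: the Coxeter torus of `PSU_n(q)`, `n` odd.
-/

set_option autoImplicit false

namespace Cfsg.Agent.Helper33.Spec4U

open Cfsg.Agent.Helper86.Spec4

/-- the torus order `R = (q^n+1)/(q+1)` for `n = 2m+1`: `R = q (q-1) S + 1`, `S = ∑_{i<m} q^{2i}` -/
theorem torus_odd_arith (q m : ℕ) (hq : 2 ≤ q) :
    ∃ R : ℕ, R * (q + 1) = q ^ (2 * m + 1) + 1 ∧ 0 < R ∧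
      Nat.gcd R (q ^ 2 - 1) = Nat.gcd (2 * m + 1) (q + 1) ∧
      cU q (2 * m + 1) = R / Nat.gcd (2 * m + 1) (q + 1) := by
  set S := ∑ i ∈ Finset.range m, (q ^ 2) ^ i with hS
  have hq2 : 2 ≤ q ^ 2 := by nlinarith
  have hsq : q ^ 2 - 1 = (q - 1) * (q + 1) := by
    obtain ⟨k, rfl⟩ : ∃ k, q = k + 1 := ⟨q - 1, by omega⟩
    have : (k + 1) ^ 2 = k * (k + 1 + 1) + 1 := by ring
    rw [this]
    simp
  have hS1 : S * (q ^ 2 - 1) = (q ^ 2) ^ m - 1 := by
    rw [hS, Nat.geomSum_eq hq2 m]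
    exact Nat.div_mul_cancel (by simpa only [one_pow] using Nat.sub_dvd_pow_sub_pow (q ^ 2) 1 m)
  have hpos : 1 ≤ (q ^ 2) ^ m := Nat.one_le_pow _ _ (by omega)
  have hSmod : S ≡ m [MOD (q ^ 2 - 1)] :=
    Cfsg.Agent.Helper33.Spec4.geomSum_modEq (q ^ 2) m (by omega)
  have hRmul : (q * (q - 1) * S + 1) * (q + 1) = q ^ (2 * m + 1) + 1 := by
    have h1 : q * (q - 1) * S * (q + 1) = q * (S * (q ^ 2 - 1)) := by rw [hsq]; ring
    rw [add_mul, one_mul, h1, hS1, Nat.mul_sub, mul_one, ← pow_mul, pow_succ]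
    have h2 : q ≤ q * q ^ (2 * m) := Nat.le_mul_of_pos_right q (by positivity)
    have h3 : q * q ^ (2 * m) = q ^ (2 * m) * q := mul_comm _ _
    omega
  refine ⟨q * (q - 1) * S + 1, hRmul, Nat.succ_pos _, ?_, ?_⟩
  · -- the gcd
    have hc1 : Nat.Coprime (q - 1) (q * (q - 1) * S + 1) := by
      have : q * (q - 1) * S + 1 = q * S * (q - 1) + 1 := by ring
      rw [this]
      exact (Nat.coprime_mul_right_add_right (q - 1) 1 (q * S)).2 (Nat.coprime_one_right _)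
    have hmod : q * (q - 1) * S + 1 ≡ 2 * m + 1 [MOD (q + 1)] := by
      have hS' : S ≡ m [MOD (q + 1)] :=
        Nat.ModEq.of_dvd (by rw [hsq]; exact Dvd.intro_left _ rfl) hSmod
      have hqq : q * (q - 1) ≡ 2 [MOD (q + 1)] := by
        obtain ⟨k, rfl⟩ : ∃ k, q = k + 2 := ⟨q - 2, by omega⟩
        have : (k + 2) * (k + 2 - 1) = (k + 2 + 1) * k + 2 := by
          simp only [show k + 2 - 1 = k + 1 by omega]
          ring
        rw [this]
        have h0 : (k + 2 + 1) * k ≡ 0 [MOD (k + 2 + 1)] :=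
          (Nat.modEq_zero_iff_dvd).2 (Dvd.intro _ rfl)
        have h00 := h0.add_right 2
        rwa [zero_add] at h00
      exact (hqq.mul hS').add_right 1
    rw [hsq, Nat.Coprime.gcd_mul_left_cancel_right _ hc1]
    exact hmod.gcd_eq
  · unfold cU NU
    have hodd : ¬ Even (2 * m + 1) := by
      rw [Nat.not_even_iff_odd]; exact ⟨m, rfl⟩
    rw [if_neg hodd, ← Nat.div_div_eq_div_mul]
    congr 1
    apply Nat.div_eq_of_eq_mul_left (by omega)
    exact hRmul.symm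

/-- the torus order divides the order of the kernel of the norm -/
theorem torus_odd_norm (q n R : ℕ) (hq : 2 ≤ q) (hR : R * (q + 1) = q ^ n + 1) :
    R ∣ ((q ^ 2) ^ n - 1) / (q ^ 2 - 1) ∧ R ∣ (q ^ 2) ^ n - 1 := by
  have hsq : q ^ 2 - 1 = (q - 1) * (q + 1) := by
    obtain ⟨k, rfl⟩ : ∃ k, q = k + 1 := ⟨q - 1, by omega⟩
    have : (k + 1) ^ 2 = k * (k + 1 + 1) + 1 := by ring
    rw [this]
    simp
  obtain ⟨B, hB⟩ : q - 1 ∣ q ^ n - 1 := by
    simpa only [one_pow] using Nat.sub_dvd_pow_sub_pow q 1 n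
  have h1 : (q ^ 2) ^ n - 1 = (q ^ 2 - 1) * (R * B) := by
    have h2 : (q ^ 2) ^ n - 1 = (q ^ n) ^ 2 - 1 ^ 2 := by
      rw [one_pow, ← pow_mul, ← pow_mul, mul_comm]
    rw [h2, Nat.sq_sub_sq, ← hR, hB, hsq]
    ring
  have hpos : 0 < q ^ 2 - 1 := by
    have : 4 ≤ q ^ 2 := by nlinarith
    omega
  constructor
  · rw [h1, Nat.mul_div_cancel_left _ hpos]
    exact Dvd.intro _ rfl
  · rw [h1]
    exact Dvd.dvd.mul_left (Dvd.intro _ rfl) _

/-- the subfield argument: the order of `q ^ 2` modulo `R` is `n` -/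
theorem torus_odd_degree (q n d R : ℕ) (hq : 2 ≤ q) (hn : Odd n) (hn3 : 3 ≤ n)
    (h32 : ¬ (n = 3 ∧ q = 2)) (hd : d ∣ n) (hR : R * (q + 1) = q ^ n + 1)
    (hdiv : R ∣ (q ^ 2) ^ d - 1) : d = n := by
  by_contra hne
  obtain ⟨e, he⟩ := hd
  have hd0 : 0 < d := by
    rcases Nat.eq_zero_or_pos d with h | h
    · rw [h, zero_mul] at he; omega
    · exact h
  have heodd : Odd e := by
    rw [he] at hn
    exact (Nat.odd_mul.1 hn).2
  obtain ⟨f, hf⟩ := heodd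
  have hf1 : 1 ≤ f := by
    rcases Nat.eq_zero_or_pos f with h | h
    · exfalso
      rw [h] at hf
      rw [hf] at he
      apply hne
      omega
    · exact h
  have h3d : 3 * d ≤ n := by
    rw [he, hf]
    nlinarith
  -- `q ^ n ≡ q ^ d`
  have h1 : (q ^ 2) ^ d ≡ 1 [MOD R] :=
    ((Nat.modEq_iff_dvd' (Nat.one_le_pow _ _ (by positivity))).2 hdiv).symm
  have h2 : q ^ n = ((q ^ 2) ^ d) ^ f * q ^ d := by
    rw [← pow_mul, ← pow_mul, ← pow_add, he, hf]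
    congr 1
    ring
  have h3 : q ^ n ≡ q ^ d [MOD R] := by
    rw [h2]
    have := (h1.pow f).mul_right (q ^ d)
    rwa [one_pow, one_mul] at this
  have h4 : R ∣ q ^ d + 1 := by
    have h5 : q ^ n + 1 ≡ q ^ d + 1 [MOD R] := h3.add_right 1
    have h6 : q ^ n + 1 ≡ 0 [MOD R] := (Nat.modEq_zero_iff_dvd).2 ⟨q + 1, hR.symm⟩
    exact (Nat.modEq_zero_iff_dvd).1 (h5.symm.trans h6)
  have h5 : R ≤ q ^ d + 1 := Nat.le_of_dvd (Nat.succ_pos _) h4
  -- the size estimate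
  set x := q ^ d with hx
  have hxq : q ≤ x := by
    rw [hx]
    calc q = q ^ 1 := (pow_one q).symm
      _ ≤ q ^ d := Nat.pow_le_pow_right (by omega) hd0
  have h6 : x ^ 3 ≤ q ^ n := by
    rw [hx, ← pow_mul]
    exact Nat.pow_le_pow_right (by omega) (by omega)
  have h7 : q ^ n + 1 ≤ (x + 1) * (q + 1) := by
    rw [← hR]
    exact Nat.mul_le_mul_right _ h5
  have h8 : x ^ 3 + 1 ≤ (x + 1) * (x + 1) := by
    calc x ^ 3 + 1 ≤ q ^ n + 1 := by omega
      _ ≤ (x + 1) * (q + 1) := h7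
      _ ≤ (x + 1) * (x + 1) := Nat.mul_le_mul_left _ (by omega)
  have hx2 : x ≤ 2 := by
    by_contra hc
    have hx3 : 3 ≤ x := by omega
    nlinarith
  have hq2' : q = 2 := by omega
  have hx2' : x = 2 := by omega
  have hn3' : 2 ^ n + 1 ≤ 9 := by
    rw [hx2', hq2'] at h7
    have h9 : (2 + 1) * (2 + 1) = 9 := by norm_num
    rw [h9] at h7
    exact h7
  have hn4 : n < 4 := by
    by_contra hc
    have : 2 ^ 4 ≤ 2 ^ n := Nat.pow_le_pow_right (by norm_num) (by omega)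
    omega
  exact h32 ⟨by omega, hq2'⟩

end Cfsg.Agent.Helper33.Spec4U
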