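import Mathlib
import Cfsg.Prelude.Def_Classical
import Cfsg.Agent.Helper86.Spec4.DefsU
import Cfsg.Agent.Helper38.SU3Elts
import Cfsg.Agent.Helper33.Spec4UV5oArith

/-!
# (V5o) of helper86's S2511 farm: the Coxeter torus of `PSU_n(q)`, `n` odd.
-/

set_option autoImplicit false
set_option linter.unusedVariables false

namespace Cfsg.Agent.Helper33.Spec4U

open Matrix Polynomial Cfsg.Agent.Helper86.Spec4 Cfsg.Agent.Helper45.GU Cfsg.Agent.Helper38

variable {F : Type*} [Field F] [Fintype F] {q n : ℕ}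

/-- (V5o) the Coxeter torus, odd dimension. -/
theorem singer_U_odd (hF : Fintype.card F = q ^ 2) (hn : 3 ≤ n) (hodd : Odd n) :
    ∃ w : Cfsg.PSU n F q, orderOf w = cU q n := by
  classical
  have hq2 : 2 ≤ q := by
    have := Fintype.one_lt_card (α := F)
    rw [hF] at this
    nlinarith
  by_cases h32 : n = 3 ∧ q = 2
  · obtain ⟨rfl, rfl⟩ := h32
    refine ⟨1, ?_⟩
    rw [orderOf_one]
    unfold cU NU
    norm_num
  obtain ⟨m, hm⟩ := hodd
  obtain ⟨R, hRmul, hRpos, hgcd, hcU⟩ := torus_odd_arith q m hq2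
  rw [← hm] at hRmul hgcd hcU
  obtain ⟨hRnorm, hRcard⟩ := torus_odd_norm q n R hq2 hRmul
  obtain ⟨p, hp⟩ := CharP.exists F
  have : Fact p.Prime := ⟨CharP.char_is_prime F p⟩
  have : NeZero n := ⟨by omega⟩
  obtain ⟨bar, hbar⟩ := exists_bar hF
  let K := FiniteField.Extension F p n
  have : Fintype K := Fintype.ofFinite K
  have hcardK : Nat.card K = (q ^ 2) ^ n := by
    rw [FiniteField.natCard_extension, Nat.card_eq_fintype_card, hF]
  have hfr : Module.finrank F K = n := FiniteField.finrank_extension F p n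
  let b : Module.Basis (Fin n) F K := (Module.finBasis F K).reindex (finCongr hfr)
  obtain ⟨ζ, hζ⟩ := IsCyclic.exists_ofOrder_eq_natCard (α := Kˣ)
  have hcardU : Nat.card Kˣ = (q ^ 2) ^ n - 1 := by
    rw [Nat.card_units, hcardK]
  have hpos : 0 < (q ^ 2) ^ n - 1 := by
    have : 1 < (q ^ 2) ^ n :=
      Nat.one_lt_pow (by omega) (Nat.one_lt_pow (by norm_num) (by omega))
    omega
  obtain ⟨u, hu⟩ := Cfsg.Agent.S2476.exists_orderOf_of_dvd ζ _ R hpos (hζ.trans hcardU) hRcard
  have huK : orderOf (u : K) = R := by rw [orderOf_units, hu]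
  have huR : (u : K) ^ R = 1 := by rw [← huK]; exact pow_orderOf_eq_one _
  have hu0 : (u : K) ≠ 0 := Units.ne_zero u
  let ψ : K →ₐ[F] Matrix (Fin n) (Fin n) F := Algebra.leftMulMatrix b
  have hψinj : Function.Injective ψ := Algebra.leftMulMatrix_injective b
  have hscal : ∀ μ : F, ψ (algebraMap F K μ) = μ • (1 : Matrix (Fin n) (Fin n) F) := by
    intro μ
    rw [AlgHom.commutes, Algebra.algebraMap_eq_smul_one]
  set A := ψ (u : K) with hA
  -- determinant
  have hdet : A.det = 1 := by
    have h1 := FiniteField.algebraMap_norm_eq_pow (K := F) (K' := K) (x := (u : K))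
    rw [hcardK, Nat.card_eq_fintype_card, hF] at h1
    obtain ⟨c, hc⟩ := hRnorm
    rw [hc, pow_mul, huR, one_pow] at h1
    have h2 : Algebra.norm F (u : K) = 1 := by
      apply (algebraMap F K).injective
      rw [h1, map_one]
    rw [hA, ← h2, Algebra.norm_eq_matrix_det b]
  -- scalar powers
  have hcrit : ∀ j : ℕ, (∃ μ : F, A ^ j = μ • (1 : Matrix (Fin n) (Fin n) F)) ↔
      R ∣ j * (q ^ 2 - 1) := by
    intro j
    have hpow : A ^ j = ψ ((u : K) ^ j) := (map_pow ψ _ j).symm
    rw [hpow]
    constructor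
    · rintro ⟨μ, hμ⟩
      rw [← hscal] at hμ
      have h1 := hψinj hμ
      have hμ0 : μ ≠ 0 := by
        rintro rfl
        rw [map_zero] at h1
        exact (pow_ne_zero j hu0) h1
      rw [← huK]
      apply orderOf_dvd_of_pow_eq_one
      rw [pow_mul, h1, ← map_pow, ← hF, FiniteField.pow_card_sub_one_eq_one μ hμ0, map_one]
    · intro h
      have h2 : ((u : K) ^ j) ^ (Fintype.card F - 1) = 1 := by
        rw [← pow_mul, hF]
        rw [← huK] at h
        exact orderOf_dvd_iff_pow_eq_one.1 h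
      obtain ⟨μ, hμ⟩ := exists_algebraMap_eq_of_pow_card_sub_one (F := F) _ h2
      exact ⟨μ, by rw [← hμ, hscal]⟩
  -- the Frobenius of order two on `K`
  have hKcard : Fintype.card K = (q ^ n) ^ 2 := by
    rw [← Nat.card_eq_fintype_card, hcardK, ← pow_mul, ← pow_mul, mul_comm]
  obtain ⟨Φ, hΦ⟩ := exists_bar hKcard
  have hqn : q ^ n = (q ^ 2) ^ m * q := by
    rw [hm, ← pow_mul, pow_succ]
  have hΦi : Φ.comp (algebraMap F K) = (algebraMap F K).comp bar := by
    ext c
    simp only [RingHom.comp_apply, hΦ, hbar]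
    rw [← map_pow]
    congr 1
    rw [hqn, pow_mul, ← hF, FiniteField.pow_card_pow]
  have hΦu : Φ (u : K) = (u : K)⁻¹ := by
    rw [hΦ]
    apply eq_inv_of_mul_eq_one_left
    rw [← pow_succ, ← hRmul, pow_mul, huR, one_pow]
  -- characteristic polynomials
  have hmapbar : A.map (fun x : F => x ^ q) = A.map bar := by
    ext i l
    simp only [Matrix.map_apply, hbar]
  set M := (A.map bar).transpose with hM
  have hMdet : M.det = 1 := by
    rw [hM, det_transpose]
    have := RingHom.map_det bar A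
    rw [hdet, map_one] at this
    rw [← RingHom.mapMatrix_apply]
    exact this.symm
  have hBM : M⁻¹ * M = 1 := Matrix.nonsing_inv_mul M (by rw [hMdet]; exact isUnit_one)
  have hnodd : (-1 : F[X]) ^ n = -1 := Odd.neg_one_pow ⟨m, hm⟩
  have hBchar : (M⁻¹).charpoly = -((A.charpoly).map bar).reverse := by
    have h := charpoly_mul_C_det_of_mul_eq_one M M⁻¹ hBM
    rw [hMdet, map_one, mul_one, Fintype.card_fin, hM, Matrix.charpoly_transpose,
      Matrix.charpoly_map, hnodd] at h
    rw [h]
    ring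
  have hAu : Polynomial.aeval (u : K) A.charpoly = 0 := by
    apply hψinj
    rw [← Polynomial.aeval_algHom_apply, map_zero]
    exact Matrix.aeval_self_charpoly A
  have hBu : Polynomial.aeval (u : K) (M⁻¹).charpoly = 0 := by
    rw [hBchar, map_neg, neg_eq_zero, Polynomial.aeval_def]
    have : Invertible ((u : K)⁻¹) := invertibleOfNonzero (inv_ne_zero hu0)
    have h1 : Polynomial.eval₂ (algebraMap F K) ((u : K)⁻¹) ((A.charpoly).map bar) = 0 := by
      rw [Polynomial.eval₂_map, ← hΦi, ← hΦu, ← Polynomial.hom_eval₂, ← Polynomial.aeval_def, hAu,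
        map_zero]
    have h2 := (Polynomial.eval₂_reverse_eq_zero_iff (algebraMap F K) ((u : K)⁻¹)
      ((A.charpoly).map bar)).2 h1
    rw [invOf_eq_inv, inv_inv] at h2
    exact h2
  -- the minimal polynomial has degree `n`
  have hint : IsIntegral F (u : K) := Algebra.IsIntegral.isIntegral _
  have hdeg : (minpoly F (u : K)).natDegree = n := by
    have h1 := minpoly.degree_dvd (K := F) hint
    rw [hfr] at h1
    apply torus_odd_degree q n _ R hq2 ⟨m, hm⟩ hn h32 h1 hRmul
    -- the subfield generated by `u`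
    have hfrL : Module.finrank F (IntermediateField.adjoin F {(u : K)})
        = (minpoly F (u : K)).natDegree := IntermediateField.adjoin.finrank hint
    have : Fintype (IntermediateField.adjoin F {(u : K)}) := Fintype.ofFinite _
    have hcardL : Fintype.card (IntermediateField.adjoin F {(u : K)})
        = (q ^ 2) ^ (minpoly F (u : K)).natDegree := by
      rw [← Nat.card_eq_fintype_card, Module.natCard_eq_pow_finrank (K := F), hfrL,
        Nat.card_eq_fintype_card, hF]
    set g : IntermediateField.adjoin F {(u : K)} := IntermediateField.AdjoinSimple.gen F (u : K)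
      with hg
    have hgu : (g : K) = u := IntermediateField.AdjoinSimple.coe_gen F (u : K)
    have hg0 : g ≠ 0 := by
      intro h0
      apply hu0
      rw [← hgu, h0]
      rfl
    have h2 := FiniteField.pow_card_sub_one_eq_one g hg0
    rw [hcardL] at h2
    have h3 : (u : K) ^ ((q ^ 2) ^ (minpoly F (u : K)).natDegree - 1) = 1 := by
      have h4 := congrArg (fun x : IntermediateField.adjoin F {(u : K)} => (x : K)) h2
      simp only [SubmonoidClass.coe_pow, OneMemClass.coe_one] at h4
      rwa [hgu] at h4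
    rw [← huK]
    exact orderOf_dvd_of_pow_eq_one h3
  have hAmin : A.charpoly = minpoly F (u : K) :=
    Polynomial.eq_of_monic_of_dvd_of_natDegree_le (minpoly.monic hint) (Matrix.charpoly_monic A)
      (minpoly.dvd F _ hAu) (by
        rw [Matrix.charpoly_natDegree_eq_dim, Fintype.card_fin, hdeg])
  have hBmin : (M⁻¹).charpoly = minpoly F (u : K) :=
    Polynomial.eq_of_monic_of_dvd_of_natDegree_le (minpoly.monic hint) (Matrix.charpoly_monic _)
      (minpoly.dvd F _ hBu) (by
        rw [Matrix.charpoly_natDegree_eq_dim, Fintype.card_fin, hdeg])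
  have hconj : IsConj A ((A.map (fun x : F => x ^ q)).transpose)⁻¹ := by
    rw [hmapbar]
    apply isConj_of_charpoly_irreducible A _ (by rw [hAmin, hBmin])
    rw [hAmin]
    exact minpoly.irreducible hint
  -- the element of `PSU`
  obtain ⟨X, hX⟩ := exists_su_of_isConj hF A hdet hconj
  set g := Nat.gcd R (q ^ 2 - 1) with hgdef
  have hN : ∃ μ : F, A ^ (R / g) = μ • (1 : Matrix (Fin n) (Fin n) F) := by
    rw [hcrit, mul_comm]
    exact su3_dvd_mul_div g (q ^ 2 - 1) R (Nat.gcd_dvd_right _ _) (Nat.gcd_dvd_left _ _)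
  obtain ⟨μ, hμ⟩ := hN
  refine ⟨QuotientGroup.mk X, ?_⟩
  rw [hcU, ← hgcd]
  refine orderOf_mk_su_eq hF hn X (R / g) μ ((hX _ μ).2 hμ) ?_
  rintro j ⟨ν, hν⟩
  have h1 : R ∣ j * (q ^ 2 - 1) := (hcrit j).1 ⟨ν, (hX j ν).1 hν⟩
  exact Cfsg.Agent.S2476.div_gcd_dvd_of_dvd_mul R (q ^ 2 - 1) j hRpos h1

end Cfsg.Agent.Helper33.Spec4U
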