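import Mathlib
import Cfsg.Agent.Helper40.StCLiftDefs

/-!
# (LG1) of helper40's S2092 Part II skeleton: `map_Ll` and additivity of `Ll` in `t`

`Ll_add_of` takes the additivity of `Zs` (piece (SH4)) as a hypothesis; `Cfsg.Agent.Helper33.StCLG1b`
has the exact skeleton statement `Ll_add`.
-/

set_option autoImplicit false
set_option linter.unusedSectionVars false

namespace Cfsg.Agent.Helper33.StCLG1

open scoped commutatorElement
open Cfsg.Agent.Helper96.StN Cfsg.Agent.Helper96.StC Cfsg.Agent.Helper96.StLift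
  Cfsg.Agent.Helper40.StCLift

universe u v v' w

variable {K : Type u} [Field K] {D : Type v} [Group D] {E : Type v'} [Group E] {π : E →* D}
  {ι : Type w} {X : ι ⊕ ι → ι ⊕ ι → K → D}

/-- the short root lift is a lift (also piece (SH3) `map_Zs`; proved here to be self-contained) -/
theorem map_Zs' (hπ : Function.Surjective π) (hX : SpRel X)
    (h3 : ∀ p q : ι ⊕ ι, ∃ k, AbsNe k p ∧ AbsNe k q) {p s : ι ⊕ ι} (hps : AbsNe p s) (t : K) :
    π (Zs hπ X h3 p s t) = X p s t := by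
  unfold Zs
  obtain ⟨hkp, hks⟩ := Classical.choose_spec (h3 p s)
  set k := Classical.choose (h3 p s)
  rw [map_lc, commutatorElement_def]
  have := hX.mul p k s hkp.1.symm hks.1 hps.1 hkp.symm.2 hks.2 hps.2 t 1
  rw [this, mul_one]

/-- (LG1) -/
theorem map_Ll (hπ : Function.Surjective π) (hX : SpRel X)
    (h3 : ∀ p q : ι ⊕ ι, ∃ k, AbsNe k p ∧ AbsNe k q) {p q : ι ⊕ ι} (hpq : AbsNe p q) (t u : K) :
    π (Ll hπ X h3 p q t u) = X (bar q) q (eps K p q * t * u ^ 2) := by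
  unfold Ll
  rw [map_mul, map_inv, map_Zs' hπ hX h3 hpq, map_lc, commutatorElement_def,
    hX.r6 p q hpq.1 hpq.2, inv_mul_cancel_left]

section add

variable (hπ : Function.Surjective π) (hc : π.ker ≤ Subgroup.center E)

/-- the root elements `X p q _`, `X (bar q) q _` -/
def pqSet (X : ι ⊕ ι → ι ⊕ ι → K → D) (p q : ι ⊕ ι) : Set D :=
  {g | (∃ a, g = X p q a) ∨ ∃ a, g = X (bar q) q a}

theorem pqSet_pair (hX : SpRel X) (hCL : CLC hπ X) {p q : ι ⊕ ι} (hpq : AbsNe p q)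
    {a b : D} (ha : a ∈ pqSet X p q) (hb : b ∈ pqSet X p q) : Commute a b ∧ lc hπ a b = 1 := by
  have hq : bar q ≠ q := bar_ne q
  have hq' : q ≠ bar q := (bar_ne q).symm
  have hpq' : bar q ≠ bar p := fun e => hpq.1 (bar_injective e).symm
  have hp : p ≠ bar p := (bar_ne p).symm
  rcases ha with ⟨s, rfl⟩ | ⟨s, rfl⟩ <;> rcases hb with ⟨s', rfl⟩ | ⟨s', rfl⟩
  · exact ⟨hX.comm p q p q hpq.1 hpq.1 hpq.1.symm hq' hp hpq.1 s s',
      hCL p q p q hpq.1 hpq.1 hpq.1.symm hq' hp hpq.1 s s'⟩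
  · exact ⟨hX.comm p q (bar q) q hpq.1 hq hq' hq' (by rw [bar_bar]; exact hpq.1) hpq.1 s s',
      hCL p q (bar q) q hpq.1 hq hq' hq' (by rw [bar_bar]; exact hpq.1) hpq.1 s s'⟩
  · exact ⟨hX.comm (bar q) q p q hq hpq.1 hpq.1.symm hq' hpq' hq s s',
      hCL (bar q) q p q hq hpq.1 hpq.1.symm hq' hpq' hq s s'⟩
  · exact ⟨hX.comm (bar q) q (bar q) q hq hq hq' hq' (by rw [bar_bar]; exact hq) hq s s',
      hCL (bar q) q (bar q) q hq hq hq' hq' (by rw [bar_bar]; exact hq) hq s s'⟩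

include hc in
/-- lifts of elements of the (abelian) group generated by the `X p q _`, `X (bar q) q _`
commute -/
theorem commute_of_mem_closure_pqSet (hX : SpRel X) (hCL : CLC hπ X) {p q : ι ⊕ ι}
    (hpq : AbsNe p q) {y z : E} (hy : π y ∈ Subgroup.closure (pqSet X p q))
    (hz : π z ∈ Subgroup.closure (pqSet X p q)) : Commute y z := by
  have h1 : ∀ a ∈ pqSet X p q, ∀ g ∈ Subgroup.closure (pqSet X p q),
      Commute a g ∧ lc hπ a g = 1 := fun a ha g hg =>
    lc_eq_one_of_mem_closure hπ hc a (fun b hb => pqSet_pair hπ hX hCL hpq ha hb) hg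
  have h2 : Commute (π y) (π z) ∧ lc hπ (π y) (π z) = 1 :=
    lc_eq_one_of_mem_closure hπ hc (π y) (fun b hb => by
      obtain ⟨h, h'⟩ := h1 b hb (π y) hy
      exact ⟨h.symm, lc_eq_one_symm hπ h'⟩) hz
  exact commute_of_lc_eq_one hπ hc h2.2 rfl rfl

theorem X_mem_closure_pqSet (p q : ι ⊕ ι) (a : K) :
    X p q a ∈ Subgroup.closure (pqSet X p q) :=
  Subgroup.subset_closure (Or.inl ⟨a, rfl⟩)

theorem X_bar_mem_closure_pqSet (p q : ι ⊕ ι) (a : K) :
    X (bar q) q a ∈ Subgroup.closure (pqSet X p q) :=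
  Subgroup.subset_closure (Or.inr ⟨a, rfl⟩)

theorem map_lc_long_mem (hX : SpRel X) {p q : ι ⊕ ι} (hpq : AbsNe p q) (t u : K) :
    π (lc hπ (X p (bar p) t) (X (bar p) q u)) ∈ Subgroup.closure (pqSet X p q) := by
  rw [map_lc, commutatorElement_def, hX.r6 p q hpq.1 hpq.2]
  exact Subgroup.mul_mem _ (X_mem_closure_pqSet p q _) (X_bar_mem_closure_pqSet p q _)

omit [Field K] in
theorem rearr {G : Type*} [Group G] (a a' l l' : G) (h1 : Commute a a') (h4 : Commute a' l)
    (h6 : Commute l l') : (a * a')⁻¹ * (l' * l) = a⁻¹ * l * (a'⁻¹ * l') := by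
  rw [mul_inv_rev, (h1.inv_inv).symm.eq, h6.symm.eq, mul_assoc, ← mul_assoc a'⁻¹ l l',
    (h4.inv_left).eq]
  group

include hc in
/-- (LG1) additivity in `t`, from the additivity of `Zs` -/
theorem Ll_add_of (hX : SpRel X) (hCL : CLC hπ X)
    (h3 : ∀ p q : ι ⊕ ι, ∃ k, AbsNe k p ∧ AbsNe k q) {p q : ι ⊕ ι} (hpq : AbsNe p q)
    (hZs : ∀ a b : K, Zs hπ X h3 p q (a + b) = Zs hπ X h3 p q a * Zs hπ X h3 p q b)
    (t t' u : K) :
    Ll hπ X h3 p q (t + t') u = Ll hπ X h3 p q t u * Ll hπ X h3 p q t' u := by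
  unfold Ll
  have hp : p ≠ bar p := (bar_ne p).symm
  obtain ⟨x, hx⟩ := hπ (X p (bar p) t)
  -- expand the first variable
  have e1 : lc hπ (X p (bar p) (t + t')) (X (bar p) q u) =
      lc hπ (X p (bar p) t') (X (bar p) q u) * lc hπ (X p (bar p) t) (X (bar p) q u) := by
    rw [hX.add p (bar p) hp, ← hx, lc_mul_left hπ hc, hx]
    congr 1
    -- `x` commutes with the lift `lc ..` of an element of the closure
    have hcomm : Commute x (lc hπ (X p (bar p) t') (X (bar p) q u)) := by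
      -- `lc (X p p̄ t) g = 1` for all `g` in the closure
      have h1 : ∀ b ∈ pqSet X p q, Commute (X p (bar p) t) b ∧ lc hπ (X p (bar p) t) b = 1 := by
        intro b hb
        have hpq' : bar p ≠ bar q := fun e => hpq.1 (bar_injective e)
        rcases hb with ⟨s, rfl⟩ | ⟨s, rfl⟩
        · exact ⟨hX.comm p (bar p) p q hp hpq.1 (bar_ne p) hpq' hp hpq.1 t s,
            hCL p (bar p) p q hp hpq.1 (bar_ne p) hpq' hp hpq.1 t s⟩
        · exact ⟨hX.comm p (bar p) (bar q) q hp (bar_ne q) hpq' hpq' (by rw [bar_bar]; exact hpq.1)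
              hpq.1 t s,
            hCL p (bar p) (bar q) q hp (bar_ne q) hpq' hpq' (by rw [bar_bar]; exact hpq.1)
              hpq.1 t s⟩
      have h2 := lc_eq_one_of_mem_closure hπ hc (X p (bar p) t) h1
        (map_lc_long_mem hπ hX hpq t' u)
      exact commute_of_lc_eq_one hπ hc h2.2 hx rfl
    rw [hcomm.eq, mul_inv_cancel_right]
  rw [e1, add_mul, hZs]
  have hZm : ∀ a : K, π (Zs hπ X h3 p q a) ∈ Subgroup.closure (pqSet X p q) := fun a => by
    rw [map_Zs' hπ hX h3 hpq]; exact X_mem_closure_pqSet p q a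
  exact rearr _ _ _ _
    (commute_of_mem_closure_pqSet hπ hc hX hCL hpq (hZm _) (hZm _))
    (commute_of_mem_closure_pqSet hπ hc hX hCL hpq (hZm _) (map_lc_long_mem hπ hX hpq t u))
    (commute_of_mem_closure_pqSet hπ hc hX hCL hpq (map_lc_long_mem hπ hX hpq t u)
      (map_lc_long_mem hπ hX hpq t' u))

end add

end Cfsg.Agent.Helper33.StCLG1
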