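import Mathlib
import Cfsg.Agent.Helper33.StCLG1

/-!
# (LG5) of helper40's S2092 Part II skeleton: `Ll = Zl`, `map_Zl`, additivity of `Zl`

Versions with the other pieces ((LG2) `Ll_torus`, (LG3) `Ll_bar`, `Ll_move`, (LG1) `Ll_add`) as
hypotheses; the exact skeleton statements are in `Cfsg.Agent.Helper33.StCLG5b`.
-/

set_option autoImplicit false
set_option linter.unusedSectionVars false

namespace Cfsg.Agent.Helper33.StCLG5

open scoped commutatorElement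
open Cfsg.Agent.Helper96.StN Cfsg.Agent.Helper96.StC Cfsg.Agent.Helper96.StLift
  Cfsg.Agent.Helper40.StCLift Cfsg.Agent.Helper33.StCLG1

universe u v v' w

variable {K : Type u} [Field K] {D : Type v} [Group D] {E : Type v'} [Group E] {π : E →* D}
  {ι : Type w} {X : ι ⊕ ι → ι ⊕ ι → K → D}

variable (hπ : Function.Surjective π) (hc : π.ker ≤ Subgroup.center E)

include hc in
theorem Zs_zero (hX : SpRel X) (h3 : ∀ p q : ι ⊕ ι, ∃ k, AbsNe k p ∧ AbsNe k q) (p s : ι ⊕ ι) :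
    Zs hπ X h3 p s 0 = 1 := by
  unfold Zs
  obtain ⟨hkp, -⟩ := Classical.choose_spec (h3 p s)
  rw [X_zero hX hkp.1.symm, lc_one_left hπ hc]

include hc in
theorem Ll_zero_right (hX : SpRel X) (h3 : ∀ p q : ι ⊕ ι, ∃ k, AbsNe k p ∧ AbsNe k q)
    {p q : ι ⊕ ι} (hpq : AbsNe p q) (t : K) : Ll hπ X h3 p q t 0 = 1 := by
  unfold Ll
  rw [mul_zero, Zs_zero hπ hc hX, X_zero hX hpq.bar_left.1, lc_one_right hπ hc, inv_one, one_mul]

include hc in
theorem Ll_zero_left (hX : SpRel X) (h3 : ∀ p q : ι ⊕ ι, ∃ k, AbsNe k p ∧ AbsNe k q)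
    (p q : ι ⊕ ι) (u : K) : Ll hπ X h3 p q 0 u = 1 := by
  unfold Ll
  rw [zero_mul, Zs_zero hπ hc hX, X_zero hX (bar_ne p).symm, lc_one_left hπ hc, inv_one, one_mul]

include hc in
/-- (LG5) `Ll = Zl`, from (LG2), (LG3) -/
theorem Ll_eq_Zl_of (hX : SpRel X) (h3 : ∀ p q : ι ⊕ ι, ∃ k, AbsNe k p ∧ AbsNe k q)
    (hT : ∀ {p q : ι ⊕ ι}, AbsNe p q → ∀ (t : K) {u : K}, u ≠ 0 →
      Ll hπ X h3 p q t u = Ll hπ X h3 p q (t * u ^ 2) 1)
    (hB : ∀ {p q : ι ⊕ ι}, AbsNe p q → ∀ t : K,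
      Ll hπ X h3 p q t 1 = Ll hπ X h3 (bar p) q (-t) 1)
    (hMv : ∀ {p p' q : ι ⊕ ι}, AbsNe p q → AbsNe p' q → AbsNe p p' → ∀ t : K,
      Ll hπ X h3 p q t 1 = Ll hπ X h3 p' q (eps K p p' * t) 1)
    {p q : ι ⊕ ι} (hpq : AbsNe p q) (t u : K) :
    Ll hπ X h3 p q t u = Zl hπ X h3 (bar q) (eps K p q * t * u ^ 2) := by
  unfold Zl
  obtain ⟨hk, -⟩ := Classical.choose_spec (h3 (bar q) (bar q))
  set k := Classical.choose (h3 (bar q) (bar q))
  rw [bar_bar]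
  have hkq : AbsNe k q := by simpa using hk.bar_right
  by_cases hu : u = 0
  · subst hu
    rw [Ll_zero_right hπ hc hX h3 hpq]
    have : eps K k q * (eps K p q * t * 0 ^ 2) = 0 := by ring
    rw [this, Ll_zero_left hπ hc hX h3]
  · rw [hT hpq t hu]
    by_cases h1 : k = p
    · rw [h1]
      congr 1
      have e := eps_mul_self (K := K) p q
      linear_combination (-(t * u ^ 2)) * e
    · by_cases h2 : k = bar p
      · rw [h2, hB hpq]
        congr 1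
        have e := eps_mul_self (K := K) p q
        rw [eps_bar_left]
        linear_combination (t * u ^ 2) * e
      · have hpk : AbsNe p k := ⟨fun e => h1 e.symm, fun e => h2 (by rw [e, bar_bar])⟩
        rw [hMv hpq hkq hpk]
        congr 1
        have e := eps_mul_eps (K := K) k q p
        rw [eps_comm (K := K) p k, ← e, eps_comm (K := K) q p]
        ring

/-- (LG5) -/
theorem map_Zl (hX : SpRel X)
    (h3 : ∀ p q : ι ⊕ ι, ∃ k, AbsNe k p ∧ AbsNe k q) (r : ι ⊕ ι) (w : K) :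
    π (Zl hπ X h3 r w) = X r (bar r) w := by
  unfold Zl
  obtain ⟨hk, -⟩ := Classical.choose_spec (h3 r r)
  rw [map_Ll hπ hX h3 hk.bar_right, bar_bar, one_pow, mul_one, ← mul_assoc, eps_mul_self, one_mul]

/-- (LG5) additivity of `Zl`, from the additivity of `Ll` -/
theorem Zl_add_of (h3 : ∀ p q : ι ⊕ ι, ∃ k, AbsNe k p ∧ AbsNe k q)
    (hL : ∀ {p q : ι ⊕ ι}, AbsNe p q → ∀ t t' u : K,
      Ll hπ X h3 p q (t + t') u = Ll hπ X h3 p q t u * Ll hπ X h3 p q t' u)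
    (r : ι ⊕ ι) (w w' : K) :
    Zl hπ X h3 r (w + w') = Zl hπ X h3 r w * Zl hπ X h3 r w' := by
  unfold Zl
  obtain ⟨hk, -⟩ := Classical.choose_spec (h3 r r)
  rw [mul_add, hL hk.bar_right]

end Cfsg.Agent.Helper33.StCLG5
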