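import Mathlib
import Cfsg.Agent.Helper33.StCLG5
import Cfsg.Agent.Helper14.StCSH3

/-!
# (LG1) `Ll_add` and (LG5) `Zl_add` of helper40's S2092 Part II skeleton: exact statements

`Zs_add` is an immediate consequence of helper14's `symbol_add_left`.
-/

set_option autoImplicit false
set_option linter.unusedSectionVars false

namespace Cfsg.Agent.Helper33.StCLG1b

open scoped commutatorElement
open Cfsg.Agent.Helper96.StN Cfsg.Agent.Helper96.StC Cfsg.Agent.Helper96.StLift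
  Cfsg.Agent.Helper40.StCLift

universe u v v' w

variable {K : Type u} [Field K] {D : Type v} [Group D] {E : Type v'} [Group E] {π : E →* D}
  {ι : Type w} [DecidableEq ι] {X : ι ⊕ ι → ι ⊕ ι → K → D}

/-- additivity of the short root lifts (also piece (SH4)) -/
theorem Zs_add' (hπ : Function.Surjective π) (hc : π.ker ≤ Subgroup.center E)
    (hX : SpRel X) (hCL : CLC hπ X) (h3 : ∀ p q : ι ⊕ ι, ∃ k, AbsNe k p ∧ AbsNe k q)
    {p s : ι ⊕ ι} (hps : AbsNe p s) (t u : K) :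
    Zs hπ X h3 p s (t + u) = Zs hπ X h3 p s t * Zs hπ X h3 p s u := by
  obtain ⟨h1, h2⟩ := Classical.choose_spec (h3 p s)
  unfold Zs
  exact Cfsg.Agent.Helper14.StCSH3.symbol_add_left hπ hc hX hCL h1.symm hps h2 t u 1

/-- (LG1) additivity in `t` -/
theorem Ll_add (hπ : Function.Surjective π) (hc : π.ker ≤ Subgroup.center E)
    (hX : SpRel X) (hCL : CLC hπ X) (h3 : ∀ p q : ι ⊕ ι, ∃ k, AbsNe k p ∧ AbsNe k q)
    {p q : ι ⊕ ι} (hpq : AbsNe p q) (t t' u : K) :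
    Ll hπ X h3 p q (t + t') u = Ll hπ X h3 p q t u * Ll hπ X h3 p q t' u :=
  Cfsg.Agent.Helper33.StCLG1.Ll_add_of hπ hc hX hCL h3 hpq
    (fun a b => Zs_add' hπ hc hX hCL h3 hpq a b) t t' u

/-- (LG5) from Ll_add -/
theorem Zl_add (hπ : Function.Surjective π) (hc : π.ker ≤ Subgroup.center E)
    (hX : SpRel X) (hCL : CLC hπ X) (h3 : ∀ p q : ι ⊕ ι, ∃ k, AbsNe k p ∧ AbsNe k q)
    (r : ι ⊕ ι) (w w' : K) :
    Zl hπ X h3 r (w + w') = Zl hπ X h3 r w * Zl hπ X h3 r w' :=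
  Cfsg.Agent.Helper33.StCLG5.Zl_add_of hπ h3
    (fun hpq t t' u => Ll_add hπ hc hX hCL h3 hpq t t' u) r w w'

end Cfsg.Agent.Helper33.StCLG1b
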