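import Cfsg.Agent.Helper33.SzcFFcore
import Cfsg.Agent.Helper93.SzcFA
import Cfsg.Agent.Helper93.SzcFB
import Cfsg.Agent.Helper68.SzcFC
import Cfsg.Agent.Helper49.SzcFD
import Cfsg.Agent.Helper10.SzcFE

/-!
# Helper33: piece [FF] of helper6's S4775 farm — the assembly
-/

set_option autoImplicit false

namespace Cfsg.Agent.Helper33.Szc

open Cfsg Cfsg.Agent.Helper6
open scoped ComplexConjugate

universe u

variable {X : Type u} [Group X] [Fintype X] {K H : Subgroup X} {T : ℕ}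

/-- FF: assembly -/
theorem szc_frob_irr (D : FrobHyp K H T) : ∃ Θ Ψ₁ Ψ₂ : X → ℂ, FrobIrr K T Θ Ψ₁ Ψ₂ :=
  szc_frob_irr_of D (Cfsg.Agent.Helper93.Szc.szc_frob_card_irr D)
    (Cfsg.Agent.Helper93.Szc.szc_frob_lin D)
    (fun β hβ hk => Cfsg.Agent.Helper68.szc_frob_nonlin D β hβ hk)
    (fun d₁ d₂ d₃ h₁ h₂ h₃ h => Cfsg.Agent.Helper49.Szc.szc_frob_arith T D.pow d₁ d₂ d₃ h₁ h₂ h₃ h)
    (Cfsg.Agent.Helper10.Szc.szc_frob_nonreal D)

end Cfsg.Agent.Helper33.Szc
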