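import Cfsg.Agent.Helper6.SzChar0
import Cfsg.Agent.Helper74.CharCount

/-!
# Helper33: piece [FF] of helper6's S4775 farm — the irreducible characters of the Frobenius
group of "Suzuki Borel" type, assembled from the leaves FA–FE (taken as hypotheses here).
-/

set_option autoImplicit false

namespace Cfsg.Agent.Helper33.Szc

open Cfsg Cfsg.Agent.Helper6
open scoped ComplexConjugate Pointwise

universe u

variable {X : Type u} [Group X] [Fintype X] {K H : Subgroup X} {T : ℕ}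

omit [Fintype X] in
theorem card_frob_aux (D : FrobHyp K H T) :
    Nat.card X = (2 * T ^ 2) ^ 2 * (2 * T ^ 2 - 1) := by
  have := D.normal
  have h1 : Disjoint K H := disjoint_iff.mpr D.inf
  have h2 : ((K : Set X) * (H : Set X)) = Set.univ := by
    rw [← Subgroup.normal_mul, D.sup]; rfl
  have h3 := (Subgroup.isComplement'_of_disjoint_and_mul_eq_univ h1 h2).card_mul_card
  rw [← h3, D.cardK, D.cardH]

/-- FF modulo the leaves FA–FE -/
theorem szc_frob_irr_of (D : FrobHyp K H T)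
    (FA : Nat.card (IrrCharacter X) = 2 * T ^ 2 + 2)
    (FB : (∀ β : X → ℂ, IsIrrCharacter X β → (∀ n ∈ K, β n = β 1) → β 1 = 1) ∧
      Nat.card {β : IrrCharacter X // ∀ n ∈ K, (β : X → ℂ) n = (β : X → ℂ) 1} = 2 * T ^ 2 - 1)
    (FC : ∀ β : X → ℂ, IsIrrCharacter X β → (∃ n ∈ K, β n ≠ β 1) →
      (∀ x, x ∉ K → β x = 0) ∧
        ∃ d : ℕ, d ∣ (2 * T ^ 2) ^ 2 ∧ β 1 = (((2 * T ^ 2 - 1) * d : ℕ) : ℂ))
    (FD : ∀ d₁ d₂ d₃ : ℕ, d₁ ∣ (2 * T ^ 2) ^ 2 → d₂ ∣ (2 * T ^ 2) ^ 2 → d₃ ∣ (2 * T ^ 2) ^ 2 →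
      d₁ ^ 2 + d₂ ^ 2 + d₃ ^ 2 = 2 * T ^ 2 + 1 →
      (d₁ = 1 ∧ d₂ = T ∧ d₃ = T) ∨ (d₁ = T ∧ d₂ = 1 ∧ d₃ = T) ∨ (d₁ = T ∧ d₂ = T ∧ d₃ = 1))
    (FE : ∃ β : X → ℂ, IsIrrCharacter X β ∧ ∃ ρ ∈ K, conj (β ρ) ≠ β ρ) :
    ∃ Θ Ψ₁ Ψ₂ : X → ℂ, FrobIrr K T Θ Ψ₁ Ψ₂ := by
  classical
  have : Fintype (IrrCharacter X) := Helper74.irrFintype X
  obtain ⟨m, hm1, hTm⟩ := D.pow
  have hT2 : 2 ≤ T := by
    rw [hTm]
    calc 2 = 2 ^ 1 := by norm_num
      _ ≤ 2 ^ m := Nat.pow_le_pow_right (by norm_num) hm1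
  -- notation: A = q - 1
  obtain ⟨A, hA⟩ : ∃ A, A = 2 * T ^ 2 - 1 := ⟨_, rfl⟩
  have hq : 2 * T ^ 2 = A + 1 := by
    have : 1 ≤ 2 * T ^ 2 := by nlinarith
    omega
  have hA7 : 7 ≤ A := by
    have : 8 ≤ 2 * T ^ 2 := by nlinarith
    omega
  rw [← hA] at FB FC
  -- K-trivial characters
  let P : IrrCharacter X → Prop := fun β => ∀ n ∈ K, (β : X → ℂ) n = (β : X → ℂ) 1
  let S : Finset (IrrCharacter X) := Finset.univ.filter (fun β => ¬ P β)
  have hcardP : (Finset.univ.filter P).card = A := by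
    rw [← Fintype.card_subtype, ← Nat.card_eq_fintype_card]
    exact FB.2
  have hcardS : S.card = 3 := by
    have h1 : (Finset.univ.filter P).card + S.card = Fintype.card (IrrCharacter X) := by
      rw [Finset.card_filter_add_card_filter_not, Finset.card_univ]
    rw [← Nat.card_eq_fintype_card, FA, hcardP] at h1
    omega
  have memS : ∀ β : IrrCharacter X, β ∈ S ↔ ∃ n ∈ K, (β : X → ℂ) n ≠ (β : X → ℂ) 1 := by
    intro β
    simp only [S, P, Finset.mem_filter, Finset.mem_univ, true_and]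
    push Not
    rfl
  -- the non-real character
  obtain ⟨β₀, hβ₀, ρ, hρK, hρ⟩ := FE
  let b0 : IrrCharacter X := ⟨β₀, hβ₀⟩
  let b0' : IrrCharacter X := Helper74.irrConj b0
  have hb0S : b0 ∈ S := by
    rw [memS]
    by_contra hcon
    push Not at hcon
    have h1 : β₀ 1 = 1 := FB.1 β₀ hβ₀ hcon
    have h2 : β₀ ρ = 1 := (hcon ρ hρK).trans h1
    apply hρ
    rw [h2, map_one]
  have hb0'S : b0' ∈ S := by
    rw [memS]
    obtain ⟨n, hn, hne⟩ := (memS b0).mp hb0S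
    refine ⟨n, hn, ?_⟩
    intro hcon
    apply hne
    have : conj ((b0 : X → ℂ) n) = conj ((b0 : X → ℂ) 1) := hcon
    exact (starRingEnd ℂ).injective this
  have hb0ne : b0 ≠ b0' := by
    intro hcon
    apply hρ
    have := congrArg (fun β : IrrCharacter X => (β : X → ℂ) ρ) hcon
    exact this.symm
  -- the third character
  have hc1 : ((S.erase b0).erase b0').card = 1 := by
    rw [Finset.card_erase_of_mem, Finset.card_erase_of_mem hb0S, hcardS]
    exact Finset.mem_erase.mpr ⟨hb0ne.symm, hb0'S⟩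
  obtain ⟨θ, hθ⟩ := Finset.card_eq_one.mp hc1
  have hθmem : θ ∈ (S.erase b0).erase b0' := by rw [hθ]; exact Finset.mem_singleton_self θ
  have hθ1 : θ ≠ b0' := (Finset.mem_erase.mp hθmem).1
  have hθ2 : θ ≠ b0 := (Finset.mem_erase.mp (Finset.mem_erase.mp hθmem).2).1
  have hθS : θ ∈ S := (Finset.mem_erase.mp (Finset.mem_erase.mp hθmem).2).2
  have hSall : ∀ β ∈ S, β = θ ∨ β = b0 ∨ β = b0' := by
    intro β hβ
    by_cases h1 : β = b0
    · right; left; exact h1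
    by_cases h2 : β = b0'
    · right; right; exact h2
    left
    have : β ∈ (S.erase b0).erase b0' :=
      Finset.mem_erase.mpr ⟨h2, Finset.mem_erase.mpr ⟨h1, hβ⟩⟩
    rw [hθ] at this
    exact Finset.mem_singleton.mp this
  have hSeq : S = insert b0 (insert b0' {θ}) := by
    rw [← hθ, Finset.insert_erase (Finset.mem_erase.mpr ⟨hb0ne.symm, hb0'S⟩),
      Finset.insert_erase hb0S]
  -- degrees
  obtain ⟨hvan0, d₀, hd₀, hdeg0⟩ := FC β₀ hβ₀ ((memS b0).mp hb0S)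
  obtain ⟨hvanθ, dθ, hdθ, hdegθ⟩ := FC (θ : X → ℂ) θ.2 ((memS θ).mp hθS)
  have hdeg0' : (b0' : X → ℂ) 1 = ((A * d₀ : ℕ) : ℂ) := by
    show conj (β₀ 1) = _
    rw [hdeg0, Complex.conj_natCast]
  -- the sum of squares
  have hsum := Helper74.sum_irr_degree_sq (G := X)
  rw [← Finset.sum_filter_add_sum_filter_not Finset.univ P] at hsum
  have hsumP : ∑ χ ∈ Finset.univ.filter P, (χ : X → ℂ) 1 * (χ : X → ℂ) 1 = (A : ℂ) := by
    have : ∀ χ ∈ Finset.univ.filter P, (χ : X → ℂ) 1 * (χ : X → ℂ) 1 = 1 := by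
      intro χ hχ
      have h1 : (χ : X → ℂ) 1 = 1 := FB.1 _ χ.2 (Finset.mem_filter.mp hχ).2
      rw [h1, one_mul]
    rw [Finset.sum_congr rfl this, Finset.sum_const, hcardP]
    simp
  have hsumS : ∑ χ ∈ S, (χ : X → ℂ) 1 * (χ : X → ℂ) 1
      = ((A * d₀ * (A * d₀) + (A * d₀ * (A * d₀) + A * dθ * (A * dθ)) : ℕ) : ℂ) := by
    rw [hSeq, Finset.sum_insert, Finset.sum_insert, Finset.sum_singleton, hdeg0', hdegθ]
    · show β₀ 1 * β₀ 1 + _ = _
      rw [hdeg0]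
      push_cast
      ring
    · rw [Finset.mem_singleton]; exact hθ1.symm
    · rw [Finset.mem_insert, Finset.mem_singleton]
      rintro (h | h)
      · exact hb0ne h
      · exact hθ2 h.symm
  have hsumS' : ∑ χ ∈ Finset.univ.filter (fun β => ¬ P β), (χ : X → ℂ) 1 * (χ : X → ℂ) 1
      = ((A * d₀ * (A * d₀) + (A * d₀ * (A * d₀) + A * dθ * (A * dθ)) : ℕ) : ℂ) := hsumS
  rw [hsumP, hsumS', card_frob_aux D, ← hA, hq] at hsum
  have hnat : A + (A * d₀ * (A * d₀) + (A * d₀ * (A * d₀) + A * dθ * (A * dθ)))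
      = (A + 1) ^ 2 * A := by exact_mod_cast hsum
  have hS : dθ ^ 2 + d₀ ^ 2 + d₀ ^ 2 = A + 2 := by
    have hApos : 0 < A := by omega
    have h1 : A * (1 + A * (dθ ^ 2 + d₀ ^ 2 + d₀ ^ 2)) = A * ((A + 1) ^ 2) := by
      rw [mul_comm A ((A + 1) ^ 2), ← hnat]; ring
    have h2 := Nat.eq_of_mul_eq_mul_left hApos h1
    have h3 : A * (dθ ^ 2 + d₀ ^ 2 + d₀ ^ 2) = A * (A + 2) := by
      have : (A + 1) ^ 2 = 1 + A * (A + 2) := by ring
      omega
    exact Nat.eq_of_mul_eq_mul_left hApos h3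
  have hFD := FD dθ d₀ d₀ hdθ hd₀ hd₀ (by rw [hS, hq])
  have hd : dθ = 1 ∧ d₀ = T := by
    rcases hFD with ⟨h1, h2, -⟩ | ⟨-, h2, h3⟩ | ⟨-, h2, h3⟩
    · exact ⟨h1, h2⟩
    · omega
    · omega
  obtain ⟨hdθ1, hd₀T⟩ := hd
  rw [hdθ1, mul_one] at hdegθ
  rw [hd₀T] at hdeg0 hdeg0'
  -- θ is real
  have hθreal : Helper74.irrConj θ = θ := by
    have hmem : Helper74.irrConj θ ∈ S := by
      rw [memS]
      obtain ⟨n, hn, hne⟩ := (memS θ).mp hθS
      refine ⟨n, hn, ?_⟩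
      intro hcon
      apply hne
      have : conj ((θ : X → ℂ) n) = conj ((θ : X → ℂ) 1) := hcon
      exact (starRingEnd ℂ).injective this
    have hdegc : (Helper74.irrConj θ : X → ℂ) 1 = ((A : ℕ) : ℂ) := by
      show conj ((θ : X → ℂ) 1) = _
      rw [hdegθ, Complex.conj_natCast]
    have hne : ((A : ℕ) : ℂ) ≠ ((A * T : ℕ) : ℂ) := by
      intro hcon
      have : A = A * T := by exact_mod_cast hcon
      nlinarith
    rcases hSall _ hmem with h | h | h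
    · exact h
    · exfalso
      rw [h] at hdegc
      exact hne (hdegc.symm.trans hdeg0)
    · exfalso
      rw [h] at hdegc
      exact hne (hdegc.symm.trans hdeg0')
  refine ⟨(θ : X → ℂ), β₀, (b0' : X → ℂ), ?_⟩
  refine
    { irrΘ := θ.2
      irrΨ₁ := hβ₀
      irrΨ₂ := b0'.2
      ne₁ := fun h => hθ2 (Subtype.ext h)
      ne₂ := fun h => hθ1 (Subtype.ext h)
      ne₁₂ := fun h => hb0ne (Subtype.ext h)
      degΘ := by rw [hdegθ, hA]
      degΨ₁ := by rw [hdeg0, hA]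
      degΨ₂ := by rw [hdeg0', hA]
      conjΨ := fun x => rfl
      conjΘ := fun x => congrArg (fun β : IrrCharacter X => (β : X → ℂ) x) hθreal
      vanΘ := hvanθ
      vanΨ₁ := hvan0
      vanΨ₂ := fun x hx => by
        show conj (β₀ x) = 0
        rw [hvan0 x hx, map_zero]
      all := fun β hβ hk => by
        have hmem : (⟨β, hβ⟩ : IrrCharacter X) ∈ S := (memS _).mpr hk
        rcases hSall _ hmem with h | h | h
        · left; exact congrArg Subtype.val h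
        · right; left; exact congrArg Subtype.val h
        · right; right; exact congrArg Subtype.val h
      lin := FB.1
      cardLin := by rw [← hA]; exact FB.2 }

end Cfsg.Agent.Helper33.Szc
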