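import Cfsg.Agent.Helper33.SzcMIcore
import Cfsg.Agent.Helper97.SzcMF
import Cfsg.Agent.Helper97.SzcMG
import Cfsg.Agent.Helper37.SzcMH
import Cfsg.Agent.Helper24.SzcMI12
import Cfsg.Agent.Helper81.SzcMI34
import Cfsg.Agent.Helper20.SzcMI5
import Cfsg.Agent.Helper20.SzcMD
import Cfsg.Agent.Helper72.SzcMI6

/-!
# Helper33: piece [MI] of helper6's S4775 farm — the assembly
-/

set_option autoImplicit false

namespace Cfsg.Agent.Helper33.Szc

open Cfsg Cfsg.Agent.Helper6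
open scoped ComplexConjugate

universe u

variable {G : Type u} [Group G] [Fintype G] {Q H B K₁ K₂ : Subgroup G} {w : G} {T : ℕ}
  [Fintype ↥B]

/-- MI: the known characters -/
theorem szc_known (D : SzHyp Q H B K₁ K₂ w T) {Θ Ψ₁ Ψ₂ : ↥B → ℂ}
    (I : FrobIrr (Q.subgroupOf B) T Θ Ψ₁ Ψ₂) :
    ∃ 𝓚 : Finset (IrrCharacter G), SzKnown Q B T 𝓚 := by
  have hMF : ∀ l μ : ↥B →* ℂ, (∀ x : ↥B, (x : G) ∈ Q → l x = 1) →
      (∀ x : ↥B, (x : G) ∈ Q → μ x = 1) → (∃ h : ↥B, (h : G) ∈ H ∧ l h ≠ conj (μ h)) →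
      classInner (indFun B (fun b => l b)) (indFun B (fun b => μ b))
        = classInner (fun b : ↥B => l b) (fun b : ↥B => μ b) :=
    fun l μ hl hμ hsep => Cfsg.Agent.Helper97.Szc.szc_mackey_lin D l μ hl hμ hsep
  have hMG := Cfsg.Agent.Helper97.Szc.szc_inner_perm D
  exact szc_known_of D I hMG
    (Cfsg.Agent.Helper37.Szc.steinberg_of_inner_perm hMG)
    (fun β hβ hQ => Cfsg.Agent.Helper24.Szc.szc_lin_hom D I β hβ hQ)
    (fun l hl hr => Cfsg.Agent.Helper24.Szc.szc_lin_real D l hl hr)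
    (fun l hl hne => Cfsg.Agent.Helper81.Szc.szc_ps_irr_of_MF D hMF l hl hne)
    (fun l μ hl hμ hne h => Cfsg.Agent.Helper81.Szc.szc_ps_eq_of_MF D hMF l μ hl hμ hne h)
    (fun γ => Cfsg.Agent.Helper20.Szc.szc_ind_gen D γ)
    (fun l hl β hβ hk hvan => Cfsg.Agent.Helper72.Szc.szc_ps_mult_of
      (fun γ α hα hv => Cfsg.Agent.Helper20.Szc.szc_inner_ind_ind D γ α hα hv) l hl β hβ hk hvan)

end Cfsg.Agent.Helper33.Szc
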