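import Cfsg.Agent.Helper6.SzChar0
import Cfsg.Agent.Helper38.MackeyTwo
import Cfsg.Agent.Helper79.Linear

/-!
# Helper33: piece [MI] of helper6's S4775 farm, part (a): `Ind (conj l) = Ind l` from the
Mackey sums and the norm `2` of the permutation character.
-/

set_option autoImplicit false

namespace Cfsg.Agent.Helper33.Szc

open Cfsg Cfsg.Agent.Helper6
open scoped ComplexConjugate

universe u

variable {G : Type u} [Group G] [Fintype G] {Q H B K₁ K₂ : Subgroup G} {w : G} {T : ℕ}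
  [Fintype ↥B]

/-- the complex conjugate of a linear character -/
noncomputable def cjHom {X : Type*} [Group X] (l : X →* ℂ) : X →* ℂ :=
  ((starRingEnd ℂ : ℂ →+* ℂ) : ℂ →* ℂ).comp l

theorem cjHom_apply {X : Type*} [Group X] (l : X →* ℂ) (x : X) : cjHom l x = conj (l x) := rfl

theorem hom_conj_aux {X : Type*} [Group X] (l : X →* ℂ) (a b : X) : l (a⁻¹ * b * a) = l b := by
  rw [map_mul, map_mul, mul_comm (l a⁻¹) (l b), mul_assoc, ← map_mul, inv_mul_cancel, map_one,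
    mul_one]

omit [Fintype G] [Fintype ↥B] in
/-- for `x ∉ B` and `b, x⁻¹ b x ∈ B`: `l b * l (x⁻¹ b x) = 1` -/
theorem hom_mul_hom_conj_aux (D : SzHyp Q H B K₁ K₂ w T) (l : ↥B →* ℂ) {x : G} (hx : x ∉ B)
    (b : ↥B) (hb : x⁻¹ * (b : G) * x ∈ B) : l b * l ⟨x⁻¹ * (b : G) * x, hb⟩ = 1 := by
  obtain ⟨b₁, hb₁, b₂, hb₂, rfl⟩ := D.bruhat x hx
  let B1 : ↥B := ⟨b₁, hb₁⟩
  let B2 : ↥B := ⟨b₂, hb₂⟩
  let hh : ↥B := B1⁻¹ * b * B1
  have hconj : w⁻¹ * (hh : G) * w = b₂ * ((b₁ * w * b₂)⁻¹ * (b : G) * (b₁ * w * b₂)) * b₂⁻¹ := by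
    show w⁻¹ * (b₁⁻¹ * (b : G) * b₁) * w = _
    group
  have hwB : w⁻¹ * (hh : G) * w ∈ B := by
    rw [hconj]
    exact B.mul_mem (B.mul_mem hb₂ hb) (B.inv_mem hb₂)
  have hhH : (hh : G) ∈ H := D.wint _ hh.2 hwB
  have hinv : w⁻¹ * (hh : G) * w = (hh : G)⁻¹ := D.winv _ hhH
  have hb' : (⟨(b₁ * w * b₂)⁻¹ * (b : G) * (b₁ * w * b₂), hb⟩ : ↥B) = B2⁻¹ * hh⁻¹ * B2 := by
    apply Subtype.ext
    show (b₁ * w * b₂)⁻¹ * (b : G) * (b₁ * w * b₂) = b₂⁻¹ * (hh : G)⁻¹ * b₂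
    rw [← hinv]
    show _ = b₂⁻¹ * (w⁻¹ * (b₁⁻¹ * (b : G) * b₁) * w) * b₂
    group
  rw [hb', hom_conj_aux l B2 hh⁻¹]
  have : l b = l hh := (hom_conj_aux l B1 b).symm
  rw [this, ← map_mul, mul_inv_cancel, map_one]

omit [Fintype G] in
/-- the Mackey sums of `(l, conj l)` and `(1, 1)` agree off `B` -/
theorem mackeySum_cj_aux (D : SzHyp Q H B K₁ K₂ w T) (l : ↥B →* ℂ) {x : G} (hx : x ∉ B) :
    Helper38.mackeySum B l (cjHom l) x = Helper38.mackeySum B (1 : ↥B →* ℂ) (1 : ↥B →* ℂ) x := by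
  unfold Helper38.mackeySum
  apply Finset.sum_congr rfl
  intro b _
  by_cases hb : x⁻¹ * (b : G) * x ∈ B
  · rw [Helper15.extendByZero_of_mem B _ hb, Helper15.extendByZero_of_mem B _ hb]
    simp only [cjHom_apply, MonoidHom.one_apply, Complex.conj_conj, map_one, mul_one]
    exact hom_mul_hom_conj_aux D l hx b hb
  · rw [Helper15.extendByZero_of_not_mem B _ hb, Helper15.extendByZero_of_not_mem B _ hb]
    simp

/-- `⟨Ind l, Ind (conj l)⟩ = ⟨l, conj l⟩_B + 1` -/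
theorem classInner_ind_cj (D : SzHyp Q H B K₁ K₂ w T) (l : ↥B →* ℂ)
    (MG : classInner (indFun B (fun _ : ↥B => (1 : ℂ))) (indFun B (fun _ : ↥B => (1 : ℂ))) = 2) :
    classInner (indFun B (fun b => l b)) (indFun B (fun b => conj (l b)))
      = classInner (fun b : ↥B => l b) (fun b : ↥B => conj (l b)) + 1 := by
  classical
  have h1 := Helper38.classInner_indFun_indFun B l (cjHom l)
  have h2 := Helper38.classInner_indFun_indFun B (1 : ↥B →* ℂ) (1 : ↥B →* ℂ)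
  have e1 : (fun b : ↥B => (cjHom l) b) = fun b : ↥B => conj (l b) := rfl
  have e2 : (fun b : ↥B => (1 : ↥B →* ℂ) b) = fun _ : ↥B => (1 : ℂ) := rfl
  rw [e1] at h1
  rw [e2, MG] at h2
  set S : ℂ := ∑ b : ↥B, l b * conj (conj (l b)) with hS
  have hdiff : ∀ x : G, Helper38.mackeySum B l (cjHom l) x
      - Helper38.mackeySum B (1 : ↥B →* ℂ) (1 : ↥B →* ℂ) x
      = extendByZero B (fun _ : ↥B => S - (Nat.card ↥B : ℂ)) x := by
    intro x
    by_cases hx : x ∈ B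
    · rw [Helper15.extendByZero_of_mem B _ hx, Helper38.mackeySum_of_mem B _ _ hx,
        Helper38.mackeySum_of_mem B _ _ hx]
      simp only [cjHom_apply, MonoidHom.one_apply, map_one, mul_one, Finset.sum_const,
        Finset.card_univ, nsmul_eq_mul, ← Nat.card_eq_fintype_card]
      rfl
    · rw [Helper15.extendByZero_of_not_mem B _ hx, mackeySum_cj_aux D l hx, sub_self]
  have hsum : ∑ x : G, Helper38.mackeySum B l (cjHom l) x
      = ∑ x : G, Helper38.mackeySum B (1 : ↥B →* ℂ) (1 : ↥B →* ℂ) x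
        + (Nat.card ↥B : ℂ) * (S - (Nat.card ↥B : ℂ)) := by
    have : ∑ x : G, (Helper38.mackeySum B l (cjHom l) x
        - Helper38.mackeySum B (1 : ↥B →* ℂ) (1 : ↥B →* ℂ) x)
        = (Nat.card ↥B : ℂ) * (S - (Nat.card ↥B : ℂ)) := by
      simp only [hdiff]
      rw [Helper15.sum_extendByZero]
      simp only [Finset.sum_const, Finset.card_univ, nsmul_eq_mul, ← Nat.card_eq_fintype_card]
    rw [Finset.sum_sub_distrib] at this
    rw [← this]; ring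
  have hcard : (Nat.card ↥B : ℂ) ≠ 0 := by
    have : Nat.card ↥B ≠ 0 := Nat.card_pos.ne'
    exact_mod_cast this
  rw [h1, hsum, Helper15.classInner_apply]
  have h2' : (Nat.card ↥B : ℂ)⁻¹ * ((Nat.card ↥B : ℂ)⁻¹ *
      ∑ x : G, Helper38.mackeySum B (1 : ↥B →* ℂ) (1 : ↥B →* ℂ) x) = 2 := h2.symm
  rw [← hS]
  have : (Nat.card ↥B : ℂ)⁻¹ * ((Nat.card ↥B : ℂ)⁻¹ *
      (∑ x : G, Helper38.mackeySum B (1 : ↥B →* ℂ) (1 : ↥B →* ℂ) x
        + (Nat.card ↥B : ℂ) * (S - (Nat.card ↥B : ℂ))))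
      = (Nat.card ↥B : ℂ)⁻¹ * ((Nat.card ↥B : ℂ)⁻¹ *
      ∑ x : G, Helper38.mackeySum B (1 : ↥B →* ℂ) (1 : ↥B →* ℂ) x)
        + ((Nat.card ↥B : ℂ)⁻¹ * S - 1) := by
    field_simp
  rw [this, h2']
  ring

end Cfsg.Agent.Helper33.Szc
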