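import Cfsg.Agent.Helper33.SzcMIa
import Cfsg.Agent.Helper74.CharCount

/-!
# Helper33: piece [MI] of helper6's S4775 farm, part (b): the known characters, assembled from
the leaves MG, MH, MI1–MI6 (taken as hypotheses here).
-/

set_option autoImplicit false

namespace Cfsg.Agent.Helper33.Szc

open Cfsg Cfsg.Agent.Helper6
open scoped ComplexConjugate

universe u

variable {G : Type u} [Group G] [Fintype G] {Q H B K₁ K₂ : Subgroup G} {w : G} {T : ℕ}
  [Fintype ↥B]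

omit [Fintype G] [Fintype ↥B] in
theorem extendByZero_conj_aux (θ : ↥B → ℂ) (y : G) :
    conj (extendByZero B θ y) = extendByZero B (fun b => conj (θ b)) y := by
  by_cases hy : y ∈ B
  · rw [Helper15.extendByZero_of_mem B _ hy, Helper15.extendByZero_of_mem B _ hy]
  · rw [Helper15.extendByZero_of_not_mem B _ hy, Helper15.extendByZero_of_not_mem B _ hy, map_zero]

omit [Fintype ↥B] in
theorem indFun_conj_aux (θ : ↥B → ℂ) (g : G) :
    conj (indFun B θ g) = indFun B (fun b => conj (θ b)) g := by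
  rw [Helper15.indFun_apply, Helper15.indFun_apply, map_mul, map_inv₀, Complex.conj_natCast,
    map_sum]
  congr 1
  apply Finset.sum_congr rfl
  intro x _
  exact extendByZero_conj_aux θ _

theorem charDegree_of_natCast_aux {X : Type u} [Group X] {χ : X → ℂ} {n : ℕ}
    (h : χ 1 = (n : ℂ)) : charDegree χ = n := by
  unfold charDegree
  rw [h, Complex.natCast_re, Nat.floor_natCast]

/-- MI modulo the leaves MG, MH, MI1–MI6 -/
theorem szc_known_of (D : SzHyp Q H B K₁ K₂ w T) {Θ Ψ₁ Ψ₂ : ↥B → ℂ}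
    (I : FrobIrr (Q.subgroupOf B) T Θ Ψ₁ Ψ₂)
    (MG : classInner (indFun B (fun _ : ↥B => (1 : ℂ))) (indFun B (fun _ : ↥B => (1 : ℂ))) = 2)
    (MH : IsIrrCharacter G (indFun B (fun _ : ↥B => (1 : ℂ)) - fun _ => 1))
    (MI1 : ∀ β : ↥B → ℂ, IsIrrCharacter ↥B β → (∀ n : ↥B, (n : G) ∈ Q → β n = β 1) →
      ∃ l : ↥B →* ℂ, (∀ b, l b = β b) ∧ ∀ x : ↥B, (x : G) ∈ Q → l x = 1)
    (MI2 : ∀ l : ↥B →* ℂ, (∀ x : ↥B, (x : G) ∈ Q → l x = 1) →
      (∀ h : ↥B, (h : G) ∈ H → conj (l h) = l h) → ∀ b : ↥B, l b = 1)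
    (MI3 : ∀ l : ↥B →* ℂ, (∀ x : ↥B, (x : G) ∈ Q → l x = 1) → (∃ b : ↥B, l b ≠ 1) →
      IsIrrCharacter G (indFun B (fun b => l b)))
    (MI4 : ∀ l μ : ↥B →* ℂ, (∀ x : ↥B, (x : G) ∈ Q → l x = 1) →
      (∀ x : ↥B, (x : G) ∈ Q → μ x = 1) → (∃ b : ↥B, l b ≠ 1) →
      indFun B (fun b => l b) = indFun B (fun b => μ b) →
      (∀ b, μ b = l b) ∨ (∀ b, μ b = conj (l b)))
    (MI5 : ∀ γ : ↥B → ℂ, indFun B γ 1 = (((2 * T ^ 2) ^ 2 + 1 : ℕ) : ℂ) * γ 1 ∧
      ∀ g : G, (∀ x : G, x * g * x⁻¹ ∉ B) → indFun B γ g = 0)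
    (MI6 : ∀ l : ↥B →* ℂ, (∀ x : ↥B, (x : G) ∈ Q → l x = 1) → ∀ β : ↥B → ℂ,
      IsIrrCharacter ↥B β → (∃ n : ↥B, (n : G) ∈ Q ∧ β n ≠ β 1) →
      (∀ x : ↥B, (x : G) ∉ Q → β x = 0) →
      classInner (resFun B (indFun B (fun b => l b))) β = β 1 / ((2 * T ^ 2 - 1 : ℕ) : ℂ)) :
    ∃ 𝓚 : Finset (IrrCharacter G), SzKnown Q B T 𝓚 := by
  classical
  have instG : Fintype (IrrCharacter G) := Helper74.irrFintype G
  have instB : Fintype (IrrCharacter ↥B) := Helper74.irrFintype ↥B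
  obtain ⟨m, hm1, hTm⟩ := D.pow
  have hT2 : 2 ≤ T := by
    rw [hTm]
    calc 2 = 2 ^ 1 := by norm_num
      _ ≤ 2 ^ m := Nat.pow_le_pow_right (by norm_num) hm1
  have hq8 : 8 ≤ 2 * T ^ 2 := by nlinarith
  -- basic objects
  let χ₀ : IrrCharacter G := Helper79.principalIrr G
  let St : IrrCharacter G := ⟨indFun B (fun _ : ↥B => (1 : ℂ)) - fun _ => 1, MH⟩
  let oneB : IrrCharacter ↥B := Helper79.principalIrr ↥B
  let QT : IrrCharacter ↥B → Prop :=
    fun β => ∀ n : ↥B, (n : G) ∈ Q → (β : ↥B → ℂ) n = (β : ↥B → ℂ) 1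
  let NT : IrrCharacter ↥B → Prop := fun β => ∃ b : ↥B, (β : ↥B → ℂ) b ≠ 1
  have hom_of : ∀ β : IrrCharacter ↥B, QT β → ∃ l : ↥B →* ℂ,
      (β : ↥B → ℂ) = (fun b => l b) ∧ ∀ x : ↥B, (x : G) ∈ Q → l x = 1 := by
    intro β hβ
    obtain ⟨l, hl1, hl2⟩ := MI1 β β.2 hβ
    exact ⟨l, funext (fun b => (hl1 b).symm), hl2⟩
  have irr_of : ∀ β : IrrCharacter ↥B, QT β ∧ NT β →
      IsIrrCharacter G (indFun B (β : ↥B → ℂ)) := by
    rintro β ⟨h1, b, hb⟩
    obtain ⟨l, hl, hlQ⟩ := hom_of β h1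
    rw [hl]
    refine MI3 l hlQ ⟨b, ?_⟩
    have : (β : ↥B → ℂ) b = l b := congrFun hl b
    rw [← this]; exact hb
  let φ : IrrCharacter ↥B → IrrCharacter G := fun β =>
    if h : QT β ∧ NT β then ⟨indFun B (β : ↥B → ℂ), irr_of β h⟩ else χ₀
  have hφ : ∀ β : IrrCharacter ↥B, QT β ∧ NT β → (φ β : G → ℂ) = indFun B (β : ↥B → ℂ) := by
    intro β h
    show ((if h : QT β ∧ NT β then (⟨indFun B (β : ↥B → ℂ), irr_of β h⟩ : IrrCharacter G)
      else χ₀ : IrrCharacter G) : G → ℂ) = _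
    rw [dif_pos h]
  let L' : Finset (IrrCharacter ↥B) := Finset.univ.filter (fun β => QT β ∧ NT β)
  let 𝓘 : Finset (IrrCharacter G) := L'.image φ
  have memL' : ∀ β, β ∈ L' ↔ QT β ∧ NT β := by
    intro β
    simp only [L', Finset.mem_filter, Finset.mem_univ, true_and]
  -- principal series form
  have ps_of : ∀ χ ∈ 𝓘, ∃ l : ↥B →* ℂ, (∀ x : ↥B, (x : G) ∈ Q → l x = 1) ∧ (∃ b : ↥B, l b ≠ 1) ∧
      (χ : G → ℂ) = indFun B (fun b => l b) := by
    intro χ hχ
    obtain ⟨β, hβ, rfl⟩ := Finset.mem_image.mp hχ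
    have hβ' := (memL' β).mp hβ
    obtain ⟨l, hl, hlQ⟩ := hom_of β hβ'.1
    obtain ⟨b, hb⟩ := hβ'.2
    refine ⟨l, hlQ, ⟨b, ?_⟩, ?_⟩
    · have : (β : ↥B → ℂ) b = l b := congrFun hl b
      rw [← this]; exact hb
    · rw [hφ β hβ', hl]
  have ps_mem : ∀ l : ↥B →* ℂ, (∀ x : ↥B, (x : G) ∈ Q → l x = 1) → (∃ b : ↥B, l b ≠ 1) →
      ∀ χ : IrrCharacter G, (χ : G → ℂ) = indFun B (fun b => l b) → χ ∈ 𝓘 := by
    intro l hlQ hne χ hχ
    let β : IrrCharacter ↥B := ⟨fun b => l b, Helper79.isIrrCharacter_of_monoidHom l⟩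
    have hβ : QT β ∧ NT β := by
      refine ⟨fun n hn => ?_, hne⟩
      show l n = l 1
      rw [hlQ n hn, map_one]
    refine Finset.mem_image.mpr ⟨β, (memL' β).mpr hβ, ?_⟩
    apply Subtype.ext
    rw [hφ β hβ, hχ]
  -- values at one
  have hχ₀1 : (χ₀ : G → ℂ) 1 = 1 := rfl
  have hSt1 : (St : G → ℂ) 1 = (((2 * T ^ 2) ^ 2 : ℕ) : ℂ) := by
    show indFun B (fun _ : ↥B => (1 : ℂ)) 1 - 1 = _
    rw [(MI5 _).1]
    push_cast
    ring
  have hPS1 : ∀ χ ∈ 𝓘, (χ : G → ℂ) 1 = (((2 * T ^ 2) ^ 2 + 1 : ℕ) : ℂ) := by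
    intro χ hχ
    obtain ⟨l, -, -, hl⟩ := ps_of χ hχ
    rw [hl, (MI5 _).1, map_one, mul_one]
  have hχ₀St : χ₀ ≠ St := by
    intro h
    have h1 : (χ₀ : G → ℂ) 1 = (St : G → ℂ) 1 := by rw [h]
    rw [hχ₀1, hSt1] at h1
    have : (1 : ℕ) = (2 * T ^ 2) ^ 2 := by exact_mod_cast h1
    nlinarith
  have hχ₀𝓘 : χ₀ ∉ 𝓘 := by
    intro h
    have h1 := hPS1 χ₀ h
    rw [hχ₀1] at h1
    have : (1 : ℕ) = (2 * T ^ 2) ^ 2 + 1 := by exact_mod_cast h1
    nlinarith
  have hSt𝓘 : St ∉ 𝓘 := by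
    intro h
    have h1 := hPS1 St h
    rw [hSt1] at h1
    have : (2 * T ^ 2) ^ 2 = (2 * T ^ 2) ^ 2 + 1 := by exact_mod_cast h1
    omega
  -- the number of Q-trivial characters of B
  have hQTcard : (Finset.univ.filter QT).card = 2 * T ^ 2 - 1 := by
    rw [← I.cardLin, ← Fintype.card_subtype, ← Nat.card_eq_fintype_card]
    exact Nat.card_congr (Equiv.subtypeEquivRight (fun β => Iff.rfl))
  have honeB : QT oneB ∧ ¬ NT oneB := by
    refine ⟨fun n _ => rfl, ?_⟩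
    rintro ⟨b, hb⟩
    exact hb rfl
  have hL'card : L'.card = 2 * T ^ 2 - 2 := by
    have h1 : Finset.univ.filter QT = insert oneB L' := by
      ext β
      simp only [Finset.mem_filter, Finset.mem_univ, true_and, Finset.mem_insert, memL']
      constructor
      · intro hβ
        by_cases hnt : NT β
        · right; exact ⟨hβ, hnt⟩
        · left
          apply Subtype.ext
          funext b
          by_contra hb
          exact hnt ⟨b, hb⟩
      · rintro (rfl | h)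
        · exact honeB.1
        · exact h.1
    have h2 : oneB ∉ L' := fun h => honeB.2 ((memL' oneB).mp h).2
    rw [h1, Finset.card_insert_of_notMem h2] at hQTcard
    omega
  -- the fibres of `φ`
  have hfib : ∀ χ ∈ 𝓘, (L'.filter (fun β => φ β = χ)).card = 2 := by
    intro χ hχ
    obtain ⟨β₀, hβ₀, rfl⟩ := Finset.mem_image.mp hχ
    have hβ₀' := (memL' β₀).mp hβ₀
    obtain ⟨l₀, hl₀, hl₀Q⟩ := hom_of β₀ hβ₀'.1
    have hl₀ne : ∃ b : ↥B, l₀ b ≠ 1 := by
      obtain ⟨b, hb⟩ := hβ₀'.2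
      refine ⟨b, ?_⟩
      have : (β₀ : ↥B → ℂ) b = l₀ b := congrFun hl₀ b
      rw [← this]; exact hb
    let cβ₀ : IrrCharacter ↥B := Helper74.irrConj β₀
    have hcβ₀ : (cβ₀ : ↥B → ℂ) = fun b => conj (l₀ b) := by
      funext b
      show conj ((β₀ : ↥B → ℂ) b) = _
      rw [hl₀]
    have hcmem' : QT cβ₀ ∧ NT cβ₀ := by
      constructor
      · intro n hn
        show conj ((β₀ : ↥B → ℂ) n) = conj ((β₀ : ↥B → ℂ) 1)
        rw [hβ₀'.1 n hn]
      · obtain ⟨b, hb⟩ := hl₀ne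
        refine ⟨b, ?_⟩
        rw [hcβ₀]
        intro hcon
        apply hb
        have : conj (l₀ b) = conj 1 := by rw [map_one]; exact hcon
        exact (starRingEnd ℂ).injective this
    have hne : β₀ ≠ cβ₀ := by
      intro hcon
      obtain ⟨b, hb⟩ := hl₀ne
      apply hb
      refine MI2 l₀ hl₀Q (fun h _ => ?_) b
      have h1 : (cβ₀ : ↥B → ℂ) h = (β₀ : ↥B → ℂ) h := by rw [← hcon]
      rw [hcβ₀, hl₀] at h1
      exact h1
    have hφc : φ cβ₀ = φ β₀ := by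
      by_contra hcon
      have h0 := Helper74.irr_inner_ne (G := G) (Ne.symm hcon)
      rw [hφ β₀ hβ₀', hφ cβ₀ hcmem', hl₀, hcβ₀, classInner_ind_cj D l₀ MG] at h0
      have h1 : classInner (fun b : ↥B => l₀ b) (fun b : ↥B => conj (l₀ b))
          = classInner (β₀ : ↥B → ℂ) (cβ₀ : ↥B → ℂ) := by rw [hl₀, hcβ₀]
      rw [h1, Helper74.irr_inner_ne hne, zero_add] at h0
      exact one_ne_zero h0
    have hfilter : L'.filter (fun β => φ β = φ β₀) = {β₀, cβ₀} := by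
      ext β
      simp only [Finset.mem_filter, Finset.mem_insert, Finset.mem_singleton, memL']
      constructor
      · rintro ⟨hβ, hβφ⟩
        obtain ⟨l, hl, hlQ⟩ := hom_of β hβ.1
        have heq : indFun B (fun b => l₀ b) = indFun B (fun b => l b) := by
          have := congrArg (fun χ : IrrCharacter G => (χ : G → ℂ)) hβφ
          simp only [hφ β hβ, hφ β₀ hβ₀', hl, hl₀] at this
          exact this.symm
        rcases MI4 l₀ l hl₀Q hlQ hl₀ne heq with h | h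
        · left
          apply Subtype.ext
          rw [hl, hl₀]
          funext b
          exact h b
        · right
          apply Subtype.ext
          rw [hl, hcβ₀]
          funext b
          exact h b
      · rintro (rfl | rfl)
        · exact ⟨hβ₀', rfl⟩
        · exact ⟨hcmem', hφc⟩
    rw [hfilter, Finset.card_pair hne]
  have h𝓘card : 𝓘.card = T ^ 2 - 1 := by
    have h1 := Finset.card_eq_sum_card_image φ L'
    rw [Finset.sum_congr rfl hfib, Finset.sum_const, smul_eq_mul, hL'card] at h1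
    have : 𝓘.card * 2 = 2 * T ^ 2 - 2 := h1.symm
    omega
  refine ⟨insert χ₀ (insert St 𝓘), ?_⟩
  have mem𝓚 : ∀ χ, χ ∈ insert χ₀ (insert St 𝓘) ↔ χ = χ₀ ∨ χ = St ∨ χ ∈ 𝓘 := by
    intro χ
    simp only [Finset.mem_insert]
  have hnotmem1 : χ₀ ∉ insert St 𝓘 := by
    rw [Finset.mem_insert]
    rintro (h | h)
    · exact hχ₀St h
    · exact hχ₀𝓘 h
  have hrec : ∀ (γ : ↥B → ℂ) (χ : IrrCharacter G),
      classInner (resFun B (χ : G → ℂ)) γ = conj (classInner (indFun B γ) (χ : G → ℂ)) := by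
    intro γ χ
    rw [Helper15.frobenius_reciprocity B γ _ (Helper74.irr_isClassFunction χ),
      Helper15.classInner_conj_symm]
    rfl
  refine
    { card := ?_
      lin := ?_
      deg := ?_
      deg_sq := ?_
      deg_sq1 := ?_
      off := ?_
      mult := ?_
      conj_mem := ?_ }
  · -- card
    rw [Finset.card_insert_of_notMem hnotmem1, Finset.card_insert_of_notMem hSt𝓘, h𝓘card]
    have : 1 ≤ T ^ 2 := by nlinarith
    omega
  · -- lin
    intro χ hχ β hβ hQ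
    have hχ' : χ ≠ χ₀ ∧ χ ≠ St ∧ χ ∉ 𝓘 := by
      rw [mem𝓚] at hχ
      push Not at hχ
      exact hχ
    obtain ⟨l, hl1, hlQ⟩ := MI1 β hβ hQ
    have hβl : β = fun b => l b := funext (fun b => (hl1 b).symm)
    rw [hrec β χ, hβl]
    by_cases hne : ∃ b : ↥B, l b ≠ 1
    · have hirr := MI3 l hlQ hne
      let χ' : IrrCharacter G := ⟨indFun B (fun b => l b), hirr⟩
      have hmem : χ' ∈ 𝓘 := ps_mem l hlQ hne χ' rfl
      have hne' : χ' ≠ χ := fun h => hχ'.2.2 (h ▸ hmem)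
      have h0 := Helper74.irr_inner_ne hne'
      show conj (classInner (χ' : G → ℂ) (χ : G → ℂ)) = 0
      rw [h0, map_zero]
    · push Not at hne
      have h1 : (fun b : ↥B => l b) = fun _ => (1 : ℂ) := funext hne
      rw [h1]
      have h2 : indFun B (fun _ : ↥B => (1 : ℂ)) = (St : G → ℂ) + (χ₀ : G → ℂ) := by
        show _ = (indFun B (fun _ : ↥B => (1 : ℂ)) - fun _ => 1) + fun _ => 1
        rw [sub_add_cancel]
      rw [h2, Helper74.classInner_add_left, Helper74.irr_inner_ne (Ne.symm hχ'.2.1),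
        Helper74.irr_inner_ne (Ne.symm hχ'.1), add_zero, map_zero]
  · -- deg
    intro χ hχ
    rcases (mem𝓚 χ).mp hχ with h | h | h
    · left
      rw [h]
      exact charDegree_of_natCast_aux (n := 1) (by rw [hχ₀1]; simp)
    · right; left
      rw [h]
      exact charDegree_of_natCast_aux hSt1
    · right; right
      exact charDegree_of_natCast_aux (hPS1 χ h)
  · -- deg_sq
    exact ⟨St, (mem𝓚 St).mpr (Or.inr (Or.inl rfl)), charDegree_of_natCast_aux hSt1⟩
  · -- deg_sq1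
    have hpos : 0 < 𝓘.card := by
      rw [h𝓘card]
      have : 4 ≤ T ^ 2 := by nlinarith
      omega
    obtain ⟨χ, hχ⟩ := Finset.card_pos.mp hpos
    exact ⟨χ, (mem𝓚 χ).mpr (Or.inr (Or.inr hχ)), charDegree_of_natCast_aux (hPS1 χ hχ)⟩
  · -- off
    intro χ hχ g g' hg hg'
    rcases (mem𝓚 χ).mp hχ with h | h | h
    · rw [h]; rfl
    · rw [h]
      show indFun B (fun _ : ↥B => (1 : ℂ)) g - 1 = indFun B (fun _ : ↥B => (1 : ℂ)) g' - 1
      rw [(MI5 _).2 g hg, (MI5 _).2 g' hg']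
    · obtain ⟨l, -, -, hl⟩ := ps_of χ h
      rw [hl, (MI5 _).2 g hg, (MI5 _).2 g' hg']
  · -- mult
    have honeB_ne : ∀ β : ↥B → ℂ, ∀ hβ : IsIrrCharacter ↥B β,
        (∃ n : ↥B, (n : G) ∈ Q ∧ β n ≠ β 1) → oneB ≠ ⟨β, hβ⟩ := by
      intro β hβ hk h
      obtain ⟨n, -, hn⟩ := hk
      apply hn
      have : β = fun _ => 1 := (congrArg Subtype.val h).symm
      rw [this]
    refine ⟨χ₀, (mem𝓚 χ₀).mpr (Or.inl rfl), ?_, ?_⟩
    · intro β hβ hk
      have h0 := Helper74.irr_inner_ne (honeB_ne β hβ hk)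
      have e : resFun B (χ₀ : G → ℂ) = (oneB : ↥B → ℂ) := by
        funext b
        rfl
      rw [e]
      exact h0
    · intro χ hχ hχne β hβ hk
      have hvan : ∀ x : ↥B, (x : G) ∉ Q → β x = 0 := by
        have hk' : ∃ n ∈ Q.subgroupOf B, β n ≠ β 1 := by
          obtain ⟨n, hn, hne⟩ := hk
          exact ⟨n, hn, hne⟩
        rcases I.all β hβ hk' with h | h | h
        · rw [h]; exact fun x hx => I.vanΘ x hx
        · rw [h]; exact fun x hx => I.vanΨ₁ x hx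
        · rw [h]; exact fun x hx => I.vanΨ₂ x hx
      rcases (mem𝓚 χ).mp hχ with h | h | h
      · exact absurd h hχne
      · rw [h]
        have h1 : resFun B (St : G → ℂ)
            = resFun B (indFun B (fun b => (1 : ↥B →* ℂ) b)) - (oneB : ↥B → ℂ) := by
          funext b
          rfl
        rw [h1, Helper74.classInner_sub_left, MI6 1 (fun _ _ => rfl) β hβ hk hvan,
          Helper74.irr_inner_ne (honeB_ne β hβ hk), sub_zero]
      · obtain ⟨l, hlQ, -, hl⟩ := ps_of χ h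
        rw [hl]
        exact MI6 l hlQ β hβ hk hvan
  · -- conj_mem
    intro χ hχ
    rcases (mem𝓚 χ).mp hχ with h | h | h
    · have h1 : Helper74.irrConj χ₀ = χ₀ := by
        apply Subtype.ext
        funext g
        show conj (1 : ℂ) = 1
        exact map_one _
      rw [h, h1]
      exact (mem𝓚 χ₀).mpr (Or.inl rfl)
    · have h1 : Helper74.irrConj St = St := by
        apply Subtype.ext
        funext g
        show conj (indFun B (fun _ : ↥B => (1 : ℂ)) g - 1)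
          = indFun B (fun _ : ↥B => (1 : ℂ)) g - 1
        rw [map_sub, map_one, indFun_conj_aux]
        simp only [map_one]
      rw [h, h1]
      exact (mem𝓚 St).mpr (Or.inr (Or.inl rfl))
    · obtain ⟨l, hlQ, ⟨b, hb⟩, hl⟩ := ps_of χ h
      refine (mem𝓚 _).mpr (Or.inr (Or.inr ?_))
      refine ps_mem (cjHom l) (fun x hx => by rw [cjHom_apply, hlQ x hx, map_one]) ⟨b, ?_⟩ _ ?_
      · rw [cjHom_apply]
        intro hcon
        apply hb
        have : conj (l b) = conj 1 := by rw [map_one]; exact hcon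
        exact (starRingEnd ℂ).injective this
      · funext g
        show conj ((χ : G → ℂ) g) = indFun B (fun b => cjHom l b) g
        rw [hl, indFun_conj_aux]
        rfl

end Cfsg.Agent.Helper33.Szc
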