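import Cfsg.Agent.Helper36.TorD.Defs
import Cfsg.Agent.Helper19.Cox.DataE8

/-!
helper33 for helper36 (TorD, Chevalley side of helper80's S2372/S2375): piece (TAB8) of
`tools/helper36_tordata/Skel.lean.txt`: the four table checks for `E₈`, verbatim.

To keep the kernel evaluation light (the naive `decide +kernel` of `cartanReflOK chevE8` needs > 25 GB), the Cartan
integers are first copied into a packed table `TAB8_ctab` (base `8` digits, digit `= A + 3`), and the reflections are read
off helper18's packed tables `reflTabsE8` (`tabsOK_E8`).
-/

set_option autoImplicit false
set_option maxRecDepth 100000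

namespace Cfsg.Agent.Helper33.TorD

open Cfsg Cfsg.Lie Cfsg.Agent.Helper18 Cfsg.Agent.Helper19.Cox Cfsg.Agent.Helper19.Poinc
  Cfsg.Agent.Helper80.Tor Cfsg.Agent.Helper36.TorD

/-- the packed Cartan table of `E₈`: the `s`-th base `8` digit of the `j`-th number is `A_{p_j, s} + 3` -/
def TAB8_ctab : List ℕ :=
  [2363853646933943276372822260803494031367846907937961794307586780278593396517432227994785156995124756715927928581337994835886941653306739655624400905338587623683564618975052722624182390199554309256191257695730990167771,
  2363874270659240258248640601025631772206000204214505941468166587750840472517464483530807381963280548495972473223734656232303792445203879044185800680538443170253282295779179241478077740463175371173321161297625029883611,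
  2363869668040192033880155673300368146687560686079395787189425462250706915281072958960706857723785510128610157091899361543640838304103296386535412009836898537749145548936696748857382240083198192123088394812482479273691,
  2363998289664072464506467306899372935082915019531412583341609782595445250352441735220276243719172485839120118210280445322021525245213530177784905632266842713488793058233389804033025510905790864136151352279768809481947,
  2365029244837545711509001414657676159956819841505053454177378374390779438938775843266691503122685684308030518382138008812088019815679033854387795440512669057353741767512798499647735163044493244580319134953730227422427,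
  2373277133998269781828673316339963474923991975685310624232618158756064883450321888246720580333698750031897600622334656859689214342605483506750350539037495900545208521598024884581456868447679101302613819347142412449947,
  2439260278255679606686042092034095724021857063129079866655245507469912371839872762032157519959788738662018980467735973470861467127239359171934949591802953943197488596927005376493439818200093335134363491886833322538771,
  2967125436186410363332507133109426572101947073331198799859896112767143583869506442260821818978742528926637300818985863759006683034490956440156905980119206699541342774354168231193803690980439407910304089796929569797858]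

/-- the Cartan integer read off the packed table -/
def TAB8_cp (j s : ℕ) : ℤ := (getB 8 (TAB8_ctab.getD j 0) s : ℤ) - 3

theorem TAB8_ctabOK : ((List.range chevE8.rank).all fun j => (List.range chevE8.nroots).all fun s =>
    decide (chevE8.cartan j s = TAB8_cp j s)) = true := by decide +kernel

theorem TAB8_cp_spec (j s : ℕ) (hj : j < chevE8.rank) (hs : s < chevE8.nroots) :
    chevE8.cartan j s = TAB8_cp j s := by
  have h := TAB8_ctabOK
  rw [List.all_eq_true] at h
  have h1 := h j (List.mem_range.mpr hj)
  rw [List.all_eq_true] at h1
  have h2 := h1 s (List.mem_range.mpr hs)
  rw [decide_eq_true_eq] at h2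
  exact h2

theorem TAB8_simple_lt : ∀ i : Fin chevE8.rank, chevE8.simple i.val < chevE8.nroots := by decide +kernel

/-- `cartanReflOK` on the packed tables -/
theorem TAB8_crTab : ((List.range chevE8.rank).all fun i => (List.range chevE8.rank).all fun j =>
    (List.range chevE8.nroots).all fun s =>
      decide (TAB8_cp j (getB 256 (reflTabsE8.getD i 0) s) =
        TAB8_cp j s - TAB8_cp i s * TAB8_cp j (chevE8.simple i))) = true := by decide +kernel

/-- `charSepOK` on the packed table -/
theorem TAB8_sepTab : ((List.range chevE8.nroots).all fun s => (List.range chevE8.nroots).all fun s' =>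
    (s == s') || (List.range chevE8.rank).any fun i =>
      decide (TAB8_cp i s ≠ TAB8_cp i s') && decide ((TAB8_cp i s - TAB8_cp i s').natAbs < 16)) = true := by
  decide +kernel

/-- (SQ8) -/
theorem refSq_E8 : RefSq chevE8 := by
  unfold RefSq
  decide +kernel

/-- the braid relations of the reflection matrices, as a table check -/
theorem TAB8_liftTab : ∀ a : Fin chevE8.rank, ∀ b : Fin chevE8.rank,
    (refM chevE8 a.val * refM chevE8 b.val) ^ (E8.Mx a.val b.val) = 1 := by
  decide +kernel

/-- (LIFT8) -/
theorem liftable_E8 : certE8.M.IsLiftable (refU chevE8 refSq_E8) := by
  intro i i'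
  apply Units.ext
  have h := TAB8_liftTab i i'
  have e : certE8.M i i' = E8.Mx i.val i'.val := certE8.hMx i.val i'.val i.2 i'.2
  rw [e, Units.val_pow_eq_pow_val, Units.val_mul]
  exact h

/-- (CR8) -/
theorem cartanReflOK_E8 : cartanReflOK chevE8 = true := by
  have h := TAB8_crTab
  unfold cartanReflOK
  rw [List.all_eq_true] at h ⊢
  intro i hi
  have h1 := h i hi
  rw [List.all_eq_true] at h1 ⊢
  intro j hj
  have h2 := h1 j hj
  rw [List.all_eq_true] at h2 ⊢
  intro s hs
  have h3 := h2 s hs
  rw [decide_eq_true_eq] at h3 ⊢
  have hi' := List.mem_range.mp hi
  have hj' := List.mem_range.mp hj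
  have hs' := List.mem_range.mp hs
  have ht := tabsOK_spec chevE8 reflTabsE8 tabsOK_E8 i s hi' hs'
  rw [TAB8_cp_spec j _ hj' ht.2, TAB8_cp_spec j s hj' hs', TAB8_cp_spec i s hi' hs',
    TAB8_cp_spec j _ hj' (TAB8_simple_lt ⟨i, hi'⟩), ← ht.1]
  exact h3

/-- (SEP8) -/
theorem charSepOK_E8 : charSepOK chevE8 = true := by
  have h := TAB8_sepTab
  unfold charSepOK
  rw [List.all_eq_true] at h ⊢
  intro s hs
  have h1 := h s hs
  rw [List.all_eq_true] at h1 ⊢
  intro s' hs'
  have h2 := h1 s' hs'
  rw [Bool.or_eq_true] at h2 ⊢
  rcases h2 with h2 | h2
  · exact Or.inl h2
  · refine Or.inr ?_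
    rw [List.any_eq_true] at h2 ⊢
    obtain ⟨i, hi, h3⟩ := h2
    refine ⟨i, hi, ?_⟩
    have hi' := List.mem_range.mp hi
    rw [TAB8_cp_spec i s hi' (List.mem_range.mp hs), TAB8_cp_spec i s' hi' (List.mem_range.mp hs')]
    exact h3

end Cfsg.Agent.Helper33.TorD
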