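import Mathlib

/-!
helper33 for helper80 (S2372/S2375 tori): piece (ORDE8) `val_E8` of `tools/helper80_tor/SkelABC.lean.txt`, verbatim
(with a local copy `ORDE8_val` of (VAL), same proof as helper87's `ORDF4_val`).
-/

set_option autoImplicit false
set_option linter.unusedVariables false

namespace Cfsg.Agent.Helper33.Tor

open Polynomial

/-- local copy of (VAL): `r ∣ Q - 1`, `0 < i < r` ⟹ `v_r(Q^i - 1) = v_r(Q - 1)` -/
theorem ORDE8_val {r Q i : ℕ} (hr : r.Prime) (hQ : 2 ≤ Q) (hQr : r ∣ Q - 1) (hi : 0 < i)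
    (hir : i < r) : (Q ^ i - 1).factorization r = (Q - 1).factorization r := by
  have : Fact r.Prime := ⟨hr⟩
  set S : ℕ := ∑ j ∈ Finset.range i, Q ^ j with hS
  have hQi : 1 ≤ Q ^ i := Nat.one_le_pow _ _ (by omega)
  have key : (Q - 1) * S = Q ^ i - 1 := by
    have h1 : ((∑ j ∈ Finset.range i, (Q : ℤ) ^ j) * ((Q : ℤ) - 1)) = (Q : ℤ) ^ i - 1 := geom_sum_mul _ _
    have hSz : (S : ℤ) = ∑ j ∈ Finset.range i, (Q : ℤ) ^ j := by
      rw [hS]; push_cast; rfl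
    zify
    rw [Nat.cast_sub (by omega : 1 ≤ Q), Nat.cast_sub hQi, hSz]
    push_cast
    rw [← h1]; ring
  have hQ1 : (Q : ZMod r) = 1 := by
    have h0 : ((Q - 1 : ℕ) : ZMod r) = 0 := (ZMod.natCast_eq_zero_iff _ _).mpr hQr
    rw [Nat.cast_sub (by omega : 1 ≤ Q)] at h0
    have := sub_eq_zero.mp h0
    simpa using this
  have hSr : ¬ r ∣ S := by
    intro hd
    have h0 : ((S : ℕ) : ZMod r) = 0 := (ZMod.natCast_eq_zero_iff _ _).mpr hd
    rw [hS] at h0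
    push_cast at h0
    rw [hQ1] at h0
    simp only [one_pow, Finset.sum_const, Finset.card_range, nsmul_eq_mul, mul_one] at h0
    have := (ZMod.natCast_eq_zero_iff _ _).mp h0
    exact absurd (Nat.le_of_dvd hi this) (by omega)
  have hS0 : S ≠ 0 := by
    intro h; apply hSr; rw [h]; exact dvd_zero _
  have hQ10 : Q - 1 ≠ 0 := by omega
  rw [← key, Nat.factorization_mul hQ10 hS0]
  simp [Nat.factorization_eq_zero_of_not_dvd hSr]

/-- `Φ₃₀(q) ∣ q³⁰ - 1` in `ℕ` -/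
theorem ORDE8_dvd {q : ℕ} (hq : 2 ≤ q) :
    q ^ 8 + q ^ 7 - q ^ 5 - q ^ 4 - q ^ 3 + q + 1 ∣ q ^ 30 - 1 := by
  have h5 : q ^ 5 ≤ q ^ 7 := Nat.pow_le_pow_right (by omega) (by norm_num)
  have h4 : q ^ 4 + q ^ 3 ≤ q ^ 8 := by
    have e1 : q ^ 4 ≤ q ^ 7 := Nat.pow_le_pow_right (by omega) (by norm_num)
    have e2 : q ^ 3 ≤ q ^ 7 := Nat.pow_le_pow_right (by omega) (by norm_num)
    have e3 : q ^ 8 = q * q ^ 7 := by ring
    have e4 : 2 * q ^ 7 ≤ q * q ^ 7 := Nat.mul_le_mul_right (q ^ 7) hq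
    omega
  have h30 : 1 ≤ q ^ 30 := Nat.one_le_pow _ _ (by omega)
  have hz : ((q ^ 8 + q ^ 7 - q ^ 5 - q ^ 4 - q ^ 3 + q + 1 : ℕ) : ℤ) =
      (q : ℤ) ^ 8 + (q : ℤ) ^ 7 - (q : ℤ) ^ 5 - (q : ℤ) ^ 4 - (q : ℤ) ^ 3 + (q : ℤ) + 1 := by
    have a1 : q ^ 5 ≤ q ^ 8 + q ^ 7 := by omega
    have a2 : q ^ 4 ≤ q ^ 8 + q ^ 7 - q ^ 5 := by omega
    have a3 : q ^ 3 ≤ q ^ 8 + q ^ 7 - q ^ 5 - q ^ 4 := by omega
    push_cast [Nat.cast_sub a1, Nat.cast_sub a2, Nat.cast_sub a3]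
    ring
  have hz30 : ((q ^ 30 - 1 : ℕ) : ℤ) = (q : ℤ) ^ 30 - 1 := by
    push_cast [Nat.cast_sub h30]; ring
  apply Int.natCast_dvd_natCast.mp
  rw [hz, hz30]
  refine ⟨((q : ℤ) ^ 2 - (q : ℤ) + 1) * ((q : ℤ) ^ 5 + 1) * ((q : ℤ) ^ 15 - 1), ?_⟩
  ring

/-- (ORDE8) -/
theorem val_E8 {r q : ℕ} (hr : r.Prime) (hq : 2 ≤ q) (hr31 : 31 ≤ r)
    (hrq : r ∣ q ^ 8 + q ^ 7 - q ^ 5 - q ^ 4 - q ^ 3 + q + 1) (cF cK : ℕ)
    (hcF : cF = q ^ 120 * (q ^ 2 - 1) * (q ^ 8 - 1) * (q ^ 12 - 1) * (q ^ 14 - 1) * (q ^ 18 - 1) *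
      (q ^ 20 - 1) * (q ^ 24 - 1) * (q ^ 30 - 1))
    (hcK : cK = (q ^ 30) ^ 120 * ((q ^ 30) ^ 2 - 1) * ((q ^ 30) ^ 8 - 1) * ((q ^ 30) ^ 12 - 1) *
      ((q ^ 30) ^ 14 - 1) * ((q ^ 30) ^ 18 - 1) * ((q ^ 30) ^ 20 - 1) * ((q ^ 30) ^ 24 - 1) *
      ((q ^ 30) ^ 30 - 1)) :
    r ∣ cF ∧ cK.factorization r = 8 * (q ^ 30 - 1).factorization r := by
  have hr30 : r ∣ q ^ 30 - 1 := dvd_trans hrq (ORDE8_dvd hq)
  have hQ : 2 ≤ q ^ 30 := by
    calc 2 ≤ q := hq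
      _ = q ^ 1 := (pow_one q).symm
      _ ≤ q ^ 30 := Nat.pow_le_pow_right (by omega) (by norm_num)
  have hrq' : ¬ r ∣ q := by
    intro h
    have h1 : r ∣ q ^ 30 := dvd_pow h (by norm_num)
    have h2 : r ∣ q ^ 30 - (q ^ 30 - 1) := Nat.dvd_sub h1 hr30
    have h3 : q ^ 30 - (q ^ 30 - 1) = 1 := by omega
    rw [h3] at h2
    exact hr.one_lt.ne' (Nat.dvd_one.mp h2)
  refine ⟨?_, ?_⟩
  · rw [hcF]
    exact Dvd.dvd.mul_left hr30 _
  · set Q : ℕ := q ^ 30 with hQdef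
    have v2 := ORDE8_val (i := 2) hr hQ hr30 (by norm_num) (by omega)
    have v8 := ORDE8_val (i := 8) hr hQ hr30 (by norm_num) (by omega)
    have v12 := ORDE8_val (i := 12) hr hQ hr30 (by norm_num) (by omega)
    have v14 := ORDE8_val (i := 14) hr hQ hr30 (by norm_num) (by omega)
    have v18 := ORDE8_val (i := 18) hr hQ hr30 (by norm_num) (by omega)
    have v20 := ORDE8_val (i := 20) hr hQ hr30 (by norm_num) (by omega)
    have v24 := ORDE8_val (i := 24) hr hQ hr30 (by norm_num) (by omega)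
    have v30 := ORDE8_val (i := 30) hr hQ hr30 (by norm_num) (by omega)
    have hne : ∀ i : ℕ, 0 < i → Q ^ i - 1 ≠ 0 := by
      intro i hi
      have : 2 ≤ Q ^ i := by
        calc 2 ≤ Q := hQ
          _ = Q ^ 1 := (pow_one Q).symm
          _ ≤ Q ^ i := Nat.pow_le_pow_right (by omega) hi
      omega
    have hQ120 : Q ^ 120 ≠ 0 := pow_ne_zero _ (by omega)
    have hrQ : ¬ r ∣ Q ^ 120 := by
      intro h
      exact hrq' (hr.dvd_of_dvd_pow (hr.dvd_of_dvd_pow h))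
    have v0 : (Q ^ 120).factorization r = 0 := Nat.factorization_eq_zero_of_not_dvd hrQ
    have n2 := hne 2 (by norm_num)
    have n8 := hne 8 (by norm_num)
    have n12 := hne 12 (by norm_num)
    have n14 := hne 14 (by norm_num)
    have n18 := hne 18 (by norm_num)
    have n20 := hne 20 (by norm_num)
    have n24 := hne 24 (by norm_num)
    have n30 := hne 30 (by norm_num)
    have m2 := mul_ne_zero hQ120 n2
    have m8 := mul_ne_zero m2 n8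
    have m12 := mul_ne_zero m8 n12
    have m14 := mul_ne_zero m12 n14
    have m18 := mul_ne_zero m14 n18
    have m20 := mul_ne_zero m18 n20
    have m24 := mul_ne_zero m20 n24
    rw [hcK, Nat.factorization_mul m24 n30, Nat.factorization_mul m20 n24, Nat.factorization_mul m18 n20,
      Nat.factorization_mul m14 n18, Nat.factorization_mul m12 n14, Nat.factorization_mul m8 n12,
      Nat.factorization_mul m2 n8, Nat.factorization_mul hQ120 n2]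
    simp only [Finsupp.coe_add, Pi.add_apply, v0, v2, v8, v12, v14, v18, v20, v24, v30]
    ring

end Cfsg.Agent.Helper33.Tor
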