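import Mathlib.GroupTheory.Sylow
import Mathlib.GroupTheory.Coset.Card
import Mathlib.GroupTheory.GroupAction.Quotient
import Mathlib.GroupTheory.Subgroup.Centralizer

set_option autoImplicit false

namespace Cfsg.Agent.Helper33

variable {G : Type*} [Group G]

/-- Complement by the trace map: `V` abelian, normalized by `N ≥ S`, with `|N : S|` prime to `#V`.
Then `C_V(N)` has a complement in `C_V(S)`. -/
theorem exists_complement_of_trace [Finite G] (V N S : Subgroup G)
    (hVcomm : ∀ a ∈ V, ∀ b ∈ V, a * b = b * a) (hNV : N ≤ Subgroup.normalizer (V : Set G)) (hSN : S ≤ N)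
    (hcop : (Nat.card V).Coprime (S.relIndex N)) :
    ∃ K : Subgroup G, K ≤ V ⊓ Subgroup.centralizer (S : Set G) ∧
      (V ⊓ Subgroup.centralizer (N : Set G)) ⊓ K = ⊥ ∧
      (V ⊓ Subgroup.centralizer (N : Set G)) ⊔ K = V ⊓ Subgroup.centralizer (S : Set G) := by
  classical
  let _ : CommGroup V :=
    { (inferInstance : Group V) with mul_comm := fun a b => Subtype.ext (hVcomm a a.2 b b.2) }
  have : Fintype (N ⧸ S.subgroupOf N) := Fintype.ofFinite _
  -- the action of `N` on `V`
  let act : N →* MulAut V := V.normalizerMonoidHom.comp (Subgroup.inclusion hNV)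
  have hact : ∀ (n : N) (v : V), ((act n v : V) : G) = n * v * (n : G)⁻¹ := fun n v => rfl
  let m := S.relIndex N
  have hm : Fintype.card (N ⧸ S.subgroupOf N) = m := by
    rw [← Nat.card_eq_fintype_card, ← Subgroup.index_eq_card]; rfl
  -- the trace
  let τ : V →* V := ∏ q : N ⧸ S.subgroupOf N, (act q.out).toMonoidHom
  have hτ : ∀ v : V, τ v = ∏ q : N ⧸ S.subgroupOf N, act q.out v := by
    intro v
    show (∏ q : N ⧸ S.subgroupOf N, (act q.out).toMonoidHom) v = _
    rw [MonoidHom.finsetProd_apply]
    rfl
  -- fixed points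
  have hfixS : ∀ v : V, (v : G) ∈ Subgroup.centralizer (S : Set G) → ∀ s : N, (s : G) ∈ S → act s v = v := by
    intro v hv s hs
    apply Subtype.ext
    rw [hact]
    have := Subgroup.mem_centralizer_iff.mp hv s hs
    rw [this]; group
  have hτfix : ∀ v : V, (v : G) ∈ Subgroup.centralizer (S : Set G) → ∀ n : N, act n (τ v) = τ v := by
    intro v hv n
    rw [hτ, map_prod]
    have h1 : ∀ q : N ⧸ S.subgroupOf N, act n (act q.out v) = act ((n • q).out) v := by
      intro q
      have hq : ((n * q.out : N) : N ⧸ S.subgroupOf N) = n • q := by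
        conv_rhs => rw [← QuotientGroup.out_eq' q]
        rfl
      have h2 : (((n • q).out : N) : N ⧸ S.subgroupOf N) = ((n * q.out : N) : N ⧸ S.subgroupOf N) := by
        rw [QuotientGroup.out_eq', hq]
      rw [QuotientGroup.eq] at h2
      have h3 := hfixS v hv _ (Subgroup.mem_subgroupOf.mp h2)
      have h4 : act n (act q.out v) = act ((n • q).out) (act (((n • q).out)⁻¹ * (n * q.out)) v) := by
        rw [← MulAut.mul_apply, ← MulAut.mul_apply, ← map_mul, ← map_mul]
        congr 2
        group
      rw [h4, h3]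
    rw [Finset.prod_congr rfl (fun q _ => h1 q)]
    exact Equiv.prod_comp (MulAction.toPerm n : Equiv.Perm (N ⧸ S.subgroupOf N)) (fun q => act q.out v)
  have hτN : ∀ v : V, (v : G) ∈ Subgroup.centralizer (N : Set G) → τ v = v ^ m := by
    intro v hv
    rw [hτ]
    have h1 : ∀ q : N ⧸ S.subgroupOf N, act q.out v = v := by
      intro q
      apply Subtype.ext
      rw [hact]
      have := Subgroup.mem_centralizer_iff.mp hv _ (q.out : N).2
      rw [this]; group
    rw [Finset.prod_congr rfl (fun q _ => h1 q), Finset.prod_const, Finset.card_univ, hm]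
  have hmemN : ∀ v : V, (∀ n : N, act n v = v) → (v : G) ∈ Subgroup.centralizer (N : Set G) := by
    intro v hv
    rw [Subgroup.mem_centralizer_iff]
    intro n hn
    have := congrArg (fun w : V => (w : G)) (hv ⟨n, hn⟩)
    simp only [hact] at this
    calc n * (v : G) = (n * v * n⁻¹) * n := by group
      _ = v * n := by rw [this]
  let e := powCoprime hcop
  refine ⟨(τ.ker.map V.subtype) ⊓ Subgroup.centralizer (S : Set G), ?_, ?_, ?_⟩
  · exact inf_le_inf_right _ (Subgroup.map_subtype_le _)
  · rw [eq_bot_iff]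
    rintro x ⟨⟨hxV, hxN⟩, ⟨⟨v, hv, rfl⟩, _⟩⟩
    rw [Subgroup.mem_bot]
    have h1 : τ v = 1 := hv
    rw [hτN v hxN] at h1
    have h2 : e v = e 1 := by
      show v ^ m = 1 ^ m
      rw [h1, one_pow]
    have := e.injective h2
    rw [this]; rfl
  · apply le_antisymm
    · refine sup_le (inf_le_inf_left _ (Subgroup.centralizer_le (by exact_mod_cast hSN))) ?_
      exact inf_le_inf_right _ (Subgroup.map_subtype_le _)
    · rintro x ⟨hxV, hxS⟩
      let v : V := ⟨x, hxV⟩
      let w : V := e.symm (τ v)
      have hw : w ^ m = τ v := e.apply_symm_apply (τ v)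
      have hwfix : ∀ n : N, act n w = w := by
        intro n
        apply e.injective
        show (act n w) ^ m = w ^ m
        rw [← map_pow, hw, hτfix v hxS n]
      have hwN : (w : G) ∈ Subgroup.centralizer (N : Set G) := hmemN w hwfix
      have hwS : (w : G) ∈ Subgroup.centralizer (S : Set G) :=
        Subgroup.centralizer_le (by exact_mod_cast hSN) hwN
      have hx : x = (w : G) * ((w⁻¹ * v : V) : G) := by
        show x = (w : G) * (((w : G))⁻¹ * x)
        group
      rw [hx]
      apply Subgroup.mul_mem_sup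
      · exact ⟨w.2, hwN⟩
      · refine ⟨⟨w⁻¹ * v, ?_, rfl⟩, ?_⟩
        · show τ (w⁻¹ * v) = 1
          rw [map_mul, map_inv, hτN w hwN, hw]
          group
        · show ((w : G))⁻¹ * x ∈ Subgroup.centralizer (S : Set G)
          exact Subgroup.mul_mem _ (Subgroup.inv_mem _ hwS) hxS

end Cfsg.Agent.Helper33
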