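import Cfsg.Agent.Helper33.TransferFamily

set_option autoImplicit false

open scoped commutatorElement

namespace Cfsg.Agent.Helper33

variable {G : Type*} [Group G]

local notation:max H "⟪" g "⟫" => Subgroup.map (MulEquiv.toMonoidHom (MulAut.conj g)) H

theorem familyControlsTransfer_of_local {p : ℕ} [Fact p.Prime] [Finite G]
    {𝓦 : Set (Subgroup G → Subgroup G)} (h𝓦 : ∀ W ∈ 𝓦, Cfsg.IsConjugacyFunctor p W) (S : Sylow p G)
    (hloc : ∀ T : Subgroup G, T ≤ (S : Subgroup G) → T ≠ ⊥ →
      ¬ p ∣ ((S : Subgroup G) ⊓ Subgroup.normalizer ((T : Subgroup G) : Set G)).relIndex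
        (Subgroup.normalizer ((T : Subgroup G) : Set G)) →
      Cfsg.FamilyControlsTransferIn p 𝓦 (Subgroup.normalizer ((T : Subgroup G) : Set G))) :
    Cfsg.FamilyControlsTransferIn p 𝓦 ⊤ := by
  refine ⟨(S : Subgroup G), le_top, S.2, ?_, ?_⟩
  · rw [Subgroup.relIndex_top_right]; exact S.not_dvd_index
  · simp only [top_inf_eq]
    apply le_antisymm
    · have hfam : ∀ T : Subgroup G, T ≤ (S : Subgroup G) →
          ∃ U ∈ tameFamily p (S : Subgroup G) 0,
            (∃ g : G, T⟪g⟫ = U) ∧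
            ¬ p ∣ ((S : Subgroup G) ⊓ Subgroup.normalizer ((U : Subgroup G) : Set G)).relIndex
              (Subgroup.normalizer ((U : Subgroup G) : Set G)) := by
        intro T hT
        obtain ⟨x, hxS, hxtame⟩ := exists_tame_conj S T (S.2.to_le hT)
        exact ⟨_, ⟨hxS, Nat.zero_le _, hxtame⟩, ⟨x, rfl⟩, hxtame⟩
      apply focal_le_of_family S _ (fun U hU => hU.1) hfam
      intro T hT hT0 y hy a ha
      apply tame_transfer_le h𝓦 S hloc _ T hT.1 hT0 hT.2.2 rfl
      have hyi : y⁻¹ ∈ Subgroup.normalizer (T : Set G) := Subgroup.inv_mem _ hy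
      have hconj : y⁻¹ * a * y ∈ T := by
        have := (Subgroup.mem_normalizer_iff.mp hyi a).mp ha
        simpa using this
      refine ⟨⟨hT.1 (T.mul_mem ha (T.inv_mem hconj)),
        Subgroup.le_normalizer (T.mul_mem ha (T.inv_mem hconj))⟩, ?_⟩
      have e : a * (y⁻¹ * a * y)⁻¹ = ⁅a, y⁻¹⁆ := by rw [commutatorElement_def]; group
      rw [e]
      exact Subgroup.commutator_mem_commutator (Subgroup.le_normalizer ha) hyi
    · refine iSup₂_le ?_
      intro W _
      exact inf_le_inf_left _ (Subgroup.commutator_mono le_top le_top)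

end Cfsg.Agent.Helper33
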