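import Cfsg.Agent.Helper33.NormalSylowIndexP

set_option autoImplicit false

universe u

namespace Cfsg.Agent.Helper33

local notation:max H "⟪" g "⟫" => Subgroup.map (MulEquiv.toMonoidHom (MulAut.conj g)) H

variable {p : ℕ} [hp : Fact p.Prime] {W : ∀ (Q : Type u) [Group Q], Subgroup Q}

/-- The property "`W` controls transfer in `X`" used for sections. -/
def CTProp (p : ℕ) (W : ∀ (Q : Type u) [Group Q], Subgroup Q) : ∀ (X : Type u) [Group X], Prop :=
  fun X _ => Finite X → Cfsg.ControlsTransferIn p (Cfsg.inducedFunctor (G := X) W) ⊤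

theorem exists_normal_index_prime_of_controlsTransfer (hW : Cfsg.IsCharPFunctor.{u} p W) :
    ∀ (n : ℕ) (G : Type u) [Group G] [Finite G], Nat.card G = n → SectionProp (CTProp p W) G →
      ∀ S : Subgroup G, IsPGroup p S → ¬ p ∣ S.index → S ≠ ⊥ →
        (∀ g ∈ Subgroup.normalizer (S : Set G), (orderOf g).Coprime p →
          g ∈ Subgroup.centralizer (S : Set G)) →
        ∃ N : Subgroup G, N.Normal ∧ N.index = p := by
  intro n
  induction n using Nat.strong_induction_on with
  | _ n ih =>
  intro G _ _ hcard hsec S hSp hSidx hS0 hNS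
  have hΦ : IsoInvariant (CTProp p W) := isoInvariant_controlsTransferIn hW
  obtain ⟨T, -, hTp, hTidx, hTeq⟩ := hsec.self hΦ inferInstance
  rw [Subgroup.relIndex_top_right] at hTidx
  rw [top_inf_eq] at hTeq
  -- transfer the hypotheses from `S` to `T`
  obtain ⟨k, hk⟩ := exists_conj_eq_of_isPGroup_of_not_dvd_index (hSp.toSylow hSidx) T hTp hTidx
  have hk' : S⟪k⟫ = T := hk
  have hT0 : T ≠ ⊥ := by
    rw [← hk', Ne, Subgroup.map_eq_bot_iff_of_injective _ (MulAut.conj k).injective]
    exact hS0
  have hNT : ∀ g ∈ Subgroup.normalizer (T : Set G), (orderOf g).Coprime p →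
      g ∈ Subgroup.centralizer (T : Set G) := by
    intro g hg hcop
    rw [← hk', normalizer_map_conj, mem_map_conj_iff] at hg
    have hord : orderOf (k⁻¹ * g * k) = orderOf g := by
      have := orderOf_injective (MulAut.conj k⁻¹).toMonoidHom (MulAut.conj k⁻¹).injective g
      simpa [MulAut.conj_apply] using this
    have hc := hNS _ hg (hord ▸ hcop)
    rw [Subgroup.mem_centralizer_iff] at hc ⊢
    intro t ht
    have ht' : k⁻¹ * t * k ∈ S := by
      have : t ∈ S⟪k⟫ := hk'.symm ▸ ht
      exact (mem_map_conj_iff S k t).mp this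
    have := hc _ ht'
    calc t * g = k * ((k⁻¹ * t * k) * (k⁻¹ * g * k)) * k⁻¹ := by group
      _ = k * ((k⁻¹ * g * k) * (k⁻¹ * t * k)) * k⁻¹ := by rw [this]
      _ = g * t := by group
  have hWf : Cfsg.IsConjugacyFunctor p (Cfsg.inducedFunctor (G := G) W) :=
    isConjugacyFunctor_inducedFunctor hW G
  obtain ⟨M, hM⟩ : ∃ M : Subgroup G, M = Cfsg.inducedFunctor W T := ⟨_, rfl⟩
  rw [← hM] at hTeq
  have hMT : M ≤ T := hM ▸ (hWf T hTp).1
  have hM0 : M ≠ ⊥ := hM ▸ (hWf T hTp).2.1 hT0
  obtain ⟨N₀, hN₀⟩ : ∃ N₀ : Subgroup G, N₀ = Subgroup.normalizer (M : Set G) := ⟨_, rfl⟩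
  rw [← hN₀] at hTeq
  have hTN₀ : T ≤ N₀ := by
    rw [hN₀, hM]
    exact le_trans Subgroup.le_normalizer (normalizer_le_normalizer_functor hWf hTp)
  by_cases hN₀top : N₀ = ⊤
  · have hMn : M.Normal := Subgroup.normalizer_eq_top_iff.mp (hN₀ ▸ hN₀top)
    by_cases hMeq : M = T
    · -- `T` is normal
      have hTn : T.Normal := hMeq ▸ hMn
      apply exists_normal_index_prime_of_normal_sylow T hTp hTidx hT0 hTn
      intro g hcop
      apply hNT g _ hcop
      rw [Subgroup.normalizer_eq_top_iff.mpr hTn]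
      exact Subgroup.mem_top g
    · -- pass to `G ⧸ M`
      have hcardlt : Nat.card (G ⧸ M) < n := by
        have h1 := Subgroup.card_eq_card_quotient_mul_card_subgroup M
        have h2 : 1 < Nat.card M := (Subgroup.one_lt_card_iff_ne_bot M).mpr hM0
        have h3 : 0 < Nat.card (G ⧸ M) := Nat.card_pos
        rw [← hcard, h1]
        nlinarith
      have hker : (QuotientGroup.mk' M).ker ≤ T := by rw [QuotientGroup.ker_mk']; exact hMT
      have hTbar_idx : ¬ p ∣ (T.map (QuotientGroup.mk' M)).index := by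
        rw [Subgroup.index_map_eq T (QuotientGroup.mk'_surjective M) hker]
        exact hTidx
      have hTbar0 : T.map (QuotientGroup.mk' M) ≠ ⊥ := by
        intro h
        rw [Subgroup.map_eq_bot_iff, QuotientGroup.ker_mk'] at h
        exact hMeq (le_antisymm hMT h)
      have hcomap : (T.map (QuotientGroup.mk' M)).comap (QuotientGroup.mk' M) = T := by
        rw [Subgroup.comap_map_eq, QuotientGroup.ker_mk', sup_eq_left.mpr hMT]
      obtain ⟨N₁, hN₁n, hN₁i⟩ := ih _ hcardlt (G ⧸ M) rfl (hsec.quotient hΦ M)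
        (T.map (QuotientGroup.mk' M)) (hTp.map _) hTbar_idx hTbar0 (by
          intro y hy hcop
          obtain ⟨g, hgcop, rfl⟩ := exists_coprime_lift M y hcop
          have hgN : g ∈ Subgroup.normalizer (T : Set G) := by
            have h1 : g ∈ (Subgroup.normalizer ((T.map (QuotientGroup.mk' M) : Subgroup (G ⧸ M)) : Set (G ⧸ M))).comap
                (QuotientGroup.mk' M) := hy
            rw [Subgroup.comap_normalizer_eq_of_surjective _ (QuotientGroup.mk'_surjective M), hcomap] at h1
            exact h1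
          have hgC := hNT g hgN hgcop
          rw [Subgroup.mem_centralizer_iff] at hgC ⊢
          rintro _ ⟨t, ht, rfl⟩
          have := hgC t ht
          show (QuotientGroup.mk' M) t * (QuotientGroup.mk' M) g = (QuotientGroup.mk' M) g * (QuotientGroup.mk' M) t
          rw [← map_mul, ← map_mul, this])
      refine ⟨N₁.comap (QuotientGroup.mk' M), Subgroup.Normal.comap hN₁n _, ?_⟩
      rw [Subgroup.index_comap_of_surjective N₁ (QuotientGroup.mk'_surjective M), hN₁i]
  · -- `N₀` is proper
    have hcardlt : Nat.card N₀ < n := by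
      rw [← hcard]
      have hlt : N₀ < ⊤ := lt_top_iff_ne_top.mpr hN₀top
      have := card_lt_card_of_lt' hlt
      rwa [Subgroup.card_top] at this
    have hTsub_idx : ¬ p ∣ (T.subgroupOf N₀).index := by
      intro h
      exact hTidx (dvd_trans h (Subgroup.relIndex_dvd_index_of_le hTN₀))
    have hTsub0 : T.subgroupOf N₀ ≠ ⊥ := by
      rw [Ne, Subgroup.subgroupOf_eq_bot, disjoint_iff, inf_eq_left.mpr hTN₀]
      exact hT0
    obtain ⟨N₁, hN₁n, hN₁i⟩ := ih _ hcardlt ↥N₀ rfl (hsec.subgroup hΦ N₀)
      (T.subgroupOf N₀) hTp.comap_subtype hTsub_idx hTsub0 (by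
        intro g hg hcop
        have hgN : (g : G) ∈ Subgroup.normalizer (T : Set G) := by
          rw [Subgroup.mem_normalizer_iff]
          intro t
          constructor
          · intro ht
            have := (Subgroup.mem_normalizer_iff.mp hg ⟨t, hTN₀ ht⟩).mp (Subgroup.mem_subgroupOf.mpr ht)
            exact Subgroup.mem_subgroupOf.mp this
          · intro ht
            have hmem : (g : G) * t * (g : G)⁻¹ ∈ N₀ := hTN₀ ht
            have ht0 : t ∈ N₀ := by
              have := N₀.mul_mem (N₀.mul_mem (N₀.inv_mem g.2) hmem) g.2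
              simpa [mul_assoc] using this
            have := (Subgroup.mem_normalizer_iff.mp hg ⟨t, ht0⟩).mpr (Subgroup.mem_subgroupOf.mpr ht)
            exact Subgroup.mem_subgroupOf.mp this
        have hgC := hNT (g : G) hgN (by rw [Subgroup.orderOf_coe]; exact hcop)
        rw [Subgroup.mem_centralizer_iff] at hgC ⊢
        intro t ht
        apply Subtype.ext
        exact hgC (t : G) (Subgroup.mem_subgroupOf.mp ht))
    -- `T` is not inside the commutator subgroup
    apply exists_normal_index_prime_of_not_le_commutator T hTp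
    intro hTG
    have h1 : T ≤ ⁅N₀, N₀⁆ := by
      have : T ⊓ ⁅(⊤ : Subgroup G), ⊤⁆ = T := inf_eq_left.mpr hTG
      rw [this] at hTeq
      exact (inf_eq_left.mp hTeq.symm)
    have h2 : T.subgroupOf N₀ ≤ N₁ := by
      have hab : commutator ↥N₀ ≤ N₁ := by
        have hcyc : IsCyclic (↥N₀ ⧸ N₁) :=
          isCyclic_of_prime_card (by rw [← Subgroup.index_eq_card, hN₁i])
        have : IsMulCommutative (↥N₀ ⧸ N₁) := ⟨⟨IsCyclic.commGroup.mul_comm⟩⟩
        exact (Subgroup.Normal.quotient_commutative_iff_commutator_le).mp this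
      refine le_trans ?_ hab
      intro t ht
      have ht' : (t : G) ∈ ⁅N₀, N₀⁆ := h1 (Subgroup.mem_subgroupOf.mp ht)
      rw [← Subgroup.map_subtype_commutator] at ht'
      obtain ⟨t', ht', hteq⟩ := ht'
      have : t' = t := Subtype.ext hteq
      rw [← this]; exact ht'
    have h3 : p ∣ (T.subgroupOf N₀).index := by
      rw [← hN₁i]
      exact Subgroup.index_dvd_of_le h2
    exact hTsub_idx h3

end Cfsg.Agent.Helper33
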