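import Cfsg.Agent.Helper33.TransferTransport
import Cfsg.Agent.Helper33.FusMisc

set_option autoImplicit false

universe u

open scoped Pointwise

namespace Cfsg.Agent.Helper33

/-- Frattini argument: modulo a normal `p'`-subgroup, the normalizer of the image of a `p`-subgroup is
the image of its normalizer. -/
theorem normalizer_map_mk_of_coprime {G : Type*} [Group G] [Finite G] {p : ℕ} [Fact p.Prime]
    (M : Subgroup G) [M.Normal] (hM : (Nat.card M).Coprime p) (V : Subgroup G) (hV : IsPGroup p V) :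
    Subgroup.normalizer (((V.map (QuotientGroup.mk' M) : Subgroup (G ⧸ M))) : Set (G ⧸ M)) =
      (Subgroup.normalizer (V : Set G)).map (QuotientGroup.mk' M) := by
  apply le_antisymm _ (Subgroup.le_normalizer_map _)
  intro y' hy'
  obtain ⟨y, rfl⟩ := QuotientGroup.mk'_surjective M y'
  obtain ⟨V', hV'⟩ : ∃ V' : Subgroup G, V' = V.map (MulAut.conj y⁻¹).toMonoidHom := ⟨_, rfl⟩
  have hV'p : IsPGroup p V' := hV' ▸ hV.map _
  have hV'le : V' ≤ V ⊔ M := by
    rw [hV']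
    rintro _ ⟨v, hv, rfl⟩
    have h1 : (QuotientGroup.mk' M) v ∈ V.map (QuotientGroup.mk' M) := ⟨v, hv, rfl⟩
    have h2 := (Subgroup.mem_normalizer_iff.mp (Subgroup.inv_mem _ hy') _).mp h1
    have h3 : (MulAut.conj y⁻¹).toMonoidHom v ∈ (V.map (QuotientGroup.mk' M)).comap (QuotientGroup.mk' M) := by
      show (QuotientGroup.mk' M) ((MulAut.conj y⁻¹) v) ∈ V.map (QuotientGroup.mk' M)
      rw [MulAut.conj_apply, map_mul, map_mul, map_inv]
      exact h2
    rw [Subgroup.comap_map_eq, QuotientGroup.ker_mk'] at h3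
    exact h3
  have hidx : ¬ p ∣ V.relIndex (V ⊔ M) := by
    rw [relIndex_sup_normal]
    intro hd
    have h1 : p ∣ Nat.card M := hd.trans (Subgroup.relIndex_dvd_card V M)
    have := Nat.Coprime.eq_one_of_dvd hM.symm h1
    exact (Fact.out : p.Prime).one_lt.ne' this
  obtain ⟨z, hz, hzV⟩ := exists_conj_le_of_not_dvd_relIndex le_sup_left hV hidx hV'le hV'p
  have hz' : z ∈ ((V ⊔ M : Subgroup G) : Set G) := hz
  rw [Subgroup.mul_normal] at hz'
  obtain ⟨v₀, hv₀, m, hm, rfl⟩ := hz'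
  have hmem : y * m⁻¹ ∈ Subgroup.normalizer (V : Set G) := by
    apply mem_normalizer_of_conjR_subset
    rintro _ ⟨v, hv, rfl⟩
    have h1 : y⁻¹ * v * y ∈ V' := by
      rw [hV']
      exact ⟨v, hv, by simp⟩
    have h2 := hzV _ h1
    have h3 := V.mul_mem (V.mul_mem (V.inv_mem hv₀) h2) hv₀
    have e : v₀⁻¹ * (v₀ * m * (y⁻¹ * v * y) * (v₀ * m)⁻¹) * v₀ = (y * m⁻¹)⁻¹ * v * (y * m⁻¹) := by
      group
    rw [e] at h3
    exact h3
  refine ⟨y * m⁻¹, hmem, ?_⟩
  rw [map_mul, map_inv]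
  have : (QuotientGroup.mk' M) m = 1 := by
    rw [QuotientGroup.mk'_apply, QuotientGroup.eq_one_iff]; exact hm
  rw [this, inv_one, mul_one]

variable {p : ℕ} {𝓦 : Set (∀ (Q : Type u) [Group Q], Subgroup Q)}

theorem focalTarget_le_commutator {G : Type*} [Group G] (𝓦' : Set (Subgroup G → Subgroup G))
    (S : Subgroup G) : focalTarget 𝓦' S ≤ commutator G := by
  unfold focalTarget
  refine iSup₂_le ?_
  intro W _
  exact inf_le_right.trans (Subgroup.commutator_mono le_top le_top)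

theorem focalTarget_le {G : Type*} [Group G] (𝓦' : Set (Subgroup G → Subgroup G))
    (S : Subgroup G) : focalTarget 𝓦' S ≤ S := by
  unfold focalTarget
  refine iSup₂_le ?_
  intro W _
  exact inf_le_left

/-- Control of transfer lifts from the quotient by a normal `p'`-subgroup. -/
theorem inf_commutator_le_of_quotient_pPrime [hp : Fact p.Prime]
    (h𝓦 : ∀ W ∈ 𝓦, Cfsg.IsCharPFunctor.{u} p W) {G : Type u} [Group G] [Finite G]
    (M : Subgroup G) [M.Normal] (hM : (Nat.card M).Coprime p)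
    (h : Cfsg.FamilyControlsTransferIn p (FamW 𝓦 (G ⧸ M)) ⊤) {S : Subgroup G}
    (hSp : IsPGroup p S) (hSidx : ¬ p ∣ S.index) :
    S ⊓ commutator G ≤ focalTarget (FamW 𝓦 G) S := by
  obtain ⟨f, hf⟩ : ∃ f : G →* G ⧸ M, f = QuotientGroup.mk' M := ⟨_, rfl⟩
  have hfs : Function.Surjective f := hf ▸ QuotientGroup.mk'_surjective M
  have hker : f.ker = M := by rw [hf]; exact QuotientGroup.ker_mk' M
  have hSM : S ⊓ M = ⊥ := by
    apply (Subgroup.disjoint_of_coprime_natCard ?_).eq_bot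
    obtain ⟨k, hk⟩ := IsPGroup.iff_card.mp hSp
    rw [hk]
    exact (Nat.Coprime.pow_left k hM.symm)
  have hinj : Set.InjOn f (S : Set G) := by
    intro a ha b hb hab
    have h1 : a⁻¹ * b ∈ f.ker := by
      rw [MonoidHom.mem_ker, map_mul, map_inv, hab, inv_mul_cancel]
    rw [hker] at h1
    have h2 : a⁻¹ * b ∈ S ⊓ M := Subgroup.mem_inf.mpr ⟨S.mul_mem (S.inv_mem ha) hb, h1⟩
    rw [hSM, Subgroup.mem_bot] at h2
    exact inv_mul_eq_one.mp h2
  have hSbp : IsPGroup p (S.map f) := hSp.map f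
  have hSbidx : ¬ p ∣ (S.map f).relIndex ⊤ := by
    rw [Subgroup.relIndex_top_right]
    intro hd
    exact hSidx (hd.trans (Subgroup.index_map_dvd S hfs))
  have h1 := familyControlsTransferIn_at (famW_isConjugacyFunctor h𝓦 (G ⧸ M)) h le_top hSbp hSbidx
  -- each term lies in the image of the corresponding term of `G`
  have hterm : ∀ W ∈ 𝓦, S.map f ⊓ ⁅(⊤ : Subgroup (G ⧸ M)) ⊓ Subgroup.normalizer
      ((Cfsg.inducedFunctor W (S.map f) : Subgroup (G ⧸ M)) : Set (G ⧸ M)),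
      (⊤ : Subgroup (G ⧸ M)) ⊓ Subgroup.normalizer
      ((Cfsg.inducedFunctor W (S.map f) : Subgroup (G ⧸ M)) : Set (G ⧸ M))⁆ ≤
      (focalTarget (FamW 𝓦 G) S).map f := by
    intro W hW
    obtain ⟨V, hV⟩ : ∃ V : Subgroup G, V = Cfsg.inducedFunctor W S := ⟨_, rfl⟩
    have hVS : V ≤ S := hV ▸ (isConjugacyFunctor_inducedFunctor (h𝓦 W hW) G S hSp).1
    obtain ⟨N, hN⟩ : ∃ N : Subgroup G, N = Subgroup.normalizer (V : Set G) := ⟨_, rfl⟩
    have hSN : S ≤ N := by
      rw [hN, hV]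
      exact le_trans Subgroup.le_normalizer
        (normalizer_le_normalizer_functor (isConjugacyFunctor_inducedFunctor (h𝓦 W hW) G) hSp)
    have hVb : Cfsg.inducedFunctor W (S.map f) = V.map f := by
      rw [hV]
      exact inducedFunctor_map_of_injOn (h𝓦 W hW) f S hSp hinj
    have hNb : Subgroup.normalizer ((V.map f : Subgroup (G ⧸ M)) : Set (G ⧸ M)) = N.map f := by
      rw [hN, hf]
      exact normalizer_map_mk_of_coprime M hM V (hSp.to_le hVS)
    rw [top_inf_eq, hVb, hNb, ← Subgroup.map_commutator]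
    rintro y' ⟨⟨s, hs, rfl⟩, ⟨n', hn', hsn⟩⟩
    -- `n' = s * m` with `m ∈ M ∩ N`
    have hm : s⁻¹ * n' ∈ M := by
      rw [← hker, MonoidHom.mem_ker, map_mul, map_inv, hsn, inv_mul_cancel]
    have hn'N : n' ∈ N := Subgroup.commutator_le_self N hn'
    have hsN : s ∈ N := hSN hs
    -- pass to the abelianization of `N`
    have hcomm : (⟨n', hn'N⟩ : ↥N) ∈ commutator ↥N := by
      have h2 : n' ∈ (commutator ↥N).map N.subtype := by
        rw [Subgroup.map_subtype_commutator]; exact hn'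
      obtain ⟨n'', hn'', hnn⟩ := h2
      have : n'' = ⟨n', hn'N⟩ := Subtype.ext hnn
      rw [← this]; exact hn''
    have hof : Abelianization.of (⟨s, hsN⟩ : ↥N) =
        (Abelianization.of (⟨s⁻¹ * n', N.mul_mem (N.inv_mem hsN) hn'N⟩ : ↥N))⁻¹ := by
      have h3 : Abelianization.of (⟨n', hn'N⟩ : ↥N) = 1 := by
        rw [← MonoidHom.mem_ker, Abelianization.ker_of]; exact hcomm
      have e : (⟨n', hn'N⟩ : ↥N) = ⟨s, hsN⟩ * ⟨s⁻¹ * n', N.mul_mem (N.inv_mem hsN) hn'N⟩ := by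
        apply Subtype.ext
        simp
      rw [e, map_mul] at h3
      exact eq_inv_of_mul_eq_one_left h3
    have hord1 : orderOf (Abelianization.of (⟨s, hsN⟩ : ↥N)) ∣ Nat.card M := by
      rw [hof, orderOf_inv]
      refine dvd_trans (orderOf_map_dvd _ _) ?_
      rw [Subgroup.orderOf_mk]
      have : orderOf (⟨s⁻¹ * n', hm⟩ : ↥M) ∣ Nat.card M := orderOf_dvd_natCard _
      rwa [Subgroup.orderOf_mk] at this
    obtain ⟨j, hj⟩ := hSp ⟨s, hs⟩
    have hord2 : orderOf (Abelianization.of (⟨s, hsN⟩ : ↥N)) ∣ p ^ j := by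
      apply orderOf_dvd_of_pow_eq_one
      rw [← map_pow]
      have : (⟨s, hsN⟩ : ↥N) ^ p ^ j = 1 := by
        apply Subtype.ext
        have := congrArg Subtype.val hj
        simpa using this
      rw [this, map_one]
    have hone : orderOf (Abelianization.of (⟨s, hsN⟩ : ↥N)) = 1 :=
      Nat.eq_one_of_dvd_coprimes (Nat.Coprime.pow_right j hM) hord1 hord2
    have hsker : (⟨s, hsN⟩ : ↥N) ∈ commutator ↥N := by
      rw [← Abelianization.ker_of, MonoidHom.mem_ker]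
      exact orderOf_eq_one_iff.mp hone
    have hsN' : s ∈ ⁅N, N⁆ := by
      rw [← Subgroup.map_subtype_commutator]
      exact ⟨_, hsker, rfl⟩
    refine ⟨s, ?_, rfl⟩
    unfold focalTarget FamW
    rw [iSup_image]
    have : S ⊓ ⁅N, N⁆ ≤ ⨆ W' ∈ 𝓦, S ⊓ ⁅Subgroup.normalizer ((Cfsg.inducedFunctor W' S : Subgroup G) : Set G),
        Subgroup.normalizer ((Cfsg.inducedFunctor W' S : Subgroup G) : Set G)⁆ := by
      rw [hN, hV]
      exact le_iSup₂_of_le W hW le_rfl
    exact this (Subgroup.mem_inf.mpr ⟨hs, hsN'⟩)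
  intro x hx
  obtain ⟨hxS, hxG⟩ := Subgroup.mem_inf.mp hx
  have hfx : f x ∈ S.map f ⊓ ⁅(⊤ : Subgroup (G ⧸ M)), ⊤⁆ := by
    refine Subgroup.mem_inf.mpr ⟨⟨x, hxS, rfl⟩, ?_⟩
    have : (commutator G).map f ≤ commutator (G ⧸ M) := by
      unfold commutator
      rw [Subgroup.map_commutator]
      exact Subgroup.commutator_mono le_top le_top
    exact this ⟨x, hxG, rfl⟩
  rw [h1] at hfx
  have hle : (⨆ W' ∈ FamW 𝓦 (G ⧸ M), S.map f ⊓ ⁅(⊤ : Subgroup (G ⧸ M)) ⊓ Subgroup.normalizer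
      ((W' (S.map f) : Subgroup (G ⧸ M)) : Set (G ⧸ M)),
      (⊤ : Subgroup (G ⧸ M)) ⊓ Subgroup.normalizer
      ((W' (S.map f) : Subgroup (G ⧸ M)) : Set (G ⧸ M))⁆) ≤ (focalTarget (FamW 𝓦 G) S).map f := by
    unfold FamW
    rw [iSup_image]
    exact iSup₂_le hterm
  obtain ⟨s₀, hs₀, hs₀x⟩ := hle hfx
  have := hinj (focalTarget_le _ _ hs₀) hxS hs₀x
  rw [← this]; exact hs₀

end Cfsg.Agent.Helper33
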