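import Cfsg.Agent.Helper33.TransferQuot
import Cfsg.Agent.Helper33.TransferCentral
import Cfsg.Agent.Helper33.FrattiniFusion

set_option autoImplicit false

universe u

open scoped Pointwise commutatorElement

namespace Cfsg.Agent.Helper33

open Cfsg.Agent.Lib

variable {p : ℕ} [hp : Fact p.Prime] {𝓦 : Set (∀ (Q : Type u) [Group Q], Subgroup Q)}

/-- The case `G = C_G(O_p(G)) S` for transfer: lifting from `G / O_p(G)`. -/
theorem inf_commutator_le_of_quotient_pCore (h𝓦 : ∀ W ∈ 𝓦, Cfsg.IsCharPFunctor.{u} p W)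
    {G : Type u} [Group G] [Finite G] (S : Sylow p G)
    (hQS : Cfsg.pCore p G ≠ (S : Subgroup G))
    (hfac : ∀ g : G, ∃ c ∈ Subgroup.centralizer ((Cfsg.pCore p G : Subgroup G) : Set G),
      ∃ s ∈ (S : Subgroup G), g = c * s)
    (hquot : Cfsg.FamilyControlsTransferIn p (FamW 𝓦 (G ⧸ Cfsg.pCore p G)) ⊤)
    (hsubT : ∀ H : Subgroup G, H ≠ ⊤ → (S : Subgroup G) ≤ H →
      (S : Subgroup G) ⊓ ⁅H, H⁆ ≤ focalTarget (FamW 𝓦 G) (S : Subgroup G))
    (hS' : ⁅(S : Subgroup G), (S : Subgroup G)⁆ ≤ focalTarget (FamW 𝓦 G) (S : Subgroup G)) :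
    (S : Subgroup G) ⊓ commutator G ≤ focalTarget (FamW 𝓦 G) (S : Subgroup G) := by
  obtain ⟨Q, hQ⟩ : ∃ Q : Subgroup G, Q = Cfsg.pCore p G := ⟨_, rfl⟩
  have hQn : Q.Normal := hQ ▸ Cfsg.pCore_normal p G
  have hQleS : Q ≤ (S : Subgroup G) := hQ ▸ pCore_le_sylow S
  obtain ⟨f, hf⟩ : ∃ f : G →* G ⧸ Cfsg.pCore p G, f = QuotientGroup.mk' (Cfsg.pCore p G) := ⟨_, rfl⟩
  have hfs : Function.Surjective f := hf ▸ QuotientGroup.mk'_surjective _
  have hker : f.ker = Q := by rw [hf, hQ]; exact QuotientGroup.ker_mk' _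
  have hfeq : ∀ a b : G, f a = f b → a⁻¹ * b ∈ Q := by
    intro a b hab
    rw [← hker, MonoidHom.mem_ker, map_mul, map_inv, hab, inv_mul_cancel]
  obtain ⟨Sb, hSb⟩ : ∃ Sb : Subgroup (G ⧸ Cfsg.pCore p G), Sb = (S : Subgroup G).map f := ⟨_, rfl⟩
  have hSbp : IsPGroup p Sb := hSb ▸ S.2.map f
  have hSbidx : ¬ p ∣ Sb.relIndex ⊤ := by
    rw [Subgroup.relIndex_top_right, hSb]
    intro hd
    exact S.not_dvd_index (hd.trans (Subgroup.index_map_dvd (S : Subgroup G) hfs))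
  have hSb0 : Sb ≠ ⊥ := by
    intro h0
    apply hQS
    rw [← hQ]
    apply le_antisymm hQleS
    rw [← hker, ← Subgroup.map_eq_bot_iff, ← hSb]
    exact h0
  have hcoreb : Cfsg.pCore p (G ⧸ Cfsg.pCore p G) = ⊥ := pCore_quotient_pCore_eq_bot p
  have h1 := familyControlsTransferIn_at (famW_isConjugacyFunctor h𝓦 (G ⧸ Cfsg.pCore p G)) hquot
    le_top hSbp hSbidx
  have hterm : ∀ W ∈ 𝓦, Sb ⊓ ⁅(⊤ : Subgroup (G ⧸ Cfsg.pCore p G)) ⊓ Subgroup.normalizer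
      ((Cfsg.inducedFunctor W Sb : Subgroup (G ⧸ Cfsg.pCore p G)) : Set (G ⧸ Cfsg.pCore p G)),
      (⊤ : Subgroup (G ⧸ Cfsg.pCore p G)) ⊓ Subgroup.normalizer
      ((Cfsg.inducedFunctor W Sb : Subgroup (G ⧸ Cfsg.pCore p G)) : Set (G ⧸ Cfsg.pCore p G))⁆ ≤
      (focalTarget (FamW 𝓦 G) (S : Subgroup G)).map f := by
    intro W hW
    have hWf := isConjugacyFunctor_inducedFunctor (h𝓦 W hW) (G ⧸ Cfsg.pCore p G)
    obtain ⟨H, hH⟩ : ∃ H : Subgroup G, H = (Subgroup.normalizer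
      ((Cfsg.inducedFunctor W Sb : Subgroup (G ⧸ Cfsg.pCore p G)) : Set (G ⧸ Cfsg.pCore p G))).comap f :=
      ⟨_, rfl⟩
    have hHtop : H ≠ ⊤ := by
      intro htop
      have hnorm : (Cfsg.inducedFunctor W Sb : Subgroup (G ⧸ Cfsg.pCore p G)).Normal := by
        rw [← Subgroup.normalizer_eq_top_iff, eq_top_iff]
        intro y _
        obtain ⟨x, rfl⟩ := hfs y
        have : x ∈ H := htop ▸ Subgroup.mem_top x
        rw [hH] at this
        exact this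
      have hle : Cfsg.inducedFunctor W Sb ≤ Cfsg.pCore p (G ⧸ Cfsg.pCore p G) :=
        le_pCore hnorm (hSbp.to_le (hWf Sb hSbp).1)
      rw [hcoreb, le_bot_iff] at hle
      exact (hWf Sb hSbp).2.1 hSb0 hle
    have hSH : (S : Subgroup G) ≤ H := by
      intro s hs
      rw [hH, Subgroup.mem_comap]
      apply normalizer_le_normalizer_functor hWf hSbp
      apply Subgroup.le_normalizer
      rw [hSb]
      exact ⟨s, hs, rfl⟩
    have hHmap : H.map f = Subgroup.normalizer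
        ((Cfsg.inducedFunctor W Sb : Subgroup (G ⧸ Cfsg.pCore p G)) : Set (G ⧸ Cfsg.pCore p G)) := by
      rw [hH]
      exact Subgroup.map_comap_eq_self_of_surjective hfs _
    rw [top_inf_eq, ← hHmap, ← Subgroup.map_commutator]
    rintro y' ⟨hy'S, ⟨h', hh', rfl⟩⟩
    rw [hSb] at hy'S
    obtain ⟨s, hs, hsh⟩ := hy'S
    have hq := hfeq _ _ hsh
    have hh'S : h' ∈ (S : Subgroup G) := by
      have := (S : Subgroup G).mul_mem hs (hQleS hq)
      rwa [mul_inv_cancel_left] at this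
    exact ⟨h', hsubT H hHtop hSH (Subgroup.mem_inf.mpr ⟨hh'S, hh'⟩), rfl⟩
  intro x hx
  obtain ⟨hxS, hxG⟩ := Subgroup.mem_inf.mp hx
  have hfx : f x ∈ Sb ⊓ ⁅(⊤ : Subgroup (G ⧸ Cfsg.pCore p G)), ⊤⁆ := by
    refine Subgroup.mem_inf.mpr ⟨hSb ▸ ⟨x, hxS, rfl⟩, ?_⟩
    have : (commutator G).map f ≤ commutator (G ⧸ Cfsg.pCore p G) := by
      unfold commutator
      rw [Subgroup.map_commutator]
      exact Subgroup.commutator_mono le_top le_top
    exact this ⟨x, hxG, rfl⟩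
  rw [h1] at hfx
  have hle : (⨆ W' ∈ FamW 𝓦 (G ⧸ Cfsg.pCore p G), Sb ⊓ ⁅(⊤ : Subgroup (G ⧸ Cfsg.pCore p G)) ⊓
      Subgroup.normalizer ((W' Sb : Subgroup (G ⧸ Cfsg.pCore p G)) : Set (G ⧸ Cfsg.pCore p G)),
      (⊤ : Subgroup (G ⧸ Cfsg.pCore p G)) ⊓ Subgroup.normalizer
      ((W' Sb : Subgroup (G ⧸ Cfsg.pCore p G)) : Set (G ⧸ Cfsg.pCore p G))⁆) ≤
      (focalTarget (FamW 𝓦 G) (S : Subgroup G)).map f := by
    unfold FamW
    rw [iSup_image]
    exact iSup₂_le hterm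
  obtain ⟨s₀, hs₀, hs₀x⟩ := hle hfx
  have hq := hfeq _ _ hs₀x
  have hqG : s₀⁻¹ * x ∈ commutator G :=
    Subgroup.mul_mem _ (Subgroup.inv_mem _ (focalTarget_le_commutator _ _ hs₀)) hxG
  have hqS' := inf_commutator_le_commutator_sylow S Q hQleS (hQ ▸ hfac) (Subgroup.mem_inf.mpr ⟨hq, hqG⟩)
  have := Subgroup.mul_mem _ hs₀ (hS' hqS')
  rwa [mul_inv_cancel_left] at this

end Cfsg.Agent.Helper33
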