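import Cfsg.Agent.Helper33.CSFProp
import Cfsg.Agent.Helper33.TransferFamily2

set_option autoImplicit false

universe u

namespace Cfsg.Agent.Helper33

variable {p : ℕ} {𝓦 : Set (∀ (Q : Type u) [Group Q], Subgroup Q)}

theorem map_normalizer_eq_range_inf {X Y : Type*} [Group X] [Group Y] (f : X →* Y)
    (hf : Function.Injective f) (V : Subgroup X) :
    (Subgroup.normalizer (V : Set X)).map f = f.range ⊓ Subgroup.normalizer ((V.map f : Subgroup Y) : Set Y) := by
  have h1 : (Subgroup.normalizer ((V.map f : Subgroup Y) : Set Y)).comap f =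
      Subgroup.normalizer (((V.map f).comap f : Subgroup X) : Set X) :=
    Subgroup.comap_normalizer_eq_of_le_range (Subgroup.map_le_range f V)
  rw [Subgroup.comap_map_eq_self_of_injective hf] at h1
  rw [← h1, Subgroup.map_comap_eq]

/-- Control of transfer by the family transports along an injective homomorphism, to its range. -/
theorem familyControlsTransferIn_range (h𝓦 : ∀ W ∈ 𝓦, Cfsg.IsCharPFunctor.{u} p W) {X Y : Type u}
    [Group X] [Group Y] [Finite X] (f : X →* Y) (hf : Function.Injective f)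
    (h : Cfsg.FamilyControlsTransferIn p (FamW 𝓦 X) ⊤) :
    Cfsg.FamilyControlsTransferIn p (FamW 𝓦 Y) f.range := by
  obtain ⟨T₀, -, hT₀p, hT₀idx, heq⟩ := h
  refine ⟨T₀.map f, Subgroup.map_le_range f T₀, hT₀p.map f, ?_, ?_⟩
  · rw [MonoidHom.range_eq_map, Subgroup.relIndex_map_map_of_injective _ _ hf]
    exact hT₀idx
  · have h1 := congrArg (Subgroup.map f) heq
    unfold FamW at h1 ⊢
    rw [iSup_image] at h1 ⊢
    rw [Subgroup.map_inf _ _ _ hf, Subgroup.map_commutator, ← MonoidHom.range_eq_map,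
      Subgroup.map_iSup] at h1
    rw [h1]
    apply iSup_congr
    intro W
    rw [Subgroup.map_iSup]
    apply iSup_congr
    intro hW
    rw [Subgroup.map_inf _ _ _ hf, Subgroup.map_commutator, top_inf_eq,
      map_normalizer_eq_range_inf f hf, inducedFunctor_map_of_injective (h𝓦 W hW) f hf T₀ hT₀p]

/-- The transfer analogue of `CSFProp`. -/
def CTFProp (p : ℕ) (𝓦 : Set (∀ (Q : Type u) [Group Q], Subgroup Q)) : ∀ (X : Type u) [Group X], Prop :=
  fun X _ => Finite X → Constrained p X → Cfsg.FamilyControlsTransferIn p (FamW 𝓦 X) ⊤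

theorem isoInvariant_CTFProp (h𝓦 : ∀ W ∈ 𝓦, Cfsg.IsCharPFunctor.{u} p W) :
    IsoInvariant (CTFProp p 𝓦) := by
  intro X Y _ _ φ h hY hcon
  have : Finite X := Finite.of_equiv Y φ.symm.toEquiv
  have h1 := familyControlsTransferIn_range h𝓦 φ.toMonoidHom φ.injective (h this (hcon.of_equiv φ.symm))
  have h2 : φ.toMonoidHom.range = ⊤ := MonoidHom.range_eq_top.mpr φ.surjective
  rwa [h2] at h1

theorem familyControlsTransferIn_of_subgroup (h𝓦 : ∀ W ∈ 𝓦, Cfsg.IsCharPFunctor.{u} p W)
    {G : Type u} [Group G] [Finite G] (H : Subgroup G)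
    (h : Cfsg.FamilyControlsTransferIn p (FamW 𝓦 ↥H) ⊤) :
    Cfsg.FamilyControlsTransferIn p (FamW 𝓦 G) H := by
  have h1 := familyControlsTransferIn_range h𝓦 H.subtype H.subtype_injective h
  rwa [Subgroup.range_subtype] at h1

/-- The target subgroup `S₀ = ⟨S ∩ N_G(W(S))' : W ∈ 𝓦⟩`. -/
def focalTarget {G : Type*} [Group G] (𝓦' : Set (Subgroup G → Subgroup G)) (S : Subgroup G) : Subgroup G :=
  ⨆ W ∈ 𝓦', S ⊓ ⁅Subgroup.normalizer ((W S : Subgroup G) : Set G),
    Subgroup.normalizer ((W S : Subgroup G) : Set G)⁆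

/-- If the family controls transfer in the group `↥H` and `S ≤ H` is a Sylow `p`-subgroup, then
`S ∩ H' ≤ S₀`. -/
theorem inf_commutator_le_of_subgroup [Fact p.Prime] (h𝓦 : ∀ W ∈ 𝓦, Cfsg.IsCharPFunctor.{u} p W)
    {G : Type u} [Group G] [Finite G] (H : Subgroup G)
    (h : Cfsg.FamilyControlsTransferIn p (FamW 𝓦 ↥H) ⊤) {S : Subgroup G} (hSH : S ≤ H)
    (hSp : IsPGroup p S) (hSidx : ¬ p ∣ S.index) :
    S ⊓ ⁅H, H⁆ ≤ focalTarget (FamW 𝓦 G) S := by
  have h1 := familyControlsTransferIn_at (famW_isConjugacyFunctor h𝓦 G)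
    (familyControlsTransferIn_of_subgroup h𝓦 H h) hSH hSp
    (fun hd => hSidx (hd.trans (Subgroup.relIndex_dvd_index_of_le hSH)))
  rw [h1]
  unfold focalTarget
  refine iSup₂_mono ?_
  intro W _
  exact inf_le_inf_left _ (Subgroup.commutator_mono inf_le_right inf_le_right)

end Cfsg.Agent.Helper33
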