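import Cfsg.Agent.Lib.HW0
import Cfsg.Agent.Lib.PT2
import Cfsg.Agent.Helper33.FusMisc
import Cfsg.Agent.Helper33.SylowSub

set_option autoImplicit false

namespace Cfsg.Agent.Helper33

open Finset Cfsg.Agent.Lib.PT Cfsg.Agent.Lib.HW

section Abstract

variable {G : Type*} [Group G] {Ω : Type*} [MulAction G Ω] {A : Type*} [CommGroup A]

/-- Equivariance of a cocycle on elements acting trivially. -/
theorem IsCoc.smul_of_fixed {c : G → Ω → A} (hc : IsCoc c) (w g : G) (ω : Ω)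
    (hfix : (g⁻¹ * w * g) • ω = ω) : c w (g • ω) = c (g⁻¹ * w * g) ω := by
  have h1 := hc w g ω
  have h2 := hc g (g⁻¹ * w * g) ω
  have e : g * (g⁻¹ * w * g) = w * g := by group
  rw [e, hfix] at h2
  rw [h1] at h2
  rw [mul_comm (c g ω)] at h2
  exact mul_right_cancel h2

/-- Multiplicativity of a cocycle in the first variable when the second factor fixes the point. -/
theorem IsCoc.mul_of_fixed {c : G → Ω → A} (hc : IsCoc c) (w w' : G) (ω : Ω)
    (hfix : w' • ω = ω) : c (w * w') ω = c w ω * c w' ω := by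
  rw [hc w w' ω, hfix]

open Classical in
/-- The orbit computation: a nontrivial orbit of the `p`-group `R = ⟨𝒵⟩` contributes trivially to the
product of `c y`, when `y` lies in a normal subgroup `P` acting trivially and the iterated commutators
`[y, z; p-1]`, `z ∈ 𝒵`, are killed by the cocycle. -/
theorem orbit_prod_eq_one [Finite G] [Fintype Ω] [DecidableEq Ω] {p : ℕ} [hp : Fact p.Prime]
    (hA : ∀ a : A, a ^ p = 1) {c : G → Ω → A} (hc : IsCoc c)
    (P : Subgroup G) [hPn : P.Normal] (hPfix : ∀ w ∈ P, ∀ ω : Ω, w • ω = ω)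
    (R : Subgroup G) (hRp : IsPGroup p R) (𝒵 : Set G) (hR : R = Subgroup.closure 𝒵)
    (y : G) (hy : y ∈ P)
    (hkill : ∀ z ∈ 𝒵, ∀ ω : Ω, c ((fun v : G => v⁻¹ * z⁻¹ * v * z)^[p - 1] y) ω = 1)
    (ω : Ω) (hω : ∃ r ∈ R, r • ω ≠ ω) :
    ∏ a ∈ univ.filter (fun a => ∃ r ∈ R, r • ω = a), c y a = 1 := by
  classical
  -- the stabilizer of `ω` in `R` and a maximal subgroup above it
  obtain ⟨St, hSt⟩ : ∃ St : Subgroup ↥R, St = MulAction.stabilizer ↥R ω := ⟨_, rfl⟩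
  have hStne : St ≠ ⊤ := by
    intro htop
    obtain ⟨r, hr, hrω⟩ := hω
    apply hrω
    have : (⟨r, hr⟩ : ↥R) ∈ St := htop ▸ Subgroup.mem_top _
    rw [hSt, MulAction.mem_stabilizer_iff] at this
    exact this
  obtain ⟨R₁, hR₁n, hR₁i, hle⟩ := exists_normal_index_p (X := ↥R) hRp St hStne
  -- an element of `𝒵` outside `R₁`
  have h𝒵R : 𝒵 ⊆ (R : Set G) := hR ▸ Subgroup.subset_closure
  obtain ⟨z, hz𝒵, hzR₁⟩ : ∃ z, ∃ hz : z ∈ 𝒵, (⟨z, h𝒵R hz⟩ : ↥R) ∉ R₁ := by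
    by_contra hcon
    push Not at hcon
    have hle' : R ≤ R₁.map R.subtype := by
      have h1 : Subgroup.closure 𝒵 ≤ R₁.map R.subtype := by
        rw [Subgroup.closure_le]
        intro z hz
        exact ⟨⟨z, h𝒵R hz⟩, hcon z hz, rfl⟩
      exact hR.le.trans h1
    have htop : R₁ = ⊤ := by
      rw [eq_top_iff]
      intro r _
      obtain ⟨r', hr', hrr'⟩ := hle' r.2
      have : r' = r := Subtype.ext hrr'
      rw [← this]; exact hr'
    rw [htop, Subgroup.index_top] at hR₁i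
    exact hp.1.one_lt.ne hR₁i
  have hzR : z ∈ R := h𝒵R hz𝒵
  -- the quotient `R / R₁` is cyclic of order `p`, generated by the image of `z`
  have hcardQ : Nat.card (↥R ⧸ R₁) = p := by rw [← Subgroup.index_eq_card]; exact hR₁i
  obtain ⟨zb, hzb⟩ : ∃ zb : ↥R ⧸ R₁, zb = ((⟨z, hzR⟩ : ↥R) : ↥R ⧸ R₁) := ⟨_, rfl⟩
  have hzb1 : zb ≠ 1 := by
    rw [hzb]; intro h; exact hzR₁ ((QuotientGroup.eq_one_iff _).mp h)
  have hzbp : zb ^ p = 1 := by rw [← hcardQ]; exact pow_card_eq_one'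
  have hord : orderOf zb = p := orderOf_eq_prime hzbp hzb1
  have hgen : ∀ q : ↥R ⧸ R₁, ∃ j < p, q = zb ^ j := by
    intro q
    have : Fact (Nat.card (↥R ⧸ R₁)).Prime := by rw [hcardQ]; exact hp
    have htop : Subgroup.zpowers zb = ⊤ := by
      rcases Subgroup.eq_bot_or_eq_top_of_prime_card (Subgroup.zpowers zb) with h | h
      · exfalso
        apply hzb1
        have : zb ∈ Subgroup.zpowers zb := Subgroup.mem_zpowers zb
        rw [h, Subgroup.mem_bot] at this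
        exact this
      · exact h
    have hq : q ∈ Subgroup.zpowers zb := htop ▸ Subgroup.mem_top q
    rw [← mem_powers_iff_mem_zpowers] at hq
    obtain ⟨n, rfl⟩ := hq
    refine ⟨n % p, Nat.mod_lt _ hp.1.pos, ?_⟩
    rw [← hord, pow_mod_orderOf]
  have hzpow : ∀ j : ℕ, (((⟨z, hzR⟩ : ↥R) ^ j : ↥R) : G) = z ^ j := fun j => rfl
  -- the `R₁`-orbit of `ω`
  obtain ⟨O₁, hO₁⟩ : ∃ O₁ : Finset Ω,
    O₁ = univ.filter (fun a => ∃ r : ↥R, r ∈ R₁ ∧ (r : G) • ω = a) := ⟨_, rfl⟩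
  have hmemO₁ : ∀ a, a ∈ O₁ ↔ ∃ r : ↥R, r ∈ R₁ ∧ (r : G) • ω = a := by
    intro a; rw [hO₁]; simp
  have hO : univ.filter (fun a => ∃ r ∈ R, r • ω = a) =
      (range p).biUnion (fun j => O₁.image (fun a => z ^ j • a)) := by
    ext a
    simp only [mem_filter, mem_univ, true_and, mem_biUnion, mem_range, mem_image]
    constructor
    · rintro ⟨r, hr, rfl⟩
      obtain ⟨j, hj, hq⟩ := hgen ((⟨r, hr⟩ : ↥R) : ↥R ⧸ R₁)
      have hmem : ((⟨z, hzR⟩ : ↥R) ^ j)⁻¹ * ⟨r, hr⟩ ∈ R₁ := by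
        rw [← QuotientGroup.eq, QuotientGroup.mk_pow, ← hzb, hq]
      refine ⟨j, hj, ((z ^ j)⁻¹ * r) • ω, (hmemO₁ _).mpr ⟨_, hmem, rfl⟩, ?_⟩
      rw [← mul_smul, mul_inv_cancel_left]
    · rintro ⟨j, _, b, hb, rfl⟩
      obtain ⟨r₁, _, rfl⟩ := (hmemO₁ b).mp hb
      refine ⟨z ^ j * r₁, R.mul_mem (R.pow_mem hzR j) r₁.2, ?_⟩
      rw [mul_smul]
  have hdisj : ((range p : Finset ℕ) : Set ℕ).PairwiseDisjoint
      (fun j => O₁.image (fun a => z ^ j • a)) := by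
    intro i hi j hj hij
    rw [Function.onFun, Finset.disjoint_left]
    intro a hai haj
    apply hij
    rw [mem_coe, mem_range] at hi hj
    obtain ⟨b, hb, rfl⟩ := mem_image.mp hai
    obtain ⟨b', hb', hbb'⟩ := mem_image.mp haj
    obtain ⟨r₁, hr₁, rfl⟩ := (hmemO₁ b).mp hb
    obtain ⟨r₁', hr₁', rfl⟩ := (hmemO₁ b').mp hb'
    have hst : ((⟨z, hzR⟩ : ↥R) ^ i * r₁)⁻¹ * ((⟨z, hzR⟩ : ↥R) ^ j * r₁') ∈ St := by
      rw [hSt, MulAction.mem_stabilizer_iff]
      show ((((⟨z, hzR⟩ : ↥R) ^ i * r₁)⁻¹ * ((⟨z, hzR⟩ : ↥R) ^ j * r₁') : ↥R) : G) • ω = ω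
      have e : ((((⟨z, hzR⟩ : ↥R) ^ i * r₁)⁻¹ * ((⟨z, hzR⟩ : ↥R) ^ j * r₁') : ↥R) : G) =
          (z ^ i * (r₁ : G))⁻¹ * (z ^ j * (r₁' : G)) := rfl
      rw [e, mul_smul, mul_smul (z ^ j), hbb', ← mul_smul (z ^ i), inv_smul_smul]
    have hq := hle hst
    rw [← QuotientGroup.eq, QuotientGroup.mk_mul, QuotientGroup.mk_mul, QuotientGroup.mk_pow,
      QuotientGroup.mk_pow, ← hzb, (QuotientGroup.eq_one_iff r₁).mpr hr₁,
      (QuotientGroup.eq_one_iff r₁').mpr hr₁', mul_one, mul_one] at hq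
    have := (pow_eq_pow_iff_modEq).mp hq
    rw [hord] at this
    exact Nat.ModEq.eq_of_lt_of_lt this hi hj
  -- the partial transfer over `O₁`
  obtain ⟨ν, hν⟩ : ∃ ν : G → A, ν = fun w => ∏ a ∈ O₁, c w a := ⟨_, rfl⟩
  have hνmul : ∀ a ∈ P, ∀ b ∈ P, ν (a * b) = ν a * ν b := by
    intro a _ b hb
    rw [hν]
    show ∏ x ∈ O₁, c (a * b) x = (∏ x ∈ O₁, c a x) * ∏ x ∈ O₁, c b x
    rw [← prod_mul_distrib]
    exact prod_congr rfl (fun x _ => IsCoc.mul_of_fixed hc a b x (hPfix b hb x))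
  have hzP : ∀ q ∈ P, z⁻¹ * q * z ∈ P := by
    intro q hq
    have := hPn.conj_mem q hq z⁻¹
    rwa [inv_inv] at this
  have hzjP : ∀ j : ℕ, (z ^ j)⁻¹ * y * z ^ j ∈ P := by
    intro j
    have := hPn.conj_mem y hy (z ^ j)⁻¹
    rwa [inv_inv] at this
  rw [hO, prod_biUnion hdisj]
  have hstep : ∀ j ∈ range p, ∏ a ∈ O₁.image (fun a => z ^ j • a), c y a =
      ν ((z ^ j)⁻¹ * y * z ^ j) := by
    intro j _
    rw [prod_image (fun a _ b _ hab => MulAction.injective (z ^ j) hab), hν]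
    apply prod_congr rfl
    intro a _
    exact IsCoc.smul_of_fixed hc y (z ^ j) a (hPfix _ (hzjP j) a)
  rw [prod_congr rfl hstep, iter_identity hA P ν hνmul z hzP y hy, hν]
  exact prod_eq_one (fun a _ => hkill z hz𝒵 a)

end Abstract

section Core

variable {G : Type*} [Group G]

/-- **Transfer with a unique fixed point.**  Let `lam : M →* A` with `A` of exponent `p`, `P ⊴ G` with
`P ≤ M`, and `R = ⟨𝒵⟩ ≤ M` a `p`-subgroup whose only fixed point on `G ⧸ M` is the trivial coset.  If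
`y ∈ P ∩ G'` and `lam` kills all conjugates of the iterated commutators `[y, z; p-1]`, `z ∈ 𝒵`, then
`lam y = 1`. -/
theorem transfer_eq_one_of_unique_fixed [Finite G] {p : ℕ} [hp : Fact p.Prime]
    {A : Type*} [CommGroup A] (hA : ∀ a : A, a ^ p = 1)
    (M : Subgroup G) (lam : M →* A)
    (P : Subgroup G) [hPn : P.Normal] (hPM : P ≤ M)
    (R : Subgroup G) (hRp : IsPGroup p R) (𝒵 : Set G) (hR : R = Subgroup.closure 𝒵)
    (hRM : R ≤ M)
    (hfix : ∀ g : G, (∀ r ∈ R, g⁻¹ * r * g ∈ M) → g ∈ M)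
    (y : G) (hyP : y ∈ P) (hyG : y ∈ commutator G)
    (hkill : ∀ z ∈ 𝒵, ∀ g : G,
      ext M lam (g⁻¹ * ((fun v : G => v⁻¹ * z⁻¹ * v * z)^[p - 1] y) * g) = 1) :
    ext M lam y = 1 := by
  classical
  have : Fintype (G ⧸ M) := Fintype.ofFinite _
  obtain ⟨c, hc⟩ : ∃ c : G → G ⧸ M → A, c = coc M lam := ⟨_, rfl⟩
  have hcoc : IsCoc c := hc ▸ isCoc_coc M lam
  have hyM : y ∈ M := hPM hyP
  -- `P` acts trivially on `G ⧸ M`
  have hPfix : ∀ w ∈ P, ∀ ω : G ⧸ M, w • ω = ω := by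
    intro w hw ω
    induction ω using QuotientGroup.induction_on with
    | H k =>
      rw [smul_mk_eq_iff]
      apply hPM
      have := hPn.conj_mem w hw k⁻¹
      rwa [inv_inv] at this
  -- the full transfer kills `y`
  have hv : ∏ x : G ⧸ M, c y x = 1 := by
    let v : G →* A := MonoidHom.mk' (fun g => tau c univ g)
      (fun a b => tau_mul hcoc (fun x _ => mem_univ _))
    have : y ∈ v.ker := Abelianization.commutator_subset_ker v hyG
    exact this
  obtain ⟨x₁, hx₁⟩ : ∃ x₁ : G ⧸ M, x₁ = ((1 : G) : G ⧸ M) := ⟨_, rfl⟩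
  have hfix1 : ∀ g ∈ M, g • x₁ = x₁ := by
    intro g hg
    rw [hx₁, smul_mk_eq_iff]
    simpa using hg
  have hout1 : x₁.out ∈ M := by
    have h := QuotientGroup.out_eq' x₁
    have h' : ((x₁.out : G) : G ⧸ M) = ((1 : G) : G ⧸ M) := h.trans hx₁
    rw [QuotientGroup.eq] at h'
    have h'' := M.inv_mem h'
    simpa using h''
  have hc1 : c y x₁ = ext M lam y := by
    rw [hc, coc_fixed M lam (hfix1 y hyM)]
    exact ext_conj M lam hyM hout1
  -- the value of the cocycle on elements of `P`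
  have hcP : ∀ w ∈ P, ∀ ω : G ⧸ M, c w ω = ext M lam (ω.out⁻¹ * w * ω.out) := by
    intro w hw ω
    rw [hc, coc_fixed M lam (hPfix w hw ω)]
  have hiterP : ∀ z : G, ∀ n : ℕ, (fun v : G => v⁻¹ * z⁻¹ * v * z)^[n] y ∈ P := by
    intro z n
    induction n with
    | zero => exact hyP
    | succ n ih =>
      rw [Function.iterate_succ_apply']
      have h1 := hPn.conj_mem _ ih z⁻¹
      rw [inv_inv] at h1
      have h2 := P.mul_mem (P.inv_mem ih) h1
      have e : ((fun v : G => v⁻¹ * z⁻¹ * v * z)^[n] y)⁻¹ *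
          (z⁻¹ * (fun v : G => v⁻¹ * z⁻¹ * v * z)^[n] y * z) =
          ((fun v : G => v⁻¹ * z⁻¹ * v * z)^[n] y)⁻¹ * z⁻¹ *
            (fun v : G => v⁻¹ * z⁻¹ * v * z)^[n] y * z := by group
      rw [e] at h2
      exact h2
  have h1 : ∏ x ∈ univ.erase x₁, c y x = 1 := by
    apply prod_cancels_of_partition_cancels (MulAction.orbitRel R (G ⧸ M))
    intro x hx
    have hxne : x ≠ x₁ := (mem_erase.mp hx).1
    have hmoved : ∃ r ∈ R, r • x ≠ x := by
      by_contra hcon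
      push Not at hcon
      apply hxne
      have hxo : x.out ∈ M := by
        apply hfix
        intro r hr
        have := hcon r hr
        rw [← QuotientGroup.out_eq' x, smul_mk_eq_iff] at this
        simpa using this
      rw [hx₁, ← QuotientGroup.out_eq' x, QuotientGroup.eq]
      simpa using M.inv_mem hxo
    rw [← orbit_prod_eq_one hA hcoc P hPfix R hRp 𝒵 hR y hyP
      (fun z hz ω => by rw [hcP _ (hiterP z _) ω]; exact hkill z hz ω.out) x hmoved]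
    apply prod_congr _ (fun _ _ => rfl)
    ext a
    simp only [mem_filter, mem_erase, mem_univ, and_true, true_and]
    constructor
    · rintro ⟨_, h⟩
      rw [MulAction.orbitRel_apply, MulAction.mem_orbit_iff] at h
      obtain ⟨g, hg⟩ := h
      exact ⟨g.1, g.2, hg⟩
    · rintro ⟨g, hg, rfl⟩
      refine ⟨?_, ?_⟩
      · intro h
        apply hxne
        have h2 : g⁻¹ • (g • x) = g⁻¹ • x₁ := by rw [h]
        rw [inv_smul_smul, hfix1 g⁻¹ (M.inv_mem (hRM hg))] at h2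
        exact h2
      · rw [MulAction.orbitRel_apply, MulAction.mem_orbit_iff]
        exact ⟨⟨g, hg⟩, rfl⟩
  have h2 := mul_prod_erase univ (fun x => c y x) (mem_univ x₁)
  rw [h1, mul_one, hv] at h2
  rw [hc1] at h2
  exact h2

end Core

end Cfsg.Agent.Helper33
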