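import Mathlib.GroupTheory.Sylow
import Cfsg.Prelude.Def_PLocal

set_option autoImplicit false

namespace Cfsg.Agent.Helper33

variable {X : Type*} [Group X]

/-- The subgroup generated by the `M`-conjugates of the elements of `Z`. -/
def ncl (M Z : Subgroup X) : Subgroup X :=
  Subgroup.closure {x | ∃ m ∈ M, ∃ z ∈ Z, x = m * z * m⁻¹}

theorem conj_mem_ncl_gen {M Z : Subgroup X} {m z : X} (hm : m ∈ M) (hz : z ∈ Z) :
    m * z * m⁻¹ ∈ ncl M Z :=
  Subgroup.subset_closure ⟨m, hm, z, hz, rfl⟩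

theorem le_ncl (M Z : Subgroup X) : Z ≤ ncl M Z := by
  intro z hz
  have := conj_mem_ncl_gen (M := M) (Subgroup.one_mem M) hz
  rwa [one_mul, inv_one, mul_one] at this

theorem ncl_le {M Z B : Subgroup X} (h : ∀ m ∈ M, ∀ z ∈ Z, m * z * m⁻¹ ∈ B) : ncl M Z ≤ B := by
  unfold ncl
  rw [Subgroup.closure_le]
  rintro _ ⟨m, hm, z, hz, rfl⟩
  exact h m hm z hz

theorem ncl_mono_left {M M' : Subgroup X} (h : M ≤ M') (Z : Subgroup X) : ncl M Z ≤ ncl M' Z :=
  ncl_le fun _ hm _ hz => conj_mem_ncl_gen (h hm) hz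

/-- `M` normalizes `ncl M Z`. -/
theorem conj_mem_ncl {M Z : Subgroup X} {m x : X} (hm : m ∈ M) (hx : x ∈ ncl M Z) :
    m * x * m⁻¹ ∈ ncl M Z := by
  have : ncl M Z ≤ (ncl M Z).comap (MulAut.conj m).toMonoidHom := by
    apply ncl_le
    intro m' hm' z hz
    show (MulAut.conj m) (m' * z * m'⁻¹) ∈ ncl M Z
    rw [MulAut.conj_apply]
    have e : m * (m' * z * m'⁻¹) * m⁻¹ = (m * m') * z * (m * m')⁻¹ := by group
    rw [e]
    exact conj_mem_ncl_gen (M.mul_mem hm hm') hz
  have h2 := this hx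
  rwa [Subgroup.mem_comap, MulEquiv.coe_toMonoidHom, MulAut.conj_apply] at h2

theorem le_normalizer_ncl (M Z : Subgroup X) : M ≤ Subgroup.normalizer ((ncl M Z : Subgroup X) : Set X) := by
  intro m hm
  rw [Subgroup.mem_normalizer_iff]
  intro x
  constructor
  · exact conj_mem_ncl hm
  · intro h
    have := conj_mem_ncl (M.inv_mem hm) h
    have e : m⁻¹ * (m * x * m⁻¹) * m⁻¹⁻¹ = x := by group
    rwa [e] at this

theorem ncl_map {Y : Type*} [Group Y] (f : X →* Y) (M Z : Subgroup X) :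
    (ncl M Z).map f = ncl (M.map f) (Z.map f) := by
  apply le_antisymm
  · rw [Subgroup.map_le_iff_le_comap]
    apply ncl_le
    intro m hm z hz
    rw [Subgroup.mem_comap, map_mul, map_mul, map_inv]
    exact conj_mem_ncl_gen ⟨m, hm, rfl⟩ ⟨z, hz, rfl⟩
  · apply ncl_le
    rintro _ ⟨m, hm, rfl⟩ _ ⟨z, hz, rfl⟩
    exact ⟨m * z * m⁻¹, conj_mem_ncl_gen hm hz, by rw [map_mul, map_mul, map_inv]⟩

/-- If every element of `M` is a product of an element of `M'` and an element centralizing `Z`, then the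
`M`-conjugates of `Z` are `M'`-conjugates. -/
theorem ncl_le_of_factor {M M' Z : Subgroup X}
    (h : ∀ m ∈ M, ∃ m' ∈ M', ∃ c ∈ Subgroup.centralizer (Z : Set X), m = m' * c) :
    ncl M Z ≤ ncl M' Z := by
  apply ncl_le
  intro m hm z hz
  obtain ⟨m', hm', c, hc, rfl⟩ := h m hm
  have hcz : c * z * c⁻¹ = z := by
    rw [Subgroup.mem_centralizer_iff] at hc
    rw [← hc z hz, mul_assoc, mul_inv_cancel, mul_one]
  have e : m' * c * z * (m' * c)⁻¹ = m' * (c * z * c⁻¹) * m'⁻¹ := by group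
  rw [e, hcz]
  exact conj_mem_ncl_gen hm' hz

/-- The normal closure of `Z` in `N`, viewed in the ambient group. -/
theorem map_normalClosure_subgroupOf {N Z : Subgroup X} (hZN : Z ≤ N) :
    (Subgroup.normalClosure ((Z.subgroupOf N : Subgroup ↥N) : Set ↥N)).map N.subtype = ncl N Z := by
  apply le_antisymm
  · rw [Subgroup.map_le_iff_le_comap]
    have hn : ((ncl N Z).comap N.subtype).Normal := by
      constructor
      intro n hn g
      rw [Subgroup.mem_comap] at hn ⊢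
      exact conj_mem_ncl g.2 hn
    apply Subgroup.normalClosure_le_normal
    intro z hz
    have hz' : (z : X) ∈ Z := Subgroup.mem_subgroupOf.mp hz
    exact le_ncl N Z hz'
  · apply ncl_le
    intro m hm z hz
    refine ⟨⟨m, hm⟩ * ⟨z, hZN hz⟩ * (⟨m, hm⟩ : ↥N)⁻¹, ?_, rfl⟩
    apply Subgroup.normalClosure_normal.conj_mem
    apply Subgroup.subset_normalClosure
    exact Subgroup.mem_subgroupOf.mpr hz

end Cfsg.Agent.Helper33
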