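import Cfsg.Agent.Helper33.TripleInduction
import Cfsg.Agent.Helper33.FamilyFusion

set_option autoImplicit false

namespace Cfsg.Agent.Helper33

variable {G : Type*} [Group G]

/-- If a family of conjugacy functors controls strong fusion and all the normalizers `N(W(S))` lie in a
subgroup `N`, then `N` controls strong fusion in `S`. -/
theorem exists_mem_of_familyControls {p : ℕ} [Fact p.Prime] [Finite G] (S : Sylow p G)
    {𝓦 : Set (Subgroup G → Subgroup G)} (h𝓦 : ∀ W ∈ 𝓦, Cfsg.IsConjugacyFunctor p W)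
    (hctl : Cfsg.FamilyControlsStrongFusionIn p 𝓦 ⊤) (N : Subgroup G)
    (hN : ∀ W ∈ 𝓦, Subgroup.normalizer ((W (S : Subgroup G) : Subgroup G) : Set G) ≤ N)
    (B : Set G) (g : G) (hB : B ⊆ ((S : Subgroup G) : Set G))
    (hgB : ∀ b ∈ B, g * b * g⁻¹ ∈ (S : Subgroup G)) :
    ∃ y ∈ N, ∀ b ∈ B, y * b * y⁻¹ = g * b * g⁻¹ := by
  have hidx : ¬ p ∣ (S : Subgroup G).relIndex ⊤ := by
    rw [Subgroup.relIndex_top_right]; exact S.not_dvd_index
  obtain ⟨n, c, hc0, hcstep, _, hclast⟩ :=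
    familyControlsStrongFusionIn_at h𝓦 hctl le_top S.2 hidx B g (Subgroup.mem_top g) hB hgB
  have hall : ∀ (k : ℕ) (hk : k < n + 1), c ⟨k, hk⟩ ∈ N := by
    intro k
    induction k with
    | zero =>
      intro hk
      have : (⟨0, hk⟩ : Fin (n + 1)) = 0 := rfl
      rw [this, hc0]
      exact N.one_mem
    | succ k ih =>
      intro hk
      have hk' : k < n := Nat.lt_of_succ_lt_succ hk
      obtain ⟨W, hW, hmem⟩ := hcstep ⟨k, hk'⟩
      have h1 : c (⟨k, hk'⟩ : Fin n).succ * (c (⟨k, hk'⟩ : Fin n).castSucc)⁻¹ ∈ N :=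
        hN W hW (Subgroup.mem_inf.mp hmem).2
      have h2 : c (⟨k, hk'⟩ : Fin n).castSucc ∈ N := ih (Nat.lt_of_succ_lt hk)
      have h3 := N.mul_mem h1 h2
      rw [inv_mul_cancel_right] at h3
      exact h3
  exact ⟨c (Fin.last n), hall n (Nat.lt_succ_self n), hclast⟩

end Cfsg.Agent.Helper33
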