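import Cfsg.Agent.Helper33.TripleProp
import Cfsg.Agent.Helper33.FrattiniFusion
import Cfsg.Agent.Helper33.Tower

set_option autoImplicit false

universe u

namespace Cfsg.Agent.Helper33

open Cfsg.Agent.Lib

variable {p : ℕ} [hp : Fact p.Prime] {W₁ W₂ : ∀ (Q : Type u) [Group Q], Subgroup Q}

theorem eq_of_map_eq_of_injOn {X Y : Type*} [Group X] [Group Y] (f : X →* Y) {A B S : Subgroup X}
    (hA : A ≤ S) (hB : B ≤ S) (hinj : Set.InjOn f (S : Set X)) (h : A.map f = B.map f) : A = B := by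
  have key : ∀ {A B : Subgroup X}, A ≤ S → B ≤ S → A.map f = B.map f → A ≤ B := by
    intro A B hA hB h x hx
    have h1 : f x ∈ B.map f := h ▸ ⟨x, hx, rfl⟩
    obtain ⟨y, hy, hxy⟩ := h1
    have := hinj (hB hy) (hA hx) hxy
    rw [← this]; exact hy
  exact le_antisymm (key hA hB h) (key hB hA h.symm)

/-- One-sided step: if `V ≥ Z` is a normal `p`-subgroup, then the conjugates of `Z` under the whole group are
conjugates under `M`. -/
theorem ncl_top_le_of_normal {X : Type*} [Group X] [Finite X] (S : Sylow p X)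
    (hK0 : Cfsg.pPrimeCore p X = ⊥) (Z V M : Subgroup X) (hZV : Z ≤ V) (hVS : V ≤ (S : Subgroup X))
    (hVn : V.Normal)
    (hfac : Constrained p X →
      ∀ x : X, ∃ a ∈ Subgroup.centralizer ((Z : Subgroup X) : Set X), ∃ b ∈ M, x = a * b)
    (hsub : ∀ H : Subgroup X, H ≠ ⊤ → (S : Subgroup X) ≤ H → ncl H Z = ncl (H ⊓ M) Z) :
    ncl ⊤ Z = ncl M Z := by
  apply le_antisymm _ (ncl_mono_left le_top Z)
  have hZQ : Z ≤ Cfsg.pCore p X := hZV.trans (le_pCore hVn (S.2.to_le hVS))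
  obtain ⟨C, hC⟩ : ∃ C : Subgroup X,
    C = Subgroup.centralizer ((Cfsg.pCore p X : Subgroup X) : Set X) := ⟨_, rfl⟩
  have hCn : C.Normal := hC ▸ Subgroup.normal_centralizer
  have hCZ : C ≤ Subgroup.centralizer ((Z : Subgroup X) : Set X) := by
    rw [hC]
    exact Subgroup.centralizer_le hZQ
  by_cases hcon : Constrained p X
  · apply ncl_le_of_factor
    intro m _
    obtain ⟨a, ha, b, hb, hab⟩ := hfac hcon m⁻¹
    refine ⟨b⁻¹, M.inv_mem hb, a⁻¹, Subgroup.inv_mem _ ha, ?_⟩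
    rw [← mul_inv_rev, ← hab, inv_inv]
  · obtain ⟨H, hH⟩ : ∃ H : Subgroup X,
      H = Subgroup.normalizer (((S : Subgroup X) ⊓ C : Subgroup X) : Set X) := ⟨_, rfl⟩
    have hHtop : H ≠ ⊤ := by
      intro htop
      apply hcon
      have hn : ((S : Subgroup X) ⊓ C).Normal := Subgroup.normalizer_eq_top_iff.mp (hH ▸ htop)
      rw [hC] at hn
      exact centralizer_pCore_le_of_normal_inf S hK0 hn
    have hSH : (S : Subgroup X) ≤ H := by
      rw [hH]
      intro s hs
      apply mem_normalizer_of_conjR_subset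
      rintro _ ⟨x, hx, rfl⟩
      obtain ⟨hxS, hxC⟩ := Subgroup.mem_inf.mp hx
      refine Subgroup.mem_inf.mpr ⟨?_, ?_⟩
      · exact (S : Subgroup X).mul_mem ((S : Subgroup X).mul_mem ((S : Subgroup X).inv_mem hs) hxS) hs
      · have := hCn.conj_mem x hxC s⁻¹
        rwa [inv_inv] at this
    have h1 : ncl ⊤ Z ≤ ncl H Z := by
      apply ncl_le_of_factor
      intro m _
      obtain ⟨c, hcC, hn, _⟩ := exists_frattini_fusion S C ⊥ bot_le m⁻¹ (by
        rintro _ ⟨a, ha, rfl⟩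
        have ha' : a = 1 := by simpa using ha
        show m⁻¹⁻¹ * a * m⁻¹ ∈ (S : Subgroup X)
        rw [ha', mul_one, inv_mul_cancel]
        exact Subgroup.one_mem _)
      refine ⟨(c⁻¹ * m⁻¹)⁻¹, ?_, c⁻¹, hCZ (C.inv_mem hcC), by group⟩
      rw [hH]
      exact Subgroup.inv_mem _ hn
    calc ncl ⊤ Z ≤ ncl H Z := h1
      _ = ncl (H ⊓ M) Z := hsub H hHtop hSH
      _ ≤ ncl M Z := ncl_mono_left inf_le_right Z

/-- The key claim: the conjugates of `Ω₁Z(S)` under `N(W₁(S))` and under `N(W₂(S))` generate the same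
subgroup. -/
theorem ncl_NW_eq (hW₁ : Cfsg.IsCharPFunctor.{u} p W₁) (hW₂ : Cfsg.IsCharPFunctor.{u} p W₂) :
    ∀ (n : ℕ) (X : Type u) [Group X] [Finite X], Nat.card X = n → SectionProp (TFProp p W₁ W₂) X →
      ∀ S : Sylow p X, OZ p (S : Subgroup X) ≤
          Cfsg.inducedFunctor W₁ (S : Subgroup X) ⊓ Cfsg.inducedFunctor W₂ (S : Subgroup X) →
        ncl (NW W₁ (S : Subgroup X)) (OZ p (S : Subgroup X)) =
          ncl (NW W₂ (S : Subgroup X)) (OZ p (S : Subgroup X)) := by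
  intro n
  induction n using Nat.strong_induction_on with
  | _ n ih =>
  intro X _ _ hcard hsec S hZ0
  have hZ := le_inf_iff.mp hZ0
  have hΦ : IsoInvariant (TFProp p W₁ W₂) := isoInvariant_TFProp hW₁ hW₂
  have hcf₁ := isConjugacyFunctor_inducedFunctor hW₁ X
  have hcf₂ := isConjugacyFunctor_inducedFunctor hW₂ X
  have hV₁ : Cfsg.inducedFunctor W₁ (S : Subgroup X) ≤ (S : Subgroup X) := (hcf₁ _ S.2).1
  have hV₂ : Cfsg.inducedFunctor W₂ (S : Subgroup X) ≤ (S : Subgroup X) := (hcf₂ _ S.2).1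
  have hSN₁ : (S : Subgroup X) ≤ NW W₁ (S : Subgroup X) :=
    Subgroup.le_normalizer.trans (normalizer_le_normalizer_functor hcf₁ S.2)
  have hSN₂ : (S : Subgroup X) ≤ NW W₂ (S : Subgroup X) :=
    Subgroup.le_normalizer.trans (normalizer_le_normalizer_functor hcf₂ S.2)
  have hZC₁ : OZ p (S : Subgroup X) ≤
      Subgroup.centralizer ((Cfsg.inducedFunctor W₁ (S : Subgroup X) : Subgroup X) : Set X) :=
    (OZ_le_centralizer p _).trans (Subgroup.centralizer_le hV₁)
  have hZC₂ : OZ p (S : Subgroup X) ≤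
      Subgroup.centralizer ((Cfsg.inducedFunctor W₂ (S : Subgroup X) : Subgroup X) : Set X) :=
    (OZ_le_centralizer p _).trans (Subgroup.centralizer_le hV₂)
  have hA₁ : ncl (NW W₁ (S : Subgroup X)) (OZ p (S : Subgroup X)) ≤ (S : Subgroup X) :=
    (ncl_isElementaryAbelian (p := p) hZ.1 le_rfl hZC₁ (fun z hz => pow_eq_one_of_mem_OZ z hz)).1.trans hV₁
  have hA₂ : ncl (NW W₂ (S : Subgroup X)) (OZ p (S : Subgroup X)) ≤ (S : Subgroup X) :=
    (ncl_isElementaryAbelian (p := p) hZ.2 le_rfl hZC₂ (fun z hz => pow_eq_one_of_mem_OZ z hz)).1.trans hV₂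
  -- Step 1: reduce to `O_{p'}(X) = 1`
  by_cases hK0 : Cfsg.pPrimeCore p X = ⊥
  swap
  · obtain ⟨K, hK⟩ : ∃ K : Subgroup X, K = Cfsg.pPrimeCore p X := ⟨_, rfl⟩
    have hKn : K.Normal := hK ▸ inferInstance
    have hKcop : (Nat.card K).Coprime p := hK ▸ card_pPrimeCore_coprime p
    have hKbot : K ≠ ⊥ := hK ▸ hK0
    have hlt : Nat.card (X ⧸ K) < n := by
      have h1 := Subgroup.card_eq_card_quotient_mul_card_subgroup K
      have h2 : 1 < Nat.card K := (Subgroup.one_lt_card_iff_ne_bot K).mpr hKbot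
      have h3 : 0 < Nat.card (X ⧸ K) := Nat.card_pos
      rw [← hcard, h1]
      nlinarith
    obtain ⟨f, hf⟩ : ∃ f : X →* X ⧸ K, f = QuotientGroup.mk' K := ⟨_, rfl⟩
    have hfs : Function.Surjective f := hf ▸ QuotientGroup.mk'_surjective K
    have hker : f.ker = K := by rw [hf]; exact QuotientGroup.ker_mk' K
    have hSK : (S : Subgroup X) ⊓ K = ⊥ := by
      apply (Subgroup.disjoint_of_coprime_natCard ?_).eq_bot
      obtain ⟨k, hk⟩ := IsPGroup.iff_card.mp S.2
      rw [hk]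
      exact (Nat.Coprime.pow_left k hKcop.symm)
    have hinj : Set.InjOn f ((S : Subgroup X) : Set X) := by
      intro a ha b hb hab
      have h1 : a⁻¹ * b ∈ f.ker := by
        rw [MonoidHom.mem_ker, map_mul, map_inv, hab, inv_mul_cancel]
      rw [hker] at h1
      have h2 : a⁻¹ * b ∈ (S : Subgroup X) ⊓ K :=
        Subgroup.mem_inf.mpr ⟨(S : Subgroup X).mul_mem ((S : Subgroup X).inv_mem ha) hb, h1⟩
      rw [hSK, Subgroup.mem_bot] at h2
      exact inv_mul_eq_one.mp h2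
    obtain ⟨S', hS'⟩ : ∃ S' : Sylow p (X ⧸ K), (S' : Subgroup (X ⧸ K)) = (S : Subgroup X).map f :=
      ⟨S.mapSurjective hfs, Sylow.coe_mapSurjective _ _⟩
    have hZ' : OZ p (S' : Subgroup (X ⧸ K)) ≤
        Cfsg.inducedFunctor W₁ (S' : Subgroup (X ⧸ K)) ⊓ Cfsg.inducedFunctor W₂ (S' : Subgroup (X ⧸ K)) := by
      rw [hS', ← OZ_map_of_injOn p f _ hinj, inducedFunctor_map_of_injOn hW₁ f _ S.2 hinj,
        inducedFunctor_map_of_injOn hW₂ f _ S.2 hinj]
      exact le_inf (Subgroup.map_mono hZ.1) (Subgroup.map_mono hZ.2)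
    have key := ih _ hlt (X ⧸ K) rfl (hsec.quotient hΦ K) S' hZ'
    rw [hS', ← ncl_NW_map_of_coprime_ker hW₁ f hfs (hker.symm ▸ hKcop) _ S.2 hinj,
      ← ncl_NW_map_of_coprime_ker hW₂ f hfs (hker.symm ▸ hKcop) _ S.2 hinj] at key
    exact eq_of_map_eq_of_injOn f hA₁ hA₂ hinj key
  -- Step 2: the claim in proper subgroups containing `S`
  have hsub : ∀ H : Subgroup X, H ≠ ⊤ → (S : Subgroup X) ≤ H →
      ncl (H ⊓ NW W₁ (S : Subgroup X)) (OZ p (S : Subgroup X)) =
        ncl (H ⊓ NW W₂ (S : Subgroup X)) (OZ p (S : Subgroup X)) := by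
    intro H hH hSH
    have hlt : Nat.card H < n := by
      rw [← hcard]
      have := card_lt_card_of_lt' (lt_top_iff_ne_top.mpr hH)
      rwa [Subgroup.card_top] at this
    obtain ⟨S', hS'⟩ : ∃ S' : Sylow p ↥H, (S' : Subgroup ↥H) = (S : Subgroup X).subgroupOf H :=
      ⟨S.subtype hSH, Sylow.coe_subtype _ _⟩
    have hZ' : OZ p (S' : Subgroup ↥H) ≤
        Cfsg.inducedFunctor W₁ (S' : Subgroup ↥H) ⊓ Cfsg.inducedFunctor W₂ (S' : Subgroup ↥H) := by
      rw [hS']
      refine le_inf ?_ ?_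
      · rw [← Subgroup.map_le_map_iff_of_injective H.subtype_injective, OZ_subgroupOf p H _ hSH,
          inducedFunctor_subgroupOf hW₁ H _ S.2 hSH]
        exact hZ.1
      · rw [← Subgroup.map_le_map_iff_of_injective H.subtype_injective, OZ_subgroupOf p H _ hSH,
          inducedFunctor_subgroupOf hW₂ H _ S.2 hSH]
        exact hZ.2
    have key := ih _ hlt ↥H rfl (hsec.subgroup hΦ H) S' hZ'
    rw [hS'] at key
    have key' := congrArg (Subgroup.map H.subtype) key
    rwa [ncl_NW_map_subtype hW₁ H _ S.2 hSH, ncl_NW_map_subtype hW₂ H _ S.2 hSH] at key'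
  -- Step 3: case analysis
  have hTF := hsec.self hΦ inferInstance
  by_cases h1 : NW W₁ (S : Subgroup X) = ⊤
  · by_cases h2 : NW W₂ (S : Subgroup X) = ⊤
    · rw [h1, h2]
    · rw [h1]
      have hVn : (Cfsg.inducedFunctor W₁ (S : Subgroup X)).Normal :=
        Subgroup.normalizer_eq_top_iff.mp h1
      apply ncl_top_le_of_normal S hK0 _ _ _ hZ.1 hV₁ hVn
      · intro hcon
        exact (hTF hcon S).2
      · intro H hH hSH
        have := hsub H hH hSH
        rwa [h1, inf_top_eq] at this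
  · by_cases h2 : NW W₂ (S : Subgroup X) = ⊤
    · rw [h2]
      have hVn : (Cfsg.inducedFunctor W₂ (S : Subgroup X)).Normal :=
        Subgroup.normalizer_eq_top_iff.mp h2
      symm
      apply ncl_top_le_of_normal S hK0 _ _ _ hZ.2 hV₂ hVn
      · intro hcon
        exact (hTF hcon S).1
      · intro H hH hSH
        have := hsub H hH hSH
        rw [h2, inf_top_eq] at this
        exact this.symm
    · have a := hsub _ h1 hSN₁
      have b := hsub _ h2 hSN₂
      rw [inf_idem] at a b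
      rw [a, inf_comm, b]

end Cfsg.Agent.Helper33
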