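import Cfsg.Agent.Helper33.TripleBasic
import Cfsg.Prelude.Def_Transfer

set_option autoImplicit false

namespace Cfsg.Agent.Helper33

variable {X : Type*} [Group X]

/-- `Ω₁(Z(P))`: the subgroup generated by the central elements of `P` of order dividing `p`. -/
def OZ (p : ℕ) (P : Subgroup X) : Subgroup X :=
  Cfsg.omegaOne p (P ⊓ Subgroup.centralizer (P : Set X))

theorem OZ_le (p : ℕ) (P : Subgroup X) : OZ p P ≤ P := by
  unfold OZ Cfsg.omegaOne
  rw [Subgroup.closure_le]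
  intro x hx
  exact (Subgroup.mem_inf.mp hx.1).1

theorem OZ_le_centralizer (p : ℕ) (P : Subgroup X) : OZ p P ≤ Subgroup.centralizer (P : Set X) := by
  unfold OZ Cfsg.omegaOne
  rw [Subgroup.closure_le]
  intro x hx
  exact (Subgroup.mem_inf.mp hx.1).2

/-- In a subgroup generated by pairwise commuting elements of order dividing `p`, every element has order
dividing `p`. -/
theorem pow_eq_one_of_mem_closure_comm {p : ℕ} {T : Set X} (hc : ∀ a ∈ T, ∀ b ∈ T, a * b = b * a)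
    (hp : ∀ a ∈ T, a ^ p = 1) : ∀ x ∈ Subgroup.closure T, x ^ p = 1 := by
  have hcomm := Subgroup.isMulCommutative_closure hc
  intro x hx
  induction hx using Subgroup.closure_induction with
  | mem x hx => exact hp x hx
  | one => exact one_pow p
  | mul x y hx hy ihx ihy =>
    have hxy : Commute x y := setLike_mul_comm hx hy
    rw [hxy.mul_pow, ihx, ihy, one_mul]
  | inv x hx ihx => rw [inv_pow, ihx, inv_one]

theorem pow_eq_one_of_mem_OZ {p : ℕ} {P : Subgroup X} : ∀ z ∈ OZ p P, z ^ p = 1 := by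
  unfold OZ Cfsg.omegaOne
  apply pow_eq_one_of_mem_closure_comm
  · intro a ha b hb
    have h1 := (Subgroup.mem_inf.mp hb.1).2
    rw [Subgroup.mem_centralizer_iff] at h1
    exact h1 a (Subgroup.mem_inf.mp ha.1).1
  · intro a ha
    exact ha.2

/-- `Ω₁Z` commutes with homomorphisms injective on the subgroup. -/
theorem OZ_map_of_injOn {Y : Type*} [Group Y] (p : ℕ) (f : X →* Y) (P : Subgroup X)
    (hf : Set.InjOn f (P : Set X)) : (OZ p P).map f = OZ p (P.map f) := by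
  unfold OZ Cfsg.omegaOne
  rw [MonoidHom.map_closure]
  congr 1
  ext y
  constructor
  · rintro ⟨x, ⟨hx, hxp⟩, rfl⟩
    obtain ⟨hxP, hxC⟩ := Subgroup.mem_inf.mp hx
    refine ⟨Subgroup.mem_inf.mpr ⟨⟨x, hxP, rfl⟩, ?_⟩, by rw [← map_pow, hxp, map_one]⟩
    rw [Subgroup.mem_centralizer_iff]
    rintro _ ⟨s, hs, rfl⟩
    rw [Subgroup.mem_centralizer_iff] at hxC
    rw [← map_mul, ← map_mul, hxC s hs]
  · rintro ⟨hy, hyp⟩
    obtain ⟨⟨x, hxP, rfl⟩, hyC⟩ := Subgroup.mem_inf.mp hy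
    refine ⟨x, ⟨Subgroup.mem_inf.mpr ⟨hxP, ?_⟩, ?_⟩, rfl⟩
    · rw [Subgroup.mem_centralizer_iff]
      intro s hs
      rw [Subgroup.mem_centralizer_iff] at hyC
      have := hyC (f s) ⟨s, hs, rfl⟩
      rw [← map_mul, ← map_mul] at this
      exact hf (P.mul_mem hs hxP) (P.mul_mem hxP hs) this
    · apply hf (P.pow_mem hxP p) P.one_mem
      rw [map_pow, hyp, map_one]

/-- The `M`-conjugates of a subgroup `Z` of exponent `p`, contained in and centralizing an `M`-invariant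
subgroup `V`, generate an elementary abelian subgroup of `V`. -/
theorem ncl_isElementaryAbelian {p : ℕ} {M Z V : Subgroup X} (hZV : Z ≤ V)
    (hMV : M ≤ Subgroup.normalizer (V : Set X)) (hZC : Z ≤ Subgroup.centralizer (V : Set X))
    (hZp : ∀ z ∈ Z, z ^ p = 1) : ncl M Z ≤ V ∧ Cfsg.IsElementaryAbelian p (ncl M Z) := by
  have hgV : ∀ m ∈ M, ∀ z ∈ Z, m * z * m⁻¹ ∈ V := fun m hm z hz =>
    (Subgroup.mem_normalizer_iff.mp (hMV hm) z).mp (hZV hz)
  have hgC : ∀ m ∈ M, ∀ z ∈ Z, ∀ v ∈ V, v * (m * z * m⁻¹) = (m * z * m⁻¹) * v := by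
    intro m hm z hz v hv
    have h1 : m⁻¹ * v * m⁻¹⁻¹ ∈ V :=
      (Subgroup.mem_normalizer_iff.mp (Subgroup.inv_mem _ (hMV hm)) v).mp hv
    have h2 := hZC hz
    rw [Subgroup.mem_centralizer_iff] at h2
    have h3 := h2 _ h1
    rw [inv_inv] at h3
    calc v * (m * z * m⁻¹) = m * ((m⁻¹ * v * m) * z) * m⁻¹ := by group
      _ = m * (z * (m⁻¹ * v * m)) * m⁻¹ := by rw [h3]
      _ = (m * z * m⁻¹) * v := by group
  refine ⟨ncl_le hgV, ?_, ?_⟩
  · unfold ncl
    apply Subgroup.isMulCommutative_closure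
    rintro _ ⟨m, hm, z, hz, rfl⟩ _ ⟨m', hm', z', hz', rfl⟩
    exact hgC m' hm' z' hz' _ (hgV m hm z hz)
  · unfold ncl
    apply pow_eq_one_of_mem_closure_comm
    · rintro _ ⟨m, hm, z, hz, rfl⟩ _ ⟨m', hm', z', hz', rfl⟩
      exact hgC m' hm' z' hz' _ (hgV m hm z hz)
    · rintro _ ⟨m, hm, z, hz, rfl⟩
      rw [conj_pow, hZp z hz, mul_one, mul_inv_cancel]

end Cfsg.Agent.Helper33
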