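import Cfsg.Agent.Helper33.TripleTransport
import Cfsg.Agent.Helper33.Sections
import Cfsg.Agent.Helper33.ConstrainedLemmas

set_option autoImplicit false

universe u

namespace Cfsg.Agent.Helper33

variable {p : ℕ} {W W₁ W₂ : ∀ (Q : Type u) [Group Q], Subgroup Q}

/-- The factorization `X = C_X(Ω₁Z(T)) N_X(W(T))`. -/
def CNFac (p : ℕ) (W : ∀ (Q : Type u) [Group Q], Subgroup Q) {X : Type u} [Group X]
    (T : Subgroup X) : Prop :=
  ∀ x : X, ∃ a ∈ Subgroup.centralizer ((OZ p T : Subgroup X) : Set X), ∃ b ∈ NW W T, x = a * b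

theorem CNFac.of_equiv (hW : Cfsg.IsCharPFunctor.{u} p W) {X Y : Type u} [Group X] [Group Y]
    (φ : X ≃* Y) (T : Subgroup X) [Finite T] (hT : IsPGroup p T) (h : CNFac p W T) :
    CNFac p W (T.map φ.toMonoidHom) := by
  intro y
  obtain ⟨a, ha, b, hb, hab⟩ := h (φ.symm y)
  refine ⟨φ a, ?_, φ b, ?_, ?_⟩
  · rw [← OZ_map_of_injOn p φ.toMonoidHom T φ.injective.injOn, Subgroup.mem_centralizer_iff]
    rintro _ ⟨z, hz, rfl⟩
    rw [Subgroup.mem_centralizer_iff] at ha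
    show φ z * φ a = φ a * φ z
    rw [← map_mul, ← map_mul, ha z hz]
  · unfold NW at hb ⊢
    rw [inducedFunctor_map_of_injective hW φ.toMonoidHom φ.injective T hT]
    exact Subgroup.le_normalizer_map φ.toMonoidHom ⟨b, hb, rfl⟩
  · rw [← map_mul, ← hab, MulEquiv.apply_symm_apply]

/-- Constrained groups have the two factorizations `C(Ω₁Z(T)) N(W_i(T))`. -/
def TFProp (p : ℕ) (W₁ W₂ : ∀ (Q : Type u) [Group Q], Subgroup Q) :
    ∀ (X : Type u) [Group X], Prop :=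
  fun X _ => Finite X → Constrained p X → ∀ T : Sylow p X,
    CNFac p W₁ (T : Subgroup X) ∧ CNFac p W₂ (T : Subgroup X)

theorem isoInvariant_TFProp [Fact p.Prime] (hW₁ : Cfsg.IsCharPFunctor.{u} p W₁)
    (hW₂ : Cfsg.IsCharPFunctor.{u} p W₂) : IsoInvariant (TFProp p W₁ W₂) := by
  intro X Y _ _ φ h hY hcon T
  have hX : Finite X := Finite.of_equiv Y φ.symm.toEquiv
  obtain ⟨T', hT'⟩ : ∃ T' : Sylow p X, (T' : Subgroup X) = (T : Subgroup Y).map φ.symm.toMonoidHom :=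
    ⟨T.mapSurjective (f := φ.symm.toMonoidHom) φ.symm.surjective, Sylow.coe_mapSurjective _ _⟩
  have hmap : (T' : Subgroup X).map φ.toMonoidHom = (T : Subgroup Y) := by
    rw [hT', Subgroup.map_map]
    have : φ.toMonoidHom.comp φ.symm.toMonoidHom = MonoidHom.id Y := by
      ext y; simp
    rw [this, Subgroup.map_id]
  obtain ⟨h1, h2⟩ := h hX (hcon.of_equiv φ.symm) T'
  rw [← hmap]
  exact ⟨h1.of_equiv hW₁ φ _ T'.2, h2.of_equiv hW₂ φ _ T'.2⟩

end Cfsg.Agent.Helper33
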