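import Cfsg.Agent.Helper33.TripleOZ
import Cfsg.Agent.Helper33.InducedMap
import Cfsg.Agent.Helper54.PConstrained

set_option autoImplicit false

universe u

namespace Cfsg.Agent.Helper33

variable {p : ℕ} {W : ∀ (Q : Type u) [Group Q], Subgroup Q}

/-- `N_X(W(S))`. -/
def NW (W : ∀ (Q : Type u) [Group Q], Subgroup Q) {X : Type u} [Group X] (S : Subgroup X) :
    Subgroup X :=
  Subgroup.normalizer ((Cfsg.inducedFunctor W S : Subgroup X) : Set X)

theorem normalizer_map_subtype {X : Type*} [Group X] (H : Subgroup X) (V : Subgroup ↥H) :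
    (Subgroup.normalizer (V : Set ↥H)).map H.subtype =
      H ⊓ Subgroup.normalizer ((V.map H.subtype : Subgroup X) : Set X) := by
  ext x
  constructor
  · rintro ⟨n, hn, rfl⟩
    exact Subgroup.mem_inf.mpr ⟨n.2, Subgroup.le_normalizer_map _ ⟨n, hn, rfl⟩⟩
  · intro hx
    obtain ⟨hxH, hxN⟩ := Subgroup.mem_inf.mp hx
    refine ⟨⟨x, hxH⟩, ?_, rfl⟩
    show (⟨x, hxH⟩ : ↥H) ∈ Subgroup.normalizer (V : Set ↥H)
    rw [Subgroup.mem_normalizer_iff]
    intro v
    have h1 := Subgroup.mem_normalizer_iff.mp hxN (v : X)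
    rw [← Subgroup.mem_map_iff_mem H.subtype_injective (x := v),
      ← Subgroup.mem_map_iff_mem H.subtype_injective (x := ⟨x, hxH⟩ * v * (⟨x, hxH⟩ : ↥H)⁻¹)]
    exact h1

/-- Transport of the generated subgroup from a subgroup `H ≥ S` to the ambient group. -/
theorem ncl_NW_map_subtype (hW : Cfsg.IsCharPFunctor.{u} p W) {X : Type u} [Group X]
    (H S : Subgroup X) [Finite S] (hS : IsPGroup p S) (hSH : S ≤ H) :
    (ncl (NW W (S.subgroupOf H)) (OZ p (S.subgroupOf H))).map H.subtype =
      ncl (H ⊓ NW W S) (OZ p S) := by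
  have hmap : (S.subgroupOf H).map H.subtype = S := by
    rw [Subgroup.subgroupOf_map_subtype, inf_of_le_left hSH]
  have hfin : Finite ↥(S.subgroupOf H) :=
    Finite.of_injective (fun x : ↥(S.subgroupOf H) => (⟨(x : ↥H), Subgroup.mem_subgroupOf.mp x.2⟩ : ↥S))
      (fun a b hab => Subtype.ext (Subtype.ext (congrArg (fun y : ↥S => (y : X)) hab)))
  have hSp' : IsPGroup p ↥(S.subgroupOf H) := hS.comap_subtype
  rw [ncl_map]
  congr 1
  · unfold NW
    rw [normalizer_map_subtype,
      ← inducedFunctor_map_of_injective hW H.subtype H.subtype_injective _ hSp', hmap]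
  · rw [OZ_map_of_injOn p H.subtype _ H.subtype_injective.injOn, hmap]

theorem inducedFunctor_subgroupOf (hW : Cfsg.IsCharPFunctor.{u} p W) {X : Type u} [Group X]
    (H S : Subgroup X) [Finite S] (hS : IsPGroup p S) (hSH : S ≤ H) :
    (Cfsg.inducedFunctor W (S.subgroupOf H)).map H.subtype = Cfsg.inducedFunctor W S := by
  have hmap : (S.subgroupOf H).map H.subtype = S := by
    rw [Subgroup.subgroupOf_map_subtype, inf_of_le_left hSH]
  have hfin : Finite ↥(S.subgroupOf H) :=
    Finite.of_injective (fun x : ↥(S.subgroupOf H) => (⟨(x : ↥H), Subgroup.mem_subgroupOf.mp x.2⟩ : ↥S))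
      (fun a b hab => Subtype.ext (Subtype.ext (congrArg (fun y : ↥S => (y : X)) hab)))
  have hSp' : IsPGroup p ↥(S.subgroupOf H) := hS.comap_subtype
  rw [← inducedFunctor_map_of_injective hW H.subtype H.subtype_injective _ hSp', hmap]

theorem OZ_subgroupOf {X : Type u} [Group X] (p : ℕ) (H S : Subgroup X) (hSH : S ≤ H) :
    (OZ p (S.subgroupOf H)).map H.subtype = OZ p S := by
  have hmap : (S.subgroupOf H).map H.subtype = S := by
    rw [Subgroup.subgroupOf_map_subtype, inf_of_le_left hSH]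
  rw [OZ_map_of_injOn p H.subtype _ H.subtype_injective.injOn, hmap]

/-- Transport of the generated subgroup to a quotient by a homomorphism with `p'`-kernel. -/
theorem ncl_NW_map_of_coprime_ker [Fact p.Prime] (hW : Cfsg.IsCharPFunctor.{u} p W) {X Y : Type u}
    [Group X] [Finite X] [Group Y] (f : X →* Y) (hf : Function.Surjective f)
    (hK : (Nat.card f.ker).Coprime p) (S : Subgroup X) (hS : IsPGroup p S)
    (hinj : Set.InjOn f (S : Set X)) :
    (ncl (NW W S) (OZ p S)).map f = ncl (NW W (S.map f)) (OZ p (S.map f)) := by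
  rw [ncl_map]
  congr 1
  · unfold NW
    rw [inducedFunctor_map_of_injOn hW f S hS hinj]
    apply le_antisymm (Subgroup.le_normalizer_map f)
    intro y hy
    obtain ⟨x, rfl⟩ := hf y
    have hVp : IsPGroup p ↥(Cfsg.inducedFunctor W S) :=
      hS.to_le (isConjugacyFunctor_inducedFunctor hW X S hS).1
    obtain ⟨g, hg, hgx⟩ := Cfsg.Agent.Helper54.exists_mem_normalizer_map_eq f hK _ hVp x hy
    exact ⟨g, hg, hgx⟩
  · exact OZ_map_of_injOn p f S hinj

end Cfsg.Agent.Helper33
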