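import Cfsg.Agent.Helper33.TwoFunctorTop

set_option autoImplicit false

namespace Cfsg.Agent.Helper33

variable {G : Type*} [Group G]

/-- From the list form of the statements to `Ctl2`. -/
theorem ctl2_of_list {W V : Subgroup G → Subgroup G} {L Q : Subgroup G}
    (h : ∀ (X : Set G) (a : G), X ⊆ Q → a ∈ L → (fun x => a⁻¹ * x * a) '' X ⊆ Q →
      ∃ c ∈ L ⊓ Subgroup.centralizer X, ∃ (n : ℕ) (b : Fin n → G),
        (∀ i, b i ∈ L ⊓ Subgroup.normalizer ((W Q : Subgroup G) : Set G) ∨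
          b i ∈ L ⊓ Subgroup.centralizer ((V Q : Subgroup G) : Set G)) ∧
        a = c * (List.ofFn b).prod ∧
        ∀ k : ℕ, k ≤ n → (fun x => (((List.ofFn b).take k).prod)⁻¹ * x * ((List.ofFn b).take k).prod) ''
          ((fun x => c⁻¹ * x * c) '' X) ⊆ Q) : Ctl2 W V L Q := by
  intro X a hX haL haX
  obtain ⟨c, hc, n, b, hb, hab, htake⟩ := h X a hX haL haX
  have hcX : conjR c X = X := conjR_eq_of_mem_centralizer (Subgroup.mem_inf.mp hc).2
  have hrc : RChain (K2 W V L Q) (Q : Set G) X (List.ofFn b).prod := by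
    apply rchain_of_list
    · intro z hz
      obtain ⟨i, rfl⟩ := (List.mem_ofFn' b z).mp hz
      exact hb i
    · intro k hk
      rw [List.length_ofFn] at hk
      have := htake k hk
      rw [← conjR_def, ← conjR_def, hcX] at this
      exact this
  refine ⟨_, hrc, ?_⟩
  intro x hx
  have hcx : x * c = c * x := (Subgroup.mem_centralizer_iff.mp (Subgroup.mem_inf.mp hc).2) x hx
  rw [hab]
  have e : (c * (List.ofFn b).prod)⁻¹ * x * (c * (List.ofFn b).prod) =
      (List.ofFn b).prod⁻¹ * (c⁻¹ * (x * c)) * (List.ofFn b).prod := by group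
  rw [e, hcx]
  group

/-- From `Ctl2` back to the list form. -/
theorem list_of_ctl2 {W V : Subgroup G → Subgroup G} {L Q : Subgroup G} (h : Ctl2 W V L Q)
    (X : Set G) (a : G) (hX : X ⊆ Q) (haL : a ∈ L) (haX : (fun x => a⁻¹ * x * a) '' X ⊆ Q) :
    ∃ c ∈ Subgroup.centralizer X, ∃ (n : ℕ) (b : Fin n → G),
      (∀ i, b i ∈ L ⊓ Subgroup.normalizer ((W Q : Subgroup G) : Set G) ∨
        b i ∈ L ⊓ Subgroup.centralizer ((V Q : Subgroup G) : Set G)) ∧
      a = c * (List.ofFn b).prod ∧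
      ∀ k : ℕ, k ≤ n → (fun x => (((List.ofFn b).take k).prod)⁻¹ * x * ((List.ofFn b).take k).prod) ''
        ((fun x => c⁻¹ * x * c) '' X) ⊆ Q := by
  obtain ⟨g', hrc, hag⟩ := h X a hX haL haX
  obtain ⟨l, hl, hprod, htake⟩ := list_of_rchain hrc hX
  have hc : a * g'⁻¹ ∈ Subgroup.centralizer X := by
    rw [Subgroup.mem_centralizer_iff]
    intro x hx
    have := hag x hx
    calc x * (a * g'⁻¹) = a * (a⁻¹ * x * a) * g'⁻¹ := by group
      _ = a * (g'⁻¹ * x * g') * g'⁻¹ := by rw [this]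
      _ = a * g'⁻¹ * x := by group
  have hcX : conjR (a * g'⁻¹) X = X := conjR_eq_of_mem_centralizer hc
  refine ⟨a * g'⁻¹, hc, l.length, fun i => l.get i, ?_, ?_, ?_⟩
  · intro i
    exact hl _ (List.get_mem l i)
  · rw [List.ofFn_get, hprod]; group
  · intro k hk
    rw [List.ofFn_get, ← conjR_def, ← conjR_def, hcX]
    exact htake k hk

end Cfsg.Agent.Helper33
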