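import Cfsg.Agent.Helper33.TwoFunctor

set_option autoImplicit false

namespace Cfsg.Agent.Helper33

variable {G : Type*} [Group G]

local notation:max H "⟪" g "⟫" => Subgroup.map (MulEquiv.toMonoidHom (MulAut.conj g)) H

section

variable {p : ℕ} [Fact p.Prime] [Finite G] {W V : Subgroup G → Subgroup G}
  (hW : Cfsg.IsConjugacyFunctor p W) (S : Sylow p G)
  (hWZ : ∀ H : Subgroup G, IsPGroup p ↥H → H ⊓ Subgroup.centralizer ((H : Subgroup G) : Set G) ≤ W H)
  (hVS : ∀ N₁ : Subgroup G, N₁ ≤ (S : Subgroup G) →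
    (S : Subgroup G) ⊓ Subgroup.centralizer ((S : Subgroup G) : Set G) ≤ N₁ → V (S : Subgroup G) ≤ V N₁)

include hW hWZ hVS

theorem tame_fusion_reach2
    (hloc : ∀ T : Subgroup G, T ≤ (S : Subgroup G) →
      (S : Subgroup G) ⊓ Subgroup.centralizer ((S : Subgroup G) : Set G) ≤ T →
      ¬ p ∣ ((S : Subgroup G) ⊓ Subgroup.normalizer ((T : Subgroup G) : Set G)).relIndex
        (Subgroup.normalizer ((T : Subgroup G) : Set G)) →
      Ctl2 W V (Subgroup.normalizer ((T : Subgroup G) : Set G))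
        ((S : Subgroup G) ⊓ Subgroup.normalizer ((T : Subgroup G) : Set G))) :
    ∀ (d : ℕ) (T : Subgroup G), T ≤ (S : Subgroup G) →
      (S : Subgroup G) ⊓ Subgroup.centralizer ((S : Subgroup G) : Set G) ≤ T →
      ¬ p ∣ ((S : Subgroup G) ⊓ Subgroup.normalizer ((T : Subgroup G) : Set G)).relIndex
        (Subgroup.normalizer ((T : Subgroup G) : Set G)) →
      GoodIn (S : Subgroup G) ((S : Subgroup G) ⊓ Subgroup.normalizer (T : Set G)) →
      Nat.card (S : Subgroup G) - Nat.card ((S : Subgroup G) ⊓ Subgroup.normalizer (T : Set G) : Subgroup G) = d →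
      ∀ (B : Set G) (y : G),
        B ⊆ (((S : Subgroup G) ⊓ Subgroup.normalizer (T : Set G) : Subgroup G) : Set G) →
        y ∈ Subgroup.normalizer (T : Set G) →
        conjR y B ⊆ (((S : Subgroup G) ⊓ Subgroup.normalizer (T : Set G) : Subgroup G) : Set G) →
        Reach (K2 W V ⊤ (S : Subgroup G)) ((S : Subgroup G) : Set G) B y := by
  intro d
  induction d using Nat.strong_induction_on with
  | _ d ih =>
  intro T hTS hZT htame hgood hd B y hB hy hyB
  obtain ⟨N₁, hN₁⟩ : ∃ N₁ : Subgroup G, N₁ = (S : Subgroup G) ⊓ Subgroup.normalizer (T : Set G) := ⟨_, rfl⟩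
  have hlocT := hloc T hTS hZT htame
  rw [← hN₁] at htame hd hB hyB hgood hlocT
  have hN₁S' : N₁ ≤ (S : Subgroup G) := hN₁ ▸ inf_le_left
  have hN₁N : N₁ ≤ Subgroup.normalizer (T : Set G) := hN₁ ▸ inf_le_right
  have hN₁p : IsPGroup p N₁ := S.2.to_le hN₁S'
  have hTN₁ : T ≤ N₁ := hN₁ ▸ le_inf hTS Subgroup.le_normalizer
  have hZN₁ : (S : Subgroup G) ⊓ Subgroup.centralizer ((S : Subgroup G) : Set G) ≤ N₁ := hZT.trans hTN₁
  have hN₁pos : 0 < Nat.card N₁ := Nat.card_pos
  obtain ⟨g', hrc, hag⟩ := hlocT B y hB hy hyB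
  have key : ∀ z ∈ K2 W V (Subgroup.normalizer (T : Set G)) N₁, ∀ B' : Set G, B' ⊆ (N₁ : Set G) →
      conjR z B' ⊆ (N₁ : Set G) →
      Reach (K2 W V ⊤ (S : Subgroup G)) ((S : Subgroup G) : Set G) B' z := by
    rintro z (hz | hz) B' hB' hzB'
    · have hzNW := (Subgroup.mem_inf.mp hz).2
      by_cases hN₁S : N₁ = S
      · apply Reach.of_rchain
        apply RChain.single
        · refine Or.inl (Subgroup.mem_inf.mpr ⟨Subgroup.mem_top _, ?_⟩)
          rw [← hN₁S]; exact hzNW
        · exact hzB'.trans (by exact_mod_cast hN₁S')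
      · obtain ⟨V₀, hV₀⟩ : ∃ V₀ : Subgroup G, V₀ = W N₁ := ⟨_, rfl⟩
        rw [← hV₀] at hzNW
        have hVN₁ : V₀ ≤ N₁ := hV₀ ▸ functor_le hW hN₁p
        have hVS' : V₀ ≤ (S : Subgroup G) := le_trans hVN₁ hN₁S'
        have hNN : Subgroup.normalizer (N₁ : Set G) ≤ Subgroup.normalizer (V₀ : Set G) :=
          hV₀ ▸ normalizer_le_normalizer_functor hW hN₁p
        obtain ⟨N₂, hN₂⟩ : ∃ N₂ : Subgroup G, N₂ = (S : Subgroup G) ⊓ Subgroup.normalizer (V₀ : Set G) := ⟨_, rfl⟩
        have hN₂S' : N₂ ≤ (S : Subgroup G) := hN₂ ▸ inf_le_left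
        have hN₂N : N₂ ≤ Subgroup.normalizer (V₀ : Set G) := hN₂ ▸ inf_le_right
        have hN₁N₂ : N₁ ≤ N₂ :=
          hN₂ ▸ le_inf hN₁S' (le_trans Subgroup.le_normalizer hNN)
        have hlt : N₁ < N₂ := by
          obtain ⟨x, hxS, hxN, hxT⟩ := exists_mem_normalizer_not_mem S.2 hN₁S' hN₁S
          refine lt_of_le_of_ne hN₁N₂ (fun hh => hxT ?_)
          rw [hh, hN₂]
          exact ⟨hxS, hNN hxN⟩
        have hcard := card_lt_card_of_lt' hlt
        have hN₂S : Nat.card N₂ ≤ Nat.card (S : Subgroup G) := Subgroup.card_le_of_le hN₂S'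
        -- tame conjugate of V₀
        obtain ⟨c₀, hcS, hctame⟩ := exists_tame_conj S V₀ (S.2.to_le hVS')
        obtain ⟨h, hhV, hhS⟩ := exists_conj_tame' S hctame c₀ rfl
        rw [← hN₂] at hhS
        obtain ⟨V', hV'⟩ : ∃ V' : Subgroup G, V' = V₀⟪c₀⟫ := ⟨_, rfl⟩
        rw [← hV'] at hcS hctame hhV
        have hN₂h : N₂⟪h⟫ ≤ (S : Subgroup G) ⊓ Subgroup.normalizer (V' : Set G) := by
          refine le_inf hhS ?_
          rw [← hhV, normalizer_map_conj]
          exact Subgroup.map_mono hN₂N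
        have hN₁h : N₁⟪h⟫ ≤ N₂⟪h⟫ := Subgroup.map_mono hN₁N₂
        have hN₁hS : N₁⟪h⟫ ≤ (S : Subgroup G) := hN₁h.trans hhS
        have hZN₁h : (S : Subgroup G) ⊓ Subgroup.centralizer ((S : Subgroup G) : Set G) ≤ N₁⟪h⟫ :=
          hgood h hN₁hS
        have hZV' : (S : Subgroup G) ⊓ Subgroup.centralizer ((S : Subgroup G) : Set G) ≤ V' := by
          have h1 : (S : Subgroup G) ⊓ Subgroup.centralizer ((S : Subgroup G) : Set G) ≤
              N₁⟪h⟫ ⊓ Subgroup.centralizer ((N₁⟪h⟫ : Subgroup G) : Set G) :=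
            le_inf hZN₁h (inf_le_right.trans (Subgroup.centralizer_le (by exact_mod_cast hN₁hS)))
          refine h1.trans ((hWZ _ (hN₁p.map _)).trans ?_)
          rw [functor_map_conj hW hN₁p, ← hV₀, hhV]
        have hgoodV' : GoodIn (S : Subgroup G) ((S : Subgroup G) ⊓ Subgroup.normalizer (V' : Set G)) :=
          (hgood.conj h).mono (hN₁h.trans hN₂h)
        have hcardh : Nat.card N₂ ≤ Nat.card ((S : Subgroup G) ⊓ Subgroup.normalizer (V' : Set G) : Subgroup G) := by
          rw [Nat.card_congr (N₂.equivMapOfInjective (MulAut.conj h).toMonoidHom (MulAut.conj h).injective).toEquiv]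
          exact Subgroup.card_le_of_le hN₂h
        have hV'S : Nat.card ((S : Subgroup G) ⊓ Subgroup.normalizer (V' : Set G) : Subgroup G) ≤
            Nat.card (S : Subgroup G) := Subgroup.card_le_of_le inf_le_left
        have ihV' := ih _ (by omega) V' hcS hZV' hctame hgoodV' rfl
        -- the family of good tame subgroups of order larger than `N₁`
        obtain ⟨𝓟, h𝓟⟩ : ∃ 𝓟 : Subgroup G → Prop,
          𝓟 = fun U : Subgroup G => Nat.card N₁ + 1 ≤ Nat.card U ∧ GoodIn (S : Subgroup G) U := ⟨_, rfl⟩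
        obtain ⟨𝓕, h𝓕⟩ : ∃ 𝓕 : Set (Subgroup G), 𝓕 = {U | U ≤ (S : Subgroup G) ∧ 𝓟 U ∧
          ¬ p ∣ ((S : Subgroup G) ⊓ Subgroup.normalizer ((U : Subgroup G) : Set G)).relIndex
            (Subgroup.normalizer ((U : Subgroup G) : Set G))} := ⟨_, rfl⟩
        have hstep : ∀ U ∈ 𝓕,
            ∀ x ∈ Subgroup.normalizer (U : Set G), ∀ B : Set G, B ⊆ (U : Set G) →
            Reach (K2 W V ⊤ (S : Subgroup G)) ((S : Subgroup G) : Set G) B x := by
          intro U hU x hx B₀ hB₀
          rw [h𝓕] at hU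
          obtain ⟨hUS, hUP, hUtame⟩ := hU
          rw [h𝓟] at hUP
          have hUle : U ≤ (S : Subgroup G) ⊓ Subgroup.normalizer (U : Set G) := le_inf hUS Subgroup.le_normalizer
          have hc1 : Nat.card U ≤ Nat.card ((S : Subgroup G) ⊓ Subgroup.normalizer (U : Set G) : Subgroup G) :=
            Subgroup.card_le_of_le hUle
          have hc2 : Nat.card ((S : Subgroup G) ⊓ Subgroup.normalizer (U : Set G) : Subgroup G) ≤
              Nat.card (S : Subgroup G) := Subgroup.card_le_of_le inf_le_left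
          have hc3 := hUP.1
          apply ih _ (by omega) U hUS (hUP.2.center_le hUS) hUtame (hUP.2.mono hUle) rfl B₀ x
            (hB₀.trans (by exact_mod_cast hUle)) hx
          calc conjR x B₀ ⊆ conjR x (U : Set G) := conjR_mono hB₀
            _ = U := conjR_coe_eq_of_mem_normalizer hx
            _ ⊆ _ := by exact_mod_cast hUle
        have hg : conjR h⁻¹ (N₂ : Set G) ⊆ (S : Subgroup G) := by
          rw [← coe_map_conj]; exact_mod_cast hhS
        have hch : FChain 𝓕 (N₂ : Set G) h⁻¹ := by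
          apply fchain_of_tame_pred S 𝓕 𝓟 ?_ ?_ ?_ ?_ _ N₂ hN₂S' ?_ rfl h⁻¹ hg
          · intro T' g hT'
            rw [h𝓟] at hT' ⊢
            refine ⟨?_, hT'.2.conj g⟩
            rw [← Nat.card_congr (T'.equivMapOfInjective _ (MulAut.conj g).injective).toEquiv]
            exact hT'.1
          · intro T' T'' hle hT'
            rw [h𝓟] at hT' ⊢
            exact ⟨hT'.1.trans (Subgroup.card_le_of_le hle), hT'.2.mono hle⟩
          · intro R hRS hPR
            obtain ⟨x, hxS, hxtame⟩ := exists_tame_conj S R (S.2.to_le hRS)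
            refine ⟨_, ?_, ⟨x, rfl⟩, hxtame⟩
            rw [h𝓕]
            refine ⟨hxS, ?_, hxtame⟩
            rw [h𝓟] at hPR ⊢
            refine ⟨?_, hPR.2.conj x⟩
            rw [← Nat.card_congr (R.equivMapOfInjective _ (MulAut.conj x).injective).toEquiv]
            exact hPR.1
          · intro U hU
            rw [h𝓕] at hU
            exact hU.1
          · rw [h𝓟]
            exact ⟨by omega, hgood.mono hN₁N₂⟩
        have hRk : Reach (K2 W V ⊤ (S : Subgroup G)) ((S : Subgroup G) : Set G) (N₂ : Set G) h⁻¹ :=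
          reach_of_fchain hstep hch
        have hB'N₂ : B' ⊆ (N₂ : Set G) := hB'.trans (by exact_mod_cast hN₁N₂)
        have hzB'N₂ : conjR z B' ⊆ (N₂ : Set G) := hzB'.trans (by exact_mod_cast hN₁N₂)
        have hN₂h' : conjR h⁻¹ (N₂ : Set G) ⊆
            (((S : Subgroup G) ⊓ Subgroup.normalizer (V' : Set G) : Subgroup G) : Set G) := by
          rw [← coe_map_conj]; exact_mod_cast hN₂h
        have R1 := hRk.mono hB'N₂
        have hz' : h * z * h⁻¹ ∈ Subgroup.normalizer (V' : Set G) := by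
          rw [← hhV, normalizer_map_conj]
          exact conj_mem_map_conj _ h hzNW
        have e1 : h⁻¹ * (h * z * h⁻¹) = z * h⁻¹ := by group
        have R2 := ihV' (conjR h⁻¹ B') (h * z * h⁻¹) ((conjR_mono hB'N₂).trans hN₂h') hz' (by
          rw [← conjR_mul, e1, conjR_mul]
          exact (conjR_mono hzB'N₂).trans hN₂h')
        have R3 := (hRk.mono hzB'N₂).symm K2_inv (hzB'N₂.trans (by exact_mod_cast hN₂S'))
        have R12 := R1.trans R2
        rw [e1] at R12
        have R123 := R12.trans (by rw [conjR_mul]; exact R3)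
        have e2 : z * h⁻¹ * h⁻¹⁻¹ = z := by group
        rwa [e2] at R123
    · apply Reach.of_rchain
      apply RChain.single
      · refine Or.inr (Subgroup.mem_inf.mpr ⟨Subgroup.mem_top _, ?_⟩)
        have h1 : V (S : Subgroup G) ≤ V N₁ := hVS N₁ hN₁S' hZN₁
        exact Subgroup.centralizer_le (by exact_mod_cast h1) (Subgroup.mem_inf.mp hz).2
      · exact hzB'.trans (by exact_mod_cast hN₁S')
  have hreach := hrc.lift key hB
  exact hreach.congr hag

end

end Cfsg.Agent.Helper33
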