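import Cfsg.Agent.Helper33.TwoFunctorMain

set_option autoImplicit false

namespace Cfsg.Agent.Helper33

variable {G : Type*} [Group G]

local notation:max H "⟪" g "⟫" => Subgroup.map (MulEquiv.toMonoidHom (MulAut.conj g)) H

theorem normalizer_le_normalizer_centralizer' (U : Subgroup G) :
    Subgroup.normalizer (U : Set G) ≤
      Subgroup.normalizer ((Subgroup.centralizer (U : Set G) : Subgroup G) : Set G) := by
  intro x hx
  rw [Subgroup.mem_normalizer_iff] at hx ⊢
  intro c
  rw [Subgroup.mem_centralizer_iff, Subgroup.mem_centralizer_iff]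
  constructor
  · intro hc u hu
    have hu' : x⁻¹ * u * x ∈ U := by
      rw [hx]
      have e : x * (x⁻¹ * u * x) * x⁻¹ = u := by group
      rwa [e]
    have := hc _ hu'
    have e1 : u * (x * c * x⁻¹) = x * (x⁻¹ * u * x * c) * x⁻¹ := by group
    have e2 : x * c * x⁻¹ * u = x * (c * (x⁻¹ * u * x)) * x⁻¹ := by group
    rw [e1, e2, this]
  · intro hc u hu
    have hu' : x * u * x⁻¹ ∈ U := (hx u).mp hu
    have := hc _ hu'
    have e1 : u * c = x⁻¹ * (x * u * x⁻¹ * (x * c * x⁻¹)) * x := by group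
    have e2 : c * u = x⁻¹ * (x * c * x⁻¹ * (x * u * x⁻¹)) * x := by group
    rw [e1, e2, this]

/-- For a tame `U ≤ S`, `C_S(U)` is a Sylow `p`-subgroup of `C_G(U)`. -/
theorem not_dvd_relIndex_centralizer_of_tame {p : ℕ} [Fact p.Prime] [Finite G] (S : Sylow p G)
    {U : Subgroup G}
    (htame : ¬ p ∣ ((S : Subgroup G) ⊓ Subgroup.normalizer ((U : Subgroup G) : Set G)).relIndex
      (Subgroup.normalizer ((U : Subgroup G) : Set G))) :
    ¬ p ∣ ((S : Subgroup G) ⊓ Subgroup.centralizer (U : Set G)).relIndex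
      (Subgroup.centralizer (U : Set G)) := by
  have hCN : Subgroup.centralizer (U : Set G) ≤ Subgroup.normalizer (U : Set G) :=
    Subgroup.centralizer_le_normalizer _
  have hNC : Subgroup.normalizer (U : Set G) ≤
      Subgroup.normalizer ((Subgroup.centralizer (U : Set G) : Subgroup G) : Set G) :=
    normalizer_le_normalizer_centralizer' U
  have := not_dvd_relIndex_inf_of_le_normalizer (S.2.to_le inf_le_left) htame hCN hNC
  rwa [inf_assoc, inf_eq_right.mpr hCN] at this

/-- A tame subgroup containing its centralizer in `S` is good. -/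
theorem goodIn_of_tame_of_centric {p : ℕ} [Fact p.Prime] [Finite G] (S : Sylow p G)
    {U : Subgroup G} (hUS : U ≤ (S : Subgroup G))
    (htame : ¬ p ∣ ((S : Subgroup G) ⊓ Subgroup.normalizer ((U : Subgroup G) : Set G)).relIndex
      (Subgroup.normalizer ((U : Subgroup G) : Set G)))
    (hcent : (S : Subgroup G) ⊓ Subgroup.centralizer (U : Set G) ≤ U) :
    GoodIn (S : Subgroup G) U := by
  intro g hg z hz
  rw [mem_map_conj_iff]
  obtain ⟨hzS, hzC⟩ := Subgroup.mem_inf.mp hz
  have hz'C : g⁻¹ * z * g ∈ Subgroup.centralizer (U : Set G) := by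
    rw [Subgroup.mem_centralizer_iff]
    intro u hu
    have hu' : g * u * g⁻¹ ∈ (S : Subgroup G) := hg (conj_mem_map_conj U g hu)
    have := (Subgroup.mem_centralizer_iff.mp hzC) _ hu'
    have e1 : u * (g⁻¹ * z * g) = g⁻¹ * (g * u * g⁻¹ * z) * g := by group
    have e2 : g⁻¹ * z * g * u = g⁻¹ * (z * (g * u * g⁻¹)) * g := by group
    rw [e1, e2, this]
  have hidx := not_dvd_relIndex_centralizer_of_tame S htame
  have hzp : IsPGroup p (Subgroup.zpowers (g⁻¹ * z * g)) := by
    have h1 : IsPGroup p (Subgroup.zpowers z) := S.2.to_le ((Subgroup.zpowers_le).mpr hzS)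
    have h2 : Subgroup.zpowers (g⁻¹ * z * g) = (Subgroup.zpowers z)⟪g⁻¹⟫ := by
      rw [MonoidHom.map_zpowers]
      congr 1
      simp [MulAut.conj_apply]
    rw [h2]
    exact h1.map _
  obtain ⟨m, hmC, hm⟩ := exists_conj_le_of_not_dvd_relIndex
    (inf_le_right : (S : Subgroup G) ⊓ Subgroup.centralizer (U : Set G) ≤ _)
    (S.2.to_le inf_le_left) hidx ((Subgroup.zpowers_le).mpr hz'C) hzp
  have h1 : m * (g⁻¹ * z * g) * m⁻¹ ∈ U := hcent (hm _ (Subgroup.mem_zpowers _))
  have h2 := (Subgroup.mem_centralizer_iff.mp hmC) _ h1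
  have h3 : g⁻¹ * z * g = m * (g⁻¹ * z * g) * m⁻¹ := by
    have e : m * (g⁻¹ * z * g) * m⁻¹ * m = m * (g⁻¹ * z * g) := by group
    rw [e] at h2
    exact mul_left_cancel h2
  rw [h3]; exact h1

end Cfsg.Agent.Helper33

namespace Cfsg.Agent.Helper33

variable {G : Type*} [Group G]

local notation:max H "⟪" g "⟫" => Subgroup.map (MulEquiv.toMonoidHom (MulAut.conj g)) H

theorem map_conj_inv_eq_of_mem_normalizer {T : Subgroup G} {x : G}
    (hx : x ∈ Subgroup.normalizer (T : Set G)) : T⟪x⁻¹⟫ = T := by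
  apply SetLike.coe_injective
  rw [coe_map_conj_inv, conjR_coe_eq_of_mem_normalizer hx]

section

variable {p : ℕ} [Fact p.Prime] [Finite G] {W V : Subgroup G → Subgroup G}
  (hW : Cfsg.IsConjugacyFunctor p W) (S : Sylow p G)
  (hWZ : ∀ H : Subgroup G, IsPGroup p ↥H → H ⊓ Subgroup.centralizer ((H : Subgroup G) : Set G) ≤ W H)
  (hVS : ∀ N₁ : Subgroup G, N₁ ≤ (S : Subgroup G) →
    (S : Subgroup G) ⊓ Subgroup.centralizer ((S : Subgroup G) : Set G) ≤ N₁ → V (S : Subgroup G) ≤ V N₁)

include hW hWZ hVS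

theorem tame_reach2
    (hloc : ∀ T : Subgroup G, T ≤ (S : Subgroup G) →
      (S : Subgroup G) ⊓ Subgroup.centralizer ((S : Subgroup G) : Set G) ≤ T →
      ¬ p ∣ ((S : Subgroup G) ⊓ Subgroup.normalizer ((T : Subgroup G) : Set G)).relIndex
        (Subgroup.normalizer ((T : Subgroup G) : Set G)) →
      Ctl2 W V (Subgroup.normalizer ((T : Subgroup G) : Set G))
        ((S : Subgroup G) ⊓ Subgroup.normalizer ((T : Subgroup G) : Set G))) :
    ∀ (n : ℕ) (U : Subgroup G), U ≤ (S : Subgroup G) →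
      ¬ p ∣ ((S : Subgroup G) ⊓ Subgroup.normalizer ((U : Subgroup G) : Set G)).relIndex
        (Subgroup.normalizer ((U : Subgroup G) : Set G)) →
      Nat.card (S : Subgroup G) - Nat.card U = n →
      ∀ x ∈ Subgroup.normalizer (U : Set G),
        Reach (K2 W V ⊤ (S : Subgroup G)) ((S : Subgroup G) : Set G) (U : Set G) x := by
  intro n
  induction n using Nat.strong_induction_on with
  | _ n ih =>
  intro U hUS htame hn x hx
  have hUle : U ≤ (S : Subgroup G) ⊓ Subgroup.normalizer (U : Set G) := le_inf hUS Subgroup.le_normalizer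
  by_cases hcent : (S : Subgroup G) ⊓ Subgroup.centralizer (U : Set G) ≤ U
  · have hgood := goodIn_of_tame_of_centric S hUS htame hcent
    apply tame_fusion_reach2 hW S hWZ hVS hloc _ U hUS (hgood.center_le hUS) htame (hgood.mono hUle) rfl
      (U : Set G) x (by exact_mod_cast hUle) hx
    rw [conjR_coe_eq_of_mem_normalizer hx]; exact_mod_cast hUle
  · obtain ⟨C, hC⟩ : ∃ C : Subgroup G, C = (S : Subgroup G) ⊓ Subgroup.centralizer (U : Set G) := ⟨_, rfl⟩
    have hidx := not_dvd_relIndex_centralizer_of_tame S htame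
    rw [← hC] at hidx hcent
    have hCS : C ≤ (S : Subgroup G) := hC ▸ inf_le_left
    have hCC : C ≤ Subgroup.centralizer (U : Set G) := hC ▸ inf_le_right
    have hCp : IsPGroup p C := S.2.to_le hCS
    have hUx : U⟪x⁻¹⟫ = U := map_conj_inv_eq_of_mem_normalizer hx
    have hCx : C⟪x⁻¹⟫ ≤ Subgroup.centralizer (U : Set G) := by
      have := Subgroup.map_mono (f := (MulAut.conj x⁻¹).toMonoidHom) hCC
      rwa [← centralizer_map_conj, hUx] at this
    obtain ⟨m, hmC, hm⟩ := exists_conj_le_of_not_dvd_relIndex hCC hCp hidx hCx (hCp.map _)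
    obtain ⟨x', hx'⟩ : ∃ x' : G, x' = x * m⁻¹ := ⟨_, rfl⟩
    have hx'C : x' ∈ Subgroup.normalizer (C : Set G) := by
      apply mem_normalizer_of_conjR_subset
      rintro _ ⟨c, hc, rfl⟩
      have h1 : x⁻¹ * c * x⁻¹⁻¹ ∈ C⟪x⁻¹⟫ := conj_mem_map_conj C x⁻¹ hc
      have h2 := hm _ h1
      have e : x'⁻¹ * c * x' = m * (x⁻¹ * c * x⁻¹⁻¹) * m⁻¹ := by rw [hx']; group
      show x'⁻¹ * c * x' ∈ C
      rw [e]; exact h2
    have hmN : m ∈ Subgroup.normalizer (U : Set G) := Subgroup.centralizer_le_normalizer _ hmC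
    have hx'U : x' ∈ Subgroup.normalizer (U : Set G) := by
      rw [hx']
      exact Subgroup.mul_mem _ hx (Subgroup.inv_mem _ hmN)
    obtain ⟨Us, hUs⟩ : ∃ Us : Subgroup G, Us = U ⊔ C := ⟨_, rfl⟩
    have hUsS : Us ≤ (S : Subgroup G) := hUs ▸ sup_le hUS hCS
    have hUUs : U ≤ Us := hUs ▸ le_sup_left
    have hlt : U < Us := by
      refine lt_of_le_of_ne hUUs (fun hh => hcent ?_)
      rw [hh, hUs]; exact le_sup_right
    have hcard := card_lt_card_of_lt' hlt
    have hUsx' : conjR x' (Us : Set G) ⊆ (S : Subgroup G) := by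
      rw [← coe_map_conj_inv, hUs, Subgroup.map_sup, map_conj_inv_eq_of_mem_normalizer hx'U,
        map_conj_inv_eq_of_mem_normalizer hx'C, ← hUs]
      exact_mod_cast hUsS
    have hch := fchain_tameFamily S (Nat.card U + 1) Us hUsS (by omega) x' hUsx'
    have hstep : ∀ U' ∈ tameFamily p (S : Subgroup G) (Nat.card U + 1),
        ∀ y ∈ Subgroup.normalizer (U' : Set G), ∀ B : Set G, B ⊆ (U' : Set G) →
        Reach (K2 W V ⊤ (S : Subgroup G)) ((S : Subgroup G) : Set G) B y := by
      intro U' hU' y hy B hB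
      have hc1 : Nat.card U' ≤ Nat.card (S : Subgroup G) := Subgroup.card_le_of_le hU'.1
      have hc2 := hU'.2.1
      exact (ih _ (by omega) U' hU'.1 hU'.2.2 rfl y hy).mono hB
    have hR := (reach_of_fchain hstep hch).mono (by exact_mod_cast hUUs : (U : Set G) ⊆ Us)
    refine hR.congr ?_
    intro u hu
    have hxu : x⁻¹ * u * x ∈ U := by
      have := (Subgroup.mem_normalizer_iff.mp (Subgroup.inv_mem _ hx)) u
      rw [inv_inv] at this
      exact this.mp hu
    have hcomm := (Subgroup.mem_centralizer_iff.mp hmC) _ hxu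
    rw [hx']
    calc (x * m⁻¹)⁻¹ * u * (x * m⁻¹) = m * (x⁻¹ * u * x) * m⁻¹ := by group
      _ = (x⁻¹ * u * x) * m * m⁻¹ := by rw [hcomm]
      _ = x⁻¹ * u * x := by group

theorem ctl2_top_of_local
    (hloc : ∀ T : Subgroup G, T ≤ (S : Subgroup G) →
      (S : Subgroup G) ⊓ Subgroup.centralizer ((S : Subgroup G) : Set G) ≤ T →
      ¬ p ∣ ((S : Subgroup G) ⊓ Subgroup.normalizer ((T : Subgroup G) : Set G)).relIndex
        (Subgroup.normalizer ((T : Subgroup G) : Set G)) →
      Ctl2 W V (Subgroup.normalizer ((T : Subgroup G) : Set G))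
        ((S : Subgroup G) ⊓ Subgroup.normalizer ((T : Subgroup G) : Set G))) :
    Ctl2 W V ⊤ (S : Subgroup G) := by
  intro X a hX _ haX
  have hcl : Subgroup.closure X ≤ (S : Subgroup G) := (Subgroup.closure_le _).mpr hX
  have hg := conjR_closure_subset haX
  have hch := fchain_tameFamily S 0 (Subgroup.closure X) hcl (Nat.zero_le _) a hg
  have hstep : ∀ U' ∈ tameFamily p (S : Subgroup G) 0,
      ∀ y ∈ Subgroup.normalizer (U' : Set G), ∀ B : Set G, B ⊆ (U' : Set G) →
      Reach (K2 W V ⊤ (S : Subgroup G)) ((S : Subgroup G) : Set G) B y := by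
    intro U' hU' y hy B hB
    exact (tame_reach2 hW S hWZ hVS hloc _ U' hU'.1 hU'.2.2 rfl y hy).mono hB
  exact (reach_of_fchain hstep hch).mono Subgroup.subset_closure

end

end Cfsg.Agent.Helper33
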