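import Cfsg.Agent.Helper33.TwoFunctorTop
import Cfsg.Agent.Helper33.TransferFamily2

set_option autoImplicit false

open scoped commutatorElement

namespace Cfsg.Agent.Helper33

variable {G : Type*} [Group G]

local notation:max H "⟪" g "⟫" => Subgroup.map (MulEquiv.toMonoidHom (MulAut.conj g)) H

/-- The target subgroup of the two-functor transfer statements at `(L, Q)`. -/
def T2 (W V : Subgroup G → Subgroup G) (L Q : Subgroup G) : Subgroup G :=
  (Q ⊓ ⁅L ⊓ Subgroup.normalizer ((W Q : Subgroup G) : Set G),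
      L ⊓ Subgroup.normalizer ((W Q : Subgroup G) : Set G)⁆) ⊔
    (Q ⊓ ⁅L ⊓ Subgroup.centralizer ((V Q : Subgroup G) : Set G),
      L ⊓ Subgroup.centralizer ((V Q : Subgroup G) : Set G)⁆)

theorem T2_map_conj {p : ℕ} {W V : Subgroup G → Subgroup G}
    (hW : Cfsg.IsConjugacyFunctor p W) (hV : Cfsg.IsConjugacyFunctor p V) {L Q : Subgroup G}
    (hQp : IsPGroup p Q) {m : G} (hm : m ∈ L) : (T2 W V L Q)⟪m⟫ = T2 W V L (Q⟪m⟫) := by
  have hLm : L⟪m⟫ = L := map_conj_eq_self_of_mem hm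
  unfold T2
  rw [Subgroup.map_sup, map_conj_inf, map_conj_inf, Subgroup.map_commutator, Subgroup.map_commutator,
    map_conj_inf, map_conj_inf, hLm, ← normalizer_map_conj, ← centralizer_map_conj,
    ← functor_map_conj hW hQp, ← functor_map_conj hV hQp]

theorem t2_at {p : ℕ} [Fact p.Prime] [Finite G] {W V : Subgroup G → Subgroup G}
    (hW : Cfsg.IsConjugacyFunctor p W) (hV : Cfsg.IsConjugacyFunctor p V) {L Q Q' : Subgroup G}
    (h : Q ⊓ ⁅L, L⁆ ≤ T2 W V L Q) (hQL : Q ≤ L) (hQp : IsPGroup p Q) (hQidx : ¬ p ∣ Q.relIndex L)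
    (hQ'L : Q' ≤ L) (hQ'p : IsPGroup p Q') (hQ'idx : ¬ p ∣ Q'.relIndex L) :
    Q' ⊓ ⁅L, L⁆ ≤ T2 W V L Q' := by
  obtain ⟨m, hmL, hm⟩ := exists_conj_le_of_not_dvd_relIndex hQ'L hQ'p hQ'idx hQL hQp
  have hle : Q⟪m⟫ ≤ Q' := (map_conj_le_iff Q Q' m).mpr hm
  have hLm : L⟪m⟫ = L := map_conj_eq_self_of_mem hmL
  have hidx' : ¬ p ∣ (Q⟪m⟫).relIndex L := by
    have := relIndex_map_conj Q L m
    rw [hLm] at this
    rw [this]; exact hQidx
  have heq : Q⟪m⟫ = Q' := eq_of_le_of_not_dvd_relIndex hle hQ'L hQ'p hidx'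
  have h1 := Subgroup.map_mono (f := (MulAut.conj m).toMonoidHom) h
  rw [map_conj_inf, Subgroup.map_commutator, hLm, T2_map_conj hW hV hQp hmL, heq] at h1
  exact h1

end Cfsg.Agent.Helper33

namespace Cfsg.Agent.Helper33

variable {G : Type*} [Group G]

local notation:max H "⟪" g "⟫" => Subgroup.map (MulEquiv.toMonoidHom (MulAut.conj g)) H

section

variable {p : ℕ} [Fact p.Prime] [Finite G] {W V : Subgroup G → Subgroup G}
  (hW : Cfsg.IsConjugacyFunctor p W) (S : Sylow p G)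
  (hWZ : ∀ H : Subgroup G, IsPGroup p ↥H → H ⊓ Subgroup.centralizer ((H : Subgroup G) : Set G) ≤ W H)
  (hVS : ∀ N₁ : Subgroup G, N₁ ≤ (S : Subgroup G) →
    (S : Subgroup G) ⊓ Subgroup.centralizer ((S : Subgroup G) : Set G) ≤ N₁ → V (S : Subgroup G) ≤ V N₁)

include hW hWZ hVS

theorem tame_transfer_le2
    (hloc : ∀ T : Subgroup G, T ≤ (S : Subgroup G) →
      (S : Subgroup G) ⊓ Subgroup.centralizer ((S : Subgroup G) : Set G) ≤ T →
      ¬ p ∣ ((S : Subgroup G) ⊓ Subgroup.normalizer ((T : Subgroup G) : Set G)).relIndex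
        (Subgroup.normalizer ((T : Subgroup G) : Set G)) →
      ((S : Subgroup G) ⊓ Subgroup.normalizer ((T : Subgroup G) : Set G)) ⊓
        ⁅Subgroup.normalizer (T : Set G), Subgroup.normalizer (T : Set G)⁆ ≤
      T2 W V (Subgroup.normalizer ((T : Subgroup G) : Set G))
        ((S : Subgroup G) ⊓ Subgroup.normalizer ((T : Subgroup G) : Set G))) :
    ∀ (d : ℕ) (T : Subgroup G), T ≤ (S : Subgroup G) →
      (S : Subgroup G) ⊓ Subgroup.centralizer ((S : Subgroup G) : Set G) ≤ T →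
      ¬ p ∣ ((S : Subgroup G) ⊓ Subgroup.normalizer ((T : Subgroup G) : Set G)).relIndex
        (Subgroup.normalizer ((T : Subgroup G) : Set G)) →
      GoodIn (S : Subgroup G) ((S : Subgroup G) ⊓ Subgroup.normalizer (T : Set G)) →
      Nat.card (S : Subgroup G) - Nat.card ((S : Subgroup G) ⊓ Subgroup.normalizer (T : Set G) : Subgroup G) = d →
      ((S : Subgroup G) ⊓ Subgroup.normalizer (T : Set G)) ⊓
        ⁅Subgroup.normalizer (T : Set G), Subgroup.normalizer (T : Set G)⁆ ≤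
      T2 W V ⊤ (S : Subgroup G) := by
  intro d
  induction d using Nat.strong_induction_on with
  | _ d ih =>
  intro T hTS hZT htame hgood hd
  obtain ⟨K, hK⟩ : ∃ K : Subgroup G, K = T2 W V ⊤ (S : Subgroup G) := ⟨_, rfl⟩
  rw [← hK] at ih ⊢
  have hKA : (S : Subgroup G) ⊓ ⁅Subgroup.normalizer ((W (S : Subgroup G) : Subgroup G) : Set G),
      Subgroup.normalizer ((W (S : Subgroup G) : Subgroup G) : Set G)⁆ ≤ K := by
    rw [hK]; unfold T2; simp only [top_inf_eq]; exact le_sup_left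
  have hKB : (S : Subgroup G) ⊓ ⁅Subgroup.centralizer ((V (S : Subgroup G) : Subgroup G) : Set G),
      Subgroup.centralizer ((V (S : Subgroup G) : Subgroup G) : Set G)⁆ ≤ K := by
    rw [hK]; unfold T2; simp only [top_inf_eq]; exact le_sup_right
  have hlocT := hloc T hTS hZT htame
  obtain ⟨N₁, hN₁⟩ : ∃ N₁ : Subgroup G, N₁ = (S : Subgroup G) ⊓ Subgroup.normalizer (T : Set G) := ⟨_, rfl⟩
  rw [← hN₁] at htame hd hgood hlocT ⊢
  have hN₁S' : N₁ ≤ (S : Subgroup G) := hN₁ ▸ inf_le_left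
  have hN₁N : N₁ ≤ Subgroup.normalizer (T : Set G) := hN₁ ▸ inf_le_right
  have hN₁p : IsPGroup p N₁ := S.2.to_le hN₁S'
  have hTN₁ : T ≤ N₁ := hN₁ ▸ le_inf hTS Subgroup.le_normalizer
  have hZN₁ : (S : Subgroup G) ⊓ Subgroup.centralizer ((S : Subgroup G) : Set G) ≤ N₁ := hZT.trans hTN₁
  have hN₁pos : 0 < Nat.card N₁ := Nat.card_pos
  refine hlocT.trans ?_
  unfold T2
  refine sup_le ?_ ?_
  · by_cases hN₁S : N₁ = S
    · rw [hN₁S]
      refine le_trans ?_ hKA
      exact inf_le_inf_left _ (Subgroup.commutator_mono inf_le_right inf_le_right)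
    · obtain ⟨V₀, hV₀⟩ : ∃ V₀ : Subgroup G, V₀ = W N₁ := ⟨_, rfl⟩
      rw [← hV₀]
      have hVN₁ : V₀ ≤ N₁ := hV₀ ▸ functor_le hW hN₁p
      have hVS' : V₀ ≤ (S : Subgroup G) := le_trans hVN₁ hN₁S'
      have hNN : Subgroup.normalizer (N₁ : Set G) ≤ Subgroup.normalizer (V₀ : Set G) :=
        hV₀ ▸ normalizer_le_normalizer_functor hW hN₁p
      obtain ⟨N₂, hN₂⟩ : ∃ N₂ : Subgroup G, N₂ = (S : Subgroup G) ⊓ Subgroup.normalizer (V₀ : Set G) := ⟨_, rfl⟩
      have hN₂S' : N₂ ≤ (S : Subgroup G) := hN₂ ▸ inf_le_left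
      have hN₂N : N₂ ≤ Subgroup.normalizer (V₀ : Set G) := hN₂ ▸ inf_le_right
      have hN₁N₂ : N₁ ≤ N₂ :=
        hN₂ ▸ le_inf hN₁S' (le_trans Subgroup.le_normalizer hNN)
      have hlt : N₁ < N₂ := by
        obtain ⟨x, hxS, hxN, hxT⟩ := exists_mem_normalizer_not_mem S.2 hN₁S' hN₁S
        refine lt_of_le_of_ne hN₁N₂ (fun hh => hxT ?_)
        rw [hh, hN₂]
        exact ⟨hxS, hNN hxN⟩
      have hcard := card_lt_card_of_lt' hlt
      have hN₂S : Nat.card N₂ ≤ Nat.card (S : Subgroup G) := Subgroup.card_le_of_le hN₂S'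
      obtain ⟨c₀, hcS, hctame⟩ := exists_tame_conj S V₀ (S.2.to_le hVS')
      obtain ⟨h, hhV, hhS⟩ := exists_conj_tame' S hctame c₀ rfl
      rw [← hN₂] at hhS
      obtain ⟨V', hV'⟩ : ∃ V' : Subgroup G, V' = V₀⟪c₀⟫ := ⟨_, rfl⟩
      rw [← hV'] at hcS hctame hhV
      have hN₂h : N₂⟪h⟫ ≤ (S : Subgroup G) ⊓ Subgroup.normalizer (V' : Set G) := by
        refine le_inf hhS ?_
        rw [← hhV, normalizer_map_conj]
        exact Subgroup.map_mono hN₂N
      have hN₁h : N₁⟪h⟫ ≤ N₂⟪h⟫ := Subgroup.map_mono hN₁N₂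
      have hN₁hS : N₁⟪h⟫ ≤ (S : Subgroup G) := hN₁h.trans hhS
      have hZN₁h : (S : Subgroup G) ⊓ Subgroup.centralizer ((S : Subgroup G) : Set G) ≤ N₁⟪h⟫ :=
        hgood h hN₁hS
      have hZV' : (S : Subgroup G) ⊓ Subgroup.centralizer ((S : Subgroup G) : Set G) ≤ V' := by
        have h1 : (S : Subgroup G) ⊓ Subgroup.centralizer ((S : Subgroup G) : Set G) ≤
            N₁⟪h⟫ ⊓ Subgroup.centralizer ((N₁⟪h⟫ : Subgroup G) : Set G) :=
          le_inf hZN₁h (inf_le_right.trans (Subgroup.centralizer_le (by exact_mod_cast hN₁hS)))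
        refine h1.trans ((hWZ _ (hN₁p.map _)).trans ?_)
        rw [functor_map_conj hW hN₁p, ← hV₀, hhV]
      have hgoodV' : GoodIn (S : Subgroup G) ((S : Subgroup G) ⊓ Subgroup.normalizer (V' : Set G)) :=
        (hgood.conj h).mono (hN₁h.trans hN₂h)
      have hcardh : Nat.card N₂ ≤ Nat.card ((S : Subgroup G) ⊓ Subgroup.normalizer (V' : Set G) : Subgroup G) := by
        rw [Nat.card_congr (N₂.equivMapOfInjective (MulAut.conj h).toMonoidHom (MulAut.conj h).injective).toEquiv]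
        exact Subgroup.card_le_of_le hN₂h
      have hV'S : Nat.card ((S : Subgroup G) ⊓ Subgroup.normalizer (V' : Set G) : Subgroup G) ≤
          Nat.card (S : Subgroup G) := Subgroup.card_le_of_le inf_le_left
      have ihV' := ih _ (by omega) V' hcS hZV' hctame hgoodV' rfl
      obtain ⟨𝓟, h𝓟⟩ : ∃ 𝓟 : Subgroup G → Prop,
        𝓟 = fun U : Subgroup G => Nat.card N₁ + 1 ≤ Nat.card U ∧ GoodIn (S : Subgroup G) U := ⟨_, rfl⟩
      obtain ⟨𝓕, h𝓕⟩ : ∃ 𝓕 : Set (Subgroup G), 𝓕 = {U | U ≤ (S : Subgroup G) ∧ 𝓟 U ∧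
        ¬ p ∣ ((S : Subgroup G) ⊓ Subgroup.normalizer ((U : Subgroup G) : Set G)).relIndex
          (Subgroup.normalizer ((U : Subgroup G) : Set G))} := ⟨_, rfl⟩
      have hstep : ∀ U ∈ 𝓕, U ≠ ⊥ →
          ∀ y ∈ Subgroup.normalizer (U : Set G), ∀ a ∈ U, a * (y⁻¹ * a * y)⁻¹ ∈ K := by
        intro U hU _ y hy a ha
        rw [h𝓕] at hU
        obtain ⟨hUS, hUP, hUtame⟩ := hU
        rw [h𝓟] at hUP
        have hUle : U ≤ (S : Subgroup G) ⊓ Subgroup.normalizer (U : Set G) := le_inf hUS Subgroup.le_normalizer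
        have hc1 : Nat.card U ≤ Nat.card ((S : Subgroup G) ⊓ Subgroup.normalizer (U : Set G) : Subgroup G) :=
          Subgroup.card_le_of_le hUle
        have hc2 : Nat.card ((S : Subgroup G) ⊓ Subgroup.normalizer (U : Set G) : Subgroup G) ≤
            Nat.card (S : Subgroup G) := Subgroup.card_le_of_le inf_le_left
        have hc3 := hUP.1
        apply ih _ (by omega) U hUS (hUP.2.center_le hUS) hUtame (hUP.2.mono hUle) rfl
        have hyi : y⁻¹ ∈ Subgroup.normalizer (U : Set G) := Subgroup.inv_mem _ hy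
        have hconj : y⁻¹ * a * y ∈ U := by
          have := (Subgroup.mem_normalizer_iff.mp hyi a).mp ha
          simpa using this
        refine ⟨hUle (U.mul_mem ha (U.inv_mem hconj)), ?_⟩
        have e : a * (y⁻¹ * a * y)⁻¹ = ⁅a, y⁻¹⁆ := by rw [commutatorElement_def]; group
        rw [e]
        exact Subgroup.commutator_mem_commutator (Subgroup.le_normalizer ha) hyi
      intro x hx
      have hxN₂ : x ∈ N₂ := hN₁N₂ (Subgroup.mem_inf.mp hx).1
      have hxc : x ∈ ⁅Subgroup.normalizer (V₀ : Set G), Subgroup.normalizer (V₀ : Set G)⁆ :=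
        Subgroup.commutator_mono inf_le_right inf_le_right (Subgroup.mem_inf.mp hx).2
      have h1 : h * x * h⁻¹ ∈ K := by
        apply ihV'
        refine ⟨hN₂h (conj_mem_map_conj N₂ h hxN₂), ?_⟩
        rw [← hhV, normalizer_map_conj, ← Subgroup.map_commutator]
        exact conj_mem_map_conj _ h hxc
      by_cases hx1 : x = 1
      · rw [hx1]; exact K.one_mem
      · have hg : conjR h⁻¹ (N₂ : Set G) ⊆ (S : Subgroup G) := by
          rw [← coe_map_conj]; exact_mod_cast hhS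
        have hch : FChain 𝓕 (N₂ : Set G) h⁻¹ := by
          apply fchain_of_tame_pred S 𝓕 𝓟 ?_ ?_ ?_ ?_ _ N₂ hN₂S' ?_ rfl h⁻¹ hg
          · intro T' g hT'
            rw [h𝓟] at hT' ⊢
            refine ⟨?_, hT'.2.conj g⟩
            rw [← Nat.card_congr (T'.equivMapOfInjective _ (MulAut.conj g).injective).toEquiv]
            exact hT'.1
          · intro T' T'' hle hT'
            rw [h𝓟] at hT' ⊢
            exact ⟨hT'.1.trans (Subgroup.card_le_of_le hle), hT'.2.mono hle⟩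
          · intro R hRS hPR
            obtain ⟨x, hxS, hxtame⟩ := exists_tame_conj S R (S.2.to_le hRS)
            refine ⟨_, ?_, ⟨x, rfl⟩, hxtame⟩
            rw [h𝓕]
            refine ⟨hxS, ?_, hxtame⟩
            rw [h𝓟] at hPR ⊢
            refine ⟨?_, hPR.2.conj x⟩
            rw [← Nat.card_congr (R.equivMapOfInjective _ (MulAut.conj x).injective).toEquiv]
            exact hPR.1
          · intro U hU
            rw [h𝓕] at hU
            exact hU.1
          · rw [h𝓟]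
            exact ⟨by omega, hgood.mono hN₁N₂⟩
        have h2 := hch.telescope hstep x hxN₂ hx1
        rw [inv_inv] at h2
        have := K.mul_mem h2 h1
        have e : x * (h * x * h⁻¹)⁻¹ * (h * x * h⁻¹) = x := by group
        rwa [e] at this
  · refine le_trans ?_ hKB
    refine inf_le_inf hN₁S' (Subgroup.commutator_mono ?_ ?_)
    · exact inf_le_right.trans (Subgroup.centralizer_le (by exact_mod_cast hVS N₁ hN₁S' hZN₁))
    · exact inf_le_right.trans (Subgroup.centralizer_le (by exact_mod_cast hVS N₁ hN₁S' hZN₁))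

end

end Cfsg.Agent.Helper33
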