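import Cfsg.Agent.Helper33.TwoFunctorTransfer

set_option autoImplicit false

open scoped commutatorElement

namespace Cfsg.Agent.Helper33

variable {G : Type*} [Group G]

local notation:max H "⟪" g "⟫" => Subgroup.map (MulEquiv.toMonoidHom (MulAut.conj g)) H

section

variable {p : ℕ} [Fact p.Prime] [Finite G] {W V : Subgroup G → Subgroup G}
  (hW : Cfsg.IsConjugacyFunctor p W) (S : Sylow p G)
  (hWZ : ∀ H : Subgroup G, IsPGroup p ↥H → H ⊓ Subgroup.centralizer ((H : Subgroup G) : Set G) ≤ W H)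
  (hVS : ∀ N₁ : Subgroup G, N₁ ≤ (S : Subgroup G) →
    (S : Subgroup G) ⊓ Subgroup.centralizer ((S : Subgroup G) : Set G) ≤ N₁ → V (S : Subgroup G) ≤ V N₁)

include hW hWZ hVS

theorem tame_transfer_step2
    (hloc : ∀ T : Subgroup G, T ≤ (S : Subgroup G) →
      (S : Subgroup G) ⊓ Subgroup.centralizer ((S : Subgroup G) : Set G) ≤ T →
      ¬ p ∣ ((S : Subgroup G) ⊓ Subgroup.normalizer ((T : Subgroup G) : Set G)).relIndex
        (Subgroup.normalizer ((T : Subgroup G) : Set G)) →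
      ((S : Subgroup G) ⊓ Subgroup.normalizer ((T : Subgroup G) : Set G)) ⊓
        ⁅Subgroup.normalizer (T : Set G), Subgroup.normalizer (T : Set G)⁆ ≤
      T2 W V (Subgroup.normalizer ((T : Subgroup G) : Set G))
        ((S : Subgroup G) ⊓ Subgroup.normalizer ((T : Subgroup G) : Set G))) :
    ∀ (n : ℕ) (U : Subgroup G), U ≤ (S : Subgroup G) →
      ¬ p ∣ ((S : Subgroup G) ⊓ Subgroup.normalizer ((U : Subgroup G) : Set G)).relIndex
        (Subgroup.normalizer ((U : Subgroup G) : Set G)) →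
      Nat.card (S : Subgroup G) - Nat.card U = n →
      ∀ x ∈ Subgroup.normalizer (U : Set G), ∀ a ∈ U,
        a * (x⁻¹ * a * x)⁻¹ ∈ T2 W V ⊤ (S : Subgroup G) := by
  intro n
  induction n using Nat.strong_induction_on with
  | _ n ih =>
  intro U hUS htame hn x hx a ha
  have hUle : U ≤ (S : Subgroup G) ⊓ Subgroup.normalizer (U : Set G) := le_inf hUS Subgroup.le_normalizer
  have hxi : x⁻¹ ∈ Subgroup.normalizer (U : Set G) := Subgroup.inv_mem _ hx
  have hxa : x⁻¹ * a * x ∈ U := by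
    have := (Subgroup.mem_normalizer_iff.mp hxi a).mp ha
    simpa using this
  by_cases hcent : (S : Subgroup G) ⊓ Subgroup.centralizer (U : Set G) ≤ U
  · have hgood := goodIn_of_tame_of_centric S hUS htame hcent
    apply tame_transfer_le2 hW S hWZ hVS hloc _ U hUS (hgood.center_le hUS) htame (hgood.mono hUle) rfl
    refine ⟨hUle (U.mul_mem ha (U.inv_mem hxa)), ?_⟩
    have e : a * (x⁻¹ * a * x)⁻¹ = ⁅a, x⁻¹⁆ := by rw [commutatorElement_def]; group
    rw [e]
    exact Subgroup.commutator_mem_commutator (Subgroup.le_normalizer ha) hxi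
  · obtain ⟨C, hC⟩ : ∃ C : Subgroup G, C = (S : Subgroup G) ⊓ Subgroup.centralizer (U : Set G) := ⟨_, rfl⟩
    have hidx := not_dvd_relIndex_centralizer_of_tame S htame
    rw [← hC] at hidx hcent
    have hCS : C ≤ (S : Subgroup G) := hC ▸ inf_le_left
    have hCC : C ≤ Subgroup.centralizer (U : Set G) := hC ▸ inf_le_right
    have hCp : IsPGroup p C := S.2.to_le hCS
    have hUx : U⟪x⁻¹⟫ = U := map_conj_inv_eq_of_mem_normalizer hx
    have hCx : C⟪x⁻¹⟫ ≤ Subgroup.centralizer (U : Set G) := by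
      have := Subgroup.map_mono (f := (MulAut.conj x⁻¹).toMonoidHom) hCC
      rwa [← centralizer_map_conj, hUx] at this
    obtain ⟨m, hmC, hm⟩ := exists_conj_le_of_not_dvd_relIndex hCC hCp hidx hCx (hCp.map _)
    obtain ⟨x', hx'⟩ : ∃ x' : G, x' = x * m⁻¹ := ⟨_, rfl⟩
    have hx'C : x' ∈ Subgroup.normalizer (C : Set G) := by
      apply mem_normalizer_of_conjR_subset
      rintro _ ⟨c, hc, rfl⟩
      have h1 : x⁻¹ * c * x⁻¹⁻¹ ∈ C⟪x⁻¹⟫ := conj_mem_map_conj C x⁻¹ hc
      have h2 := hm _ h1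
      have e : x'⁻¹ * c * x' = m * (x⁻¹ * c * x⁻¹⁻¹) * m⁻¹ := by rw [hx']; group
      show x'⁻¹ * c * x' ∈ C
      rw [e]; exact h2
    have hmN : m ∈ Subgroup.normalizer (U : Set G) := Subgroup.centralizer_le_normalizer _ hmC
    have hx'U : x' ∈ Subgroup.normalizer (U : Set G) := by
      rw [hx']
      exact Subgroup.mul_mem _ hx (Subgroup.inv_mem _ hmN)
    obtain ⟨Us, hUs⟩ : ∃ Us : Subgroup G, Us = U ⊔ C := ⟨_, rfl⟩
    have hUsS : Us ≤ (S : Subgroup G) := hUs ▸ sup_le hUS hCS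
    have hUUs : U ≤ Us := hUs ▸ le_sup_left
    have hlt : U < Us := by
      refine lt_of_le_of_ne hUUs (fun hh => hcent ?_)
      rw [hh, hUs]; exact le_sup_right
    have hcard := card_lt_card_of_lt' hlt
    have hUsx' : conjR x' (Us : Set G) ⊆ (S : Subgroup G) := by
      rw [← coe_map_conj_inv, hUs, Subgroup.map_sup, map_conj_inv_eq_of_mem_normalizer hx'U,
        map_conj_inv_eq_of_mem_normalizer hx'C, ← hUs]
      exact_mod_cast hUsS
    have hch := fchain_tameFamily S (Nat.card U + 1) Us hUsS (by omega) x' hUsx'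
    have hstep : ∀ U' ∈ tameFamily p (S : Subgroup G) (Nat.card U + 1), U' ≠ ⊥ →
        ∀ y ∈ Subgroup.normalizer (U' : Set G), ∀ b ∈ U',
        b * (y⁻¹ * b * y)⁻¹ ∈ T2 W V ⊤ (S : Subgroup G) := by
      intro U' hU' _ y hy b hb
      have hc1 : Nat.card U' ≤ Nat.card (S : Subgroup G) := Subgroup.card_le_of_le hU'.1
      have hc2 := hU'.2.1
      exact ih _ (by omega) U' hU'.1 hU'.2.2 rfl y hy b hb
    have hcomm := (Subgroup.mem_centralizer_iff.mp hmC) _ hxa
    have hxx' : x'⁻¹ * a * x' = x⁻¹ * a * x := by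
      rw [hx']
      calc (x * m⁻¹)⁻¹ * a * (x * m⁻¹) = m * (x⁻¹ * a * x) * m⁻¹ := by group
        _ = (x⁻¹ * a * x) * m * m⁻¹ := by rw [hcomm]
        _ = x⁻¹ * a * x := by group
    by_cases ha1 : a = 1
    · rw [ha1]; simp
    · have := hch.telescope hstep a (hUUs ha) ha1
      rwa [hxx'] at this

theorem t2_top_of_local
    (hloc : ∀ T : Subgroup G, T ≤ (S : Subgroup G) →
      (S : Subgroup G) ⊓ Subgroup.centralizer ((S : Subgroup G) : Set G) ≤ T →
      ¬ p ∣ ((S : Subgroup G) ⊓ Subgroup.normalizer ((T : Subgroup G) : Set G)).relIndex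
        (Subgroup.normalizer ((T : Subgroup G) : Set G)) →
      ((S : Subgroup G) ⊓ Subgroup.normalizer ((T : Subgroup G) : Set G)) ⊓
        ⁅Subgroup.normalizer (T : Set G), Subgroup.normalizer (T : Set G)⁆ ≤
      T2 W V (Subgroup.normalizer ((T : Subgroup G) : Set G))
        ((S : Subgroup G) ⊓ Subgroup.normalizer ((T : Subgroup G) : Set G))) :
    (S : Subgroup G) ⊓ commutator G ≤ T2 W V ⊤ (S : Subgroup G) := by
  have hfam : ∀ T : Subgroup G, T ≤ (S : Subgroup G) →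
      ∃ U ∈ tameFamily p (S : Subgroup G) 0,
        (∃ g : G, T⟪g⟫ = U) ∧
        ¬ p ∣ ((S : Subgroup G) ⊓ Subgroup.normalizer ((U : Subgroup G) : Set G)).relIndex
          (Subgroup.normalizer ((U : Subgroup G) : Set G)) := by
    intro T hT
    obtain ⟨x, hxS, hxtame⟩ := exists_tame_conj S T (S.2.to_le hT)
    exact ⟨_, ⟨hxS, Nat.zero_le _, hxtame⟩, ⟨x, rfl⟩, hxtame⟩
  apply focal_le_of_family S _ (fun U hU => hU.1) hfam
  intro T hT _ y hy a ha
  exact tame_transfer_step2 hW S hWZ hVS hloc _ T hT.1 hT.2.2 rfl y hy a ha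

end

end Cfsg.Agent.Helper33
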