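import Cfsg.Agent.Helper33.Tower

set_option autoImplicit false

namespace Cfsg.Agent.Helper33

variable {G : Type*} [Group G]

local notation:max H "⟪" g "⟫" => Subgroup.map (MulEquiv.toMonoidHom (MulAut.conj g)) H

section

variable {p : ℕ} {W : Subgroup G → Subgroup G} (hW : Cfsg.IsConjugacyFunctor p W)
variable [Fact p.Prime] [Finite G] (S : Sylow p G)

include hW

omit hW in
/-- If the tower of `T₂` at level `j` is the `h`-conjugate of that of `T`, the conjugate of `N_S` stays in
`S` and `N_S` is Sylow in the normalizer, then `N_S` of the new tower is the conjugate of the old one. -/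
theorem nm_conj_eq {T T₂ : Subgroup G} {h : G} {j : ℕ}
    (htw : Cfsg.functorTower W (S : Subgroup G) T₂ j = (Cfsg.functorTower W (S : Subgroup G) T j)⟪h⟫)
    (hS : ((S : Subgroup G) ⊓ Subgroup.normalizer
      ((Cfsg.functorTower W (S : Subgroup G) T j : Subgroup G) : Set G))⟪h⟫ ≤ (S : Subgroup G))
    (hidx : ¬ p ∣ ((S : Subgroup G) ⊓ Subgroup.normalizer
      ((Cfsg.functorTower W (S : Subgroup G) T j : Subgroup G) : Set G)).relIndex
      (Subgroup.normalizer ((Cfsg.functorTower W (S : Subgroup G) T j : Subgroup G) : Set G))) :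
    (S : Subgroup G) ⊓ Subgroup.normalizer
      ((Cfsg.functorTower W (S : Subgroup G) T₂ j : Subgroup G) : Set G) =
    ((S : Subgroup G) ⊓ Subgroup.normalizer
      ((Cfsg.functorTower W (S : Subgroup G) T j : Subgroup G) : Set G))⟪h⟫ := by
  rw [htw, normalizer_map_conj]
  symm
  apply eq_of_le_of_not_dvd_relIndex (p := p) (le_inf hS (Subgroup.map_mono inf_le_right)) inf_le_right
    (S.2.to_le inf_le_left)
  rw [relIndex_map_conj]
  exact hidx

/-- Conjugating `T` by `h` conjugates the tower up to level `k`, provided `N_S` of level `k` is carried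
into `S` and the levels below `k` satisfy the Sylow condition. -/
theorem tower_conj {T : Subgroup G} {h : G} {k : ℕ}
    (hS : ((S : Subgroup G) ⊓ Subgroup.normalizer
      ((Cfsg.functorTower W (S : Subgroup G) T k : Subgroup G) : Set G))⟪h⟫ ≤ (S : Subgroup G))
    (hidx : ∀ i < k, ¬ p ∣ ((S : Subgroup G) ⊓ Subgroup.normalizer
      ((Cfsg.functorTower W (S : Subgroup G) T i : Subgroup G) : Set G)).relIndex
      (Subgroup.normalizer ((Cfsg.functorTower W (S : Subgroup G) T i : Subgroup G) : Set G))) :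
    ∀ i ≤ k, Cfsg.functorTower W (S : Subgroup G) (T⟪h⟫) i =
      (Cfsg.functorTower W (S : Subgroup G) T i)⟪h⟫ := by
  intro i
  induction i with
  | zero => intro _; rfl
  | succ i ih =>
    intro hik
    have hi : i < k := hik
    have htw := ih hi.le
    have hSi : ((S : Subgroup G) ⊓ Subgroup.normalizer
        ((Cfsg.functorTower W (S : Subgroup G) T i : Subgroup G) : Set G))⟪h⟫ ≤ (S : Subgroup G) :=
      le_trans (Subgroup.map_mono (nm_mono hW S T hi.le)) hS
    have hnm := nm_conj_eq S htw hSi (hidx i hi)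
    rw [functorTower_succ W, functorTower_succ W, hnm]
    exact functor_map_conj hW (S.2.to_le inf_le_left) h

/-- One step: a conjugate that is well placed up to level `k` can be improved to level `k + 1`. -/
theorem wellPlaced_step {T : Subgroup G} {k : ℕ} (hT : T ≤ (S : Subgroup G))
    (hidx : ∀ i < k, ¬ p ∣ ((S : Subgroup G) ⊓ Subgroup.normalizer
      ((Cfsg.functorTower W (S : Subgroup G) T i : Subgroup G) : Set G)).relIndex
      (Subgroup.normalizer ((Cfsg.functorTower W (S : Subgroup G) T i : Subgroup G) : Set G))) :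
    ∃ h : G, T⟪h⟫ ≤ (S : Subgroup G) ∧
      ∀ i < k + 1, ¬ p ∣ ((S : Subgroup G) ⊓ Subgroup.normalizer
        ((Cfsg.functorTower W (S : Subgroup G) (T⟪h⟫) i : Subgroup G) : Set G)).relIndex
        (Subgroup.normalizer ((Cfsg.functorTower W (S : Subgroup G) (T⟪h⟫) i : Subgroup G) : Set G)) := by
  set Wk := Cfsg.functorTower W (S : Subgroup G) T k with hWk
  have hWkS : Wk ≤ (S : Subgroup G) := tower_le hW S hT k
  obtain ⟨c, hcS, hctame⟩ := exists_tame_conj S Wk (S.2.to_le hWkS)
  obtain ⟨h, hU, hSk⟩ := exists_conj_tame' S hctame c rfl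
  have htc := tower_conj hW S hSk hidx
  refine ⟨h, ?_, ?_⟩
  · refine le_trans (Subgroup.map_mono ?_) hSk
    exact le_trans (le_nm_zero W hT) (nm_mono hW S T (Nat.zero_le k))
  · intro i hi
    rcases Nat.lt_succ_iff_lt_or_eq.mp hi with hlt | heq
    · have htw := htc i hlt.le
      have hSi : ((S : Subgroup G) ⊓ Subgroup.normalizer
          ((Cfsg.functorTower W (S : Subgroup G) T i : Subgroup G) : Set G))⟪h⟫ ≤ (S : Subgroup G) :=
        le_trans (Subgroup.map_mono (nm_mono hW S T hlt.le)) hSk
      rw [nm_conj_eq S htw hSi (hidx i hlt), htw, normalizer_map_conj, relIndex_map_conj]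
      exact hidx i hlt
    · subst heq
      rw [htc i le_rfl, hU]
      exact hctame

theorem exists_wellPlaced_upto {T : Subgroup G} (hT : T ≤ (S : Subgroup G)) (k : ℕ) :
    ∃ g : G, T⟪g⟫ ≤ (S : Subgroup G) ∧
      ∀ i < k, ¬ p ∣ ((S : Subgroup G) ⊓ Subgroup.normalizer
        ((Cfsg.functorTower W (S : Subgroup G) (T⟪g⟫) i : Subgroup G) : Set G)).relIndex
        (Subgroup.normalizer ((Cfsg.functorTower W (S : Subgroup G) (T⟪g⟫) i : Subgroup G) : Set G)) := by
  induction k with
  | zero =>
    refine ⟨1, ?_, fun i hi => absurd hi (Nat.not_lt_zero i)⟩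
    rw [map_conj_one]; exact hT
  | succ k ih =>
    obtain ⟨g, hgS, hg⟩ := ih
    obtain ⟨h, hhS, hh⟩ := wellPlaced_step hW S hgS hg
    rw [map_conj_map_conj] at hhS hh
    exact ⟨h * g, hhS, hh⟩

theorem exists_wellPlaced_conj {T : Subgroup G} (hT : T ≤ (S : Subgroup G)) :
    ∃ g : G, Cfsg.IsWellPlaced p W (S : Subgroup G) (T⟪g⟫) := by
  obtain ⟨g, hgS, hg⟩ := exists_wellPlaced_upto hW S hT (Nat.card (S : Subgroup G) + 1)
  refine ⟨g, hgS, ?_⟩
  intro i
  by_cases hi : i < Nat.card (S : Subgroup G) + 1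
  · exact hg i hi
  · exact tower_after hW S _ (nm_card_eq hW S _) (by omega)

end

end Cfsg.Agent.Helper33
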