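import Cfsg.Agent.Helper39.X648.Defs

/-!
# Helper33: piece (B1) of helper39's S3366 farm — one step of a polycyclic chain
-/

set_option autoImplicit false

namespace Cfsg.Agent.Helper33.X648

open Cfsg.Agent.Helper39.X648

variable {H : Type*} [Group H]

/-- (B1) one step of a polycyclic chain -/
theorem card_sup_zpowers_le [Finite H] (M : Subgroup H) (g : H) (n : ℕ) (hn : 0 < n)
    (hg : g ^ n ∈ M) (hnorm : ∀ m ∈ M, g * m * g⁻¹ ∈ M) :
    Nat.card ↥(M ⊔ Subgroup.zpowers g) ≤ n * Nat.card M := by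
  have hpow : ∀ k : ℕ, ∀ m ∈ M, g ^ k * m * (g ^ k)⁻¹ ∈ M := by
    intro k
    induction k with
    | zero => intro m hm; simpa using hm
    | succ k ih =>
      intro m hm
      have h1 := hnorm _ (ih m hm)
      have h2 : g ^ (k + 1) * m * (g ^ (k + 1))⁻¹ = g * (g ^ k * m * (g ^ k)⁻¹) * g⁻¹ := by
        rw [pow_succ']; group
      rw [h2]; exact h1
  have hinv : ∀ m ∈ M, g⁻¹ * m * g ∈ M := by
    intro m hm
    obtain ⟨k, rfl⟩ : ∃ k, n = k + 1 := ⟨n - 1, by omega⟩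
    have h1 := hpow k m hm
    have h2 : (g ^ (k + 1))⁻¹ * (g ^ k * m * (g ^ k)⁻¹) * g ^ (k + 1) ∈ M :=
      M.mul_mem (M.mul_mem (M.inv_mem hg) h1) hg
    have h3 : (g ^ (k + 1))⁻¹ * (g ^ k * m * (g ^ k)⁻¹) * g ^ (k + 1) = g⁻¹ * m * g := by
      rw [pow_succ]; group
    rw [← h3]; exact h2
  have hgN : g ∈ Subgroup.normalizer (M : Set H) := by
    rw [Subgroup.mem_normalizer_iff]
    intro h
    constructor
    · exact hnorm h
    · intro hh
      have h1 := hinv _ hh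
      have h2 : g⁻¹ * (g * h * g⁻¹) * g = h := by group
      rwa [h2] at h1
  have hle : Subgroup.zpowers g ≤ Subgroup.normalizer (M : Set H) := by
    rw [Subgroup.zpowers_le]; exact hgN
  have hcoe := Subgroup.coe_mul_of_right_le_normalizer_left M (Subgroup.zpowers g) hle
  have hmemf : ∀ (m : M) (k : Fin n), (m : H) * g ^ (k : ℕ) ∈ M ⊔ Subgroup.zpowers g := by
    intro m k
    exact (M ⊔ Subgroup.zpowers g).mul_mem (le_sup_left (a := M) m.2)
      (le_sup_right (a := M) (Subgroup.pow_mem _ (Subgroup.mem_zpowers g) _))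
  let f : M × Fin n → ↥(M ⊔ Subgroup.zpowers g) := fun p => ⟨(p.1 : H) * g ^ (p.2 : ℕ), hmemf p.1 p.2⟩
  have hsurj : Function.Surjective f := by
    rintro ⟨x, hx⟩
    have hx' : x ∈ ((M ⊔ Subgroup.zpowers g : Subgroup H) : Set H) := hx
    rw [hcoe] at hx'
    obtain ⟨m, hm, y, hy, rfl⟩ := hx'
    obtain ⟨z, rfl⟩ := Subgroup.mem_zpowers_iff.mp hy
    have hnz : (n : ℤ) ≠ 0 := by exact_mod_cast hn.ne'
    have hz : z = (n : ℤ) * (z / n) + z % n := (Int.mul_ediv_add_emod z n).symm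
    have hmod0 : 0 ≤ z % (n : ℤ) := Int.emod_nonneg z hnz
    have hmodlt : z % (n : ℤ) < n := Int.emod_lt_of_pos z (by exact_mod_cast hn)
    obtain ⟨k, hk⟩ := Int.eq_ofNat_of_zero_le hmod0
    have hkn : k < n := by
      have : (k : ℤ) < n := by rw [← hk]; exact hmodlt
      exact_mod_cast this
    have hgz : g ^ z = (g ^ n) ^ (z / n) * g ^ k := by
      conv_lhs => rw [hz]
      rw [zpow_add, zpow_mul, hk, zpow_natCast, zpow_natCast]
    refine ⟨(⟨m * (g ^ n) ^ (z / n), M.mul_mem hm (M.zpow_mem hg _)⟩, ⟨k, hkn⟩), ?_⟩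
    apply Subtype.ext
    show m * (g ^ n) ^ (z / (n : ℤ)) * g ^ k = m * g ^ z
    rw [hgz, mul_assoc]
  have h1 := Nat.card_le_card_of_surjective f hsurj
  rw [Nat.card_prod, Nat.card_fin] at h1
  rw [Nat.mul_comm]; exact h1

end Cfsg.Agent.Helper33.X648
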