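import Cfsg.Agent.Helper39.X648.Defs

/-!
# Helper33: piece (B2) of helper39's S3366 farm — the relations bound the order by 648
-/

set_option autoImplicit false

namespace Cfsg.Agent.Helper33.X648

open Cfsg.Agent.Helper39.X648

variable {H : Type*} [Group H]

theorem conj_bot_aux (M' : Subgroup H) (g : H) : ∀ m ∈ (⊥ : Subgroup H), g * m * g⁻¹ ∈ M' := by
  intro m hm
  rw [Subgroup.mem_bot] at hm
  subst hm
  simp

theorem conj_sup_aux {M M' : Subgroup H} {s g : H} (h1 : ∀ m ∈ M, g * m * g⁻¹ ∈ M')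
    (h2 : g * s * g⁻¹ ∈ M') : ∀ m ∈ M ⊔ Subgroup.zpowers s, g * m * g⁻¹ ∈ M' := by
  have hK : M ⊔ Subgroup.zpowers s ≤ M'.comap (MulAut.conj g).toMonoidHom := by
    apply sup_le
    · intro m hm
      rw [Subgroup.mem_comap]
      simpa using h1 m hm
    · rw [Subgroup.zpowers_le, Subgroup.mem_comap]
      simpa using h2
  intro m hm
  have := hK hm
  rw [Subgroup.mem_comap] at this
  simpa using this

/-- (B2) the chain `c, r1, r2, i, j, d` with factors `3, 3, 3, 4, 2, 3` -/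
theorem card_le_of_rel [Finite H] (r1 r2 i j d : H) (h : Rel r1 r2 i j d)
    (hgen : Subgroup.closure {r1, r2, i, j, d} = ⊤)
    (hstep : ∀ (M : Subgroup H) (g : H) (n : ℕ), 0 < n → g ^ n ∈ M →
      (∀ m ∈ M, g * m * g⁻¹ ∈ M) → Nat.card ↥(M ⊔ Subgroup.zpowers g) ≤ n * Nat.card M) :
    Nat.card H ≤ 648 := by
  obtain ⟨c, hc⟩ : ∃ c, c = cm r1 r2 := ⟨_, rfl⟩
  obtain ⟨M0, hM0⟩ : ∃ M0 : Subgroup H, M0 = ⊥ ⊔ Subgroup.zpowers c := ⟨_, rfl⟩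
  obtain ⟨M1, hM1⟩ : ∃ M1 : Subgroup H, M1 = M0 ⊔ Subgroup.zpowers r1 := ⟨_, rfl⟩
  obtain ⟨M2, hM2⟩ : ∃ M2 : Subgroup H, M2 = M1 ⊔ Subgroup.zpowers r2 := ⟨_, rfl⟩
  obtain ⟨M3, hM3⟩ : ∃ M3 : Subgroup H, M3 = M2 ⊔ Subgroup.zpowers i := ⟨_, rfl⟩
  obtain ⟨M4, hM4⟩ : ∃ M4 : Subgroup H, M4 = M3 ⊔ Subgroup.zpowers j := ⟨_, rfl⟩
  obtain ⟨M5, hM5⟩ : ∃ M5 : Subgroup H, M5 = M4 ⊔ Subgroup.zpowers d := ⟨_, rfl⟩
  -- memberships
  have h01 : M0 ≤ M1 := hM1 ▸ le_sup_left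
  have h12 : M1 ≤ M2 := hM2 ▸ le_sup_left
  have h23 : M2 ≤ M3 := hM3 ▸ le_sup_left
  have h34 : M3 ≤ M4 := hM4 ▸ le_sup_left
  have h45 : M4 ≤ M5 := hM5 ▸ le_sup_left
  have c0 : c ∈ M0 := hM0 ▸ (le_sup_right (a := (⊥ : Subgroup H)) (Subgroup.mem_zpowers c))
  have r1_1 : r1 ∈ M1 := hM1 ▸ (le_sup_right (a := M0) (Subgroup.mem_zpowers r1))
  have r2_2 : r2 ∈ M2 := hM2 ▸ (le_sup_right (a := M1) (Subgroup.mem_zpowers r2))
  have i_3 : i ∈ M3 := hM3 ▸ (le_sup_right (a := M2) (Subgroup.mem_zpowers i))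
  have j_4 : j ∈ M4 := hM4 ▸ (le_sup_right (a := M3) (Subgroup.mem_zpowers j))
  have d_5 : d ∈ M5 := hM5 ▸ (le_sup_right (a := M4) (Subgroup.mem_zpowers d))
  have c1 : c ∈ M1 := h01 c0
  have c2 : c ∈ M2 := h12 c1
  have c3 : c ∈ M3 := h23 c2
  have c4 : c ∈ M4 := h34 c3
  have r1_2 : r1 ∈ M2 := h12 r1_1
  have r1_3 : r1 ∈ M3 := h23 r1_2
  have r1_4 : r1 ∈ M4 := h34 r1_3
  have r2_3 : r2 ∈ M3 := h23 r2_2
  have r2_4 : r2 ∈ M4 := h34 r2_3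
  have i_4 : i ∈ M4 := h34 i_3
  -- conjugation facts
  have cc : ∀ g : H, c * g = g * c → g * c * g⁻¹ = c := by
    intro g hg
    rw [← hg]; group
  have e_r1c : r1 * c * r1⁻¹ = c := cc r1 (hc ▸ h.c_r1)
  have e_r2c : r2 * c * r2⁻¹ = c := cc r2 (hc ▸ h.c_r2)
  have e_ic : i * c * i⁻¹ = c := cc i (hc ▸ h.c_i)
  have e_jc : j * c * j⁻¹ = c := cc j (hc ▸ h.c_j)
  have e_dc : d * c * d⁻¹ = c := cc d (hc ▸ h.c_d)
  have e_r2r1 : r2 * r1 * r2⁻¹ = c⁻¹ * r1 := by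
    rw [hc]; unfold cm; group
  have e_ir1 : i * r1 * i⁻¹ = r2 := h.i_r1
  have e_ir2 : i * r2 * i⁻¹ = r1⁻¹ := h.i_r2
  have e_jr1 : j * r1 * j⁻¹ = r1 * r2 * c := hc ▸ h.j_r1
  have e_jr2 : j * r2 * j⁻¹ = r1 * r2⁻¹ * c⁻¹ := hc ▸ h.j_r2
  have e_ji : j * i * j⁻¹ = i⁻¹ := h.j_i
  have e_dr1 : d * r1 * d⁻¹ = r1 := h.d_r1
  have e_dr2 : d * r2 * d⁻¹ = r1 * r2 * c := hc ▸ h.d_r2
  have e_di : d * i * d⁻¹ = j := h.d_i
  have e_dj : d * j * d⁻¹ = i * j := h.d_j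
  -- the six steps
  have s0 : Nat.card M0 ≤ 3 * Nat.card (⊥ : Subgroup H) := by
    rw [hM0]
    refine hstep ⊥ c 3 (by norm_num) ?_ (conj_bot_aux _ _)
    rw [hc, h.c_3]; exact Subgroup.one_mem _
  have n1 : ∀ m ∈ M0, r1 * m * r1⁻¹ ∈ M0 := by
    rw [hM0]
    refine conj_sup_aux (conj_bot_aux _ _) ?_
    rw [e_r1c, ← hM0]; exact c0
  have s1 : Nat.card M1 ≤ 3 * Nat.card M0 := by
    rw [hM1]
    refine hstep M0 r1 3 (by norm_num) ?_ n1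
    rw [h.r1_3]; exact Subgroup.one_mem _
  have n2 : ∀ m ∈ M1, r2 * m * r2⁻¹ ∈ M1 := by
    have a : ∀ m ∈ M0, r2 * m * r2⁻¹ ∈ M1 := by
      rw [hM0]
      refine conj_sup_aux (conj_bot_aux _ _) ?_
      rw [e_r2c]; exact c1
    rw [hM1]
    refine conj_sup_aux (hM1 ▸ a) ?_
    rw [e_r2r1, ← hM1]; exact M1.mul_mem (M1.inv_mem c1) r1_1
  have s2 : Nat.card M2 ≤ 3 * Nat.card M1 := by
    rw [hM2]
    refine hstep M1 r2 3 (by norm_num) ?_ n2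
    rw [h.r2_3]; exact Subgroup.one_mem _
  have n3 : ∀ m ∈ M2, i * m * i⁻¹ ∈ M2 := by
    have a : ∀ m ∈ M0, i * m * i⁻¹ ∈ M2 := by
      rw [hM0]
      refine conj_sup_aux (conj_bot_aux _ _) ?_
      rw [e_ic]; exact c2
    have b : ∀ m ∈ M1, i * m * i⁻¹ ∈ M2 := by
      rw [hM1]
      refine conj_sup_aux a ?_
      rw [e_ir1]; exact r2_2
    rw [hM2]
    refine conj_sup_aux (hM2 ▸ b) ?_
    rw [e_ir2, ← hM2]; exact M2.inv_mem r1_2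
  have s3 : Nat.card M3 ≤ 4 * Nat.card M2 := by
    rw [hM3]
    refine hstep M2 i 4 (by norm_num) ?_ n3
    rw [h.i_4]; exact Subgroup.one_mem _
  have n4 : ∀ m ∈ M3, j * m * j⁻¹ ∈ M3 := by
    have a : ∀ m ∈ M0, j * m * j⁻¹ ∈ M3 := by
      rw [hM0]
      refine conj_sup_aux (conj_bot_aux _ _) ?_
      rw [e_jc]; exact c3
    have b : ∀ m ∈ M1, j * m * j⁻¹ ∈ M3 := by
      rw [hM1]
      refine conj_sup_aux a ?_
      rw [e_jr1]; exact M3.mul_mem (M3.mul_mem r1_3 r2_3) c3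
    have b2 : ∀ m ∈ M2, j * m * j⁻¹ ∈ M3 := by
      rw [hM2]
      refine conj_sup_aux b ?_
      rw [e_jr2]; exact M3.mul_mem (M3.mul_mem r1_3 (M3.inv_mem r2_3)) (M3.inv_mem c3)
    rw [hM3]
    refine conj_sup_aux (hM3 ▸ b2) ?_
    rw [e_ji, ← hM3]; exact M3.inv_mem i_3
  have s4 : Nat.card M4 ≤ 2 * Nat.card M3 := by
    rw [hM4]
    refine hstep M3 j 2 (by norm_num) ?_ n4
    rw [pow_two, h.j_sq]; exact M3.mul_mem i_3 i_3
  have n5 : ∀ m ∈ M4, d * m * d⁻¹ ∈ M4 := by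
    have a : ∀ m ∈ M0, d * m * d⁻¹ ∈ M4 := by
      rw [hM0]
      refine conj_sup_aux (conj_bot_aux _ _) ?_
      rw [e_dc]; exact c4
    have b : ∀ m ∈ M1, d * m * d⁻¹ ∈ M4 := by
      rw [hM1]
      refine conj_sup_aux a ?_
      rw [e_dr1]; exact r1_4
    have b2 : ∀ m ∈ M2, d * m * d⁻¹ ∈ M4 := by
      rw [hM2]
      refine conj_sup_aux b ?_
      rw [e_dr2]; exact M4.mul_mem (M4.mul_mem r1_4 r2_4) c4
    have b3 : ∀ m ∈ M3, d * m * d⁻¹ ∈ M4 := by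
      rw [hM3]
      refine conj_sup_aux b2 ?_
      rw [e_di]; exact j_4
    rw [hM4]
    refine conj_sup_aux (hM4 ▸ b3) ?_
    rw [e_dj, ← hM4]; exact M4.mul_mem i_4 j_4
  have s5 : Nat.card M5 ≤ 3 * Nat.card M4 := by
    rw [hM5]
    refine hstep M4 d 3 (by norm_num) ?_ n5
    rw [h.d_3]; exact Subgroup.one_mem _
  have htop : M5 = ⊤ := by
    rw [eq_top_iff, ← hgen, Subgroup.closure_le]
    intro x hx
    simp only [Set.mem_insert_iff, Set.mem_singleton_iff] at hx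
    rcases hx with rfl | rfl | rfl | rfl | rfl
    · exact h45 r1_4
    · exact h45 r2_4
    · exact h45 i_4
    · exact h45 j_4
    · exact d_5
  have hbot : Nat.card (⊥ : Subgroup H) = 1 := Subgroup.card_bot
  have hH : Nat.card H = Nat.card M5 := by
    rw [htop, Subgroup.card_top]
  rw [hH]
  omega

end Cfsg.Agent.Helper33.X648
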