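import Cfsg.Agent.Helper39.X648.Defs

/-!
# Helper33: piece (B4) of helper39's S3366 farm — relations pulled back along an injective hom
-/

set_option autoImplicit false

namespace Cfsg.Agent.Helper33.X648

open Cfsg.Agent.Helper39.X648

variable {H : Type*} [Group H]

theorem map_cm_aux {K : Type*} [Group K] (f : H →* K) (a b : H) :
    f (cm a b) = cm (f a) (f b) := by
  simp [cm]

/-- (B4) -/
theorem Rel.of_map {K : Type*} [Group K] (f : H →* K) (hf : Function.Injective f)
    {r1 r2 i j d : H} (h : Rel (f r1) (f r2) (f i) (f j) (f d)) : Rel r1 r2 i j d := by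
  constructor
  all_goals apply hf
  all_goals simp only [map_mul, map_pow, map_inv, map_one, map_cm_aux]
  exacts [h.r1_3, h.r2_3, h.c_3, h.c_r1, h.c_r2, h.c_i, h.c_j, h.c_d, h.i_4, h.j_sq, h.j_i,
    h.d_3, h.i_r1, h.i_r2, h.j_r1, h.j_r2, h.d_r1, h.d_r2, h.d_i, h.d_j]

end Cfsg.Agent.Helper33.X648
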