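import Cfsg.Agent.Helper39.X648.Defs
import Cfsg.Agent.Helper33.X648B4

/-!
# Helper33: piece (B6) of helper39's S3366 farm — the diagonal-subgroup trick
-/

set_option autoImplicit false

namespace Cfsg.Agent.Helper33.X648

open Cfsg.Agent.Helper39.X648

/-- (B6) the diagonal-subgroup trick -/
theorem nonempty_mulEquiv_of_rel {G K : Type*} [Group G] [Group K] [Finite G] [Finite K]
    (hG : Nat.card G = 648) (hK : Nat.card K = 648) (r1 r2 i j d : G) (s1 s2 i' j' d' : K)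
    (h1 : Rel r1 r2 i j d) (h2 : Rel s1 s2 i' j' d')
    (g1 : Subgroup.closure {r1, r2, i, j, d} = ⊤)
    (g2 : Subgroup.closure {s1, s2, i', j', d'} = ⊤)
    (hprod : Rel ((r1, s1) : G × K) (r2, s2) (i, i') (j, j') (d, d'))
    (hB : ∀ (D : Subgroup (G × K)) (a b c e f : D), Rel a b c e f →
      Subgroup.closure {a, b, c, e, f} = ⊤ → Nat.card D ≤ 648) :
    Nonempty (G ≃* K) := by
  classical
  set D : Subgroup (G × K) :=
    Subgroup.closure {((r1, s1) : G × K), (r2, s2), (i, i'), (j, j'), (d, d')} with hD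
  have m1 : ((r1, s1) : G × K) ∈ D := Subgroup.subset_closure (by simp)
  have m2 : ((r2, s2) : G × K) ∈ D := Subgroup.subset_closure (by simp)
  have m3 : ((i, i') : G × K) ∈ D := Subgroup.subset_closure (by simp)
  have m4 : ((j, j') : G × K) ∈ D := Subgroup.subset_closure (by simp)
  have m5 : ((d, d') : G × K) ∈ D := Subgroup.subset_closure (by simp)
  have hrel : Rel (⟨(r1, s1), m1⟩ : D) ⟨(r2, s2), m2⟩ ⟨(i, i'), m3⟩ ⟨(j, j'), m4⟩ ⟨(d, d'), m5⟩ :=
    Rel.of_map D.subtype Subtype.val_injective hprod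
  have hcl : Subgroup.closure {(⟨(r1, s1), m1⟩ : D), ⟨(r2, s2), m2⟩, ⟨(i, i'), m3⟩,
      ⟨(j, j'), m4⟩, ⟨(d, d'), m5⟩} = ⊤ := by
    have h := Subgroup.closure_closure_coe_preimage
      (k := {((r1, s1) : G × K), (r2, s2), (i, i'), (j, j'), (d, d')})
    have hset : ((↑) : D → G × K) ⁻¹' {((r1, s1) : G × K), (r2, s2), (i, i'), (j, j'), (d, d')} =
        {(⟨(r1, s1), m1⟩ : D), ⟨(r2, s2), m2⟩, ⟨(i, i'), m3⟩, ⟨(j, j'), m4⟩, ⟨(d, d'), m5⟩} := by
      ext x
      simp only [Set.mem_preimage, Set.mem_insert_iff, Set.mem_singleton_iff, Subtype.ext_iff]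
    rw [← hset]
    exact h
  have hcard : Nat.card D ≤ 648 := hB D _ _ _ _ _ hrel hcl
  -- the two projections
  let φ1 : D →* G := (MonoidHom.fst G K).comp D.subtype
  let φ2 : D →* K := (MonoidHom.snd G K).comp D.subtype
  have hs1 : Function.Surjective φ1 := by
    rw [← MonoidHom.range_eq_top, eq_top_iff, ← g1, Subgroup.closure_le]
    intro g hg
    simp only [Set.mem_insert_iff, Set.mem_singleton_iff] at hg
    rcases hg with rfl | rfl | rfl | rfl | rfl
    · exact ⟨⟨(g, s1), m1⟩, rfl⟩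
    · exact ⟨⟨(g, s2), m2⟩, rfl⟩
    · exact ⟨⟨(g, i'), m3⟩, rfl⟩
    · exact ⟨⟨(g, j'), m4⟩, rfl⟩
    · exact ⟨⟨(g, d'), m5⟩, rfl⟩
  have hs2 : Function.Surjective φ2 := by
    rw [← MonoidHom.range_eq_top, eq_top_iff, ← g2, Subgroup.closure_le]
    intro g hg
    simp only [Set.mem_insert_iff, Set.mem_singleton_iff] at hg
    rcases hg with rfl | rfl | rfl | rfl | rfl
    · exact ⟨⟨(r1, g), m1⟩, rfl⟩
    · exact ⟨⟨(r2, g), m2⟩, rfl⟩
    · exact ⟨⟨(i, g), m3⟩, rfl⟩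
    · exact ⟨⟨(j, g), m4⟩, rfl⟩
    · exact ⟨⟨(d, g), m5⟩, rfl⟩
  have hb1 : Function.Bijective φ1 :=
    hs1.bijective_of_nat_card_le (by rw [hG]; exact hcard)
  have hb2 : Function.Bijective φ2 :=
    hs2.bijective_of_nat_card_le (by rw [hK]; exact hcard)
  exact ⟨(MulEquiv.ofBijective φ1 hb1).symm.trans (MulEquiv.ofBijective φ2 hb2)⟩

end Cfsg.Agent.Helper33.X648
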